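import Groth.Agent.LoccohA.DExtDim

/-!
# Depth of `M_p` through `E^i(M)_p`

`natCast_le_depth_iff`: `n ≤ depth M_p` iff `E^{-δ p - d}(M)_p = 0` for all `d < n`.
-/

set_option autoImplicit false
universe u v w
open CategoryTheory CategoryTheory.Limits Pretriangulated RingTheory.Sequence
attribute [local instance] HasDerivedCategory.standard

namespace Groth.Agent.LoccohA.DExtDepth

open Groth.Agent.LoccohA.DExt Groth.Agent.LoccohA.DExtSupp Groth.Agent.LoccohA.DExtDim
open Groth.Agent.LoccohA.DepthSpread

variable {A : Type u} [CommRing A] [IsNoetherianRing A] (ω : Dual.D A)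
  (hfin : ∀ (i : ℤ) (M : Type u) [AddCommGroup M] [Module A M] [Module.Finite A M],
    Module.Finite A (E ω i M))
  {δ : PrimeSpectrum A → ℤ}
  (hδ : ∀ (p : PrimeSpectrum A) (i : ℤ),
    p ∈ Module.support A (E ω i (A ⧸ p.asIdeal)) ↔ i = -δ p)

/-- `QuotSMulTop a M = M / aM`. -/
def quotEquiv (M : Type u) [AddCommGroup M] [Module A M] (a : A) : QuotSMulTop a M ≃ₗ[A] Q M a :=
  Submodule.quotEquivOfEq _ _ (by
    ext x
    rw [Submodule.mem_smul_pointwise_iff_exists]
    simp)

omit [IsNoetherianRing A] in
lemma notMem_support_ker_iff (M : Type u) [AddCommGroup M] [Module A M] (a : A)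
    (p : PrimeSpectrum A) : p ∉ Module.support A (K M a) ↔
      IsSMulRegular (LocalizedModule p.asIdeal.primeCompl M) a := by
  rw [Module.notMem_support_iff', isSMulRegular_iff_right_eq_zero_of_smul]
  constructor
  · intro h z hz
    induction z using LocalizedModule.induction_on with
    | _ m s =>
      rw [LocalizedModule.smul'_mk, ← LocalizedModule.zero_mk 1, LocalizedModule.mk_eq] at hz
      obtain ⟨t, ht⟩ := hz
      have ht' : a • ((t : A) • m) = 0 := by
        rw [smul_comm]; simpa using! ht
      obtain ⟨r, hr, hr'⟩ := h ⟨(t : A) • m, by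
        rw [LinearMap.mem_ker, LinearMap.smul_apply, LinearMap.id_apply]; exact ht'⟩
      have hr'' : r • ((t : A) • m) = 0 := congrArg Subtype.val hr'
      rw [← LocalizedModule.zero_mk 1, LocalizedModule.mk_eq]
      refine ⟨⟨r, hr⟩ * t, ?_⟩
      simpa [mul_smul] using! hr''
  · rintro h ⟨m, hm⟩
    have hm' : a • m = 0 := by simpa using! hm
    have := h (LocalizedModule.mk m 1) (by
      rw [LocalizedModule.smul'_mk, hm', LocalizedModule.zero_mk])
    rw [← LocalizedModule.zero_mk 1, LocalizedModule.mk_eq] at this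
    obtain ⟨t, ht⟩ := this
    exact ⟨t, t.2, Subtype.ext (by simpa using! ht)⟩

include hfin hδ in
/-- A regular sequence gives vanishing. -/
theorem notMem_of_isWeaklyRegular (p : PrimeSpectrum A) (as : List A) :
    ∀ (M : Type u) [AddCommGroup M] [Module A M] [Module.Finite A M],
    (∀ a ∈ as, a ∈ p.asIdeal) →
    IsWeaklyRegular (LocalizedModule p.asIdeal.primeCompl M) as →
    ∀ d : ℕ, d < as.length → p ∉ Module.support A (E ω (-δ p - d) M) := by
  induction as with
  | nil => intro M _ _ _ _ _ d hd; simp at hd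
  | cons a as ih =>
    intro M _ _ _ has hreg d hd
    rw [isWeaklyRegular_cons_iff] at hreg
    have hK := (notMem_support_ker_iff M a p).mpr hreg.1
    refine notMem_of_smul ω p (has a List.mem_cons_self) (-δ p - d) (-δ p - d + 1) rfl (hfin _ _)
      hK ?_
    rcases Nat.eq_zero_or_pos d with rfl | hd0
    · exact notMem_of_gt ω hfin hδ p _ _ (by simp)
    · obtain ⟨e, rfl⟩ : ∃ e, d = e + 1 := ⟨d - 1, by omega⟩
      have e1 : -δ p - ((e + 1 : ℕ) : ℤ) + 1 = -δ p - e := by push_cast; ring
      rw [e1, ← support_congr ω _ (quotEquiv M a)]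
      exact ih (QuotSMulTop a M) (fun x hx => has x (List.mem_cons_of_mem _ hx))
        ((LinearEquiv.isWeaklyRegular_congr (quotSMulTopLocalizedEquiv _ M a) as).1 hreg.2) e
        (by simpa using hd)

/-- prime avoidance: if `p ∉ Ass M` and `p ∈ Supp M` (or not) there is `a ∈ p` regular on `M_p`. -/
lemma exists_regular (p : PrimeSpectrum A) (M : Type u) [AddCommGroup M] [Module A M]
    [Module.Finite A M] (hp : p.asIdeal ∉ associatedPrimes A M) :
    ∃ a ∈ p.asIdeal, p ∉ Module.support A (K M a) := by
  classical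
  have hf : (associatedPrimes A M).Finite := associatedPrimes.finite A M
  have hnot : ¬ ((p.asIdeal : Set A) ⊆ ⋃ q ∈ {q ∈ associatedPrimes A M | q ≤ p.asIdeal}, (q : Set A)) := by
    intro hsub
    have hf' : {q ∈ associatedPrimes A M | q ≤ p.asIdeal}.Finite := hf.subset (fun q hq => hq.1)
    obtain ⟨q, hq, hpq⟩ := (Ideal.subset_union_prime_finite hf' (f := id) 0 0
      (fun q hq _ _ => hq.1.isPrime)).mp hsub
    exact hp (le_antisymm hpq hq.2 ▸ hq.1)
  obtain ⟨a, ha, ha'⟩ := Set.not_subset.mp hnot
  refine ⟨a, ha, fun hmem => ?_⟩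
  rw [Module.support_eq_zeroLocus] at hmem
  obtain ⟨q, hq, hqp⟩ := Ideal.exists_minimalPrimes_le (J := p.asIdeal) hmem
  have hqK := Module.associatedPrimes.minimalPrimes_annihilator_subset_associatedPrimes A
    (K M a) hq
  refine ha' ?_
  simp only [Set.mem_iUnion]
  refine ⟨q, ⟨associatedPrimes.subset_of_injective (K M a).injective_subtype hqK, hqp⟩, ?_⟩
  refine hq.1.2 ?_
  rw [Module.mem_annihilator]
  rintro ⟨m, hm⟩
  exact Subtype.ext (by simpa using! hm)

include hfin hδ in
/-- Vanishing gives a regular sequence. -/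
theorem exists_isWeaklyRegular (p : PrimeSpectrum A) (n : ℕ) :
    ∀ (M : Type u) [AddCommGroup M] [Module A M] [Module.Finite A M],
    (∀ d : ℕ, d < n → p ∉ Module.support A (E ω (-δ p - d) M)) →
    ∃ as : List A, as.length = n ∧ (∀ a ∈ as, a ∈ p.asIdeal) ∧
      IsWeaklyRegular (LocalizedModule p.asIdeal.primeCompl M) as := by
  induction n with
  | zero => intro M _ _ _ _; exact ⟨[], rfl, by simp, IsWeaklyRegular.nil A _⟩
  | succ n ih =>
    intro M _ _ _ h
    have hass : p.asIdeal ∉ associatedPrimes A M := by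
      intro hass
      have := h 0 (by omega)
      rw [Nat.cast_zero, sub_zero] at this
      exact this (mem_of_mem_associatedPrimes ω hfin hδ p M hass)
    obtain ⟨a, ha, hK⟩ := exists_regular p M hass
    obtain ⟨as, h1, h2, h3⟩ := ih (QuotSMulTop a M) (fun d hd => by
      rw [support_congr ω _ (quotEquiv M a)]
      refine notMem_quot ω p (-δ p - d - 1) (-δ p - d) (by ring) hK ?_ (h d (by omega))
      have := h (d + 1) (by omega)
      have e1 : -δ p - ((d + 1 : ℕ) : ℤ) = -δ p - d - 1 := by push_cast; ring
      rwa [e1] at this)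
    refine ⟨a :: as, by simp [h1], ?_, ?_⟩
    · intro x hx
      rcases List.mem_cons.mp hx with rfl | hx
      · exact ha
      · exact h2 x hx
    · rw [isWeaklyRegular_cons_iff]
      exact ⟨(notMem_support_ker_iff M a p).mp hK,
        (LinearEquiv.isWeaklyRegular_congr (quotSMulTopLocalizedEquiv _ M a) as).2 h3⟩

include hfin hδ in
/-- `n ≤ depth M_p` iff `E^{-δ p - d}(M)_p = 0` for all `d < n`. -/
theorem natCast_le_depth_iff (p : PrimeSpectrum A) (M : Type u) [AddCommGroup M] [Module A M]
    [Module.Finite A M] (n : ℕ) :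
    (n : ℕ∞) ≤ LocCoh.depth (Localization.AtPrime p.asIdeal)
      (LocalizedModule p.asIdeal.primeCompl M) ↔
    ∀ d : ℕ, d < n → p ∉ Module.support A (E ω (-δ p - d) M) := by
  by_cases hM : p ∈ Module.support A M
  · have hnt : Nontrivial (LocalizedModule p.asIdeal.primeCompl M) := hM
    have hfinM : Module.Finite (Localization.AtPrime p.asIdeal)
        (LocalizedModule p.asIdeal.primeCompl M) :=
      Module.Finite.of_isLocalizedModule p.asIdeal.primeCompl
        (LocalizedModule.mkLinearMap p.asIdeal.primeCompl M)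
    have hne : IsLocalRing.maximalIdeal (Localization.AtPrime p.asIdeal) •
        (⊤ : Submodule (Localization.AtPrime p.asIdeal)
          (LocalizedModule p.asIdeal.primeCompl M)) ≠ ⊤ := by
      intro h
      have := Submodule.eq_bot_of_le_smul_of_le_jacobson_bot
        (IsLocalRing.maximalIdeal (Localization.AtPrime p.asIdeal)) ⊤
        (Module.finite_def.mp hfinM) h.ge (IsLocalRing.maximalIdeal_le_jacobson _)
      exact bot_ne_top this.symm
    constructor
    · intro h
      obtain ⟨rs, h1, h2, h3⟩ := exists_isWeaklyRegular_length_eq_of_le_idealDepth hne h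
      rw [← Localization.AtPrime.map_eq_maximalIdeal] at h2
      obtain ⟨as, h4, h5⟩ := exists_list_associated p.asIdeal.primeCompl p.asIdeal rs h2
      have h6 := isWeaklyRegular_of_associated h5 h1
      rw [isWeaklyRegular_map_algebraMap_iff] at h6
      intro d hd
      refine notMem_of_isWeaklyRegular ω hfin hδ p as M h4 h6 d ?_
      have := h5.length_eq
      rw [List.length_map] at this
      omega
    · intro h
      obtain ⟨as, h1, h2, h3⟩ := exists_isWeaklyRegular ω hfin hδ p n M h
      rw [← isWeaklyRegular_map_algebraMap_iff (Localization.AtPrime p.asIdeal)] at h3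
      have := length_le_idealDepth (I := IsLocalRing.maximalIdeal (Localization.AtPrime p.asIdeal))
        h3 (by
          intro r hr
          obtain ⟨a, ha, rfl⟩ := List.mem_map.mp hr
          rw [← Localization.AtPrime.map_eq_maximalIdeal]
          exact Ideal.mem_map_of_mem _ (h2 a ha))
      rw [List.length_map, h1] at this
      exact this
  · have hss : Subsingleton (LocalizedModule p.asIdeal.primeCompl M) :=
      Module.notMem_support_iff.mp hM
    have : LocCoh.depth (Localization.AtPrime p.asIdeal)
      (LocalizedModule p.asIdeal.primeCompl M) = ⊤ := by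
      unfold LocCoh.depth LocCoh.idealDepth
      rw [if_pos (Subsingleton.elim _ _)]
    rw [this]
    exact ⟨fun _ d _ h => hM (support_subset ω _ h), fun _ => le_top⟩

end Groth.Agent.LoccohA.DExtDepth
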