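import Groth.Prelude.Def_DRing2
import Mathlib.Algebra.Category.ModuleCat.Ext.Finite
import Mathlib.Algebra.Homology.DerivedCategory.TStructure
import Mathlib.Algebra.Homology.DerivedCategory.KInjective
import Mathlib.Algebra.Homology.DerivedCategory.Linear
import Mathlib.Algebra.Homology.DerivedCategory.FullyFaithful
import Mathlib.Algebra.Category.ModuleCat.Injective

/-!
# Finiteness of `Hom_{D(A)}(K, L[i])` for coherent `K` and coherent `L` of finite injective dimension

Tools:
* `isNoetherian_hom_of_distTriang_left` / `_right`: two out of three for Noetherian Hom modules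
* `isNoetherian_hom_bounded`: `K` a finite module in degree 0, `L` bounded with finite cohomology
* `isNoetherian_hom_shift`: the theorem (Stacks 0G4H).
-/

set_option autoImplicit false

universe u

open CategoryTheory Limits Pretriangulated DerivedCategory Triangulated

attribute [local instance] HasDerivedCategory.standard

namespace Groth.Agent.LoccohA.ExtFin

variable {A : Type u} [CommRing A]

/-- Noetherianity of `Hom(-, W)` on the middle term of a distinguished triangle. -/
lemma isNoetherian_hom_of_distTriang_left {T : Triangle (Dual.D A)} (hT : T ∈ distTriang _)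
    (W : Dual.D A) (h₁ : IsNoetherian A (T.obj₁ ⟶ W)) (h₃ : IsNoetherian A (T.obj₃ ⟶ W)) :
    IsNoetherian A (T.obj₂ ⟶ W) := by
  refine isNoetherian_of_range_eq_ker (Linear.leftComp A W T.mor₂)
    (Linear.leftComp A W T.mor₁) ?_
  ext f
  simp only [LinearMap.mem_range, LinearMap.mem_ker, Linear.leftComp_apply]
  constructor
  · rintro ⟨g, rfl⟩
    rw [← Category.assoc, comp_distTriang_mor_zero₁₂ _ hT, zero_comp]
  · intro h
    obtain ⟨g, hg⟩ := Triangle.yoneda_exact₂ T hT f h
    exact ⟨g, hg.symm⟩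

/-- Noetherianity of `Hom(W, -)` on the middle term of a distinguished triangle. -/
lemma isNoetherian_hom_of_distTriang_right {T : Triangle (Dual.D A)} (hT : T ∈ distTriang _)
    (W : Dual.D A) (h₁ : IsNoetherian A (W ⟶ T.obj₁)) (h₃ : IsNoetherian A (W ⟶ T.obj₃)) :
    IsNoetherian A (W ⟶ T.obj₂) := by
  refine isNoetherian_of_range_eq_ker (Linear.rightComp A W T.mor₁)
    (Linear.rightComp A W T.mor₂) ?_
  ext f
  simp only [LinearMap.mem_range, LinearMap.mem_ker, Linear.rightComp_apply]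
  constructor
  · rintro ⟨g, rfl⟩
    rw [Category.assoc, comp_distTriang_mor_zero₁₂ _ hT, comp_zero]
  · intro h
    obtain ⟨g, hg⟩ := Triangle.coyoneda_exact₂ T hT f h
    exact ⟨g, hg.symm⟩

lemma isNoetherian_hom_of_iso {X X' Y Y' : Dual.D A} (e : X ≅ X') (f : Y ≅ Y')
    (h : IsNoetherian A (X ⟶ Y)) : IsNoetherian A (X' ⟶ Y') :=
  isNoetherian_of_linearEquiv (Linear.homCongr A e f)

lemma isNoetherian_hom_of_subsingleton {X Y : Dual.D A} (h : ∀ f : X ⟶ Y, f = 0) :
    IsNoetherian A (X ⟶ Y) := by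
  have : Subsingleton (X ⟶ Y) := ⟨fun a b => by rw [h a, h b]⟩
  infer_instance

/-- Shifting both arguments. -/
lemma isNoetherian_hom_shift_of {X Y : Dual.D A} (j n i : ℤ) (hi : j + n = i)
    (h : IsNoetherian A (X ⟶ Y⟦j⟧)) : IsNoetherian A (X⟦n⟧ ⟶ Y⟦i⟧) := by
  have e : Y⟦j⟧⟦n⟧ ≅ Y⟦i⟧ := (shiftFunctorAdd' (Dual.D A) j n i hi).symm.app Y
  refine isNoetherian_hom_of_iso (Iso.refl _) e ?_
  refine isNoetherian_of_surjective
    ((shiftFunctor (Dual.D A) n).mapLinearMap A : (X ⟶ Y⟦j⟧) →ₗ[A] _) ?_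
  rw [LinearMap.range_eq_top]
  exact (shiftFunctor (Dual.D A) n).map_surjective

lemma isNoetherian_HD_iff {X : Dual.D A} (i : ℤ) [IsNoetherianRing A] :
    IsNoetherian A (Dual.HD A X i) ↔ Module.Finite A (Dual.HD A X i) := by
  constructor
  · intro h; infer_instance
  · intro h; infer_instance

section Truncation

/-- In a distinguished triangle `X → K → Z` with `X ≤ n` and `Z ≥ n + 1`, the cohomology of `X`
is Noetherian if that of `K` is. -/
lemma isNoetherian_HD_obj₁ {T : Triangle (Dual.D A)} (hT : T ∈ distTriang _) (n : ℤ)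
    (h₁ : TStructure.t.IsLE T.obj₁ n) (h₃ : TStructure.t.IsGE T.obj₃ (n + 1))
    (h : ∀ i : ℤ, IsNoetherian A (Dual.HD A T.obj₂ i)) (i : ℤ) :
    IsNoetherian A (Dual.HD A T.obj₁ i) := by
  by_cases hi : i ≤ n
  · have hz : IsZero ((homologyFunctor (ModuleCat.{u} A) (i - 1)).obj T.obj₃) :=
      isZero_of_isGE T.obj₃ (n + 1) (i - 1) (by lia)
    have hmono := (HomologySequence.mono_homologyMap_mor₁_iff T hT (i - 1) i (by lia)).2
      (hz.eq_of_src _ _)
    have hinj := (ModuleCat.mono_iff_injective _).1 hmono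
    have := h i
    exact isNoetherian_of_injective
      ((homologyFunctor (ModuleCat.{u} A) i).map T.mor₁).hom hinj
  · have hz : IsZero ((homologyFunctor (ModuleCat.{u} A) i).obj T.obj₁) :=
      isZero_of_isLE T.obj₁ n i (by lia)
    have := ModuleCat.subsingleton_of_isZero hz
    infer_instance

lemma isNoetherian_HD_obj₃ {T : Triangle (Dual.D A)} (hT : T ∈ distTriang _) (n : ℤ)
    (h₁ : TStructure.t.IsLE T.obj₁ n) (h₃ : TStructure.t.IsGE T.obj₃ (n + 1))
    (h : ∀ i : ℤ, IsNoetherian A (Dual.HD A T.obj₂ i)) (i : ℤ) :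
    IsNoetherian A (Dual.HD A T.obj₃ i) := by
  by_cases hi : n + 1 ≤ i
  · have hz : IsZero ((homologyFunctor (ModuleCat.{u} A) (i + 1)).obj T.obj₁) :=
      isZero_of_isLE T.obj₁ n (i + 1) (by lia)
    have hepi := (HomologySequence.epi_homologyMap_mor₂_iff T hT i (i + 1) (by lia)).2
      (hz.eq_of_tgt _ _)
    have hsur := (ModuleCat.epi_iff_surjective _).1 hepi
    have := h i
    exact isNoetherian_of_surjective
      ((homologyFunctor (ModuleCat.{u} A) i).map T.mor₂).hom
      (LinearMap.range_eq_top.2 hsur)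
  · have hz : IsZero ((homologyFunctor (ModuleCat.{u} A) i).obj T.obj₃) :=
      isZero_of_isGE T.obj₃ (n + 1) i (by lia)
    have := ModuleCat.subsingleton_of_isZero hz
    infer_instance

lemma isGE_obj₁ {T : Triangle (Dual.D A)} (hT : T ∈ distTriang _) (n m : ℤ) (hm : m ≤ n + 2)
    (h₃ : TStructure.t.IsGE T.obj₃ (n + 1))
    (h : TStructure.t.IsGE T.obj₂ m) : TStructure.t.IsGE T.obj₁ m := by
  refine (isGE_iff T.obj₁ m).2 fun i hi => ?_
  have hz₂ : IsZero ((homologyFunctor (ModuleCat.{u} A) i).obj T.obj₂) :=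
    isZero_of_isGE T.obj₂ m i hi
  have hz₃ : IsZero ((homologyFunctor (ModuleCat.{u} A) (i - 1)).obj T.obj₃) :=
    isZero_of_isGE T.obj₃ (n + 1) (i - 1) (by lia)
  have hmono := (HomologySequence.mono_homologyMap_mor₁_iff T hT (i - 1) i (by lia)).2
      (hz₃.eq_of_src _ _)
  exact IsZero.of_mono ((homologyFunctor (ModuleCat.{u} A) i).map T.mor₁) hz₂

lemma isLE_obj₃ {T : Triangle (Dual.D A)} (hT : T ∈ distTriang _) (n m : ℤ) (hm : n ≤ m + 1)
    (h₁ : TStructure.t.IsLE T.obj₁ n)
    (h : TStructure.t.IsLE T.obj₂ m) : TStructure.t.IsLE T.obj₃ m := by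
  refine (isLE_iff T.obj₃ m).2 fun i hi => ?_
  have hz₂ : IsZero ((homologyFunctor (ModuleCat.{u} A) i).obj T.obj₂) :=
    isZero_of_isLE T.obj₂ m i hi
  have hz₁ : IsZero ((homologyFunctor (ModuleCat.{u} A) (i + 1)).obj T.obj₁) :=
    isZero_of_isLE T.obj₁ n (i + 1) (by lia)
  have hepi := (HomologySequence.epi_homologyMap_mor₂_iff T hT i (i + 1) (by lia)).2
      (hz₁.eq_of_tgt _ _)
  exact IsZero.of_epi ((homologyFunctor (ModuleCat.{u} A) i).map T.mor₂) hz₂

/-- An object concentrated in degree `n` with Noetherian cohomology is a shifted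
Noetherian module. -/
lemma exists_iso_inD_shift (X : Dual.D A) (n : ℤ) (h₁ : TStructure.t.IsGE X n)
    (h₂ : TStructure.t.IsLE X n) :
    ∃ (M : ModuleCat.{u} A), Nonempty ((Dual.inD A M)⟦-n⟧ ≅ X) ∧
      Nonempty (M ≃ₗ[A] Dual.HD A X n) := by
  obtain ⟨M, ⟨e⟩⟩ := exists_iso_singleFunctor_obj_of_isGE_of_isLE X n
  refine ⟨M, ⟨?_⟩, ⟨?_⟩⟩
  · exact ((singleFunctors (ModuleCat.{u} A)).shiftIso (-n) n 0 (by lia)).app M ≪≫ e.symm
  · exact (((singleFunctorCompHomologyFunctorIso (ModuleCat.{u} A) n).symm.app M) ≪≫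
      (homologyFunctor _ n).mapIso e.symm).toLinearEquiv

end Truncation

section Bounded

variable [IsNoetherianRing A]

/-- Maps between shifted finite modules form a finite module. -/
lemma isNoetherian_hom_inD_inD (M N : ModuleCat.{u} A) [Module.Finite A M] [Module.Finite A N]
    (i : ℤ) : IsNoetherian A (Dual.inD A M ⟶ (Dual.inD A N)⟦i⟧) := by
  by_cases hi : 0 ≤ i
  · obtain ⟨n, rfl⟩ := Int.eq_ofNat_of_zero_le hi
    have h : IsNoetherian A (Abelian.Ext M N n) := inferInstance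
    exact isNoetherian_of_linearEquiv
      (Abelian.Ext.homLinearEquiv (R := A) (X := M) (Y := N) (n := n))
  · refine isNoetherian_hom_of_subsingleton fun f => ?_
    have h₂ : TStructure.t.IsGE ((Dual.inD A N)⟦i⟧) (-i) :=
      TStructure.t.isGE_shift _ 0 i (-i) (by lia)
    exact TStructure.t.zero f 0 (-i) (by lia)

/-- `Hom(M, L[i])` is finite for `M` a finite module and `L` bounded with finite cohomology. -/
lemma isNoetherian_hom_inD_bounded (M : ModuleCat.{u} A) [Module.Finite A M] (b : ℤ) (m : ℕ) :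
    ∀ (L : Dual.D A), TStructure.t.IsGE L (b + 1 - m) → TStructure.t.IsLE L b →
      (∀ i : ℤ, IsNoetherian A (Dual.HD A L i)) →
      ∀ i : ℤ, IsNoetherian A (Dual.inD A M ⟶ L⟦i⟧) := by
  induction m with
  | zero =>
    intro L h₁ h₂ _ i
    have hz : IsZero L := TStructure.t.isZero L b (b + 1 - (0 : ℕ)) (by simp)
    exact isNoetherian_hom_of_subsingleton fun f =>
      (((shiftFunctor (Dual.D A) i).map_isZero hz).eq_of_tgt _ _)
  | succ m ih =>
    intro L h₁ h₂ hL i
    obtain ⟨X, Z, hX, hZ, f, g, h, hT⟩ :=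
      TStructure.t.exists_triangle L (b - m) (b - m + 1) rfl
    have hX : TStructure.t.IsLE X (b - m) := ⟨hX⟩
    have hZ : TStructure.t.IsGE Z (b - m + 1) := ⟨hZ⟩
    have hX' : TStructure.t.IsGE X (b - m) := by
      refine isGE_obj₁ hT (b - m) (b - m) (by lia) hZ ?_
      exact TStructure.t.isGE_of_ge L (b - m) (b + 1 - (m + 1 : ℕ)) (by push_cast; lia)
    have hZ' : TStructure.t.IsLE Z b := isLE_obj₃ hT (b - m) b (by lia) hX h₂
    have hXf := isNoetherian_HD_obj₁ hT (b - m) hX hZ hL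
    have hZf := isNoetherian_HD_obj₃ hT (b - m) hX hZ hL
    have hZ'' : TStructure.t.IsGE Z (b + 1 - m) :=
      TStructure.t.isGE_of_ge Z (b + 1 - m) (b - m + 1) (by lia)
    refine isNoetherian_hom_of_distTriang_right (Triangle.shift_distinguished _ hT i) _ ?_
      (ih Z hZ'' hZ' hZf i)
    obtain ⟨N, ⟨e⟩, ⟨e'⟩⟩ := exists_iso_inD_shift X (b - m) hX' hX
    have : IsNoetherian A N := by
      have : IsNoetherian A (Dual.HD A X (b - m)) := hXf (b - m)
      exact isNoetherian_of_linearEquiv e'.symm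
    refine isNoetherian_hom_of_iso (Iso.refl _) ?_
      (isNoetherian_hom_inD_inD M N (-(b - m) + i))
    exact (shiftFunctorAdd' (Dual.D A) (-(b - m)) i _ rfl).app (Dual.inD A N) ≪≫
      (shiftFunctor (Dual.D A) i).mapIso e

omit [IsNoetherianRing A] in
/-- If `K` is in degrees `≥ n` and `L` is a bounded complex of injectives in degrees `≤ b`, then
`Hom(K, L[i]) = 0` for `b < n + i`. -/
lemma hom_eq_zero_of_injective (E : CochainComplex (ModuleCat.{u} A) ℤ) (a b : ℤ)
    (hE : DRing.VanishesOutside E a b) (hEi : DRing.TermwiseInjective E)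
    (L : Dual.D A) (e : DerivedCategory.Q.obj E ≅ L) (i n : ℤ) (hn : b < n + i)
    (K : Dual.D A) (hK : TStructure.t.IsGE K n) (f : K ⟶ L⟦i⟧) : f = 0 := by
  have hge : E.IsStrictlyGE a := (CochainComplex.isStrictlyGE_iff E a).2 fun j hj => hE j (Or.inl hj)
  have hle : E.IsStrictlyLE b := (CochainComplex.isStrictlyLE_iff E b).2 fun j hj => hE j (Or.inr hj)
  have hinj : ∀ j : ℤ, Injective (E.X j) := fun j => by
    have := hEi j
    exact (Module.injective_iff_injective_object A (E.X j)).1 this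
  have hKinj : E.IsKInjective := CochainComplex.isKInjective_of_injective E a
  obtain ⟨K', hK', ⟨eK⟩⟩ := exists_iso_Q_obj_of_isGE K n
  let e₂ : L⟦i⟧ ≅ DerivedCategory.Q.obj (E⟦i⟧) :=
    (shiftFunctor (Dual.D A) i).mapIso e.symm ≪≫ (DerivedCategory.Q.commShiftIso i).symm.app E
  have hle' : (E⟦i⟧).IsStrictlyLE (b - i) := E.isStrictlyLE_shift b i (b - i) (by lia)
  suffices h : ∀ g : DerivedCategory.Q.obj K' ⟶ DerivedCategory.Q.obj (E⟦i⟧), g = 0 by
    have := h (eK.inv ≫ f ≫ e₂.hom)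
    rw [← cancel_epi eK.inv, ← cancel_mono e₂.hom]
    simpa using this
  intro g
  obtain ⟨g', hg'⟩ := (CochainComplex.IsKInjective.Qh_map_bijective
    ((HomotopyCategory.quotient _ _).obj K') (E⟦i⟧)).surjective
      ((quotientCompQhIso _).hom.app K' ≫ g ≫ (quotientCompQhIso _).inv.app (E⟦i⟧))
  obtain ⟨g'', rfl⟩ := (HomotopyCategory.quotient _ _).map_surjective g'
  have hg : g'' = 0 := by
    ext j : 1
    by_cases hj : j < n
    · exact (K'.isZero_of_isStrictlyGE n j hj).eq_of_src _ _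
    · exact ((E⟦i⟧).isZero_of_isStrictlyLE (b - i) j (by lia)).eq_of_tgt _ _
  rw [hg, Functor.map_zero, Functor.map_zero] at hg'
  rw [← cancel_epi ((quotientCompQhIso _).hom.app K'),
    ← cancel_mono ((quotientCompQhIso _).inv.app (E⟦i⟧))]
  simpa using hg'.symm

/-- **Stacks 0G4H.** -/
theorem isNoetherian_hom_shift (K L : Dual.D A) (hK : ∀ i : ℤ, IsNoetherian A (Dual.HD A K i))
    (hL : ∀ i : ℤ, IsNoetherian A (Dual.HD A L i)) (hLi : DRing.HasFiniteInjDim A L) (i : ℤ) :
    IsNoetherian A (K ⟶ L⟦i⟧) := by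
  obtain ⟨a, b, E, hE, hEi, ⟨e⟩⟩ := hLi
  have hge : E.IsStrictlyGE a := (CochainComplex.isStrictlyGE_iff E a).2 fun j hj => hE j (Or.inl hj)
  have hle : E.IsStrictlyLE b := (CochainComplex.isStrictlyLE_iff E b).2 fun j hj => hE j (Or.inr hj)
  have hLge : TStructure.t.IsGE L a := TStructure.t.isGE_of_iso e a
  have hLle : TStructure.t.IsLE L b := TStructure.t.isLE_of_iso e b
  -- finite modules
  have hmod : ∀ (M : ModuleCat.{u} A) [Module.Finite A M] (j : ℤ),
      IsNoetherian A (Dual.inD A M ⟶ L⟦j⟧) := by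
    intro M _ j
    refine isNoetherian_hom_inD_bounded M b (b + 1 - a).toNat L ?_ hLle hL j
    exact TStructure.t.isGE_of_ge L _ a (by lia)
  -- bounded above objects, by induction
  have hstep : ∀ (m : ℕ) (K' : Dual.D A), (∀ j : ℤ, IsNoetherian A (Dual.HD A K' j)) →
      TStructure.t.IsLE K' (a - i - 1 + m) → IsNoetherian A (K' ⟶ L⟦i⟧) := by
    intro m
    induction m with
    | zero =>
      intro K' _ hK'
      have h₂ : TStructure.t.IsGE (L⟦i⟧) (a - i) := TStructure.t.isGE_shift _ a i (a - i) (by lia)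
      exact isNoetherian_hom_of_subsingleton fun f =>
        TStructure.t.zero f (a - i - 1 + (0 : ℕ)) (a - i) (by simp)
    | succ m ih =>
      intro K' hKf hK'
      obtain ⟨X, Z, hX, hZ, f, g, h, hT⟩ :=
        TStructure.t.exists_triangle K' (a - i - 1 + m) (a - i - 1 + m + 1) rfl
      have hX : TStructure.t.IsLE X (a - i - 1 + m) := ⟨hX⟩
      have hZ : TStructure.t.IsGE Z (a - i - 1 + m + 1) := ⟨hZ⟩
      have hXf := isNoetherian_HD_obj₁ hT _ hX hZ hKf
      have hZf := isNoetherian_HD_obj₃ hT _ hX hZ hKf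
      have hK'' : TStructure.t.IsLE K' (a - i - 1 + m + 1) :=
        TStructure.t.isLE_of_le K' (a - i - 1 + (m + 1 : ℕ)) _ (by push_cast; lia)
      have hZ' : TStructure.t.IsLE Z (a - i - 1 + m + 1) :=
        isLE_obj₃ hT (a - i - 1 + m) (a - i - 1 + m + 1) (by lia) hX hK''
      refine isNoetherian_hom_of_distTriang_left hT _ (ih X hXf hX) ?_
      obtain ⟨N, ⟨e₁⟩, ⟨e'⟩⟩ := exists_iso_inD_shift Z _ hZ hZ'
      have : IsNoetherian A N := by
        have : IsNoetherian A (Dual.HD A Z (a - i - 1 + m + 1)) := hZf (a - i - 1 + m + 1)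
        exact isNoetherian_of_linearEquiv e'.symm
      refine isNoetherian_hom_of_iso e₁ (Iso.refl _) ?_
      exact isNoetherian_hom_shift_of (i + (a - i - 1 + m + 1)) _ i (by ring) (hmod N _)
  obtain ⟨X, Z, hX, hZ, f, g, h, hT⟩ :=
    TStructure.t.exists_triangle K (max (b - i) (a - i - 1)) (max (b - i) (a - i - 1) + 1) rfl
  have hX : TStructure.t.IsLE X (max (b - i) (a - i - 1)) := ⟨hX⟩
  have hZ : TStructure.t.IsGE Z (max (b - i) (a - i - 1) + 1) := ⟨hZ⟩
  have hXf := isNoetherian_HD_obj₁ hT _ hX hZ hK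
  refine isNoetherian_hom_of_distTriang_left hT _ ?_ ?_
  · refine hstep (max (b - i) (a - i - 1) - (a - i - 1)).toNat X hXf ?_
    exact TStructure.t.isLE_of_le X (max (b - i) (a - i - 1)) _ (by lia)
  · exact isNoetherian_hom_of_subsingleton fun f =>
      hom_eq_zero_of_injective E a b hE hEi L e i _ (by lia) Z hZ f

end Bounded

end Groth.Agent.LoccohA.ExtFin
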