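import Groth.Agent.LoccohA.DExt
import Groth.Agent.LoccohA.ExtFin
import Groth.Agent.LoccohB.InjRep

/-!
# Finiteness and boundedness of `E^i(M) = Hom_{D(A)}(M, ω[i])` for a dualizing complex `ω`
-/

set_option autoImplicit false
universe u
open CategoryTheory CategoryTheory.Limits Pretriangulated
attribute [local instance] HasDerivedCategory.standard

namespace Groth.Agent.LoccohA.DExtFin

open Groth.Agent.LoccohA.DExt

variable {A : Type u} [CommRing A] [IsNoetherianRing A] {ω : Dual.D A}

/-- `Hom_{D(A)}(M, ω[i])` is a finite module for `M` finite and `ω` dualizing. -/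
theorem finite_E (hω : Dual.IsDualizing A ω) (i : ℤ) (M : Type u) [AddCommGroup M] [Module A M]
    [Module.Finite A M] : Module.Finite A (E ω i M) := by
  obtain ⟨a, b, hab⟩ := hω.finite_injective_dimension
  have hle : DerivedCategory.IsLE ω b := by
    rw [DerivedCategory.isLE_iff]
    intro j hj
    exact LoccohB.InjRep.isZero_homology_of_subsingleton ω j (hab A j (Or.inr hj))
  obtain ⟨m, hm⟩ : ∃ m : ℕ, b + 1 - m ≤ a := ⟨(b + 1 - a).toNat, by omega⟩
  have hge : DerivedCategory.IsGE ω (b + 1 - m) := by
    rw [DerivedCategory.isGE_iff]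
    intro j hj
    exact LoccohB.InjRep.isZero_homology_of_subsingleton ω j (hab A j (Or.inl (by omega)))
  have hN : ∀ j : ℤ, IsNoetherian A (Dual.HD A ω j) := fun j =>
    have := hω.finite_cohomology j
    inferInstance
  have : Module.Finite A (ModuleCat.of A M) := inferInstanceAs (Module.Finite A M)
  have := LoccohA.ExtFin.isNoetherian_hom_inD_bounded (ModuleCat.of A M) b m ω hge hle hN i
  exact inferInstanceAs (Module.Finite A (Dual.inD A (ModuleCat.of A M) ⟶ ω⟦i⟧))

end Groth.Agent.LoccohA.DExtFin
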