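import Groth.Agent.Localalg.Depth
import Groth.Agent.Ega4B.CatHeight
import Mathlib.RingTheory.Ideal.MinimalPrime.Noetherian
import Mathlib.RingTheory.KrullDimension.Module
import Mathlib.RingTheory.Localization.AtPrime.Basic

set_option autoImplicit false
universe u

/-!
# Hartshorne's lemma and equidimensionality of catenary (S_2) local rings (Stacks 0FIW)
-/

namespace Groth.Agent.LoccohA.EquidimS2

open RingTheory.Sequence Groth.Agent.Ega4B.CatHeight

/-- Algebraic form of Hartshorne's connectedness lemma: in a local ring, if two ideals have zero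
product and their sum contains a weakly regular sequence of length two, one of them is zero. -/
theorem eq_bot_or_eq_bot_of_mul_eq_bot {B : Type u} [CommRing B] [IsLocalRing B]
    {a b : Ideal B} (hab : a * b = ⊥) {x y : B} (hreg : IsWeaklyRegular B [x, y])
    (hx : x ∈ a ⊔ b) (hy : y ∈ a ⊔ b) : a = ⊥ ∨ b = ⊥ := by
  rw [isWeaklyRegular_cons_iff, isWeaklyRegular_singleton_iff] at hreg
  obtain ⟨hxreg, hyreg⟩ := hreg
  obtain ⟨a₁, ha₁, b₁, hb₁, rfl⟩ := Submodule.mem_sup.1 hx
  obtain ⟨a₂, ha₂, b₂, hb₂, rfl⟩ := Submodule.mem_sup.1 hy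
  have h0 : ∀ s ∈ a, ∀ t ∈ b, s * t = 0 := fun s hs t ht => by
    have := Ideal.mul_mem_mul hs ht
    rwa [hab, Ideal.mem_bot] at this
  -- `a₁ ∈ (x)`
  have h1 : (a₂ + b₂) * a₁ = (a₁ + b₁) * a₂ := by
    have e1 := h0 a₁ ha₁ b₂ hb₂
    have e2 := h0 a₂ ha₂ b₁ hb₁
    linear_combination e1 - e2
  obtain ⟨c, hc⟩ : ∃ c, a₁ = (a₁ + b₁) * c := by
    have h2 : (Submodule.Quotient.mk a₁ : QuotSMulTop (a₁ + b₁) B) = 0 := by
      apply hyreg
      simp only [smul_zero]
      rw [← Submodule.Quotient.mk_smul, Submodule.Quotient.mk_eq_zero, smul_eq_mul, h1]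
      exact ⟨a₂, trivial, rfl⟩
    rw [Submodule.Quotient.mk_eq_zero] at h2
    obtain ⟨c, _, hc⟩ := h2
    exact ⟨c, hc.symm⟩
  have key : (1 - c) * a₁ = c * b₁ := by linear_combination hc
  have hu : IsUnit c ∨ IsUnit (1 - c) := IsLocalRing.isUnit_or_isUnit_of_add_one (by ring)
  rcases hu with hu | hu
  · -- `b₁ ∈ a`, so `x ∈ a`, so `b = 0`
    right
    obtain ⟨u, rfl⟩ := hu
    have hb : b₁ ∈ a := by
      have : b₁ = (↑u⁻¹ : B) * (1 - u) * a₁ := by
        rw [mul_assoc, key, ← mul_assoc, Units.inv_mul, one_mul]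
      rw [this]
      exact Ideal.mul_mem_left _ _ ha₁
    rw [eq_bot_iff]
    intro t ht
    rw [Ideal.mem_bot]
    apply hxreg
    simp only [smul_eq_mul, mul_zero]
    exact h0 _ (add_mem ha₁ hb) t ht
  · left
    obtain ⟨u, hu⟩ := hu
    have ha : a₁ ∈ b := by
      have : a₁ = (↑u⁻¹ : B) * c * b₁ := by
        rw [mul_assoc, ← key, ← hu, ← mul_assoc, Units.inv_mul, one_mul]
      rw [this]
      exact Ideal.mul_mem_left _ _ hb₁
    rw [eq_bot_iff]
    intro t ht
    rw [Ideal.mem_bot]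
    apply hxreg
    simp only [smul_eq_mul, mul_zero]
    rw [mul_comm]
    exact h0 t ht _ (add_mem ha hb₁)

/-- The localization of the ring as a module over the localized ring. -/
noncomputable def localizedModuleSelfEquiv {A : Type u} [CommRing A] (S : Submonoid A) :
    LocalizedModule S A ≃ₗ[Localization S] Localization S :=
  (LocalizedModule.equivTensorProduct S A) ≪≫ₗ
    (TensorProduct.AlgebraTensorModule.rid A (Localization S) (Localization S))

/-- The dimension of `A / p` is the relative height of the closed point over `p`. -/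
theorem ringKrullDim_quotient_eq_rlen {A : Type u} [CommRing A] [IsLocalRing A]
    (p : PrimeSpectrum A) :
    ringKrullDim (A ⧸ p.asIdeal) =
      ((rlen p (IsLocalRing.closedPoint A) : ℕ∞) : WithBot ℕ∞) := by
  have : Nontrivial (A ⧸ p.asIdeal) := Ideal.Quotient.nontrivial_iff.2 p.isPrime.ne_top
  have hloc : IsLocalRing (A ⧸ p.asIdeal) :=
    IsLocalRing.of_surjective' (Ideal.Quotient.mk p.asIdeal) Ideal.Quotient.mk_surjective
  rw [← IsLocalRing.maximalIdeal_height_eq_ringKrullDim]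
  have h := rlen_comap_eq_height (f := Ideal.Quotient.mk p.asIdeal)
    Ideal.Quotient.mk_surjective p Ideal.mk_ker (IsLocalRing.closedPoint (A ⧸ p.asIdeal))
  have h2 : PrimeSpectrum.comap (Ideal.Quotient.mk p.asIdeal)
      (IsLocalRing.closedPoint (A ⧸ p.asIdeal)) = IsLocalRing.closedPoint A := by
    have := IsLocalHom.of_surjective (Ideal.Quotient.mk p.asIdeal) Ideal.Quotient.mk_surjective
    exact IsLocalRing.comap_closedPoint (Ideal.Quotient.mk p.asIdeal)
  rw [h2] at h
  rw [h]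
  rfl

/-- A power of `(⋂ S') ⬝ (⋂ S'')` vanishes when `S' ∪ S''` are all the minimal primes. -/
theorem exists_mul_pow_eq_bot {A : Type u} [CommRing A] [IsNoetherianRing A]
    (S' S'' : Set (Ideal A)) (h : minimalPrimes A ⊆ S' ∪ S'') :
    ∃ n : ℕ, (sInf S') ^ n * (sInf S'') ^ n = ⊥ := by
  obtain ⟨n, hn⟩ := IsNoetherianRing.isNilpotent_nilradical A
  refine ⟨n, ?_⟩
  rw [← mul_pow, ← le_bot_iff]
  refine le_trans (Ideal.pow_right_mono ?_ n) hn.le
  rw [nilradical, ← Ideal.sInf_minimalPrimes]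
  refine le_sInf fun p hp => ?_
  rcases h hp with hp' | hp'
  · exact le_trans Ideal.mul_le_left (sInf_le hp')
  · exact le_trans Ideal.mul_le_right (sInf_le hp')

/-- Stacks 0FIW. -/
theorem ringKrullDim_quotient_minimalPrime_of_catenary_S2 (A : Type u) [CommRing A]
    [IsLocalRing A] [IsNoetherianRing A] (hc : CAlg.IsCatenary A) (hS : LocCoh.HasSk 2 A A)
    (p : Ideal A) (hp : p ∈ minimalPrimes A) : ringKrullDim (A ⧸ p) = ringKrullDim A := by
  rw [isCatenary_iff] at hc
  set m : PrimeSpectrum A := IsLocalRing.closedPoint A with hm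
  have hle : ∀ q : PrimeSpectrum A, q ≤ m := fun q => IsLocalRing.le_maximalIdeal q.isPrime.ne_top
  have hmin : ∀ q : PrimeSpectrum A, q.asIdeal ∈ minimalPrimes A ↔ ∀ r : PrimeSpectrum A,
      r ≤ q → r = q := by
    intro q
    constructor
    · intro hq r hr
      exact le_antisymm hr (hq.2 ⟨r.isPrime, bot_le⟩ hr)
    · intro h
      refine ⟨⟨q.isPrime, bot_le⟩, fun r hr hrq => ?_⟩
      have := h ⟨r, hr.1⟩ hrq
      exact (PrimeSpectrum.asIdeal_le_asIdeal _ _ |>.2 this.ge)
  have hdimA : ringKrullDim A = ((m.asIdeal.height : ℕ∞) : WithBot ℕ∞) :=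
    IsLocalRing.maximalIdeal_height_eq_ringKrullDim.symm
  let P : PrimeSpectrum A := ⟨p, hp.1.1⟩
  have hquot : ringKrullDim (A ⧸ p) = ((rlen P m : ℕ∞) : WithBot ℕ∞) :=
    ringKrullDim_quotient_eq_rlen P
  rw [hquot, hdimA]
  congr 1
  by_contra hne
  -- the two sets of minimal primes
  let S' : Set (Ideal A) := {q | q ∈ minimalPrimes A ∧ ∃ hq : q.IsPrime,
    rlen (⟨q, hq⟩ : PrimeSpectrum A) m = m.asIdeal.height}
  let S'' : Set (Ideal A) := {q | q ∈ minimalPrimes A ∧ ∃ hq : q.IsPrime,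
    rlen (⟨q, hq⟩ : PrimeSpectrum A) m ≠ m.asIdeal.height}
  have hfin' : S'.Finite := (minimalPrimes.finite_of_isNoetherianRing A).subset fun q hq => hq.1
  have hfin'' : S''.Finite := (minimalPrimes.finite_of_isNoetherianRing A).subset fun q hq => hq.1
  have hcover : minimalPrimes A ⊆ S' ∪ S'' := by
    intro q hq
    by_cases h : rlen (⟨q, hq.1.1⟩ : PrimeSpectrum A) m = m.asIdeal.height
    · exact Or.inl ⟨hq, hq.1.1, h⟩
    · exact Or.inr ⟨hq, hq.1.1, h⟩
  have hPS : p ∈ S'' := ⟨hp, hp.1.1, hne⟩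
  -- `S'` is nonempty
  obtain ⟨p₀, hp₀⟩ : S'.Nonempty := by
    have hfinht : m.asIdeal.height ≠ ⊤ := Ideal.height_ne_top_of_isPrime
    obtain ⟨n, hn⟩ := ENat.ne_top_iff_exists.1 hfinht
    obtain ⟨s, hs1, hs2⟩ := Order.exists_series_of_height_eq_coe m (n := n)
      (by rw [← PrimeSpectrum.height_eq_orderHeight, hn])
    obtain ⟨q, hq, hqs⟩ := Ideal.exists_minimalPrimes_le (I := ⊥) (J := s.head.asIdeal) bot_le
    refine ⟨q, hq, hq.1.1, le_antisymm (rlen_le_height _ _) ?_⟩
    have h1 := rlen_add_le (p := (⟨q, hq.1.1⟩ : PrimeSpectrum A)) (q := s.head) (r := m) hqs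
      (hle _)
    have h2 := le_rlen (p := s.head) (q := m) s rfl hs1
    rw [← hn]
    rw [hs2] at h2
    exact h2.trans (le_trans le_add_self h1)
  -- the minimal prime `x` over `⋂ S' + ⋂ S''`
  have hm' : sInf S' ⊔ sInf S'' ≤ m.asIdeal :=
    sup_le ((sInf_le hp₀).trans (hle ⟨p₀, hp₀.2.1⟩)) ((sInf_le hPS).trans (hle P))
  obtain ⟨x, hx, hxm⟩ := Ideal.exists_minimalPrimes_le hm'
  have hxp : x.IsPrime := hx.1.1
  let X : PrimeSpectrum A := ⟨x, hxp⟩
  have hexists : ∀ (S : Set (Ideal A)), S.Finite → ∀ y : Ideal A, y.IsPrime → sInf S ≤ y →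
      ∃ q ∈ S, q ≤ y := by
    intro S hSf y hy h
    have : (hSf.toFinset).inf id ≤ y := by
      rw [Finset.inf_id_eq_sInf]
      simpa using h
    obtain ⟨q, hq, hqy⟩ := (Ideal.IsPrime.inf_le' hy).1 this
    exact ⟨q, by simpa using hq, hqy⟩
  obtain ⟨p', hp', hp'x⟩ := hexists S' hfin' x hxp (le_sup_left.trans hx.1.2)
  obtain ⟨p'', hp'', hp''x⟩ := hexists S'' hfin'' x hxp (le_sup_right.trans hx.1.2)
  let P' : PrimeSpectrum A := ⟨p', hp'.2.1⟩
  let P'' : PrimeSpectrum A := ⟨p'', hp''.2.1⟩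
  have hP'X : P' ≤ X := hp'x
  have hP''X : P'' ≤ X := hp''x
  have hr' : rlen P' m = m.asIdeal.height := hp'.2.2
  have hr'' : rlen P'' m ≠ m.asIdeal.height := hp''.2.2
  have hP'P'' : P' ≠ P'' := fun h => hr'' (h ▸ hr')
  have hlt' : P' < X := lt_of_le_of_ne hP'X fun h => by
    rw [← h] at hP''X
    exact hP'P'' ((hmin P').1 hp'.1 P'' hP''X).symm
  have hlt'' : P'' < X := lt_of_le_of_ne hP''X fun h => by
    rw [← h] at hP'X
    exact hP'P'' ((hmin P'').1 hp''.1 P' hP'X)
  have hXm : X ≤ m := hxm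
  have hadd' := hc P' X m hP'X hXm
  have hadd'' := hc P'' X m hP''X hXm
  have h1' := one_le_rlen hlt'
  have h1'' := one_le_rlen hlt''
  have hne' : rlen P' X ≠ rlen P'' X := by
    intro h
    rw [h, ← hadd'', hr'] at hadd'
    exact hr'' hadd'.symm
  have hht : (2 : ℕ∞) ≤ x.height := by
    have e' := rlen_le_height P' X
    have e'' := rlen_le_height P'' X
    by_contra hcon
    have hle1 : x.height ≤ 1 := by
      have := not_le.1 hcon
      exact Order.le_of_lt_add_one (by rw [one_add_one_eq_two]; exact this)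
    apply hne'
    rw [le_antisymm (e'.trans hle1) h1', le_antisymm (e''.trans hle1) h1'']
  -- depth at `x` is at least two
  have hdepth : (2 : ℕ∞) ≤ LocCoh.depth (Localization.AtPrime x) (Localization.AtPrime x) := by
    have h2 := hS x
    rw [Module.supportDim_eq_of_equiv (localizedModuleSelfEquiv x.primeCompl),
      Module.supportDim_self_eq_ringKrullDim,
      IsLocalization.AtPrime.ringKrullDim_eq_height x (Localization.AtPrime x)] at h2
    have e1 : LocCoh.depth (Localization.AtPrime x) (LocalizedModule x.primeCompl A) =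
        LocCoh.depth (Localization.AtPrime x) (Localization.AtPrime x) :=
      Groth.Agent.Localalg.Depth.idealDepth_congr_equiv _ (localizedModuleSelfEquiv x.primeCompl)
    rw [e1] at h2
    have e2 : min ((2 : ℕ) : WithBot ℕ∞) ((x.height : ℕ∞) : WithBot ℕ∞) = ((2 : ℕ∞) : WithBot ℕ∞) :=
      min_eq_left (WithBot.coe_le_coe.2 hht)
    rw [e2] at h2
    exact WithBot.coe_le_coe.1 h2
  -- powers with zero product
  obtain ⟨n, hn⟩ := exists_mul_pow_eq_bot S' S'' hcover
  set B := Localization.AtPrime x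
  let f := algebraMap A B
  let a := (sInf S' ^ n).map f
  let b := (sInf S'' ^ n).map f
  have hab : a * b = ⊥ := by
    rw [← Ideal.map_mul, hn, Ideal.map_bot]
  have hcomap : (IsLocalRing.maximalIdeal B).comap f = x :=
    IsLocalization.AtPrime.under_maximalIdeal B x
  have hnpos : n ≠ 0 := by
    rintro rfl
    simp only [pow_zero, one_mul] at hn
    exact one_ne_zero hn
  -- the radical of `a ⊔ b` is the maximal ideal
  have hrad : (a ⊔ b).radical = (IsLocalRing.maximalIdeal B).radical := by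
    have hmB : (IsLocalRing.maximalIdeal B).radical = IsLocalRing.maximalIdeal B :=
      (IsLocalRing.maximalIdeal.isMaximal B).isPrime.radical
    rw [hmB]
    apply le_antisymm
    · rw [← hmB]
      refine Ideal.radical_mono (sup_le ?_ ?_)
      · refine Ideal.map_le_iff_le_comap.2 ?_
        rw [hcomap]
        exact (Ideal.pow_le_self hnpos).trans (le_sup_left.trans hx.1.2)
      · refine Ideal.map_le_iff_le_comap.2 ?_
        rw [hcomap]
        exact (Ideal.pow_le_self hnpos).trans (le_sup_right.trans hx.1.2)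
    · rw [Ideal.radical_eq_sInf]
      refine le_sInf fun Q hQ => ?_
      obtain ⟨hQab, hQp⟩ := hQ
      have hQle : Q ≤ IsLocalRing.maximalIdeal B := IsLocalRing.le_maximalIdeal hQp.ne_top
      have hc1 : (Q.comap f).IsPrime := Ideal.comap_isPrime f Q
      have hc2 : Q.comap f ≤ x := by
        have := Ideal.comap_mono (f := f) hQle
        rwa [hcomap] at this
      have hc3 : sInf S' ⊔ sInf S'' ≤ Q.comap f := by
        refine sup_le ?_ ?_
        · exact hc1.le_of_pow_le (Ideal.map_le_iff_le_comap.1 (le_sup_left.trans hQab))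
        · exact hc1.le_of_pow_le (Ideal.map_le_iff_le_comap.1 (le_sup_right.trans hQab))
      have hc4 : x ≤ Q.comap f := hx.2 ⟨hc1, hc3⟩ hc2
      have : IsLocalRing.maximalIdeal B = x.map f :=
        (IsLocalization.AtPrime.map_eq_maximalIdeal x B).symm
      rw [this]
      exact Ideal.map_le_iff_le_comap.2 hc4
  have hdepth2 : ((2 : ℕ) : ℕ∞) ≤ LocCoh.idealDepth (a ⊔ b) B := by
    rw [Groth.Agent.Localalg.Depth.idealDepth_congr_radical hrad]
    exact hdepth
  have hnetop : (a ⊔ b) • (⊤ : Submodule B B) ≠ ⊤ := by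
    intro h
    rw [Ideal.smul_top_eq_map] at h
    simp only [Algebra.algebraMap_self, Ideal.map_id, Submodule.restrictScalars_self] at h
    have h3 : (a ⊔ b).radical = ⊤ := by rw [h]; exact Ideal.radical_top B
    rw [hrad, (IsLocalRing.maximalIdeal.isMaximal B).isPrime.radical] at h3
    exact (IsLocalRing.maximalIdeal.isMaximal B).ne_top h3
  obtain ⟨rs, hlen, hmem, hregs⟩ :=
    (Groth.Agent.Localalg.Depth.natCast_le_idealDepth_iff hnetop 2).1 hdepth2
  obtain ⟨u, v, rfl⟩ := List.length_eq_two.1 hlen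
  have hcontra : ∀ (S T : Set (Ideal A)), S.Finite → (sInf S ^ n).map f = ⊥ →
      ∀ q : PrimeSpectrum A, q ≤ X → q.asIdeal ∈ minimalPrimes A → ∃ r ∈ S, r ≤ q.asIdeal := by
    intro S _ hSf hbot q hqX hq
    refine hexists S hSf q.asIdeal q.isPrime ?_
    refine q.isPrime.le_of_pow_le (n := n) fun z hz => ?_
    have h1 : f z ∈ (sInf S ^ n).map f := Ideal.mem_map_of_mem f hz
    rw [hbot, Ideal.mem_bot] at h1
    obtain ⟨t, ht⟩ := (IsLocalization.map_eq_zero_iff x.primeCompl B z).1 h1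
    have h2 : (t : A) * z ∈ q.asIdeal := by rw [ht]; exact zero_mem _
    exact (q.isPrime.mem_or_mem h2).resolve_left fun h => t.2 (hqX h)
  rcases eq_bot_or_eq_bot_of_mul_eq_bot hab hregs.toIsWeaklyRegular (hmem u (by simp))
    (hmem v (by simp)) with h | h
  · obtain ⟨r, hr, hrle⟩ := hcontra S' S' hfin' h P'' hP''X hp''.1
    have h5 : (⟨r, hr.2.1⟩ : PrimeSpectrum A) = P'' := (hmin P'').1 hp''.1 _ hrle
    exact hr'' (h5 ▸ hr.2.2)
  · obtain ⟨r, hr, hrle⟩ := hcontra S'' S'' hfin'' h P' hP'X hp'.1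
    have h5 : (⟨r, hr.2.1⟩ : PrimeSpectrum A) = P' := (hmin P').1 hp'.1 _ hrle
    have h6 := hr.2.2
    rw [h5] at h6
    exact h6 hr'

end Groth.Agent.LoccohA.EquidimS2
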