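import Groth.Agent.LoccohA.DzOne

/-!
# `Hom(κ, ω[i])` for a maximal ideal
-/

set_option linter.unusedSectionVars false
set_option backward.isDefEq.respectTransparency.types false

universe u

open CategoryTheory Limits Pretriangulated Category

namespace Groth.Agent.LoccohA.DzKappa

open DzExact DzTrunc DzTrunc2 DzTrunc3 DzHom DzHomology DzBidual DzBidual2 DzExt DzInj DzDual DzDim
  DzOne DerivedCategory

attribute [local instance] HasDerivedCategory.standard

section

universe w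
variable {A : Type u} [CommRing A]

/-- A module killed by a maximal ideal `m`, nonzero and of rank `≤ 1` is `A/m`. -/
theorem nonempty_equiv_of_rankLE1 (m : Ideal A) [hm : m.IsMaximal] (E : Type w) [AddCommGroup E]
    [Module A E] (hE : ∀ s ∈ m, ∀ x : E, s • x = 0) (h : RankLE1 m E) (hn : ¬ VanAt A m E) :
    Nonempty (E ≃ₗ[A] (A ⧸ m)) := by
  unfold VanAt at hn
  push Not at hn
  obtain ⟨v, hv⟩ := hn
  have hle : m ≤ LinearMap.ker (LinearMap.toSpanSingleton A E v) := by
    intro s hs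
    rw [LinearMap.mem_ker, LinearMap.toSpanSingleton_apply]
    exact hE s hs v
  refine ⟨(LinearEquiv.ofBijective (m.liftQ (LinearMap.toSpanSingleton A E v) hle) ⟨?_, ?_⟩).symm⟩
  · rw [← LinearMap.ker_eq_bot, Submodule.ker_liftQ_eq_bot]
    intro s hs
    rw [LinearMap.mem_ker, LinearMap.toSpanSingleton_apply] at hs
    by_contra hsp
    exact hv s hsp hs
  · intro x
    obtain ⟨s, t, hst, hxv⟩ := h x v
    by_cases hs : s ∈ m
    · rw [hE s hs] at hxv
      exact (hv t (hst.resolve_left (not_not_intro hs)) hxv.symm).elim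
    · obtain ⟨s', hs'⟩ := hm.exists_inv hs
      obtain ⟨n, hn, hsn⟩ := hs'
      refine ⟨Ideal.Quotient.mk m (s' * t), ?_⟩
      change (s' * t) • v = x
      rw [mul_smul, ← hxv]
      have : x = (s' * s + n) • x := by rw [hsn, one_smul]
      rw [add_smul, hE n hn, add_zero, mul_smul] at this
      exact this.symm

/-- killed by a maximal ideal: vanishing at `m` means zero. -/
theorem subsingleton_of_vanAt (m : Ideal A) [hm : m.IsMaximal] (E : Type w) [AddCommGroup E]
    [Module A E] (hE : ∀ s ∈ m, ∀ x : E, s • x = 0) (h : VanAt A m E) : Subsingleton E := by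
  refine subsingleton_of_forall_eq 0 fun x => ?_
  obtain ⟨s, hs, hsx⟩ := h x
  obtain ⟨s', n, hn, hsn⟩ := hm.exists_inv hs
  have : x = (s' * s + n) • x := by rw [hsn, one_smul]
  rw [this, add_smul, hE n hn, add_zero, mul_smul, hsx, smul_zero]

end

section

variable {A : Type u} [CommRing A] [IsNoetherianRing A]

/-- One-dimensionality at `p` for a dualizing complex. -/
theorem rankLE1 {ω : Dual.D A} (hω : Dual.IsDualizing A ω) (p : PrimeSpectrum A) (d : ℤ) :
    RankLE1 p.asIdeal (E ω d (Aq p)) := by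
  obtain ⟨J, a, b, hJ1, hJ2, _, e, hs⟩ := exists_setup hω
  by_cases h : VanAt A p.asIdeal (E ω d (Aq p))
  · intro x y
    obtain ⟨s, hs, hsx⟩ := h x
    exact ⟨s, 0, Or.inl hs, by rw [hsx, zero_smul]⟩
  · have h' : ¬ VanAt A p.asIdeal (E (Q.obj J) d (Aq p)) := fun h1 =>
      h (vanAt_E_iso e.symm _ _ _ h1)
    exact RankLE1.of_equiv
      (Linear.homCongr A (Iso.refl _) ((shiftFunctor _ d).mapIso e)).symm (rankLE1_E hs p h')

/-- **Tag 0A7L**. -/
theorem ext_residueField {ω : Dual.D A} (hω : Dual.IsDualizing A ω) (m : Ideal A)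
    [hm : m.IsMaximal] : ∃ n : ℤ,
      (∀ i : ℤ, i ≠ n → Subsingleton (Dual.inD A (A ⧸ m) ⟶ ω⟦i⟧)) ∧
      Nonempty ((Dual.inD A (A ⧸ m) ⟶ ω⟦n⟧) ≃ₗ[A] (A ⧸ m)) := by
  obtain ⟨δ, h1, h2⟩ := exists_delta hω
  let p : PrimeSpectrum A := ⟨m, hm.isPrime⟩
  have hkill : ∀ (i : ℤ), ∀ s ∈ m, ∀ x : E ω i (Aq p), s • x = 0 := fun i s hs x =>
    smul_eq_zero_of_annihilator i (Aq p) s (Aq_killed p s hs) x
  refine ⟨-δ p, fun i hi => ?_, ?_⟩
  · have h3 : VanAt A p.asIdeal (E ω i (Aq p)) := by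
      by_contra hcon
      exact hi ((h1 p i).1 hcon)
    exact subsingleton_of_vanAt m (E ω i (Aq p)) (hkill i) h3
  · exact nonempty_equiv_of_rankLE1 m (E ω (-δ p) (Aq p)) (hkill _) (rankLE1 hω p _)
      ((h1 p _).2 rfl)

end

end Groth.Agent.LoccohA.DzKappa
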