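import Groth.Agent.LoccohA.LES
import Groth.Agent.Localalg.Gam
import Mathlib.Algebra.Category.ModuleCat.EnoughInjectives
import Mathlib.Algebra.Category.ModuleCat.Injective
import Mathlib.CategoryTheory.Abelian.Injective.Ext

/-!
# `H^0_I`, power torsion, vanishing of local cohomology on injectives and on torsion modules
-/

set_option autoImplicit false

universe u

open CategoryTheory Opposite CategoryTheory.Limits

namespace Groth.Agent.LoccohA.LES

open LCTColim LCTBase Groth.Agent.Localalg.Gam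

variable {A : Type u} [CommRing A] (I : Ideal A)

/-- Every element of `H^i_I(M)` is killed by a power of `I`. -/
theorem power_torsion (i : ℕ) (M : Type u) [AddCommGroup M] [Module A M] (x : LocCoh.H I i M) :
    ∃ n : ℕ, ∀ a ∈ I ^ n, a • x = 0 := by
  obtain ⟨k, x, rfl⟩ := toH_surj I i M x
  refine ⟨k.unop.unop, fun a ha => ?_⟩
  have h1 : a • 𝟙 (qm I k) = 0 := by
    apply ModuleCat.hom_ext
    refine LinearMap.ext fun y => ?_
    change a • y = 0
    obtain ⟨y, rfl⟩ := Ideal.Quotient.mk_surjective y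
    have : a • Ideal.Quotient.mk (I ^ k.unop.unop) y = Ideal.Quotient.mk (I ^ k.unop.unop) (a * y) :=
      rfl
    rw [this]
    exact Ideal.Quotient.eq_zero_iff_mem.mpr (Ideal.mul_mem_right _ _ ha)
  have h2 : a • x = (Abelian.Ext.mk₀ (a • 𝟙 (qm I k))).comp x (zero_add i) := by
    rw [Abelian.Ext.mk₀_smul, Abelian.Ext.smul_comp, Abelian.Ext.mk₀_id_comp]
  rw [← map_smul, h2, h1, Abelian.Ext.mk₀_zero, Abelian.Ext.zero_comp, map_zero]

theorem subsingleton_of_injective (i : ℕ) (M : Type u) [AddCommGroup M] [Module A M]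
    [hM : Module.Injective A M] : Subsingleton (LocCoh.H I (i + 1) M) := by
  refine subsingleton_of_forall_eq 0 fun h => ?_
  obtain ⟨k, x, rfl⟩ := toH_surj I (i + 1) M h
  have : Injective (ModuleCat.of A M) := Module.injective_object_of_injective_module A M
  rw [x.eq_zero_of_injective, map_zero]

theorem exists_equiv (M : Type u) [AddCommGroup M] [Module A M] :
    ∃ e : LocCoh.H I 0 M ≃ₗ[A] gam I M, ∀ (k : ℕᵒᵖᵒᵖ) (f : qm I k ⟶ ModuleCat.of A M),
      (e (toH I 0 M k (Abelian.Ext.mk₀ f)) : M) = f.hom (Ideal.Quotient.mk _ 1) := by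
  let ev : ∀ k : ℕᵒᵖᵒᵖ, Abelian.Ext.{u} (qm I k) (ModuleCat.of A M) 0 →ₗ[A] M := fun k =>
    { toFun := fun x => (Abelian.Ext.linearEquiv₀ (R := A) x).hom (Ideal.Quotient.mk _ 1)
      map_add' := fun x y => by rw [map_add]; rfl
      map_smul' := fun a x => by rw [map_smul]; rfl }
  have hev : ∀ (k : ℕᵒᵖᵒᵖ) (f : qm I k ⟶ ModuleCat.of A M), ev k (Abelian.Ext.mk₀ f) =
      f.hom (Ideal.Quotient.mk _ 1) := by
    intro k f
    change (Abelian.Ext.linearEquiv₀ (R := A) (Abelian.Ext.mk₀ f)).hom (Ideal.Quotient.mk _ 1) = _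
    have : Abelian.Ext.linearEquiv₀ (R := A) (Abelian.Ext.mk₀ f) = f := by
      apply (Abelian.Ext.linearEquiv₀ (R := A)).symm.injective
      rw [LinearEquiv.symm_apply_apply, Abelian.Ext.linearEquiv₀_symm_apply]
    rw [this]
  have hmk : ∀ (k : ℕᵒᵖᵒᵖ) (x : Abelian.Ext.{u} (qm I k) (ModuleCat.of A M) 0),
      ∃ f : qm I k ⟶ ModuleCat.of A M, x = Abelian.Ext.mk₀ f := fun k x =>
    ⟨Abelian.Ext.linearEquiv₀ (R := A) x, (Abelian.Ext.mk₀_linearEquiv₀_apply x).symm⟩
  obtain ⟨φ, hφ⟩ := exists_desc I 0 M ev (by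
    intro k k' f x
    obtain ⟨g, rfl⟩ := hmk k x
    rw [Abelian.Ext.mk₀_comp_mk₀, hev, hev]
    rfl)
  have hφ' : ∀ (k : ℕᵒᵖᵒᵖ) (f : qm I k ⟶ ModuleCat.of A M),
      φ (toH I 0 M k (Abelian.Ext.mk₀ f)) = f.hom (Ideal.Quotient.mk _ 1) := fun k f => by
    rw [hφ, hev]
  have hrange : ∀ x, φ x ∈ gam I M := by
    intro x
    obtain ⟨k, x, rfl⟩ := toH_surj I 0 M x
    obtain ⟨f, rfl⟩ := hmk k x
    rw [hφ']
    refine ⟨k.unop.unop, fun a ha => ?_⟩
    rw [← map_smul]
    have : a • Ideal.Quotient.mk (I ^ k.unop.unop) 1 = 0 := by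
      have h : a • Ideal.Quotient.mk (I ^ k.unop.unop) 1 =
        Ideal.Quotient.mk (I ^ k.unop.unop) (a * 1) := rfl
      rw [h]
      exact Ideal.Quotient.eq_zero_iff_mem.mpr (Ideal.mul_mem_right _ _ ha)
    rw [this, map_zero]
  have hinj : Function.Injective φ := by
    rw [injective_iff_map_eq_zero]
    intro x hx
    obtain ⟨k, x, rfl⟩ := toH_surj I 0 M x
    obtain ⟨f, rfl⟩ := hmk k x
    rw [hφ'] at hx
    have : f = 0 := by
      apply ModuleCat.hom_ext
      refine LinearMap.ext fun y => ?_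
      obtain ⟨y, rfl⟩ := Ideal.Quotient.mk_surjective y
      have h : Ideal.Quotient.mk (I ^ k.unop.unop) y =
        y • Ideal.Quotient.mk (I ^ k.unop.unop) 1 := by
        change _ = Ideal.Quotient.mk (I ^ k.unop.unop) (y * 1)
        rw [mul_one]
      change f.hom (Ideal.Quotient.mk (I ^ k.unop.unop) y) = 0
      rw [h, map_smul, hx, smul_zero]
    rw [this, Abelian.Ext.mk₀_zero, map_zero]
  let ψ : LocCoh.H I 0 M →ₗ[A] gam I M := φ.codRestrict _ hrange
  refine ⟨LinearEquiv.ofBijective ψ ⟨fun x y hxy => hinj (congrArg Subtype.val hxy), ?_⟩,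
    fun k f => hφ' k f⟩
  rintro ⟨m, n, hn⟩
  let f : qm I (op (op n)) ⟶ ModuleCat.of A M := ModuleCat.ofHom
    (Submodule.liftQ _ (LinearMap.toSpanSingleton A M m) (fun a ha => hn a ha))
  refine ⟨toH I 0 M (op (op n)) (Abelian.Ext.mk₀ f), Subtype.ext ?_⟩
  change φ _ = m
  rw [hφ']
  change (1 : A) • m = m
  exact one_smul _ _

/-- `H^0` is computed by the torsion submodule, compatibly with maps. -/
theorem exists_equiv_natural (M N : Type u) [AddCommGroup M] [Module A M] [AddCommGroup N]
    [Module A N] (f : M →ₗ[A] N) (x : LocCoh.H I 0 M) :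
    ((exists_equiv I N).choose (hmap I 0 f x) : N) = f ((exists_equiv I M).choose x) := by
  obtain ⟨k, x, rfl⟩ := toH_surj I 0 M x
  obtain ⟨g, rfl⟩ : ∃ g : qm I k ⟶ ModuleCat.of A M, x = Abelian.Ext.mk₀ g :=
    ⟨Abelian.Ext.linearEquiv₀ (R := A) x, (Abelian.Ext.mk₀_linearEquiv₀_apply x).symm⟩
  rw [hmap_toH, Abelian.Ext.mk₀_comp_mk₀, (exists_equiv I N).choose_spec,
    (exists_equiv I M).choose_spec]
  rfl

/-- The isomorphism `H^0_I(M) ≃ Γ_I(M)`. -/
noncomputable def equivGam (M : Type u) [AddCommGroup M] [Module A M] :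
    LocCoh.H I 0 M ≃ₗ[A] gam I M := (exists_equiv I M).choose

theorem equivGam_hmap (M N : Type u) [AddCommGroup M] [Module A M] [AddCommGroup N]
    [Module A N] (f : M →ₗ[A] N) (x : LocCoh.H I 0 M) :
    (equivGam I N (hmap I 0 f x) : N) = f (equivGam I M x) := exists_equiv_natural I M N f x

theorem exists_injective_embedding (M : Type u) [AddCommGroup M] [Module A M] :
    ∃ (J : Type u) (_ : AddCommGroup J) (_ : Module A J) (_ : Module.Injective A J)
      (f : M →ₗ[A] J), Function.Injective f := by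
  let J := Injective.under (ModuleCat.of A M)
  have hJ0 : Injective J := inferInstance
  have : Module.Injective A J := by
    have h : Injective (ModuleCat.of A J) := hJ0
    exact Module.injective_module_of_injective_object A J
  exact ⟨J, inferInstance, inferInstance, this, (Injective.ι (ModuleCat.of A M)).hom,
    (ModuleCat.mono_iff_injective _).mp inferInstance⟩

/-- local cohomology vanishes in positive degrees on power torsion modules. -/
theorem subsingleton_of_torsion [IsNoetherianRing A] (i : ℕ) : ∀ (M : Type u) [AddCommGroup M]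
    [Module A M] (_ : ∀ x : M, ∃ n : ℕ, ∀ a ∈ I ^ n, a • x = 0),
    Subsingleton (LocCoh.H I (i + 1) M) := by
  induction i with
  | zero =>
    intro M _ _ h
    obtain ⟨J, _, _, hJ, f, hf⟩ := exists_injective_embedding (A := A) M
    have hE := injective_gam I J hJ
    let g : M →ₗ[A] gam I J := f.codRestrict _ (fun x => map_mem_gam f (h x))
    have hg : Function.Injective g := fun x y hxy => hf (congrArg Subtype.val hxy)
    obtain ⟨δ, h1, h2, -⟩ := exists_exact I 0 g (LinearMap.range g).mkQ hg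
      (LinearMap.exact_iff.mpr (by simp)) (Submodule.mkQ_surjective _)
    have hsub := subsingleton_of_injective I 0 (gam I J)
    refine subsingleton_of_forall_eq 0 fun x => ?_
    obtain ⟨y, rfl⟩ := (h2 x).mp (Subsingleton.elim _ _)
    -- `y` lifts
    have hy : ∃ z, hmap I 0 (LinearMap.range g).mkQ z = y := by
      obtain ⟨z, hz⟩ := (LinearMap.range g).mkQ_surjective
        (equivGam I (gam I J ⧸ LinearMap.range g) y : gam I J ⧸ LinearMap.range g)
      have hz' : z ∈ gam I (gam I J) := by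
        obtain ⟨n, hn⟩ := z.2
        exact ⟨n, fun a ha => Subtype.ext (hn a ha)⟩
      refine ⟨(equivGam I (gam I J)).symm ⟨z, hz'⟩, ?_⟩
      apply (equivGam I (gam I J ⧸ LinearMap.range g)).injective
      apply Subtype.ext
      rw [equivGam_hmap, LinearEquiv.apply_symm_apply, hz]
    exact (h1 y).mpr hy
  | succ i ih =>
    intro M _ _ h
    obtain ⟨J, _, _, hJ, f, hf⟩ := exists_injective_embedding (A := A) M
    have hE := injective_gam I J hJ
    let g : M →ₗ[A] gam I J := f.codRestrict _ (fun x => map_mem_gam f (h x))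
    have hg : Function.Injective g := fun x y hxy => hf (congrArg Subtype.val hxy)
    obtain ⟨δ, h1, h2, -⟩ := exists_exact I (i + 1) g (LinearMap.range g).mkQ hg
      (LinearMap.exact_iff.mpr (by simp)) (Submodule.mkQ_surjective _)
    have hsub := subsingleton_of_injective I (i + 1) (gam I J)
    have hsub2 := ih (gam I J ⧸ LinearMap.range g) (by
      intro x
      obtain ⟨z, rfl⟩ := (LinearMap.range g).mkQ_surjective x
      obtain ⟨n, hn⟩ := z.2
      refine ⟨n, fun a ha => ?_⟩
      rw [← map_smul]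
      have : a • z = 0 := Subtype.ext (hn a ha)
      rw [this, map_zero])
    refine subsingleton_of_forall_eq 0 fun x => ?_
    obtain ⟨y, rfl⟩ := (h2 x).mp (Subsingleton.elim _ _)
    rw [Subsingleton.elim y 0, map_zero]

theorem subsingleton_of_subsingleton (i : ℕ) (M : Type u) [AddCommGroup M] [Module A M]
    [Subsingleton M] : Subsingleton (LocCoh.H I i M) := by
  refine subsingleton_of_forall_eq 0 fun x => ?_
  rw [← hmap_id I i x, Subsingleton.elim (LinearMap.id : M →ₗ[A] M) 0, hmap_zero]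

end Groth.Agent.LoccohA.LES
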