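import Groth.Prelude.Def_DualLC

/-!
# Local cohomology with supports in `V(I)` is local cohomology with support in `I`

For a Noetherian ring `A`: the functor `Dual2.HT (V(I)) i` is isomorphic to Mathlib's
`localCohomology I i`.
-/

set_option autoImplicit false
universe u
open CategoryTheory

namespace Groth.Agent.LoccohA.HTV

variable {A : Type u} [CommRing A]

/-- the comparison of index categories -/
noncomputable def toIdealsIn (I : Ideal A) :
    localCohomology.SelfLERadical I ⥤ Dual2.IdealsIn (PrimeSpectrum.zeroLocus (I : Set A)) :=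
  ObjectProperty.ιOfLE fun J hJ => by
    rw [PrimeSpectrum.zeroLocus_subset_zeroLocus_iff]
    exact hJ

/-- the inverse comparison of index categories -/
noncomputable def ofIdealsIn (I : Ideal A) :
    Dual2.IdealsIn (PrimeSpectrum.zeroLocus (I : Set A)) ⥤ localCohomology.SelfLERadical I :=
  ObjectProperty.ιOfLE fun J hJ => by
    rw [PrimeSpectrum.zeroLocus_subset_zeroLocus_iff] at hJ
    exact hJ

/-- the equivalence of index categories -/
noncomputable def equivIdealsIn (I : Ideal A) :
    localCohomology.SelfLERadical I ≌ Dual2.IdealsIn (PrimeSpectrum.zeroLocus (I : Set A)) where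
  functor := toIdealsIn I
  inverse := ofIdealsIn I
  unitIso := Iso.refl _
  counitIso := Iso.refl _

instance (I : Ideal A) : (toIdealsIn I).IsEquivalence :=
  (equivIdealsIn I).isEquivalence_functor

/-- `HT (V(I)) i` agrees with the local cohomology computed with all ideals whose radical contains `I`. -/
noncomputable def isoRadical (I : Ideal A) (i : ℕ) :
    localCohomology.ofSelfLERadical.{u} I i ≅
      localCohomology.ofDiagram.{u, u} (Dual2.idealsInDiagram (PrimeSpectrum.zeroLocus (I : Set A))) i :=
  localCohomology.isoOfFinal.{u, u, u} (toIdealsIn I) (Dual2.idealsInDiagram _) i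

/-- `HT (V(I)) i ≅ H^i_I` as functors, for a Noetherian ring. -/
noncomputable def isoH [IsNoetherianRing A] (I : Ideal A) (i : ℕ) :
    localCohomology.ofDiagram.{u, u} (Dual2.idealsInDiagram (PrimeSpectrum.zeroLocus (I : Set A))) i ≅
      localCohomology.{u} I i :=
  (isoRadical I i).symm ≪≫ localCohomology.isoSelfLERadical I i

/-- `HT (V(I)) i M ≃ H^i_I(M)`, `A`-linearly, for a Noetherian ring. -/
noncomputable def equivH [IsNoetherianRing A] (I : Ideal A) (i : ℕ) (M : Type u) [AddCommGroup M]
    [Module A M] :
    Dual2.HT (PrimeSpectrum.zeroLocus (I : Set A)) i M ≃ₗ[A] LocCoh.H I i M :=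
  ((isoH I i).app (ModuleCat.of A M)).toLinearEquiv

end Groth.Agent.LoccohA.HTV
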