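import Groth.Prelude.Def_DualLC
import Groth.Agent.CalgA.CatOrder
import Groth.Agent.Ega4B.CatHeight
import Groth.Agent.Ega4B.LocTransfer
import Groth.Agent.Ega4B.DepthBasic

set_option autoImplicit false
universe u v

/-!
# The cutoff invariant `s_{A,I}(M)`: bounds and localization
-/

namespace Groth.Agent.LoccohA.CutoffLoc

open Groth.Agent.Ega4B.CatHeight

section Order

variable {α β : Type*} [PartialOrder α] [PartialOrder β]

/-- The Krull dimension of an interval is the relative height. -/
theorem krullDim_Icc {p q : α} (h : p ≤ q) :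
    Order.krullDim (Set.Icc p q) = ((rlen p q : ℕ∞) : WithBot ℕ∞) := by
  rw [← height_Ici h, Order.height_eq_krullDim_Iic]
  refine Order.krullDim_eq_of_orderIso
    { toFun := fun x => ⟨⟨x.1, x.2.1⟩, x.2.2⟩
      invFun := fun x => ⟨x.1.1, x.1.2, x.2⟩
      left_inv := fun x => rfl
      right_inv := fun x => rfl
      map_rel_iff' := Iff.rfl }

/-- Relative heights are preserved by order embeddings whose range is a lower set. -/
theorem rlen_embedding (f : β ↪o α) (hf : ∀ (a : α) (b : β), a ≤ f b → a ∈ Set.range f) (p q : β) :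
    rlen (f p) (f q) = rlen p q := by
  apply le_antisymm
  · rw [rlen_le_iff]
    intro s h1 h2
    obtain ⟨t, ht1, ht2, ht3, _⟩ := Groth.Agent.CalgA.CatOrder.exists_lift f s
      (fun i => hf _ q (by rw [← h2]; exact s.monotone (Fin.le_last i)))
    rw [← ht1]
    exact le_rlen t (f.injective (ht2.trans h1)) (f.injective (ht3.trans h2))
  · rw [rlen_le_iff]
    intro s h1 h2
    have := le_rlen (p := f p) (q := f q) (s.map f f.strictMono)
      (by rw [← h1]; rfl) (by rw [← h2]; rfl)
    exact this

end Order

section Cutoff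

variable {A : Type u} [CommRing A]

/-- Natural lower bounds of the cutoff invariant. -/
theorem natCast_lt_cutoff_iff (I : Ideal A) (M : Type u) [AddCommGroup M] [Module A M] (s : ℕ) :
    (s : ℕ∞) < Dual2.cutoff A I M ↔
      ∀ p q : PrimeSpectrum A, p ≤ q → ¬ I ≤ p.asIdeal → I ≤ q.asIdeal →
        (s : ℕ∞) < LocCoh.depth (Localization.AtPrime p.asIdeal)
          (LocalizedModule p.asIdeal.primeCompl M) + rlen p q := by
  have key : ∀ a : ℕ∞, (s : ℕ∞) < a ↔ ((s + 1 : ℕ) : ℕ∞) ≤ a := by
    intro a
    rw [Nat.cast_add, Nat.cast_one, ENat.add_one_le_iff (ENat.natCast_ne_top s)]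
  rw [key]
  unfold Dual2.cutoff
  simp only [le_iInf_iff]
  constructor
  · intro h p q hpq hp hq
    rw [key]
    have := h p q hpq hp hq
    rwa [height_Ici hpq] at this
  · intro h p q hpq hp hq
    rw [height_Ici hpq, ← key]
    exact h p q hpq hp hq

theorem cutoff_congr (I : Ideal A) {M N : Type u} [AddCommGroup M] [Module A M]
    [AddCommGroup N] [Module A N] (e : M ≃ₗ[A] N) :
    Dual2.cutoff A I M = Dual2.cutoff A I N := by
  unfold Dual2.cutoff
  refine iInf_congr fun p => iInf_congr fun q => iInf_congr fun h => iInf_congr fun _ =>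
    iInf_congr fun _ => ?_
  congr 1
  exact Groth.Agent.Ega4B.DepthBasic.depth_congr
    (IsLocalizedModule.mapEquiv p.asIdeal.primeCompl
      (LocalizedModule.mkLinearMap p.asIdeal.primeCompl M)
      (LocalizedModule.mkLinearMap p.asIdeal.primeCompl N) (Localization.AtPrime p.asIdeal) e)

/-- Relative heights in a localization. -/
theorem rlen_comap_localization (S : Submonoid A) (P Q : PrimeSpectrum (Localization S)) :
    rlen (PrimeSpectrum.comap (algebraMap A (Localization S)) P)
      (PrimeSpectrum.comap (algebraMap A (Localization S)) Q) = rlen P Q := by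
  refine rlen_embedding (Groth.Agent.CalgA.CatOrder.comapLoc (S := Localization S) S) ?_ P Q
  intro a b hab
  rw [Groth.Agent.CalgA.CatOrder.range_comapLoc]
  have hb : Groth.Agent.CalgA.CatOrder.comapLoc (S := Localization S) S b ∈
      Set.range (Groth.Agent.CalgA.CatOrder.comapLoc (S := Localization S) S) := ⟨b, rfl⟩
  rw [Groth.Agent.CalgA.CatOrder.range_comapLoc] at hb
  exact Set.disjoint_of_subset_right (fun x hx => hab hx) hb

/-- The cutoff condition can be checked after localizing at all primes. -/
theorem natCast_lt_cutoff_iff_forall_localization (I : Ideal A) (M : Type u) [AddCommGroup M]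
    [Module A M] (s : ℕ) :
    (s : ℕ∞) < Dual2.cutoff A I M ↔
      ∀ m : PrimeSpectrum A, (s : ℕ∞) < Dual2.cutoff (Localization.AtPrime m.asIdeal)
        (I.map (algebraMap A (Localization.AtPrime m.asIdeal)))
        (LocalizedModule m.asIdeal.primeCompl M) := by
  have hdepth : ∀ (m : PrimeSpectrum A) (P : PrimeSpectrum (Localization.AtPrime m.asIdeal)),
      LocCoh.depth (Localization.AtPrime P.asIdeal)
        (LocalizedModule P.asIdeal.primeCompl (LocalizedModule m.asIdeal.primeCompl M)) =
      LocCoh.depth (Localization.AtPrime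
        (P.asIdeal.comap (algebraMap A (Localization.AtPrime m.asIdeal))))
        (LocalizedModule
          (P.asIdeal.comap (algebraMap A (Localization.AtPrime m.asIdeal))).primeCompl M) :=
    fun m P => Groth.Agent.Ega4B.LocTransfer.depth_eq_of_isLocalization m.asIdeal.primeCompl
      (LocalizedModule.mkLinearMap m.asIdeal.primeCompl M) P.asIdeal
  rw [natCast_lt_cutoff_iff]
  constructor
  · intro h m
    rw [natCast_lt_cutoff_iff]
    intro P Q hPQ hP hQ
    rw [hdepth, ← rlen_comap_localization]
    refine h (PrimeSpectrum.comap (algebraMap A (Localization.AtPrime m.asIdeal)) P)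
      (PrimeSpectrum.comap (algebraMap A (Localization.AtPrime m.asIdeal)) Q)
      (Ideal.comap_mono hPQ) ?_ ?_
    · rwa [Ideal.map_le_iff_le_comap] at hP
    · rwa [Ideal.map_le_iff_le_comap] at hQ
  · intro h p q hpq hp hq
    have hq' := h q
    rw [natCast_lt_cutoff_iff] at hq'
    obtain ⟨P, hP⟩ : p ∈ Set.range (Groth.Agent.CalgA.CatOrder.comapLoc
        (S := Localization.AtPrime q.asIdeal) q.asIdeal.primeCompl) := by
      rw [Groth.Agent.CalgA.CatOrder.range_comapLoc]
      exact Set.disjoint_left.2 fun x hx hxp => hx (hpq hxp)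
    obtain ⟨Q, hQ⟩ : q ∈ Set.range (Groth.Agent.CalgA.CatOrder.comapLoc
        (S := Localization.AtPrime q.asIdeal) q.asIdeal.primeCompl) := by
      rw [Groth.Agent.CalgA.CatOrder.range_comapLoc]
      exact Set.disjoint_left.2 fun x hx hxp => hx hxp
    have hPQ : P ≤ Q := by
      rw [← (Groth.Agent.CalgA.CatOrder.comapLoc
        (S := Localization.AtPrime q.asIdeal) q.asIdeal.primeCompl).le_iff_le, hP, hQ]
      exact hpq
    rw [Groth.Agent.CalgA.CatOrder.comapLoc_apply] at hP hQ
    subst hP
    have h2 := hq' P Q hPQ (by rwa [Ideal.map_le_iff_le_comap])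
      (by
        rw [Ideal.map_le_iff_le_comap]
        have : Q.asIdeal.comap (algebraMap A (Localization.AtPrime q.asIdeal)) = q.asIdeal := by
          exact congrArg PrimeSpectrum.asIdeal hQ
        rw [this]
        exact hq)
    rw [hdepth, ← rlen_comap_localization, hQ] at h2
    exact h2

end Cutoff

end Groth.Agent.LoccohA.CutoffLoc
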