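import Groth.Agent.LoccohA.LCTLes
import Groth.Agent.Sga2.OldExt
import Mathlib.Algebra.Category.ModuleCat.Ext.HasExt
import Mathlib.RingTheory.Ideal.Operations

/-!
# Comparison of the various local cohomology modules

* `HTequiv : HT T i M ≃ₗ HDT A T (inD A M) i`, natural in `M`;
* `HDIequiv : HDI A I K i ≃ₗ HDT A (V(I)) K i` for finitely generated `I`;
* `Hequiv : LocCoh.H I i M ≃ₗ HDI A I (inD A M) i`, natural in `M`;
* `HequivHT : LocCoh.H I i M ≃ₗ HT (V(I)) i M` for finitely generated `I`.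
-/

set_option autoImplicit false
set_option linter.unusedVariables false
set_option linter.unusedSectionVars false

universe u

open CategoryTheory Limits Opposite Pretriangulated
open Groth.Agent.LoccohA.LCTColim Groth.Agent.LoccohA.LCTBase Groth.Agent.LoccohA.LCTLes
open Groth.Agent.Sga2

attribute [local instance] HasDerivedCategory.standard

namespace Groth.Agent.LoccohA.LCTComp

variable {A : Type u} [CommRing A]

section OldExt

/-- old `Ext` as morphisms in the derived category, linearly. -/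
noncomputable def oldD (X Y : ModuleCat.{u} A) (i : ℕ) :
    ((_root_.Ext A (ModuleCat.{u} A) i).obj (op X)).obj Y ≃ₗ[A]
      ((DerivedCategory.singleFunctor (ModuleCat.{u} A) 0).obj X ⟶
        ((DerivedCategory.singleFunctor (ModuleCat.{u} A) 0).obj Y)⟦(i : ℤ)⟧) :=
  (OldExt.oldNew A X Y i).trans Abelian.Ext.homLinearEquiv

theorem oldD_mapOp {X X' : ModuleCat.{u} A} (f : X' ⟶ X) (Y : ModuleCat.{u} A) (i : ℕ)
    (x : ((_root_.Ext A (ModuleCat.{u} A) i).obj (op X)).obj Y) :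
    oldD X' Y i ((((_root_.Ext A (ModuleCat.{u} A) i).map f.op).app Y).hom x) =
      (DerivedCategory.singleFunctor (ModuleCat.{u} A) 0).map f ≫ oldD X Y i x := by
  change Abelian.Ext.hom (OldExt.oldNew A X' Y i _) = _ ≫ Abelian.Ext.hom (OldExt.oldNew A X Y i x)
  rw [OldExt.oldNew_mapOp, Abelian.Ext.singleFunctor_map_comp_hom]

theorem oldD_map (X : ModuleCat.{u} A) {Y Y' : ModuleCat.{u} A} (g : Y ⟶ Y') (i : ℕ)
    (x : ((_root_.Ext A (ModuleCat.{u} A) i).obj (op X)).obj Y) :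
    oldD X Y' i ((((_root_.Ext A (ModuleCat.{u} A) i).obj (op X)).map g).hom x) =
      oldD X Y i x ≫ ((DerivedCategory.singleFunctor (ModuleCat.{u} A) 0).map g)⟦(i : ℤ)⟧' := by
  change Abelian.Ext.hom (OldExt.oldNew A X Y' i _) =
    Abelian.Ext.hom (OldExt.oldNew A X Y i x) ≫ _
  rw [OldExt.oldNew_map, Abelian.Ext.hom_comp_singleFunctor_map_shift]

end OldExt

section HT

variable (T : Set (PrimeSpectrum A)) (i : ℕ)

/-- `oldD` for the diagrams. -/
noncomputable def eHT (M : Type u) [AddCommGroup M] [Module A M] (J : (Dual2.IdealsIn T)ᵒᵖ) :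
    (HTdiag T i (ModuleCat.of A M)).obj J ≃ₗ[A] (HDTdiag T (i : ℤ) (Dual.inD A M)).obj J :=
  oldD (ModuleCat.of A (A ⧸ toI J.unop)) (ModuleCat.of A M) i

theorem HT_isColim' (M : Type u) [AddCommGroup M] [Module A M] :
    IsColim (HTdiag T i (ModuleCat.of A M)) (Dual2.HDT A T (Dual.inD A M) (i : ℤ))
      (fun J => (HDTι T (i : ℤ) (Dual.inD A M) J).comp (eHT T i M J).toLinearMap) :=
  (HDT_isColim T (i : ℤ) (Dual.inD A M)).congr (eHT T i M)
    (fun f x => oldD_mapOp (pr (le_of_hom f.unop)) _ i x)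

/-- `HT T i M = HDT A T (M[0]) i`. -/
noncomputable def HTequiv (M : Type u) [AddCommGroup M] [Module A M] :
    Dual2.HT T i M ≃ₗ[A] Dual2.HDT A T (Dual.inD A M) (i : ℤ) :=
  (HT_isColim T i M).equiv (HT_isColim' T i M)

/-- The structure map `Ext^i(A/J, M) → HT T i M`. -/
noncomputable def tι (M : Type u) [AddCommGroup M] [Module A M] (J : Ideal A)
    (hJ : PrimeSpectrum.zeroLocus (J : Set A) ⊆ T) :
    ((_root_.Ext A (ModuleCat.{u} A) i).obj (op (ModuleCat.of A (A ⧸ J)))).obj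
      (ModuleCat.of A M) →ₗ[A] Dual2.HT T i M :=
  HTι T i M (op (mkI T J hJ))

theorem HTequiv_ι (M : Type u) [AddCommGroup M] [Module A M] (J : Ideal A)
    (hJ : PrimeSpectrum.zeroLocus (J : Set A) ⊆ T)
    (x : ((_root_.Ext A (ModuleCat.{u} A) i).obj (op (ModuleCat.of A (A ⧸ J)))).obj
      (ModuleCat.of A M)) :
    HTequiv T i M (tι T i M J hJ x) =
      dι T (Dual.inD A M) (i : ℤ) J hJ (oldD (ModuleCat.of A (A ⧸ J)) (ModuleCat.of A M) i x) :=
  IsColim.equiv_apply (HT_isColim T i M) (HT_isColim' T i M) (op (mkI T J hJ)) x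

theorem HT_exists_rep (M : Type u) [AddCommGroup M] [Module A M] (y : Dual2.HT T i M) :
    ∃ (J : Ideal A) (hJ : PrimeSpectrum.zeroLocus (J : Set A) ⊆ T)
      (x : ((_root_.Ext A (ModuleCat.{u} A) i).obj (op (ModuleCat.of A (A ⧸ J)))).obj
        (ModuleCat.of A M)), tι T i M J hJ x = y := by
  obtain ⟨J, x, h⟩ := (HT_isColim T i M).surj y
  exact ⟨toI J.unop, toI_prop J.unop, x, h⟩

variable {M M' : Type u} [AddCommGroup M] [Module A M] [AddCommGroup M'] [Module A M']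

/-- The map on `HT` induced by a linear map. -/
noncomputable def HTmap (g : M →ₗ[A] M') : Dual2.HT T i M →ₗ[A] Dual2.HT T i M' :=
  ((localCohomology.ofDiagram.{u, u} (Dual2.idealsInDiagram T) i).map (ModuleCat.ofHom g)).hom

theorem HTmap_ι (g : M →ₗ[A] M') (J : Ideal A) (hJ : PrimeSpectrum.zeroLocus (J : Set A) ⊆ T)
    (x : ((_root_.Ext A (ModuleCat.{u} A) i).obj (op (ModuleCat.of A (A ⧸ J)))).obj
      (ModuleCat.of A M)) :
    HTmap T i g (tι T i M J hJ x) = tι T i M' J hJ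
      ((((_root_.Ext A (ModuleCat.{u} A) i).obj (op (ModuleCat.of A (A ⧸ J)))).map
        (ModuleCat.ofHom g)).hom x) := by
  have h := (colimit.ι (localCohomology.diagram (Dual2.idealsInDiagram T) i)
    (op (mkI T J hJ))).naturality (ModuleCat.ofHom g)
  exact (congrArg (fun t => t.hom x) h).symm

/-- naturality of `HTequiv` -/
theorem HTequiv_map (g : M →ₗ[A] M') (y : Dual2.HT T i M) :
    HTequiv T i M' (HTmap T i g y) =
      hmap T (((DerivedCategory.singleFunctor (ModuleCat.{u} A) 0).map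
        (ModuleCat.ofHom g))⟦(i : ℤ)⟧') (HTequiv T i M y) := by
  obtain ⟨J, hJ, x, rfl⟩ := HT_exists_rep T i M y
  rw [HTmap_ι, HTequiv_ι, HTequiv_ι, hmap_ι, oldD_map]

end HT

section HDI

variable (I : Ideal A) (i : ℤ) (K : Dual.D A)

/-- The structure map `Hom_D(A/I^n, K[i]) → HDI A I K i`. -/
noncomputable def iι (n : ℕ) : (Dual.inD A (A ⧸ I ^ n) ⟶ K⟦i⟧) →ₗ[A] Dual2.HDI A I K i :=
  HDIι I i K (op (op n))

theorem HDI_exists_rep (y : Dual2.HDI A I K i) :
    ∃ (n : ℕ) (x : Dual.inD A (A ⧸ I ^ n) ⟶ K⟦i⟧), iι I i K n x = y := by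
  obtain ⟨n, x, h⟩ := (HDI_isColim I i K).surj y
  exact ⟨n.unop.unop, x, h⟩

theorem iι_pr {n m : ℕ} (h : n ≤ m) (x : Dual.inD A (A ⧸ I ^ n) ⟶ K⟦i⟧) :
    iι I i K m ((DerivedCategory.singleFunctor (ModuleCat.{u} A) 0).map
      (pr (Ideal.pow_le_pow_right h)) ≫ x) = iι I i K n x :=
  (HDI_isColim I i K).compat (d := op (op n)) (d' := op (op m)) (homOfLE h).op.op x

theorem iι_eq_zero {n : ℕ} {x : Dual.inD A (A ⧸ I ^ n) ⟶ K⟦i⟧} (h : iι I i K n x = 0) :
    ∃ (m : ℕ) (h : n ≤ m), (DerivedCategory.singleFunctor (ModuleCat.{u} A) 0).map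
      (pr (Ideal.pow_le_pow_right (I := I) h)) ≫ x = 0 := by
  obtain ⟨m, f, hf⟩ := (HDI_isColim I i K).inj (op (op n)) x h
  exact ⟨m.unop.unop, leOfHom f.unop.unop, hf⟩

theorem zeroLocus_pow_subset' (n : ℕ) :
    PrimeSpectrum.zeroLocus ((I ^ n : Ideal A) : Set A) ⊆ PrimeSpectrum.zeroLocus (I : Set A) := by
  rcases n with _ | n
  · rw [pow_zero, Ideal.one_eq_top, PrimeSpectrum.zeroLocus_empty_iff_eq_top.2 rfl]
    exact Set.empty_subset _
  · rw [PrimeSpectrum.zeroLocus_pow _ (Nat.succ_ne_zero n)]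

variable {I} in
theorem exists_pow_le (hI : I.FG) {J : Ideal A}
    (hJ : PrimeSpectrum.zeroLocus (J : Set A) ⊆ PrimeSpectrum.zeroLocus (I : Set A)) :
    ∃ n : ℕ, I ^ n ≤ J := by
  apply Ideal.exists_pow_le_of_le_radical_of_fg _ hI
  rw [PrimeSpectrum.zeroLocus_subset_zeroLocus_iff] at hJ
  exact hJ

theorem HDT_isColim_pow (hI : I.FG) :
    IsColim (HDIdiag I i K) (Dual2.HDT A (PrimeSpectrum.zeroLocus (I : Set A)) K i)
      (fun n => dι (PrimeSpectrum.zeroLocus (I : Set A)) K i (I ^ n.unop.unop)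
        (zeroLocus_pow_subset' I _)) where
  compat {n m} f x := dι_pr _ (zeroLocus_pow_subset' I n.unop.unop) _
    (Ideal.pow_le_pow_right (leOfHom f.unop.unop)) x
  surj y := by
    obtain ⟨J, hJ, x, rfl⟩ := exists_rep _ y
    obtain ⟨n, hn⟩ := exists_pow_le hI hJ
    exact ⟨op (op n), (DerivedCategory.singleFunctor (ModuleCat.{u} A) 0).map (pr hn) ≫ x,
      dι_pr _ hJ (zeroLocus_pow_subset' I n) hn x⟩
  inj n x hx := by
    obtain ⟨J, hJ, hle, h⟩ := dι_eq_zero _ hx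
    obtain ⟨m, hm⟩ := exists_pow_le hI hJ
    have h1 : n.unop.unop ≤ max n.unop.unop m := le_max_left _ _
    have h2 : I ^ (max n.unop.unop m) ≤ J :=
      (Ideal.pow_le_pow_right (le_max_right _ _)).trans hm
    refine ⟨op (op (max n.unop.unop m)), (homOfLE h1).op.op, ?_⟩
    change (DerivedCategory.singleFunctor (ModuleCat.{u} A) 0).map
      (pr (Ideal.pow_le_pow_right h1)) ≫ x = 0
    have e : pr (Ideal.pow_le_pow_right (I := I) h1) = pr h2 ≫ pr hle := by
      apply ModuleCat.hom_ext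
      apply Submodule.linearMap_qext
      rfl
    rw [e, Functor.map_comp, Category.assoc]
    exact (congrArg (fun t => (DerivedCategory.singleFunctor (ModuleCat.{u} A) 0).map (pr h2) ≫ t)
      h).trans Limits.comp_zero

/-- `HDI A I K i = HDT A V(I) K i`. -/
noncomputable def HDIequiv (hI : I.FG) :
    Dual2.HDI A I K i ≃ₗ[A] Dual2.HDT A (PrimeSpectrum.zeroLocus (I : Set A)) K i :=
  (HDI_isColim I i K).equiv (HDT_isColim_pow I i K hI)

theorem HDIequiv_ι (hI : I.FG) (n : ℕ) (x : Dual.inD A (A ⧸ I ^ n) ⟶ K⟦i⟧) :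
    HDIequiv I i K hI (iι I i K n x) =
      dι _ K i (I ^ n) (zeroLocus_pow_subset' I n) x :=
  IsColim.equiv_apply (HDI_isColim I i K) (HDT_isColim_pow I i K hI) (op (op n)) x

end HDI

section H

variable (I : Ideal A) (i : ℕ)

/-- `oldD` for the diagrams. -/
noncomputable def eH (M : Type u) [AddCommGroup M] [Module A M] (n : ℕᵒᵖᵒᵖ) :
    (Hdiag I i (ModuleCat.of A M)).obj n ≃ₗ[A] (HDIdiag I (i : ℤ) (Dual.inD A M)).obj n :=
  oldD (ModuleCat.of A (A ⧸ I ^ n.unop.unop)) (ModuleCat.of A M) i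

theorem H_isColim' (M : Type u) [AddCommGroup M] [Module A M] :
    IsColim (Hdiag I i (ModuleCat.of A M)) (Dual2.HDI A I (Dual.inD A M) (i : ℤ))
      (fun n => (HDIι I (i : ℤ) (Dual.inD A M) n).comp (eH I i M n).toLinearMap) :=
  (HDI_isColim I (i : ℤ) (Dual.inD A M)).congr (eH I i M)
    (fun f x => oldD_mapOp (pr (Ideal.pow_le_pow_right (leOfHom f.unop.unop))) _ i x)

/-- `LocCoh.H I i M = HDI A I (M[0]) i`. -/
noncomputable def Hequiv (M : Type u) [AddCommGroup M] [Module A M] :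
    LocCoh.H I i M ≃ₗ[A] Dual2.HDI A I (Dual.inD A M) (i : ℤ) :=
  (H_isColim I i M).equiv (H_isColim' I i M)

/-- The structure map `Ext^i(A/I^n, M) → H I i M`. -/
noncomputable def lι (M : Type u) [AddCommGroup M] [Module A M] (n : ℕ) :
    ((_root_.Ext A (ModuleCat.{u} A) i).obj (op (ModuleCat.of A (A ⧸ I ^ n)))).obj
      (ModuleCat.of A M) →ₗ[A] LocCoh.H I i M :=
  Hι I i M (op (op n))

theorem H_exists_rep (M : Type u) [AddCommGroup M] [Module A M] (y : LocCoh.H I i M) :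
    ∃ (n : ℕ) (x : ((_root_.Ext A (ModuleCat.{u} A) i).obj
      (op (ModuleCat.of A (A ⧸ I ^ n)))).obj (ModuleCat.of A M)), lι I i M n x = y := by
  obtain ⟨n, x, h⟩ := (H_isColim I i M).surj y
  exact ⟨n.unop.unop, x, h⟩

theorem Hequiv_ι (M : Type u) [AddCommGroup M] [Module A M] (n : ℕ)
    (x : ((_root_.Ext A (ModuleCat.{u} A) i).obj (op (ModuleCat.of A (A ⧸ I ^ n)))).obj
      (ModuleCat.of A M)) :
    Hequiv I i M (lι I i M n x) = iι I (i : ℤ) (Dual.inD A M) n
      (oldD (ModuleCat.of A (A ⧸ I ^ n)) (ModuleCat.of A M) i x) :=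
  IsColim.equiv_apply (H_isColim I i M) (H_isColim' I i M) (op (op n)) x

/-- `LocCoh.H I i M = HDT A V(I) (M[0]) i`. -/
noncomputable def HequivHDT (hI : I.FG) (M : Type u) [AddCommGroup M] [Module A M] :
    LocCoh.H I i M ≃ₗ[A]
      Dual2.HDT A (PrimeSpectrum.zeroLocus (I : Set A)) (Dual.inD A M) (i : ℤ) :=
  (Hequiv I i M).trans (HDIequiv I (i : ℤ) (Dual.inD A M) hI)

/-- `LocCoh.H I i M = HT V(I) i M`. -/
noncomputable def HequivHT (hI : I.FG) (M : Type u) [AddCommGroup M] [Module A M] :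
    LocCoh.H I i M ≃ₗ[A] Dual2.HT (PrimeSpectrum.zeroLocus (I : Set A)) i M :=
  (HequivHDT I i hI M).trans (HTequiv (PrimeSpectrum.zeroLocus (I : Set A)) i M).symm

variable {M M' : Type u} [AddCommGroup M] [Module A M] [AddCommGroup M'] [Module A M']

/-- The map on `H` induced by a linear map. -/
noncomputable def Hmap (g : M →ₗ[A] M') : LocCoh.H I i M →ₗ[A] LocCoh.H I i M' :=
  ((localCohomology I i).map (ModuleCat.ofHom g)).hom

theorem Hmap_ι (g : M →ₗ[A] M') (n : ℕ)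
    (x : ((_root_.Ext A (ModuleCat.{u} A) i).obj (op (ModuleCat.of A (A ⧸ I ^ n)))).obj
      (ModuleCat.of A M)) :
    Hmap I i g (lι I i M n x) = lι I i M' n
      ((((_root_.Ext A (ModuleCat.{u} A) i).obj (op (ModuleCat.of A (A ⧸ I ^ n)))).map
        (ModuleCat.ofHom g)).hom x) := by
  have h := (colimit.ι (localCohomology.diagram (localCohomology.idealPowersDiagram I) i)
    (op (op n))).naturality (ModuleCat.ofHom g)
  exact (congrArg (fun t => t.hom x) h).symm

/-- naturality of `HequivHDT` -/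
theorem HequivHDT_map (hI : I.FG) (g : M →ₗ[A] M') (y : LocCoh.H I i M) :
    HequivHDT I i hI M' (Hmap I i g y) =
      hmap _ (((DerivedCategory.singleFunctor (ModuleCat.{u} A) 0).map
        (ModuleCat.ofHom g))⟦(i : ℤ)⟧') (HequivHDT I i hI M y) := by
  obtain ⟨n, x, rfl⟩ := H_exists_rep I i M y
  change HDIequiv I (i : ℤ) (Dual.inD A M') hI (Hequiv I i M' _) =
    hmap _ _ (HDIequiv I (i : ℤ) (Dual.inD A M) hI (Hequiv I i M _))
  rw [Hmap_ι, Hequiv_ι, Hequiv_ι, HDIequiv_ι, HDIequiv_ι, hmap_ι, oldD_map]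

/-- naturality of `HequivHT` -/
theorem HequivHT_map (hI : I.FG) (g : M →ₗ[A] M') (y : LocCoh.H I i M) :
    HequivHT I i hI M' (Hmap I i g y) = HTmap _ i g (HequivHT I i hI M y) := by
  apply (HTequiv (PrimeSpectrum.zeroLocus (I : Set A)) i M').injective
  rw [HTequiv_map]
  change HTequiv _ i M' ((HTequiv _ i M').symm (HequivHDT I i hI M' (Hmap I i g y))) =
    hmap _ _ (HTequiv _ i M ((HTequiv _ i M).symm (HequivHDT I i hI M y)))
  rw [LinearEquiv.apply_symm_apply, LinearEquiv.apply_symm_apply, HequivHDT_map]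

end H

end Groth.Agent.LoccohA.LCTComp
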