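import Groth.Prelude.Def_DualLC
import Groth.Agent.LoccohB.LBC
import Groth.Agent.LoccohB.FlatLBC
import Groth.Agent.LoccohB.HDIBasic
import Groth.Agent.LoccohA.LCTComp
import Groth.Agent.LoccohA.CutoffLoc
import Groth.Agent.Localalg.DepthLC

set_option autoImplicit false
universe u

/-!
# Translation of the complex form of Faltings' criteria to modules
-/

open CategoryTheory CategoryTheory.Limits TensorProduct

attribute [local instance] HasDerivedCategory.standard

namespace Groth.Agent.LoccohA.FaltMod530

open Groth.Agent.LoccohA.LCTBase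
open Groth.Agent.LoccohA.LCTComp Groth.Agent.LoccohA.CutoffLoc Groth.Agent.Localalg.DepthLC
open Groth.Agent.Ega4B.CatHeight Groth.Agent.LoccohB

section

variable {A : Type u} [CommRing A]

/-- There are no morphisms of negative degree between modules. -/
theorem hom_eq_zero_of_neg (X Y : ModuleCat.{u} A) (i : ℤ) (hi : i < 0)
    (f : (DerivedCategory.singleFunctor (ModuleCat.{u} A) 0).obj X ⟶
      ((DerivedCategory.singleFunctor (ModuleCat.{u} A) 0).obj Y)⟦i⟧) : f = 0 := by
  have h1 : (((DerivedCategory.singleFunctor (ModuleCat.{u} A) 0).obj Y)⟦i⟧).IsGE (-i) :=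
    DerivedCategory.TStructure.t.isGE_shift _ 0 i (-i) (by lia)
  exact DerivedCategory.TStructure.t.zero f 0 (-i) (by lia)

theorem subsingleton_HD_inD (M : Type u) [AddCommGroup M] [Module A M] (i : ℤ) (hi : i ≠ 0) :
    Subsingleton (Dual.HD A (Dual.inD A M) i) := by
  have : IsZero ((DerivedCategory.homologyFunctor (ModuleCat.{u} A) i).obj (Dual.inD A M)) := by
    have h1 : (Dual.inD A M).IsGE 0 := by dsimp [Dual.inD]; infer_instance
    have h2 : (Dual.inD A M).IsLE 0 := by dsimp [Dual.inD]; infer_instance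
    rcases lt_or_gt_of_ne hi with hi | hi
    · exact (Dual.inD A M).isZero_of_isGE 0 i hi
    · exact (Dual.inD A M).isZero_of_isLE 0 i hi
  exact ModuleCat.isZero_iff_subsingleton.1 this

theorem finite_HD_inD (M : Type u) [AddCommGroup M] [Module A M] [Module.Finite A M] (i : ℤ) :
    Module.Finite A (Dual.HD A (Dual.inD A M) i) := by
  by_cases hi : i = 0
  · subst hi
    have e : M ≃ₗ[A] Dual.HD A (Dual.inD A M) 0 :=
      ((DerivedCategory.singleFunctorCompHomologyFunctorIso (ModuleCat.{u} A) 0).app
        (ModuleCat.of A M)).symm.toLinearEquiv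
    exact Module.Finite.equiv e
  · have := subsingleton_HD_inD (A := A) M i hi
    infer_instance

/-- Local cohomology of a module vanishes in negative degrees. -/
theorem HDT_eq_zero_of_neg (T : Set (PrimeSpectrum A)) (M : Type u) [AddCommGroup M] [Module A M]
    (i : ℤ) (hi : i < 0) (x : Dual2.HDT A T (Dual.inD A M) i) : x = 0 := by
  obtain ⟨J, y, rfl⟩ := (HDT_isColim T i (Dual.inD A M)).surj x
  have : y = 0 := hom_eq_zero_of_neg _ _ i hi y
  rw [this, map_zero]

theorem HDI_eq_zero_of_neg (I : Ideal A) (M : Type u) [AddCommGroup M] [Module A M]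
    (i : ℤ) (hi : i < 0) (x : Dual2.HDI A I (Dual.inD A M) i) : x = 0 := by
  obtain ⟨n, y, rfl⟩ := HDI_exists_rep I i (Dual.inD A M) x
  have : y = 0 := hom_eq_zero_of_neg _ _ i hi y
  rw [this, map_zero]

/-- The annihilation conditions agree. -/
theorem annihilates_iff (T : Set (PrimeSpectrum A)) (M : Type u) [AddCommGroup M] [Module A M]
    (s : ℕ) (J : Ideal A) :
    (∀ i : ℤ, i ≤ s → ∀ a ∈ J, ∀ x : Dual2.HDT A T (Dual.inD A M) i, a • x = 0) ↔
      (∀ i : ℕ, i ≤ s → ∀ a ∈ J, ∀ x : Dual2.HT T i M, a • x = 0) := by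
  constructor
  · intro h i hi a ha x
    apply (HTequiv T i M).injective
    rw [map_smul, map_zero]
    exact h i (by exact_mod_cast hi) a ha _
  · intro h i hi a ha x
    by_cases h0 : i < 0
    · rw [HDT_eq_zero_of_neg T M i h0 x, smul_zero]
    · obtain ⟨n, rfl⟩ := Int.eq_ofNat_of_zero_le (not_lt.1 h0)
      apply (HTequiv T n M).symm.injective
      rw [map_smul, map_zero]
      exact h n (by exact_mod_cast hi) a ha _

end

section Local

variable {R : Type u} [CommRing R] [IsLocalRing R] [IsNoetherianRing R]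

/-- Vanishing of local cohomology and depth. -/
theorem forall_subsingleton_iff (N : Type u) [AddCommGroup N] [Module R N] [Module.Finite R N]
    (s : ℤ) :
    (∀ i : ℤ, i ≤ s → Subsingleton (Dual2.HDI R (IsLocalRing.maximalIdeal R) (Dual.inD R N) i)) ↔
      ∀ n : ℕ, (n : ℤ) ≤ s → (n : ℕ∞) < LocCoh.depth R N := by
  constructor
  · intro h n hn
    by_contra hlt
    rw [not_lt] at hlt
    obtain ⟨d, hd⟩ := ENat.ne_top_iff_exists.mp (ne_top_of_le_ne_top (ENat.natCast_ne_top n) hlt)
    have hdn : d ≤ n := by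
      rw [← hd] at hlt
      exact_mod_cast hlt
    have h1 : Nontrivial (LocCoh.H (IsLocalRing.maximalIdeal R) d N) :=
      nontrivial_H_idealDepth _ N d hd.symm
    have h2 := h d (by lia)
    have h3 := (Hequiv (IsLocalRing.maximalIdeal R) d N).toEquiv.subsingleton_congr.2 h2
    exact not_subsingleton _ h3
  · intro h i hi
    by_cases h0 : i < 0
    · exact ⟨fun x y => by
        rw [HDI_eq_zero_of_neg _ N i h0 x, HDI_eq_zero_of_neg _ N i h0 y]⟩
    · obtain ⟨n, rfl⟩ := Int.eq_ofNat_of_zero_le (not_lt.1 h0)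
      have h1 : Subsingleton (LocCoh.H (IsLocalRing.maximalIdeal R) n N) :=
        subsingleton_H_of_lt_idealDepth _ N n (h n hi)
      exact (Hequiv (IsLocalRing.maximalIdeal R) n N).toEquiv.subsingleton_congr.1 h1

end Local

section

variable {A : Type u} [CommRing A]

/-- Derived base change of a module to a localization. -/
theorem nonempty_lbc_iso (p : PrimeSpectrum A) (M : Type u) [AddCommGroup M] [Module A M]
    [DRing.HasLBaseChange (algebraMap A (Localization.AtPrime p.asIdeal))] :
    Nonempty ((DRing.LBaseChange (algebraMap A (Localization.AtPrime p.asIdeal))).obj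
      (Dual.inD A M) ≅ Dual.inD (Localization.AtPrime p.asIdeal)
        (LocalizedModule p.asIdeal.primeCompl M)) := by
  have hfl : (algebraMap A (Localization.AtPrime p.asIdeal)).Flat := by
    rw [RingHom.flat_algebraMap_iff]
    exact IsLocalization.flat _ p.asIdeal.primeCompl
  refine ⟨(FlatLBC.LBaseChangeIso _ hfl).app _ ≪≫ (FlatLBC.flatBCSingle _ hfl 0).app _ ≪≫
    (DerivedCategory.singleFunctor (ModuleCat.{u} (Localization.AtPrime p.asIdeal)) 0).mapIso
      (LinearEquiv.toModuleIso ?_)⟩
  exact (FlatLBC.extEquiv A (Localization.AtPrime p.asIdeal) (ModuleCat.of A M)).symm.trans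
    (LocalizedModule.equivTensorProduct p.asIdeal.primeCompl M).symm

end

end Groth.Agent.LoccohA.FaltMod530
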