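import Mathlib.Algebra.Category.ModuleCat.Abelian
import Mathlib.Algebra.Category.ModuleCat.EnoughInjectives
import Mathlib.Algebra.Homology.HomologicalComplex
import Mathlib.Algebra.Homology.Additive
import Mathlib.Algebra.Module.Injective
import Mathlib.Algebra.Module.Torsion.Basic
import Mathlib.RingTheory.Filtration
import Mathlib.RingTheory.Support
import Mathlib.RingTheory.Spectrum.Prime.Topology
import Mathlib.Algebra.Homology.ShortComplex.ModuleCat
import Mathlib.Algebra.Homology.ShortComplex.HomologicalComplex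

/-!
# Sections with support in a subset `T` of the spectrum

`gam T M` is the submodule of the `x` in `M` with `V(ann x) ⊆ T`. It preserves injective modules
over Noetherian rings.
-/

set_option autoImplicit false
set_option linter.unusedVariables false
set_option linter.unusedSectionVars false

universe u

open CategoryTheory

namespace Groth.Agent.LoccohA.LCTGam

variable {A : Type u} [CommRing A] (T : Set (PrimeSpectrum A))

section Module

variable (M : Type u) [AddCommGroup M] [Module A M]

/-- The submodule of elements with support in `T`. -/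
def gam : Submodule A M where
  carrier := {x | PrimeSpectrum.zeroLocus (Ideal.torsionOf A M x : Set A) ⊆ T}
  zero_mem' := by
    have : Ideal.torsionOf A M 0 = ⊤ := by simp
    simp only [Set.mem_ofPred_eq]
    rw [this, PrimeSpectrum.zeroLocus_empty_iff_eq_top.2 rfl]
    exact Set.empty_subset _
  add_mem' {x y} hx hy := by
    have : Ideal.torsionOf A M x ⊓ Ideal.torsionOf A M y ≤ Ideal.torsionOf A M (x + y) := by
      rintro a ⟨h1, h2⟩
      rw [SetLike.mem_coe, Ideal.mem_torsionOf_iff] at h1 h2
      rw [Ideal.mem_torsionOf_iff, smul_add, h1, h2, add_zero]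
    simp only [Set.mem_ofPred_eq] at hx hy ⊢
    refine (PrimeSpectrum.zeroLocus_anti_mono this).trans ?_
    rw [PrimeSpectrum.zeroLocus_inf]
    exact Set.union_subset hx hy
  smul_mem' c x hx := by
    have : Ideal.torsionOf A M x ≤ Ideal.torsionOf A M (c • x) := by
      intro a h1
      rw [Ideal.mem_torsionOf_iff] at h1 ⊢
      rw [smul_comm, h1, smul_zero]
    simp only [Set.mem_ofPred_eq] at hx ⊢
    exact (PrimeSpectrum.zeroLocus_anti_mono this).trans hx

variable {T M}

theorem mem_gam_iff (x : M) :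
    x ∈ gam T M ↔ PrimeSpectrum.zeroLocus (Ideal.torsionOf A M x : Set A) ⊆ T := Iff.rfl

theorem mem_gam_of (x : M) (J : Ideal A) (hJ : PrimeSpectrum.zeroLocus (J : Set A) ⊆ T)
    (h : ∀ a ∈ J, a • x = 0) : x ∈ gam T M := by
  rw [mem_gam_iff]
  refine (PrimeSpectrum.zeroLocus_anti_mono ?_).trans hJ
  intro a ha
  exact h a ha

theorem mem_gam_iff_exists (x : M) :
    x ∈ gam T M ↔ ∃ J : Ideal A, PrimeSpectrum.zeroLocus (J : Set A) ⊆ T ∧ ∀ a ∈ J, a • x = 0 := by
  constructor
  · intro h
    exact ⟨Ideal.torsionOf A M x, h, fun a ha => ha⟩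
  · rintro ⟨J, hJ, h⟩
    exact mem_gam_of x J hJ h

variable {N : Type u} [AddCommGroup N] [Module A N]

theorem map_mem_gam (f : M →ₗ[A] N) {x : M} (hx : x ∈ gam T M) : f x ∈ gam T N := by
  refine mem_gam_of _ _ hx ?_
  intro a ha
  rw [← map_smul, show a • x = 0 from ha, map_zero]

theorem mem_gam_of_injective (f : M →ₗ[A] N) (hf : Function.Injective f) {x : M}
    (hx : f x ∈ gam T N) : x ∈ gam T M := by
  refine mem_gam_of _ _ hx ?_
  intro a ha
  apply hf
  rw [map_smul, map_zero]
  exact ha

theorem gam_mono {T' : Set (PrimeSpectrum A)} (h : T ⊆ T') : gam T M ≤ gam T' M :=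
  fun _ hx => Set.Subset.trans hx h

/-- A finite module all of whose elements have support in `T`: its annihilator is
supported in `T`. -/
theorem zeroLocus_annihilator_subset [Module.Finite A M] (h : ∀ x : M, x ∈ gam T M) :
    PrimeSpectrum.zeroLocus (Module.annihilator A M : Set A) ⊆ T := by
  rw [← Module.support_eq_zeroLocus]
  intro p hp
  rw [Module.mem_support_iff_exists_annihilator] at hp
  obtain ⟨m, hm⟩ := hp
  apply h m
  intro a ha
  apply hm
  rw [Submodule.mem_annihilator_span_singleton]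
  exact ha

theorem zeroLocus_pow_subset {J : Ideal A} (hJ : PrimeSpectrum.zeroLocus (J : Set A) ⊆ T) (n : ℕ) :
    PrimeSpectrum.zeroLocus ((J ^ n : Ideal A) : Set A) ⊆ T := by
  rcases n with _ | n
  · rw [pow_zero, Ideal.one_eq_top, PrimeSpectrum.zeroLocus_empty_iff_eq_top.2 rfl]
    exact Set.empty_subset _
  · rw [PrimeSpectrum.zeroLocus_pow _ (Nat.succ_ne_zero n)]
    exact hJ

theorem zeroLocus_mul_subset {J J' : Ideal A} (hJ : PrimeSpectrum.zeroLocus (J : Set A) ⊆ T)
    (hJ' : PrimeSpectrum.zeroLocus (J' : Set A) ⊆ T) :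
    PrimeSpectrum.zeroLocus ((J * J' : Ideal A) : Set A) ⊆ T := by
  rw [PrimeSpectrum.zeroLocus_mul]
  exact Set.union_subset hJ hJ'

/-- Extension of linear maps vanishing on `J ^ n`. -/
theorem exists_extension [IsNoetherianRing A] [Module.Injective A M] (I J : Ideal A)
    (g : I →ₗ[A] M) (hJ : ∀ a ∈ J, ∀ x, a • g x = 0) :
    ∃ (n : ℕ) (h : A →ₗ[A] M), (∀ (x : A) (hx : x ∈ I), h x = g ⟨x, hx⟩) ∧
      ∀ a ∈ J ^ n, ∀ x, a • h x = 0 := by
  obtain ⟨k, hk⟩ := J.exists_pow_inf_eq_pow_smul (I : Submodule A A)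
  have hk' := hk (k + 1) (Nat.le_succ k)
  have e1 : k + 1 - k = 1 := by omega
  rw [e1, pow_one] at hk'
  -- g vanishes on I ∩ J^(k+1)
  have hg : ∀ (x : A) (hx : x ∈ I), x ∈ J ^ (k + 1) → g ⟨x, hx⟩ = 0 := by
    intro x hx hxJ
    have h1 : x ∈ J ^ (k + 1) • (⊤ : Submodule A A) ⊓ I := by
      refine ⟨?_, hx⟩
      rw [← mul_one x, ← smul_eq_mul]
      exact Submodule.smul_mem_smul hxJ trivial
    rw [hk'] at h1
    have h2 : x ∈ J • (I : Submodule A A) := Submodule.smul_mono le_rfl inf_le_right h1
    have h3 : ∀ y ∈ J • (I : Submodule A A), ∃ hy : y ∈ I, g ⟨y, hy⟩ = 0 := by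
      intro y hy
      induction hy using Submodule.smul_induction_on' with
      | smul r hr n hn =>
        refine ⟨I.smul_mem r hn, ?_⟩
        have : (⟨r • n, I.smul_mem r hn⟩ : I) = r • ⟨n, hn⟩ := rfl
        rw [this, map_smul]
        exact hJ r hr _
      | add y hy z hz h1 h2 =>
        obtain ⟨hy', h1⟩ := h1
        obtain ⟨hz', h2⟩ := h2
        refine ⟨I.add_mem hy' hz', ?_⟩
        have : (⟨y + z, I.add_mem hy' hz'⟩ : I) = ⟨y, hy'⟩ + ⟨z, hz'⟩ := rfl
        rw [this, map_add, h1, h2, add_zero]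
    exact (h3 x h2).2
  let q : I →ₗ[A] A ⧸ J ^ (k + 1) := (Submodule.mkQ (J ^ (k + 1))).comp (Submodule.subtype I)
  have hq : LinearMap.ker q ≤ LinearMap.ker g := by
    rintro ⟨x, hx⟩ h
    rw [LinearMap.mem_ker] at h ⊢
    apply hg
    exact (Submodule.Quotient.mk_eq_zero _).1 h
  obtain ⟨e, he⟩ := Module.Injective.out ((LinearMap.ker q).liftQ q le_rfl)
    (by
      rw [← LinearMap.ker_eq_bot]
      exact Submodule.ker_liftQ_eq_bot _ _ _ le_rfl)
    ((LinearMap.ker q).liftQ g hq)
  refine ⟨k + 1, e.comp (Submodule.mkQ (J ^ (k + 1))), ?_, ?_⟩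
  · intro x hx
    exact he (Submodule.Quotient.mk ⟨x, hx⟩)
  · intro a ha x
    rw [← map_smul, LinearMap.comp_apply]
    have : (Submodule.mkQ (J ^ (k + 1))) (a • x) = 0 := by
      rw [Submodule.mkQ_apply, Submodule.Quotient.mk_eq_zero]
      exact Ideal.mul_mem_right x _ ha
    rw [this, map_zero]

/-- `gam T` preserves injective modules over a Noetherian ring. -/
theorem gam_injective [IsNoetherianRing A] (T : Set (PrimeSpectrum A)) [Module.Injective A M] :
    Module.Injective A (gam T M) := by
  apply Module.Baer.injective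
  intro I g
  have : Module.Finite A (LinearMap.range g) := inferInstance
  have hz : PrimeSpectrum.zeroLocus (Module.annihilator A (LinearMap.range g) : Set A) ⊆ T := by
    apply zeroLocus_annihilator_subset
    intro x
    apply mem_gam_of_injective (LinearMap.range g).subtype Subtype.val_injective
    apply mem_gam_of_injective (gam T M).subtype Subtype.val_injective
    exact x.1.2
  obtain ⟨n, h, h1, h2⟩ := exists_extension I (Module.annihilator A (LinearMap.range g))
    ((gam T M).subtype.comp g) (by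
      intro a ha x
      rw [LinearMap.comp_apply, ← map_smul]
      have := Module.mem_annihilator.1 ha ⟨g x, ⟨x, rfl⟩⟩
      have h3 : a • g x = 0 := congrArg Subtype.val this
      rw [h3, map_zero])
  refine ⟨h.codRestrict (gam T M) (fun x => mem_gam_of _ _ (zeroLocus_pow_subset hz n)
    (fun a ha => h2 a ha x)), ?_⟩
  intro x hx
  apply Subtype.ext
  exact h1 x hx

end Module

section Functor

/-- `gam T` as a functor. -/
def gamF : ModuleCat.{u} A ⥤ ModuleCat.{u} A where
  obj M := ModuleCat.of A (gam T M)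
  map f := ModuleCat.ofHom (f.hom.restrict (fun _ hx => map_mem_gam f.hom hx))
  map_id _ := rfl
  map_comp _ _ := rfl

instance : (gamF T).Additive where
  map_add := rfl

/-- The inclusion `gam T M → M`. -/
def gamFι : gamF T ⟶ 𝟭 (ModuleCat.{u} A) where
  app M := ModuleCat.ofHom (gam T M).subtype
  naturality _ _ _ := rfl

variable {T} in
/-- Functoriality in `T`. -/
def gamFmono {T' : Set (PrimeSpectrum A)} (h : T ⊆ T') : gamF T ⟶ gamF T' where
  app M := ModuleCat.ofHom (Submodule.inclusion (gam_mono h))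
  naturality _ _ _ := rfl

instance gamF_obj_injective [IsNoetherianRing A] (M : ModuleCat.{u} A) [Injective M] :
    Injective ((gamF T).obj M) := by
  have : Module.Injective A M := Module.injective_module_of_injective_object A M
  have := gam_injective (M := M) T
  exact Module.injective_object_of_injective_module A (gam T M)

/-- Termwise `gam T` of a complex. -/
noncomputable abbrev gamCx (L : CochainComplex (ModuleCat.{u} A) ℤ) :
    CochainComplex (ModuleCat.{u} A) ℤ :=
  ((gamF T).mapHomologicalComplex _).obj L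

/-- the inclusion of `gamCx T L` in `L` -/
noncomputable abbrev gamCxι (L : CochainComplex (ModuleCat.{u} A) ℤ) : gamCx T L ⟶ L :=
  (NatTrans.mapHomologicalComplex (gamFι T) _).app L ≫
    (Functor.mapHomologicalComplexIdIso (ModuleCat.{u} A) (ComplexShape.up ℤ)).hom.app L

variable {T} in
/-- functoriality in `T` -/
noncomputable abbrev gamCxmono {T' : Set (PrimeSpectrum A)} (h : T ⊆ T')
    (L : CochainComplex (ModuleCat.{u} A) ℤ) : gamCx T L ⟶ gamCx T' L :=
  (NatTrans.mapHomologicalComplex (gamFmono h) _).app L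

theorem gamCx_d_apply (L : CochainComplex (ModuleCat.{u} A) ℤ) (i j : ℤ) (x : gam T (L.X i)) :
    (((gamCx T L).d i j).hom x : gam T (L.X j)).1 = (L.d i j).hom x.1 := rfl

theorem gamCxι_f_apply (L : CochainComplex (ModuleCat.{u} A) ℤ) (i : ℤ) (x : gam T (L.X i)) :
    ((gamCxι T L).f i).hom x = x.1 := rfl

theorem gamCx_map_f_apply {L L' : CochainComplex (ModuleCat.{u} A) ℤ} (φ : L ⟶ L') (i : ℤ)
    (x : gam T (L.X i)) :
    (((((gamF T).mapHomologicalComplex (ComplexShape.up ℤ)).map φ).f i).hom x :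
      gam T (L'.X i)).1 = (φ.f i).hom x.1 := rfl

end Functor

section Homology

variable (K : CochainComplex (ModuleCat.{u} A) ℤ) (n : ℤ)

/-- The map from cycles (as elements of `K.X n`) to cycles. -/
noncomputable def toCyc : ModuleCat.of A (LinearMap.ker (K.d n (n + 1)).hom) ⟶ K.cycles n :=
  K.liftCycles (ModuleCat.ofHom (LinearMap.ker (K.d n (n + 1)).hom).subtype) (n + 1) (by simp) (by
    ext f
    exact f.2)

theorem toCyc_i : toCyc K n ≫ K.iCycles n =
    ModuleCat.ofHom (LinearMap.ker (K.d n (n + 1)).hom).subtype := by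
  simp [toCyc]

theorem iCycles_injective : Function.Injective (K.iCycles n).hom :=
  (ModuleCat.mono_iff_injective _).1 inferInstance

theorem toCyc_surjective : Function.Surjective (toCyc K n).hom := by
  intro z
  have hz : (K.iCycles n).hom z ∈ LinearMap.ker (K.d n (n + 1)).hom := by
    rw [LinearMap.mem_ker]
    have := K.iCycles_d n (n + 1)
    exact congrArg (fun g => g.hom z) this
  refine ⟨⟨(K.iCycles n).hom z, hz⟩, ?_⟩
  apply iCycles_injective K n
  exact congrArg (fun g => g.hom (⟨(K.iCycles n).hom z, hz⟩ : LinearMap.ker (K.d n (n + 1)).hom))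
    (toCyc_i K n)

/-- The class in homology of a cycle. -/
noncomputable def zcls : LinearMap.ker (K.d n (n + 1)).hom →ₗ[A] K.homology n :=
  (toCyc K n ≫ K.homologyπ n).hom

theorem zcls_surjective : Function.Surjective (zcls K n) := by
  have h2 : Function.Surjective (K.homologyπ n).hom :=
    (ModuleCat.epi_iff_surjective _).1 inferInstance
  intro x
  obtain ⟨y, rfl⟩ := h2 x
  obtain ⟨z, rfl⟩ := toCyc_surjective K n y
  exact ⟨z, rfl⟩

theorem zcls_eq_zero_iff (m : ℤ) (hm : m + 1 = n) (z : LinearMap.ker (K.d n (n + 1)).hom) :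
    zcls K n z = 0 ↔ ∃ y : K.X m, (K.d m n).hom y = z.1 := by
  have hex : (ShortComplex.mk _ _ (K.toCycles_comp_homologyπ m n)).Exact :=
    ShortComplex.exact_of_g_is_cokernel _ (K.homologyIsCokernel m n (by simp; omega))
  rw [ShortComplex.moduleCat_exact_iff] at hex
  have h1 : (K.iCycles n).hom ((toCyc K n).hom z) = z.1 :=
    congrArg (fun g => g.hom z) (toCyc_i K n)
  have h2 : ∀ w, (K.iCycles n).hom ((K.toCycles m n).hom w) = (K.d m n).hom w := fun w =>
    congrArg (fun g => g.hom w) (K.toCycles_i m n)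
  constructor
  · intro h
    obtain ⟨w, hw⟩ := hex ((toCyc K n).hom z) h
    refine ⟨w, ?_⟩
    rw [← h2, ← h1]
    exact congrArg _ hw
  · rintro ⟨y, hy⟩
    have h3 : (K.toCycles m n).hom y = (toCyc K n).hom z :=
      iCycles_injective K n (by rw [h1, h2, hy])
    change (K.homologyπ n).hom ((toCyc K n).hom z) = 0
    rw [← h3]
    exact congrArg (fun g => g.hom y) (K.toCycles_comp_homologyπ m n)

variable {K n} in
theorem map_mem_ker {K' : CochainComplex (ModuleCat.{u} A) ℤ} (φ : K ⟶ K')
    (z : LinearMap.ker (K.d n (n + 1)).hom) :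
    (φ.f n).hom z.1 ∈ LinearMap.ker (K'.d n (n + 1)).hom := by
  rw [LinearMap.mem_ker]
  have h := congrArg (fun g => g.hom z.1) (φ.comm n (n + 1))
  have h' : (K'.d n (n + 1)).hom ((φ.f n).hom z.1) = (φ.f (n + 1)).hom ((K.d n (n + 1)).hom z.1) := h
  rw [h', LinearMap.mem_ker.1 z.2, map_zero]

theorem homologyMap_zcls {K' : CochainComplex (ModuleCat.{u} A) ℤ} (φ : K ⟶ K')
    (z : LinearMap.ker (K.d n (n + 1)).hom) :
    (HomologicalComplex.homologyMap φ n).hom (zcls K n z) =
      zcls K' n ⟨(φ.f n).hom z.1, map_mem_ker φ z⟩ := by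
  have h1 : (HomologicalComplex.cyclesMap φ n).hom ((toCyc K n).hom z) =
      (toCyc K' n).hom ⟨(φ.f n).hom z.1, map_mem_ker φ z⟩ := by
    apply iCycles_injective K' n
    have e1 := congrArg (fun g => g.hom ((toCyc K n).hom z)) (HomologicalComplex.cyclesMap_i φ n)
    have e2 := congrArg (fun g => g.hom z) (toCyc_i K n)
    have e3 := congrArg (fun g => g.hom (⟨(φ.f n).hom z.1, map_mem_ker φ z⟩ :
      LinearMap.ker (K'.d n (n + 1)).hom)) (toCyc_i K' n)
    refine Eq.trans e1 (Eq.trans ?_ e3.symm)
    exact congrArg (φ.f n).hom e2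
  have h2 := congrArg (fun g => g.hom ((toCyc K n).hom z)) (HomologicalComplex.homologyπ_naturality φ n)
  refine Eq.trans h2 ?_
  exact congrArg (K'.homologyπ n).hom h1

end Homology

end Groth.Agent.LoccohA.LCTGam
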