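import Mathlib.Algebra.Homology.DerivedCategory.KInjective
import Mathlib.Algebra.Homology.DerivedCategory.Linear
import Mathlib.Algebra.Homology.HomotopyCategory.HomComplexSingle

/-!
# Morphisms in the derived category into K-injective complexes

For a K-injective complex `L` and an object `X`, morphisms `X → L[n]` in the derived category are
classes of morphisms `f : X ⟶ L.X n` with `f ≫ d = 0`, modulo those of the form `g ≫ d`.
-/

set_option autoImplicit false
set_option linter.unusedVariables false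
set_option linter.unusedSectionVars false

universe w v u

open CategoryTheory CochainComplex HomComplex DerivedCategory Category

namespace Groth.Agent.LoccohA.LCTHom

variable {C : Type u} [Category.{v} C] [Abelian C] [HasDerivedCategory.{w} C]

section General

variable {K K' L L' : CochainComplex C ℤ} {n : ℤ}

theorem Q_map_surjective [L.IsKInjective] :
    Function.Surjective (Q.map : (K ⟶ L) → (Q.obj K ⟶ Q.obj L)) := by
  intro g
  obtain ⟨h, hh⟩ := (IsKInjective.Qh_map_bijective
    ((HomotopyCategory.quotient C (ComplexShape.up ℤ)).obj K) L).surjective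
      ((quotientCompQhIso C).hom.app K ≫ g ≫ (quotientCompQhIso C).inv.app L)
  obtain ⟨f, rfl⟩ := (HomotopyCategory.quotient C (ComplexShape.up ℤ)).map_surjective h
  refine ⟨f, ?_⟩
  have h1 := (quotientCompQhIso C).hom.naturality f
  have h2 : Qh.map ((HomotopyCategory.quotient C (ComplexShape.up ℤ)).map f) ≫
      (quotientCompQhIso C).hom.app L = (quotientCompQhIso C).hom.app K ≫ Q.map f := h1
  rw [hh, assoc, assoc, Iso.inv_hom_id_app, comp_id, cancel_epi] at h2
  exact h2.symm

theorem Q_map_eq_zero_iff [L.IsKInjective] (f : K ⟶ L) :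
    Q.map f = 0 ↔ (HomotopyCategory.quotient C (ComplexShape.up ℤ)).map f = 0 := by
  have h2 : Qh.map ((HomotopyCategory.quotient C (ComplexShape.up ℤ)).map f) ≫
      (quotientCompQhIso C).hom.app L = (quotientCompQhIso C).hom.app K ≫ Q.map f :=
    (quotientCompQhIso C).hom.naturality f
  constructor
  · intro h
    rw [h, Limits.comp_zero] at h2
    apply (IsKInjective.Qh_map_bijective _ L).injective
    rw [← cancel_mono ((quotientCompQhIso C).hom.app L), h2, Functor.map_zero, Limits.zero_comp]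
  · intro h
    rw [h, Functor.map_zero, Limits.zero_comp] at h2
    rw [← cancel_epi ((quotientCompQhIso C).hom.app K), ← h2, Limits.comp_zero]

/-- The morphism in the derived category attached to a cocycle. -/
noncomputable def clsQ (x : Cocycle K L n) : Q.obj K ⟶ (Q.obj L)⟦n⟧ :=
  Q.map (Cocycle.equivHomShift.symm x) ≫ (Q.commShiftIso n).hom.app L

theorem clsQ_eq_map (x : Cocycle K L n) :
    clsQ x = ShiftedHom.map (Cocycle.equivHomShift.symm x) Q := rfl

theorem clsQ_add (x y : Cocycle K L n) : clsQ (x + y) = clsQ x + clsQ y := by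
  simp only [clsQ, map_add, Functor.map_add, Preadditive.add_comp]

theorem clsQ_surjective [L.IsKInjective] :
    Function.Surjective (clsQ : Cocycle K L n → (Q.obj K ⟶ (Q.obj L)⟦n⟧)) := by
  intro g
  obtain ⟨f, hf⟩ := Q_map_surjective (K := K) (L := L⟦n⟧) (g ≫ (Q.commShiftIso n).inv.app L)
  refine ⟨Cocycle.equivHomShift f, ?_⟩
  rw [clsQ, AddEquiv.symm_apply_apply, hf, assoc, Iso.inv_hom_id_app]
  exact comp_id g

theorem clsQ_eq_zero_iff [L.IsKInjective] (x : Cocycle K L n) :
    clsQ x = 0 ↔ x ∈ coboundaries K L n := by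
  rw [← CohomologyClass.toHom_mk_eq_zero_iff, CohomologyClass.toHom_mk, ← Q_map_eq_zero_iff]
  constructor
  · intro h
    rw [← cancel_mono ((Q.commShiftIso n).hom.app L), Limits.zero_comp]
    exact h
  · intro h
    rw [clsQ, h, Limits.zero_comp]

theorem clsQ_precomp (g : K' ⟶ K) (x : Cocycle K L n) :
    clsQ (x.precomp g) = Q.map g ≫ clsQ x := by
  rw [clsQ, clsQ, Cocycle.equivHomShift_symm_precomp, Functor.map_comp, assoc]

theorem clsQ_postcomp (g : L ⟶ L') (x : Cocycle K L n) :
    clsQ (x.postcomp g) = clsQ x ≫ (Q.map g)⟦n⟧' := by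
  rw [clsQ, clsQ, Cocycle.equivHomShift_symm_postcomp, Functor.map_comp, assoc, assoc]
  congr 1
  exact (Q.commShiftIso n).hom.naturality g

end General

section Single

variable (L : CochainComplex C ℤ) (X : C) (n : ℤ)

/-- The class of a map `f : X ⟶ L.X n` with `f ≫ d = 0`. -/
noncomputable def homQ {L : CochainComplex C ℤ} {X : C} {n : ℤ} (f : X ⟶ L.X n)
    (hf : f ≫ L.d n (n + 1) = 0) :
    (DerivedCategory.singleFunctor C 0).obj X ⟶ (Q.obj L)⟦n⟧ :=
  (singleFunctorIsoCompQ C 0).hom.app X ≫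
    clsQ (Cocycle.fromSingleMk f (zero_add n) (n + 1) rfl hf)

variable {L X n}

theorem homQ_add (f g : X ⟶ L.X n) (hf : f ≫ L.d n (n + 1) = 0) (hg : g ≫ L.d n (n + 1) = 0) :
    homQ (f + g) (by rw [Preadditive.add_comp, hf, hg, add_zero]) = homQ f hf + homQ g hg := by
  rw [homQ, Cocycle.fromSingleMk_add _ _ _ _ _ hf hg, clsQ_add, Preadditive.comp_add]
  rfl

theorem homQ_precomp {X' : C} (g : X' ⟶ X) (f : X ⟶ L.X n) (hf : f ≫ L.d n (n + 1) = 0) :
    homQ (g ≫ f) (by rw [assoc, hf, Limits.comp_zero]) =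
      (DerivedCategory.singleFunctor C 0).map g ≫ homQ f hf := by
  rw [homQ, Cocycle.fromSingleMk_precomp g f (zero_add n) (n + 1) rfl hf, clsQ_precomp, homQ,
    ← assoc, ← assoc]
  congr 1
  exact ((singleFunctorIsoCompQ C 0).hom.naturality g).symm

theorem homQ_postcomp {L' : CochainComplex C ℤ} (g : L ⟶ L') (f : X ⟶ L.X n)
    (hf : f ≫ L.d n (n + 1) = 0) :
    homQ (f ≫ g.f n) (by rw [assoc, g.comm, reassoc_of% hf, Limits.zero_comp]) =
      homQ f hf ≫ (Q.map g)⟦n⟧' := by
  rw [homQ, Cocycle.fromSingleMk_postcomp f (zero_add n) (n + 1) rfl hf g, clsQ_postcomp, homQ,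
    assoc]

theorem homQ_surjective [L.IsKInjective] (φ : (DerivedCategory.singleFunctor C 0).obj X ⟶ (Q.obj L)⟦n⟧) :
    ∃ (f : X ⟶ L.X n) (hf : f ≫ L.d n (n + 1) = 0), homQ f hf = φ := by
  obtain ⟨x, hx⟩ := clsQ_surjective ((singleFunctorIsoCompQ C 0).inv.app X ≫ φ)
  obtain ⟨f, hf, rfl⟩ := Cocycle.fromSingleMk_surjective x n (zero_add n) (n + 1) rfl
  refine ⟨f, hf, ?_⟩
  rw [homQ, hx, ← assoc, Iso.hom_inv_id_app, id_comp]

theorem homQ_eq_zero_iff [L.IsKInjective] (f : X ⟶ L.X n) (hf : f ≫ L.d n (n + 1) = 0)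
    (m : ℤ) (hm : m + 1 = n) :
    homQ f hf = 0 ↔ ∃ g : X ⟶ L.X m, g ≫ L.d m n = f := by
  rw [← Cocycle.fromSingleMk_mem_coboundaries_iff f (zero_add n) (n + 1) rfl hf m hm,
    ← clsQ_eq_zero_iff]
  constructor
  · intro h
    rw [homQ] at h
    rw [← cancel_epi ((singleFunctorIsoCompQ C 0).hom.app X), h, Limits.comp_zero]
  · intro h
    rw [homQ, h, Limits.comp_zero]

section Linear

variable {R : Type*} [Ring R] [Linear R C]

/-- cycles in `Hom(X, L)` as a submodule -/
def cyc (R : Type*) [Ring R] [Linear R C] (L : CochainComplex C ℤ) (X : C) (n : ℤ) :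
    Submodule R (X ⟶ L.X n) where
  carrier := {f | f ≫ L.d n (n + 1) = 0}
  zero_mem' := Limits.zero_comp
  add_mem' {f g} hf hg := by
    change (f + g) ≫ _ = 0
    rw [Preadditive.add_comp, show f ≫ L.d n (n + 1) = 0 from hf,
      show g ≫ L.d n (n + 1) = 0 from hg, add_zero]
  smul_mem' r f hf := by
    change (r • f) ≫ _ = 0
    rw [Linear.smul_comp, show f ≫ L.d n (n + 1) = 0 from hf, smul_zero]

theorem mem_cyc {f : X ⟶ L.X n} : f ∈ cyc R L X n ↔ f ≫ L.d n (n + 1) = 0 := Iff.rfl

theorem singleFunctor_map_smul_id (r : R) :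
    (DerivedCategory.singleFunctor C 0).map (r • 𝟙 X) = r • 𝟙 ((DerivedCategory.singleFunctor C 0).obj X) := by
  rw [Functor.map_smul, CategoryTheory.Functor.map_id]

/-- `homQ` as a linear map. -/
noncomputable def homQL (R : Type*) [Ring R] [Linear R C] (L : CochainComplex C ℤ) (X : C) (n : ℤ) :
    cyc R L X n →ₗ[R] ((DerivedCategory.singleFunctor C 0).obj X ⟶ (Q.obj L)⟦n⟧) where
  toFun f := homQ f.1 f.2
  map_add' f g := homQ_add _ _ _ _
  map_smul' r f := by
    have h : (r • f).1 = (r • 𝟙 X) ≫ f.1 := by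
      rw [Linear.smul_comp, id_comp]
      rfl
    have h2 : homQ (r • f).1 (r • f).2 = homQ ((r • 𝟙 X) ≫ f.1) (by rw [← h]; exact (r • f).2) := by
      congr 1
    rw [h2, homQ_precomp, singleFunctor_map_smul_id, Linear.smul_comp, id_comp, RingHom.id_apply]

theorem homQL_surjective [L.IsKInjective] : Function.Surjective (homQL R L X n) := by
  intro φ
  obtain ⟨f, hf, h⟩ := homQ_surjective φ
  exact ⟨⟨f, hf⟩, h⟩

theorem homQL_eq_zero_iff [L.IsKInjective] (f : cyc R L X n) (m : ℤ) (hm : m + 1 = n) :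
    homQL R L X n f = 0 ↔ ∃ g : X ⟶ L.X m, g ≫ L.d m n = f.1 :=
  homQ_eq_zero_iff f.1 f.2 m hm

end Linear

end Single

end Groth.Agent.LoccohA.LCTHom
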