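import Groth.Agent.LoccohA.LCTBase
import Groth.Agent.LoccohA.LCTHom
import Groth.Agent.LoccohA.LCTGam

/-!
# `HDT A T (Q L) n` is the cohomology of `Γ_T L` for K-injective `L`
-/

set_option autoImplicit false
set_option linter.unusedVariables false
set_option linter.unusedSectionVars false

universe u

open CategoryTheory Limits Opposite
open Groth.Agent.LoccohA.LCTColim Groth.Agent.LoccohA.LCTBase Groth.Agent.LoccohA.LCTHom
  Groth.Agent.LoccohA.LCTGam

attribute [local instance] HasDerivedCategory.standard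

namespace Groth.Agent.LoccohA.LCTIso

variable {A : Type u} [CommRing A]

section Aux

variable {Z B P : Type*} [AddCommGroup Z] [AddCommGroup B] [AddCommGroup P] [Module A Z]
  [Module A B] [Module A P]

/-- A linear map out of a quotient presented by a surjection. -/
noncomputable def liftSurj (a : Z →ₗ[A] B) (ha : Function.Surjective a) (b : Z →ₗ[A] P)
    (h : ∀ z, a z = 0 → b z = 0) : B →ₗ[A] P :=
  ((LinearMap.ker a).liftQ b (fun z hz => h z hz)).comp
    (a.quotKerEquivOfSurjective ha).symm.toLinearMap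

theorem liftSurj_apply (a : Z →ₗ[A] B) (ha : Function.Surjective a) (b : Z →ₗ[A] P)
    (h : ∀ z, a z = 0 → b z = 0) (z : Z) : liftSurj a ha b h (a z) = b z := by
  have h1 : (a.quotKerEquivOfSurjective ha).symm (a z) = (LinearMap.ker a).mkQ z := by
    rw [LinearEquiv.symm_apply_eq]
    rfl
  change ((LinearMap.ker a).liftQ b (fun z hz => h z hz))
    ((a.quotKerEquivOfSurjective ha).symm (a z)) = b z
  rw [h1]
  rfl

end Aux

variable (T : Set (PrimeSpectrum A)) (L : CochainComplex (ModuleCat.{u} A) ℤ) (n : ℤ)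

/-- The map `A/J → M` attached to an element killed by `J`. -/
noncomputable def ofElt {M : ModuleCat.{u} A} (J : Ideal A) (x : M) (h : ∀ a ∈ J, a • x = 0) :
    ModuleCat.of A (A ⧸ J) ⟶ M :=
  ModuleCat.ofHom (Submodule.liftQ J (LinearMap.toSpanSingleton A M x) (by
    intro a ha
    rw [LinearMap.mem_ker, LinearMap.toSpanSingleton_apply]
    exact h a ha))

theorem ofElt_apply {M : ModuleCat.{u} A} (J : Ideal A) (x : M) (h : ∀ a ∈ J, a • x = 0) (a : A) :
    (ofElt J x h).hom (Submodule.Quotient.mk a) = a • x := rfl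

theorem quot_hom_ext {M : ModuleCat.{u} A} {J : Ideal A} {f g : ModuleCat.of A (A ⧸ J) ⟶ M}
    (h : f.hom (Submodule.Quotient.mk 1) = g.hom (Submodule.Quotient.mk 1)) : f = g := by
  ext : 1
  apply Submodule.linearMap_qext
  apply LinearMap.ext_ring
  exact h

theorem smul_apply_mk_one {M : ModuleCat.{u} A} {J : Ideal A} (f : ModuleCat.of A (A ⧸ J) ⟶ M)
    {a : A} (ha : a ∈ J) : a • f.hom (Submodule.Quotient.mk (1 : A)) = 0 := by
  rw [← map_smul]
  have : a • (Submodule.Quotient.mk (1 : A) : A ⧸ J) = 0 := by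
    rw [← Submodule.Quotient.mk_smul, smul_eq_mul, mul_one, Submodule.Quotient.mk_eq_zero]
    exact ha
  exact (congrArg f.hom this).trans (map_zero _)

variable {T} in
theorem apply_mk_one_mem_gam {M : ModuleCat.{u} A} {J : Ideal A}
    (hJ : PrimeSpectrum.zeroLocus (J : Set A) ⊆ T) (f : ModuleCat.of A (A ⧸ J) ⟶ M) :
    f.hom (Submodule.Quotient.mk (1 : A)) ∈ gam T M :=
  mem_gam_of _ J hJ (fun _ ha => smul_apply_mk_one f ha)

variable {L n} in
theorem apply_mk_one_mem_ker {J : Ideal A} (f : ModuleCat.of A (A ⧸ J) ⟶ L.X n)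
    (hf : f ≫ L.d n (n + 1) = 0) :
    (L.d n (n + 1)).hom (f.hom (Submodule.Quotient.mk (1 : A))) = 0 :=
  congrArg (fun g => g.hom (Submodule.Quotient.mk (1 : A))) hf

variable {T} in
/-- evaluation at `1`, as a linear map from cycles of `Hom(A/J, L)` to the cycles of `gamCx T L`. -/
noncomputable def evC (J : Ideal A) (hJ : PrimeSpectrum.zeroLocus (J : Set A) ⊆ T) :
    cyc A L (ModuleCat.of A (A ⧸ J)) n →ₗ[A] LinearMap.ker ((gamCx T L).d n (n + 1)).hom where
  toFun f := ⟨⟨f.1.hom (Submodule.Quotient.mk (1 : A)), apply_mk_one_mem_gam hJ f.1⟩, by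
    rw [LinearMap.mem_ker]
    apply Subtype.ext
    rw [gamCx_d_apply]
    exact apply_mk_one_mem_ker f.1 f.2⟩
  map_add' _ _ := rfl
  map_smul' _ _ := rfl

variable {T L n} in
theorem evC_val (J : Ideal A) (hJ : PrimeSpectrum.zeroLocus (J : Set A) ⊆ T)
    (f : cyc A L (ModuleCat.of A (A ⧸ J)) n) :
    (evC L n J hJ f).1.1 = f.1.hom (Submodule.Quotient.mk (1 : A)) := rfl

variable [L.IsKInjective]

/-- The map `Hom_D(A/J, L[n]) → H^n(Γ_T L)`. -/
noncomputable def evD (J : Ideal A) (hJ : PrimeSpectrum.zeroLocus (J : Set A) ⊆ T) :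
    (Dual.inD A (A ⧸ J) ⟶ (DerivedCategory.Q.obj L)⟦n⟧) →ₗ[A] (gamCx T L).homology n :=
  liftSurj (homQL A L (ModuleCat.of A (A ⧸ J)) n) homQL_surjective
    ((zcls (gamCx T L) n).comp (evC L n J hJ)) (by
      intro f hf
      obtain ⟨g, hg⟩ := (homQL_eq_zero_iff f (n - 1) (by omega)).1 hf
      rw [LinearMap.comp_apply, zcls_eq_zero_iff _ _ (n - 1) (by omega)]
      refine ⟨⟨g.hom (Submodule.Quotient.mk (1 : A)), apply_mk_one_mem_gam hJ g⟩, ?_⟩
      apply Subtype.ext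
      rw [evC_val, ← hg]
      rfl)

theorem evD_homQ (J : Ideal A) (hJ : PrimeSpectrum.zeroLocus (J : Set A) ⊆ T)
    (f : ModuleCat.of A (A ⧸ J) ⟶ L.X n) (hf : f ≫ L.d n (n + 1) = 0) :
    evD T L n J hJ (homQ f hf) = zcls (gamCx T L) n (evC L n J hJ ⟨f, hf⟩) :=
  liftSurj_apply (homQL A L (ModuleCat.of A (A ⧸ J)) n) homQL_surjective
    ((zcls (gamCx T L) n).comp (evC L n J hJ)) _ ⟨f, hf⟩

theorem evD_homQ_eq_zero_iff (J : Ideal A) (hJ : PrimeSpectrum.zeroLocus (J : Set A) ⊆ T)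
    (f : ModuleCat.of A (A ⧸ J) ⟶ L.X n) (hf : f ≫ L.d n (n + 1) = 0) :
    evD T L n J hJ (homQ f hf) = 0 ↔ ∃ y : L.X (n - 1), y ∈ gam T (L.X (n - 1)) ∧
      (L.d (n - 1) n).hom y = f.hom (Submodule.Quotient.mk (1 : A)) := by
  rw [evD_homQ, zcls_eq_zero_iff _ _ (n - 1) (by omega)]
  constructor
  · rintro ⟨y, hy⟩
    exact ⟨_, Subtype.prop (p := fun x => x ∈ gam T (L.X (n - 1))) y, congrArg Subtype.val hy⟩
  · rintro ⟨y, hy, h⟩
    exact ⟨⟨y, hy⟩, Subtype.ext h⟩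

theorem exists_zcls (y : (gamCx T L).homology n) :
    ∃ (x : L.X n) (h1 : x ∈ gam T (L.X n)) (h2 : (L.d n (n + 1)).hom x = 0),
      y = zcls (gamCx T L) n ⟨⟨x, h1⟩, Subtype.ext h2⟩ := by
  obtain ⟨z, rfl⟩ := zcls_surjective (gamCx T L) n y
  have hz := LinearMap.mem_ker.1 z.2
  exact ⟨_, Subtype.prop (p := fun x => x ∈ gam T (L.X n)) z.1,
    congrArg (fun w : gam T (L.X (n + 1)) => w.1) hz, rfl⟩

theorem isColim_surj (y : (gamCx T L).homology n) :
    ∃ (J : Ideal A) (hJ : PrimeSpectrum.zeroLocus (J : Set A) ⊆ T)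
      (x : Dual.inD A (A ⧸ J) ⟶ (DerivedCategory.Q.obj L)⟦n⟧), evD T L n J hJ x = y := by
  obtain ⟨x, h1, h2, rfl⟩ := exists_zcls T L n y
  have hf : ofElt (Ideal.torsionOf A (L.X n) x) x (fun a ha => ha) ≫ L.d n (n + 1) = 0 := by
    apply quot_hom_ext
    change (L.d n (n + 1)).hom ((ofElt _ x _).hom (Submodule.Quotient.mk (1 : A))) = 0
    rw [ofElt_apply, one_smul, h2]
  refine ⟨Ideal.torsionOf A (L.X n) x, h1, homQ _ hf, ?_⟩
  rw [evD_homQ]
  congr 1
  apply Subtype.ext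
  apply Subtype.ext
  exact one_smul A x

theorem isColim_inj (J : Ideal A) (hJ : PrimeSpectrum.zeroLocus (J : Set A) ⊆ T)
    (x : Dual.inD A (A ⧸ J) ⟶ (DerivedCategory.Q.obj L)⟦n⟧) (hx : evD T L n J hJ x = 0) :
    ∃ (J' : Ideal A) (hJ' : PrimeSpectrum.zeroLocus (J' : Set A) ⊆ T) (h : J' ≤ J),
      (DerivedCategory.singleFunctor (ModuleCat.{u} A) 0).map (pr h) ≫ x = 0 := by
  obtain ⟨f, hf, rfl⟩ := homQ_surjective x
  rw [evD_homQ_eq_zero_iff] at hx
  obtain ⟨y, hy, hy'⟩ := hx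
  refine ⟨J ⊓ Ideal.torsionOf A (L.X (n - 1)) y, zeroLocus_inf_subset hJ hy, inf_le_left, ?_⟩
  rw [← homQ_precomp]
  refine (homQ_eq_zero_iff _ _ (n - 1) (by omega)).2 ?_
  refine ⟨ofElt (J ⊓ Ideal.torsionOf A (L.X (n - 1)) y) y (fun a ha => ha.2), ?_⟩
  apply quot_hom_ext
  change (L.d (n - 1) n).hom ((ofElt _ y _).hom (Submodule.Quotient.mk (1 : A))) = _
  rw [ofElt_apply, one_smul, hy']
  rfl

theorem evD_compat {J J' : Ideal A} (hJ : PrimeSpectrum.zeroLocus (J : Set A) ⊆ T)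
    (hJ' : PrimeSpectrum.zeroLocus (J' : Set A) ⊆ T) (h : J' ≤ J)
    (x : Dual.inD A (A ⧸ J) ⟶ (DerivedCategory.Q.obj L)⟦n⟧) :
    evD T L n J' hJ' ((DerivedCategory.singleFunctor (ModuleCat.{u} A) 0).map (pr h) ≫ x) =
      evD T L n J hJ x := by
  obtain ⟨f, hf, rfl⟩ := homQ_surjective x
  rw [← homQ_precomp, evD_homQ, evD_homQ]
  congr 1

/-- The cohomology of `Γ_T L` is elementwise the colimit defining `HDT`. -/
theorem isColim_homology :
    IsColim (HDTdiag T n (DerivedCategory.Q.obj L)) ((gamCx T L).homology n)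
      (fun J => evD T L n (toI J.unop) (toI_prop J.unop)) where
  compat {J J'} φ x := evD_compat T L n _ _ _ x
  surj y := by
    obtain ⟨J, hJ, x, hx⟩ := isColim_surj T L n y
    exact ⟨op (mkI T J hJ), x, hx⟩
  inj J x hx := by
    obtain ⟨J', hJ', h, h'⟩ := isColim_inj T L n _ _ x hx
    exact ⟨op (mkI T J' hJ'), (homI h).op, h'⟩

/-- `HDT A T (Q L) n = H^n(Γ_T L)` for K-injective `L`. -/
noncomputable def HDTequiv :
    Dual2.HDT A T (DerivedCategory.Q.obj L) n ≃ₗ[A] (gamCx T L).homology n :=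
  (HDT_isColim T n (DerivedCategory.Q.obj L)).equiv (isColim_homology T L n)

theorem HDTequiv_ι (J : (Dual2.IdealsIn T)ᵒᵖ)
    (f : ModuleCat.of A (A ⧸ toI J.unop) ⟶ L.X n) (hf : f ≫ L.d n (n + 1) = 0) :
    HDTequiv T L n (HDTι T n (DerivedCategory.Q.obj L) J (homQ f hf)) =
      zcls (gamCx T L) n (evC L n (toI J.unop) (toI_prop J.unop) ⟨f, hf⟩) :=
  ((HDT_isColim T n (DerivedCategory.Q.obj L)).equiv_apply (isColim_homology T L n) J _).trans
    (evD_homQ T L n _ _ f hf)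

end Groth.Agent.LoccohA.LCTIso
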