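import Groth.Agent.LoccohA.DzTrunc

/-!
# Dévissage of Hom's in the derived category along truncations, continued
-/

set_option linter.unusedSectionVars false

universe t w v u

open CategoryTheory Limits Pretriangulated Category

namespace Groth.Agent.LoccohA.DzTrunc2

open DzExact DzTrunc DerivedCategory

variable {A : Type t} [CommRing A] {C : Type u} [Category.{v} C] [Abelian C] [Linear A C]
  [HasDerivedCategory.{w} C]

/-- Dévissage along truncations, version with integer bounds. -/
theorem hom_of_truncation' {P : ∀ (E : Type w) [AddCommGroup E] [Module A E], Prop}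
    (hP : Closed A P) (L : DerivedCategory C) (n c d : ℤ)
    (X : DerivedCategory C) [hc : X.IsGE c] [hd : X.IsLE d]
    (h : ∀ i : ℤ, P ((singleFunctor C 0).obj ((homologyFunctor C i).obj X) ⟶ L⟦n + i⟧)) :
    P (X ⟶ L⟦n⟧) := by
  by_cases hcd : c ≤ d + 1
  · have h2 : X.IsLE (c + (d - c + 1).toNat - 1) := by
      rw [Int.toNat_of_nonneg (by lia)]
      exact (TStructure.t (C := C)).isLE_of_le _ d _ (by lia)
    exact hom_of_truncation hP L n c (d - c + 1).toNat X fun i _ _ => h i
  · have : IsZero X := isZero_of_isGE_isLE _ c d (by lia)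
    exact hP.zero _ ⟨fun f g => this.eq_of_src _ _⟩

lemma P_of_isZero {P : ∀ (E : Type w) [AddCommGroup E] [Module A E], Prop}
    (hP : Closed A P) (L : DerivedCategory C) (i j : ℤ) (X : DerivedCategory C)
    (hX : IsZero ((homologyFunctor C i).obj X)) :
    P ((singleFunctor C 0).obj ((homologyFunctor C i).obj X) ⟶ L⟦j⟧) :=
  hP.zero _ ⟨fun f g => ((singleFunctor C 0).map_isZero hX).eq_of_src _ _⟩

/-- Extraction of the contribution of one cohomology object. -/
theorem extract {P : ∀ (E : Type w) [AddCommGroup E] [Module A E], Prop}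
    (hP : Closed A P) (L : DerivedCategory C) (k c d i₀ : ℤ) (X : DerivedCategory C)
    [hc : X.IsGE c] [hd : X.IsLE d] (h0 : P (X ⟶ L⟦k⟧))
    (hgt : ∀ i : ℤ, i₀ < i →
      P ((singleFunctor C 0).obj ((homologyFunctor C i).obj X) ⟶ L⟦k + 1 + i⟧))
    (hlt : ∀ i : ℤ, i < i₀ →
      P ((singleFunctor C 0).obj ((homologyFunctor C i).obj X) ⟶ L⟦k - 1 + i⟧)) :
    P ((singleFunctor C 0).obj ((homologyFunctor C i₀).obj X) ⟶ L⟦k + i₀⟧) := by
  have hT := TStructure.t.triangleLEGE_distinguished i₀ (i₀ + 1) (by lia) X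
  -- the part above
  have h1 : P ((TStructure.t.truncGE (i₀ + 1)).obj X ⟶ L⟦k + 1⟧) := by
    have h1 : IsGE ((TStructure.t.truncGE (i₀ + 1)).obj X) (i₀ + 1) := by
      change TStructure.t.IsGE _ _
      infer_instance
    have h2 : IsLE ((TStructure.t.truncGE (i₀ + 1)).obj X) d := by
      change TStructure.t.IsLE _ _
      infer_instance
    refine hom_of_truncation' hP L (k + 1) (i₀ + 1) d _ fun i => ?_
    by_cases hi : i₀ + 1 ≤ i
    · have := isIso_homology_truncGE X (i₀ + 1) i hi
      exact hP.of_equiv (Linear.homCongr A ((singleFunctor C 0).mapIso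
        (asIso ((homologyFunctor C i).map ((TStructure.t.truncGEπ (i₀ + 1)).app X))))
        (Iso.refl _)) (hgt i (by lia))
    · exact P_of_isZero hP L i _ _ (isZero_of_isGE _ (i₀ + 1) i (by lia))
  have h2 : P ((TStructure.t.truncLE i₀).obj X ⟶ L⟦k⟧) :=
    hP.hom_of_triangle₁ _ hT L k (k + 1) rfl h0 h1
  set Y := (TStructure.t.truncLE i₀).obj X with hY
  have hYLE : Y.IsLE i₀ := by
    change TStructure.t.IsLE _ _
    infer_instance
  have hYGE : Y.IsGE c := by
    change TStructure.t.IsGE ((TStructure.t.truncLE i₀).obj X) c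
    infer_instance
  have hT' := TStructure.t.triangleLEGE_distinguished (i₀ - 1) i₀ (by lia) Y
  have h3 : P ((TStructure.t.truncLE (i₀ - 1)).obj Y ⟶ L⟦k - 1⟧) := by
    have h1 : IsGE ((TStructure.t.truncLE (i₀ - 1)).obj Y) c := by
      change TStructure.t.IsGE _ _
      infer_instance
    have h2 : IsLE ((TStructure.t.truncLE (i₀ - 1)).obj Y) (i₀ - 1) := by
      change TStructure.t.IsLE _ _
      infer_instance
    refine hom_of_truncation' hP L (k - 1) c (i₀ - 1) _ fun i => ?_
    by_cases hi : i ≤ i₀ - 1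
    · have := isIso_homology_truncLE Y (i₀ - 1) i hi
      have := isIso_homology_truncLE X i₀ i (by lia)
      exact hP.of_equiv (Linear.homCongr A ((singleFunctor C 0).mapIso
        (asIso ((homologyFunctor C i).map ((TStructure.t.truncLEι (i₀ - 1)).app Y)) ≪≫
          asIso ((homologyFunctor C i).map ((TStructure.t.truncLEι i₀).app X)))).symm
        (Iso.refl _)) (hlt i (by lia))
    · exact P_of_isZero hP L i _ _ (isZero_of_isLE _ (i₀ - 1) i (by lia))
  have h4 : P ((TStructure.t.truncGE i₀).obj Y ⟶ L⟦k⟧) :=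
    hP.hom_of_triangle₃ _ hT' L (k - 1) k (by lia) h3 h2
  have h5 : IsGE ((TStructure.t.truncGE i₀).obj Y) i₀ := by
    change TStructure.t.IsGE _ _
    infer_instance
  have h6 : IsLE ((TStructure.t.truncGE i₀).obj Y) i₀ := by
    change TStructure.t.IsLE _ _
    infer_instance
  obtain ⟨e⟩ := nonempty_iso_single ((TStructure.t.truncGE i₀).obj Y) i₀
  have := isIso_homology_truncGE Y i₀ i₀ le_rfl
  have := isIso_homology_truncLE X i₀ i₀ le_rfl
  have e2 : (homologyFunctor C i₀).obj ((TStructure.t.truncGE i₀).obj Y) ≅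
      (homologyFunctor C i₀).obj X :=
    (asIso ((homologyFunctor C i₀).map ((TStructure.t.truncGEπ i₀).app Y))).symm ≪≫
      asIso ((homologyFunctor C i₀).map ((TStructure.t.truncLEι i₀).app X))
  exact hP.of_equiv (singleShiftEquiv A _ L k i₀ (k + i₀) rfl) (hP.of_equiv (Linear.homCongr A
    (e ≪≫ (singleFunctor C i₀).mapIso e2) (Iso.refl _)) h4)

end Groth.Agent.LoccohA.DzTrunc2
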