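import Groth.Agent.LoccohA.DzDual
import Groth.Agent.LoccohA.DzTrunc2
import Mathlib.RingTheory.Nakayama
import Mathlib.RingTheory.Localization.AtPrime.Basic
import Mathlib.RingTheory.Localization.Finiteness
import Mathlib.Order.Cover

/-!
# The dimension function of a dualizing complex
-/

set_option linter.unusedSectionVars false
set_option backward.isDefEq.respectTransparency.types false

universe u

open CategoryTheory Limits Pretriangulated Category

namespace Groth.Agent.LoccohA.DzDim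

open DzExact DzTrunc DzTrunc2 DzHom DzHomology DzBidual DzBidual2 DzExt DzInj DzDual
  DerivedCategory

attribute [local instance] HasDerivedCategory.standard

section VanAt

universe w w'

variable {A : Type u} [CommRing A] {p q : Ideal A}

lemma VanAt.of_injective {E₁ : Type w} {E₂ : Type w'} [AddCommGroup E₁] [AddCommGroup E₂]
    [Module A E₁] [Module A E₂] (f : E₁ →ₗ[A] E₂) (hf : Function.Injective f)
    (h : VanAt A p E₂) : VanAt A p E₁ := by
  intro x
  obtain ⟨s, hs, hsx⟩ := h (f x)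
  exact ⟨s, hs, hf (by rw [map_smul, hsx, map_zero])⟩

lemma VanAt.of_surjective {E₁ : Type w} {E₂ : Type w'} [AddCommGroup E₁] [AddCommGroup E₂]
    [Module A E₁] [Module A E₂] (f : E₁ →ₗ[A] E₂) (hf : Function.Surjective f)
    (h : VanAt A p E₁) : VanAt A p E₂ := by
  intro x
  obtain ⟨y, rfl⟩ := hf x
  obtain ⟨s, hs, hsx⟩ := h y
  exact ⟨s, hs, by rw [← map_smul, hsx, map_zero]⟩

lemma VanAt.mono {E₁ : Type w} [AddCommGroup E₁] [Module A E₁] (hpq : p ≤ q)
    (h : VanAt A q E₁) : VanAt A p E₁ := by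
  intro x
  obtain ⟨s, hs, hsx⟩ := h x
  exact ⟨s, fun h => hs (hpq h), hsx⟩

/-- For a finite module vanishing at `p` there is a common annihilator outside of `p`. -/
lemma VanAt.exists_smul_eq_zero [hp : p.IsPrime] {E₁ : Type w} [AddCommGroup E₁] [Module A E₁]
    [Module.Finite A E₁] (h : VanAt A p E₁) : ∃ s : A, s ∉ p ∧ ∀ x : E₁, s • x = 0 := by
  classical
  obtain ⟨n, g, hg⟩ := Module.Finite.exists_fin (R := A) (M := E₁)
  choose s hs hsx using fun i => h (g i)
  refine ⟨∏ i, s i, fun hmem => ?_, fun x => ?_⟩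
  · obtain ⟨i, _, hi⟩ := (Ideal.IsPrime.prod_mem_iff).1 hmem
    exact hs i hi
  · have hx : x ∈ Submodule.span A (Set.range g) := hg ▸ Submodule.mem_top
    induction hx using Submodule.span_induction with
    | mem x hx =>
      obtain ⟨i, rfl⟩ := hx
      rw [← Finset.mul_prod_erase Finset.univ s (Finset.mem_univ i), mul_comm, mul_smul, hsx,
        smul_zero]
    | zero => rw [smul_zero]
    | add x y _ _ hx hy => rw [smul_add, hx, hy, add_zero]
    | smul a x _ hx => rw [smul_comm, hx, smul_zero]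

lemma vanAt_iff_subsingleton [hp : p.IsPrime] {E₁ : Type w} [AddCommGroup E₁] [Module A E₁] :
    VanAt A p E₁ ↔ Subsingleton (LocalizedModule p.primeCompl E₁) := by
  rw [LocalizedModule.subsingleton_iff]
  rfl

lemma not_vanAt_iff_nontrivial [hp : p.IsPrime] {E₁ : Type w} [AddCommGroup E₁] [Module A E₁] :
    ¬ VanAt A p E₁ ↔ Nontrivial (LocalizedModule p.primeCompl E₁) := by
  rw [vanAt_iff_subsingleton, not_subsingleton_iff_nontrivial]

/-- Nakayama. -/
lemma vanAt_of_smul [hp : p.IsPrime] {E₁ : Type w} [AddCommGroup E₁] [Module A E₁]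
    [Module.Finite A E₁] (x : A) (hx : x ∈ p)
    (h : ∀ y : E₁, ∃ s : A, s ∉ p ∧ ∃ z : E₁, s • y = x • z) : VanAt A p E₁ := by
  rw [vanAt_iff_subsingleton]
  have hfin : Module.Finite (Localization.AtPrime p) (LocalizedModule p.primeCompl E₁) :=
    Module.Finite.of_isLocalizedModule p.primeCompl (LocalizedModule.mkLinearMap p.primeCompl E₁)
  have h1 : (⊤ : Submodule (Localization.AtPrime p) (LocalizedModule p.primeCompl E₁)) ≤
      IsLocalRing.maximalIdeal (Localization.AtPrime p) • ⊤ := by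
    intro y _
    induction y using LocalizedModule.induction_on with
    | h m t =>
      obtain ⟨s, hs, z, hz⟩ := h m
      have h2 : LocalizedModule.mk m t =
          (algebraMap A (Localization.AtPrime p) x) •
            (LocalizedModule.mk z (⟨s, hs⟩ * t) : LocalizedModule p.primeCompl E₁) := by
        rw [algebraMap_smul, LocalizedModule.smul'_mk, ← hz]
        rw [LocalizedModule.mk_eq]
        refine ⟨1, ?_⟩
        simp only [one_smul, Submonoid.smul_def, Submonoid.coe_mul, smul_smul]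
        rw [mul_comm]
      rw [h2]
      refine Submodule.smul_mem_smul ?_ Submodule.mem_top
      exact (IsLocalization.AtPrime.to_map_mem_maximal_iff _ p x).2 hx
  have h2 := Submodule.eq_bot_of_le_smul_of_le_jacobson_bot _ _ hfin.fg_top h1
    (IsLocalRing.maximalIdeal_le_jacobson _)
  exact (Submodule.subsingleton_iff _).1 (subsingleton_of_bot_eq_top h2.symm)

end VanAt

section Main

variable {A : Type u} [CommRing A] [IsNoetherianRing A]

/-- `A/p` as an object of `ModuleCat A`. -/
noncomputable abbrev Aq (p : PrimeSpectrum A) : ModuleCat.{u} A := ModuleCat.of A (A ⧸ p.asIdeal)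

variable {L : Dual.D A}

lemma vanAt_E_of_vanAt {p : PrimeSpectrum A} (M : ModuleCat.{u} A) [Module.Finite A M]
    (h : VanAt A p.asIdeal M) (k : ℤ) : VanAt A p.asIdeal (E L k M) := by
  obtain ⟨s, hs, hsM⟩ := VanAt.exists_smul_eq_zero h
  exact fun x => ⟨s, hs, smul_eq_zero_of_annihilator k M s hsM x⟩

lemma vanAt_Aq {p q : PrimeSpectrum A} (h : ¬ q ≤ p) : VanAt A p.asIdeal (Aq q) := by
  obtain ⟨s, hs, hsp⟩ := SetLike.not_le_iff_exists.1 (show ¬ q.asIdeal ≤ p.asIdeal from h)
  intro x
  refine ⟨s, hsp, ?_⟩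
  obtain ⟨y, rfl⟩ := Ideal.Quotient.mk_surjective x
  rw [← Ideal.Quotient.mk_eq_mk, ← Submodule.Quotient.mk_smul, Submodule.Quotient.mk_eq_zero]
  exact Ideal.mul_mem_right _ _ hs

/-- Dévissage of the vanishing at `p` of `E^k(M)`. -/
lemma vanAt_E_devissage {p : PrimeSpectrum A} (k : ℤ) (M : ModuleCat.{u} A) [Module.Finite A M]
    (h : ∀ q : PrimeSpectrum A, q ∈ Module.support A M → q ≤ p →
      VanAt A p.asIdeal (E L k (Aq q))) : VanAt A p.asIdeal (E L k M) := by
  refine E_devissage (closed_vanAt A p.asIdeal) k M fun q hq => ?_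
  by_cases hqp : q ≤ p
  · exact h q hq hqp
  · exact vanAt_E_of_vanAt _ (vanAt_Aq hqp) k

/-- Case of a module killed by `p`. -/
lemma vanAt_E_of_killed {p : PrimeSpectrum A} (k : ℤ) (M : ModuleCat.{u} A) [Module.Finite A M]
    (hM : ∀ s ∈ p.asIdeal, ∀ m : M, s • m = 0) (h : VanAt A p.asIdeal (E L k (Aq p))) :
    VanAt A p.asIdeal (E L k M) := by
  refine vanAt_E_devissage k M fun q hq hqp => ?_
  have h1 : p ≤ q := by
    intro s hs
    have := (Module.mem_support_iff_of_finite.1 hq)
    exact this (Module.mem_annihilator.2 (hM s hs))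
  rw [le_antisymm hqp h1]
  exact h

variable {J : CochainComplex (ModuleCat.{u} A) ℤ} [J.IsKInjective] [hJ : ∀ i, Injective (J.X i)]
  {a b : ℤ}

lemma finite_homology_G (hs : Setup J a b) (M : ModuleCat.{u} A) [Module.Finite A M] (i : ℤ) :
    Module.Finite A ((homologyFunctor (ModuleCat.{u} A) i).obj (Q.obj (G M J))) := by
  have := hs.fin i M
  exact Module.Finite.equiv (Ghomology' M J i).symm

lemma killed_homology_G (M : ModuleCat.{u} A) (i : ℤ) (s : A) (hM : ∀ m : M, s • m = 0)
    (x : (homologyFunctor (ModuleCat.{u} A) i).obj (Q.obj (G M J))) : s • x = 0 := by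
  apply (Ghomology' M J i).injective
  rw [map_smul, map_zero]
  exact smul_eq_zero_of_annihilator i M s hM _

lemma Aq_killed (p : PrimeSpectrum A) (s : A) (hs : s ∈ p.asIdeal) (m : Aq p) : s • m = 0 := by
  obtain ⟨y, rfl⟩ := Ideal.Quotient.mk_surjective m
  rw [← Ideal.Quotient.mk_eq_mk, ← Submodule.Quotient.mk_smul, Submodule.Quotient.mk_eq_zero]
  exact Ideal.mul_mem_right _ _ hs

lemma not_vanAt_Aq (p : PrimeSpectrum A) : ¬ VanAt A p.asIdeal (Aq p) := by
  intro h
  obtain ⟨s, hs, hs1⟩ := h (Ideal.Quotient.mk p.asIdeal 1)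
  rw [← Ideal.Quotient.mk_eq_mk, ← Submodule.Quotient.mk_smul, Submodule.Quotient.mk_eq_zero] at hs1
  exact hs (by simpa using hs1)

/-- existence of the degree. -/
lemma exists_not_vanAt (hs : Setup J a b) (p : PrimeSpectrum A) :
    ∃ i : ℤ, ¬ VanAt A p.asIdeal (E (Q.obj J) i (Aq p)) := by
  by_contra hcon
  push Not at hcon
  apply not_vanAt_Aq p
  refine VanAt.of_injective _ (hs.eta_bij (Aq p)).1 ?_
  refine F_devissage J (closed_vanAt A p.asIdeal) hs.range _ 0 (Aq p) fun i _ _ => ?_
  have := finite_homology_G hs (Aq p) i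
  exact vanAt_E_of_vanAt _ (VanAt.of_injective (Ghomology' (Aq p) J i).toLinearMap
    (Ghomology' (Aq p) J i).injective (hcon i)) _

/-- A module killed by `p` and nonzero at `p` contains `A/p`. -/
lemma exists_injective_Aq (p : PrimeSpectrum A) (M : ModuleCat.{u} A)
    (hM : ∀ s ∈ p.asIdeal, ∀ m : M, s • m = 0) (h : ¬ VanAt A p.asIdeal M) :
    ∃ f : (A ⧸ p.asIdeal) →ₗ[A] M, Function.Injective f := by
  unfold VanAt at h
  push Not at h
  obtain ⟨x, hx⟩ := h
  refine ⟨p.asIdeal.liftQ (LinearMap.toSpanSingleton A M x) ?_, ?_⟩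
  · intro s hs
    rw [LinearMap.mem_ker, LinearMap.toSpanSingleton_apply]
    exact hM s hs x
  · rw [← LinearMap.ker_eq_bot, Submodule.ker_liftQ_eq_bot]
    intro s hs
    rw [LinearMap.mem_ker, LinearMap.toSpanSingleton_apply] at hs
    by_contra hsp
    exact hx s hsp hs

/-- the set of degrees is bounded. -/
lemma mem_range (hs : Setup J a b) (p : PrimeSpectrum A) {i : ℤ}
    (hi : ¬ VanAt A p.asIdeal (E (Q.obj J) i (Aq p))) : a ≤ i ∧ i ≤ b := by
  by_contra hcon
  apply hi
  have : Subsingleton (E (Q.obj J) i (Aq p)) := hs.range (A ⧸ p.asIdeal) i (by lia)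
  exact (closed_vanAt A p.asIdeal).zero _ this

/-- uniqueness of the degree. -/
theorem unique_not_vanAt (hs : Setup J a b) (p : PrimeSpectrum A) {i j : ℤ}
    (hi : ¬ VanAt A p.asIdeal (E (Q.obj J) i (Aq p)))
    (hj : ¬ VanAt A p.asIdeal (E (Q.obj J) j (Aq p))) : i = j := by
  classical
  obtain ⟨i₀, hi₀, hmin⟩ := Int.exists_least_of_bdd
    (P := fun i => ¬ VanAt A p.asIdeal (E (Q.obj J) i (Aq p)))
    ⟨a, fun z hz => (mem_range hs p hz).1⟩ ⟨i, hi⟩
  obtain ⟨i₁, hi₁, hmax⟩ := Int.exists_greatest_of_bdd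
    (P := fun i => ¬ VanAt A p.asIdeal (E (Q.obj J) i (Aq p)))
    ⟨b, fun z hz => (mem_range hs p hz).2⟩ ⟨i, hi⟩
  have hlt : ∀ i, i < i₀ → VanAt A p.asIdeal (E (Q.obj J) i (Aq p)) := by
    intro i hi
    by_contra hcon
    have := hmin i hcon
    lia
  have hgt : ∀ i, i₁ < i → VanAt A p.asIdeal (E (Q.obj J) i (Aq p)) := by
    intro i hi
    by_contra hcon
    have := hmax i hcon
    lia
  suffices h : i₀ = i₁ by
    have h1 := hmin i hi
    have h2 := hmax i hi
    have h3 := hmin j hj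
    have h4 := hmax j hj
    lia
  by_contra hne
  have h01 : i₀ ≤ i₁ := hmin i₁ hi₁
  -- the object
  have hGE := QG_isGE J hs.range (Aq p)
  have hLE := QG_isLE J hs.range (Aq p)
  have hfin : ∀ i, Module.Finite A ((homologyFunctor (ModuleCat.{u} A) i).obj
      (Q.obj (G (Aq p) J))) := finite_homology_G hs (Aq p)
  have hkill : ∀ i, ∀ s ∈ p.asIdeal, ∀ x : ((homologyFunctor (ModuleCat.{u} A) i).obj
      (Q.obj (G (Aq p) J))), s • x = 0 := fun i s hs x =>
    killed_homology_G (Aq p) i s (Aq_killed p s hs) x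
  have h1 := extract (closed_vanAt.{u, u + 1} A p.asIdeal) (Q.obj J) (i₁ - i₀) a b i₀
    (Q.obj (G (Aq p) J))
    ((closed_vanAt A p.asIdeal).zero _ (hs.F_zero (Aq p) (i₁ - i₀) (by lia)))
    (fun i hi => by
      have := hfin i
      exact vanAt_E_of_killed _ _ (hkill i) (hgt _ (by lia)))
    (fun i hi => by
      have := hfin i
      exact vanAt_E_of_vanAt _ (VanAt.of_injective (Ghomology' (Aq p) J i).toLinearMap
        (Ghomology' (Aq p) J i).injective (hlt i hi)) _)
  have h2 : ¬ VanAt A p.asIdeal ((homologyFunctor (ModuleCat.{u} A) i₀).obj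
      (Q.obj (G (Aq p) J))) := by
    intro h
    apply hi₀
    exact VanAt.of_injective (Ghomology' (Aq p) J i₀).symm.toLinearMap
        (Ghomology' (Aq p) J i₀).symm.injective h
  obtain ⟨f, hf⟩ := exists_injective_Aq p _ (hkill i₀) h2
  -- the short exact sequence
  let S : ShortComplex (ModuleCat.{u} A) :=
    ModuleCat.shortComplexOfCompEqZero f (LinearMap.range f).mkQ (by
      ext
      simp)
  have hS : S.ShortExact := ModuleCat.shortComplex_shortExact S
    (LinearMap.exact_map_mkQ_range f) hf (Submodule.mkQ_surjective _)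
  have hfinX : Module.Finite A S.X₃ := by
    have := hfin i₀
    change Module.Finite A (_ ⧸ _)
    infer_instance
  have hX₃ : VanAt A p.asIdeal (E (Q.obj J) (i₁ + 1) S.X₃) := by
    refine vanAt_E_of_killed _ _ ?_ (hgt _ (by lia))
    intro s hs m
    obtain ⟨x, rfl⟩ := hS.moduleCat_surjective_g m
    rw [← map_smul]
    have : s • x = 0 := hkill i₀ s hs x
    rw [this, map_zero]
  have h3 : VanAt A p.asIdeal (E (Q.obj J) i₁ S.X₂) := by
    have h4 : i₁ - i₀ + i₀ = i₁ := by lia
    rw [h4] at h1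
    exact h1
  exact hi₁ ((closed_vanAt A p.asIdeal).exact _ _ (E_exact₁ (Q.obj J) hS i₁ (i₁ + 1) rfl) h3 hX₃)

/-- behaviour for an immediate specialization. -/
theorem step (hs : Setup J a b) {p q : PrimeSpectrum A} (hpq : p ⋖ q) {i : ℤ}
    (h : VanAt A q.asIdeal (E (Q.obj J) (i + 1) (Aq q))) :
    VanAt A q.asIdeal (E (Q.obj J) i (Aq p)) := by
  obtain ⟨x, hxq, hxp⟩ := SetLike.not_le_iff_exists.1
    (show ¬ q.asIdeal ≤ p.asIdeal from not_le_of_gt hpq.1)
  let f : (A ⧸ p.asIdeal) →ₗ[A] (A ⧸ p.asIdeal) := LinearMap.lsmul A _ x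
  have hf : Function.Injective f := by
    rw [injective_iff_map_eq_zero]
    intro y hy
    obtain ⟨y, rfl⟩ := Ideal.Quotient.mk_surjective y
    have h1 : x • (Ideal.Quotient.mk p.asIdeal y) = 0 := hy
    rw [← Ideal.Quotient.mk_eq_mk, ← Submodule.Quotient.mk_smul,
      Submodule.Quotient.mk_eq_zero] at h1
    exact Ideal.Quotient.eq_zero_iff_mem.2 ((p.2.mem_or_mem h1).resolve_left hxp)
  let S : ShortComplex (ModuleCat.{u} A) :=
    ModuleCat.shortComplexOfCompEqZero f (LinearMap.range f).mkQ (by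
      ext
      simp)
  have hS : S.ShortExact := ModuleCat.shortComplex_shortExact S
    (LinearMap.exact_map_mkQ_range f) hf (Submodule.mkQ_surjective _)
  have hfinX : Module.Finite A S.X₃ := by
    change Module.Finite A (_ ⧸ _)
    infer_instance
  have hX₃ : VanAt A q.asIdeal (E (Q.obj J) (i + 1) S.X₃) := by
    refine vanAt_E_devissage _ _ fun r hr hrq => ?_
    have h1 : p ≤ r := by
      intro s hs
      refine (Module.mem_support_iff_of_finite.1 hr) (Module.mem_annihilator.2 fun m => ?_)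
      obtain ⟨y, rfl⟩ := hS.moduleCat_surjective_g m
      rw [← map_smul]
      have : s • y = 0 := Aq_killed p s hs y
      rw [this, map_zero]
    have h2 : x ∈ r.asIdeal := by
      refine (Module.mem_support_iff_of_finite.1 hr) (Module.mem_annihilator.2 fun m => ?_)
      obtain ⟨y, rfl⟩ := hS.moduleCat_surjective_g m
      rw [← map_smul]
      exact ((ShortComplex.ShortExact.moduleCat_exact_iff_function_exact S).1 hS.exact _).2
        ⟨y, rfl⟩
    have h3 : p < r := lt_of_le_of_ne h1 (by rintro rfl; exact hxp h2)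
    rcases lt_or_eq_of_le hrq with h4 | rfl
    · exact (hpq.2 h3 h4).elim
    · exact h
  have hfinE : Module.Finite A (E (Q.obj J) i (Aq p)) := hs.fin i (Aq p)
  refine vanAt_of_smul x hxq fun y => ?_
  obtain ⟨s, hsq, hsy⟩ := hX₃ (Edelta (Q.obj J) hS i (i + 1) rfl y)
  rw [← map_smul] at hsy
  obtain ⟨z, hz⟩ := (E_exact₁ (Q.obj J) hS i (i + 1) rfl (s • y)).1 hsy
  refine ⟨s, hsq, z, ?_⟩
  rw [← hz]
  have h5 : S.f = x • 𝟙 (Aq p) := by
    ext
    rfl
  have h6 : Emap (Q.obj J) i S.f z = x • z := by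
    rw [h5, Emap_smul]
    exact congrArg (x • ·) (Emap_id (Q.obj J) i (Aq p) z)
  exact h6

/-- transfer along an isomorphism. -/
lemma vanAt_E_iso {L L' : Dual.D A} (e : L ≅ L') (p : Ideal A) (i : ℤ) (M : ModuleCat.{u} A)
    (h : VanAt A p (E L i M)) : VanAt A p (E L' i M) :=
  VanAt.of_injective (Linear.homCongr A (Iso.refl _) ((shiftFunctor _ i).mapIso e)).symm.toLinearMap
    (LinearEquiv.injective _) h

/-- **The dimension function of a dualizing complex**, `VanAt` form. -/
theorem exists_delta {ω : Dual.D A} (hω : Dual.IsDualizing A ω) :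
    ∃ δ : PrimeSpectrum A → ℤ,
      (∀ (p : PrimeSpectrum A) (i : ℤ), (¬ VanAt A p.asIdeal (E ω i (Aq p))) ↔ i = -δ p) ∧
      ∀ p q : PrimeSpectrum A, p ⋖ q → δ p = δ q + 1 := by
  obtain ⟨J, a, b, hJ1, hJ2, _, e, hs⟩ := exists_setup hω
  choose d hd using exists_not_vanAt hs
  have huniq := unique_not_vanAt hs
  refine ⟨fun p => - d p, fun p i => ?_, fun p q hpq => ?_⟩
  · rw [neg_neg]
    constructor
    · intro h
      exact huniq p (fun h' => h (vanAt_E_iso e.symm _ _ _ h')) (hd p)
    · rintro rfl h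
      exact hd p (vanAt_E_iso e _ _ _ h)
  · have h1 : ¬ VanAt A q.asIdeal (E (Q.obj J) (d p + 1) (Aq q)) := by
      intro h
      exact hd p (VanAt.mono hpq.1.le (step hs hpq h))
    have := huniq q h1 (hd q)
    lia

end Main

end Groth.Agent.LoccohA.DzDim
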