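import Groth.Agent.LoccohA.DzExact
import Mathlib.Algebra.Homology.DerivedCategory.TStructure
import Mathlib.Algebra.Homology.DerivedCategory.Linear
import Mathlib.Algebra.Homology.DerivedCategory.HomologySequence
import Mathlib.Algebra.Homology.DerivedCategory.FullyFaithful
import Mathlib.CategoryTheory.Triangulated.TStructure.TruncLEGT

/-!
# Dévissage of Hom's in the derived category along truncations
-/

set_option linter.unusedSectionVars false

universe t w v u

open CategoryTheory Limits Pretriangulated Category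

namespace Groth.Agent.LoccohA.DzTrunc

open DzExact DerivedCategory

variable (A : Type t) [CommRing A] {C : Type u} [Category.{v} C] [Abelian C] [Linear A C]
  [HasDerivedCategory.{w} C]

section

variable {D : Type u} [Category.{v} D] [Preadditive D] [Linear A D]
  [HasShift D ℤ] [∀ n : ℤ, (shiftFunctor D n).Additive] [∀ n : ℤ, (shiftFunctor D n).Linear A]

/-- The shift functor as a linear equivalence on morphisms. -/
noncomputable def shiftEquivHom (X Y : D) (n : ℤ) : (X ⟶ Y) ≃ₗ[A] (X⟦n⟧ ⟶ Y⟦n⟧) :=
  LinearEquiv.ofBijective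
    { toFun := fun f => f⟦n⟧'
      map_add' := fun f g => by simp
      map_smul' := fun a f => by simp [Functor.map_smul] }
    ⟨(shiftFunctor D n).map_injective, (shiftFunctor D n).map_surjective⟩

lemma shiftEquivHom_apply (X Y : D) (n : ℤ) (f : X ⟶ Y) : shiftEquivHom A X Y n f = f⟦n⟧' := rfl

/-- `Hom(X, Y[n][m]) ≃ Hom(X, Y[k])` when `n + m = k`. -/
noncomputable def homShiftAdd (X Y : D) (n m k : ℤ) (h : n + m = k) :
    (X ⟶ Y⟦n⟧⟦m⟧) ≃ₗ[A] (X ⟶ Y⟦k⟧) :=
  Linear.homCongr A (Iso.refl X) ((shiftFunctorAdd' D n m k h).symm.app Y)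

end

/-- `Hom(single_i M, L[n]) ≃ Hom(single_0 M, L[k])` if `n + i = k`. -/
noncomputable def singleShiftEquiv (M : C) (L : DerivedCategory C) (n i k : ℤ) (h : n + i = k) :
    ((singleFunctor C i).obj M ⟶ L⟦n⟧) ≃ₗ[A] ((singleFunctor C 0).obj M ⟶ L⟦k⟧) :=
  (shiftEquivHom A _ _ i).trans
    ((Linear.homCongr A (((singleFunctors C).shiftIso i 0 i (add_zero i)).app M)
      (Iso.refl _)).trans (homShiftAdd A _ _ n i k h))

variable {A}

/-- Homology of the truncation `τ_{≤ a}`. -/
lemma isIso_homology_truncLE (X : DerivedCategory C) (a i : ℤ) (hi : i ≤ a) :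
    IsIso ((homologyFunctor C i).map ((TStructure.t.truncLEι a).app X)) := by
  have hT := TStructure.t.triangleLEGT_distinguished a X
  set T := (TStructure.t.triangleLEGT a).obj X with hTdef
  have hG : IsGE T.obj₃ (a + 1) := by
    change TStructure.t.IsGE ((TStructure.t.truncGT a).obj X) (a + 1)
    infer_instance
  have h1 : IsZero ((homologyFunctor C i).obj T.obj₃) := isZero_of_isGE _ (a + 1) i (by lia)
  have h0 : IsZero ((homologyFunctor C (i - 1)).obj T.obj₃) :=
    isZero_of_isGE _ (a + 1) (i - 1) (by lia)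
  have hmono : Mono ((homologyFunctor C i).map T.mor₁) :=
    (HomologySequence.mono_homologyMap_mor₁_iff T hT (i - 1) i (by lia)).2 (h0.eq_of_src _ _)
  have hepi : Epi ((homologyFunctor C i).map T.mor₁) :=
    (HomologySequence.epi_homologyMap_mor₁_iff T hT i).2 (h1.eq_of_tgt _ _)
  change IsIso ((homologyFunctor C i).map T.mor₁)
  exact isIso_of_mono_of_epi _

/-- Homology of the truncation `τ_{≥ b}`. -/
lemma isIso_homology_truncGE (X : DerivedCategory C) (b i : ℤ) (hi : b ≤ i) :
    IsIso ((homologyFunctor C i).map ((TStructure.t.truncGEπ b).app X)) := by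
  have hT := TStructure.t.triangleLEGE_distinguished (b - 1) b (by lia) X
  set T := (TStructure.t.triangleLEGE (b - 1) b (by lia)).obj X with hTdef
  have hG : IsLE T.obj₁ (b - 1) := by
    change TStructure.t.IsLE ((TStructure.t.truncLE (b - 1)).obj X) (b - 1)
    infer_instance
  have h1 : IsZero ((homologyFunctor C i).obj T.obj₁) := isZero_of_isLE _ (b - 1) i (by lia)
  have h0 : IsZero ((homologyFunctor C (i + 1)).obj T.obj₁) :=
    isZero_of_isLE _ (b - 1) (i + 1) (by lia)
  have hmono : Mono ((homologyFunctor C i).map T.mor₂) :=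
    (HomologySequence.mono_homologyMap_mor₂_iff T hT i).2 (h1.eq_of_src _ _)
  have hepi : Epi ((homologyFunctor C i).map T.mor₂) :=
    (HomologySequence.epi_homologyMap_mor₂_iff T hT i (i + 1) rfl).2 (h0.eq_of_tgt _ _)
  change IsIso ((homologyFunctor C i).map T.mor₂)
  exact isIso_of_mono_of_epi _

/-- An object of `D` with homology concentrated in degree `n` is the single of its homology. -/
lemma nonempty_iso_single (X : DerivedCategory C) (n : ℤ) [X.IsGE n] [X.IsLE n] :
    Nonempty (X ≅ (singleFunctor C n).obj ((homologyFunctor C n).obj X)) := by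
  obtain ⟨Y, ⟨e⟩⟩ := exists_iso_singleFunctor_obj_of_isGE_of_isLE X n
  have e2 : (homologyFunctor C n).obj X ≅ Y :=
    (homologyFunctor C n).mapIso e ≪≫ (singleFunctorCompHomologyFunctorIso C n).app Y
  exact ⟨e ≪≫ (singleFunctor C n).mapIso e2.symm⟩

lemma isZero_of_isGE_isLE (X : DerivedCategory C) (a b : ℤ) [X.IsGE a] [X.IsLE b] (h : b < a) :
    IsZero X :=
  TStructure.t.isZero X b a h

/-- **Dévissage along truncations**: if `X` has homology in `[c, c + k)` and
`P (Hom(H^i(X), L[n + i]))` for all `i` then `P (Hom(X, L[n]))`. -/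
theorem hom_of_truncation {P : ∀ (E : Type w) [AddCommGroup E] [Module A E], Prop}
    (hP : Closed A P) (L : DerivedCategory C) (n c : ℤ) (k : ℕ) :
    ∀ (X : DerivedCategory C) [X.IsGE c] [X.IsLE (c + k - 1)]
      (_ : ∀ i : ℤ, c ≤ i → i ≤ c + k - 1 →
        P ((singleFunctor C 0).obj ((homologyFunctor C i).obj X) ⟶ L⟦n + i⟧)),
      P (X ⟶ L⟦n⟧) := by
  induction k with
  | zero =>
    intro X _ _ _
    have : IsZero X := isZero_of_isGE_isLE X c (c + (0 : ℕ) - 1) (by simp)
    exact hP.zero _ ⟨fun f g => this.eq_of_src _ _⟩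
  | succ k ih =>
    intro X hXc hXd h
    have hT := TStructure.t.triangleLEGE_distinguished (c + k - 1) (c + k) (by lia) X
    refine hP.hom_of_triangle _ hT (L⟦n⟧) ?_ ?_
    · change P ((TStructure.t.truncLE (c + k - 1)).obj X ⟶ L⟦n⟧)
      have h1 : IsGE ((TStructure.t.truncLE (c + k - 1)).obj X) c := by
        change TStructure.t.IsGE _ _
        infer_instance
      have h2 : IsLE ((TStructure.t.truncLE (c + k - 1)).obj X) (c + k - 1) := by
        change TStructure.t.IsLE _ _
        infer_instance
      refine ih _ fun i hi hi' => ?_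
      have := isIso_homology_truncLE X (c + k - 1) i hi'
      refine hP.of_equiv (Linear.homCongr A ((singleFunctor C 0).mapIso
        (asIso ((homologyFunctor C i).map ((TStructure.t.truncLEι (c + k - 1)).app X)))).symm
        (Iso.refl _)) (h i hi (by push_cast; lia))
    · change P ((TStructure.t.truncGE (c + k)).obj X ⟶ L⟦n⟧)
      have h1 : IsGE ((TStructure.t.truncGE (c + k)).obj X) (c + k) := by
        change TStructure.t.IsGE _ _
        infer_instance
      have h2 : IsLE ((TStructure.t.truncGE (c + k)).obj X) (c + k) := by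
        rw [isLE_iff]
        intro i hi
        have := isIso_homology_truncGE X (c + k) i (by lia)
        refine IsZero.of_iso ?_ (asIso ((homologyFunctor C i).map
          ((TStructure.t.truncGEπ (c + k)).app X))).symm
        exact isZero_of_isLE X (c + (k + 1 : ℕ) - 1) i (by push_cast; lia)
      obtain ⟨e⟩ := nonempty_iso_single ((TStructure.t.truncGE (c + k)).obj X) (c + k)
      have := isIso_homology_truncGE X (c + k) (c + k) le_rfl
      have e2 := (singleFunctor C (c + k)).mapIso
        (asIso ((homologyFunctor C (c + k)).map ((TStructure.t.truncGEπ (c + k)).app X)))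
      refine hP.of_equiv ((Linear.homCongr A (e ≪≫ e2.symm) (Iso.refl _)).symm)
        (hP.of_equiv (singleShiftEquiv A _ L n (c + k) (n + (c + k)) rfl).symm
          (h (c + k) (by lia) (by push_cast; lia)))

end Groth.Agent.LoccohA.DzTrunc
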