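import Mathlib.Algebra.Category.ModuleCat.Colimits
import Mathlib.Algebra.Category.Grp.FilteredColimits
import Mathlib.CategoryTheory.Limits.ConcreteCategory.Basic
import Mathlib.CategoryTheory.Limits.Preserves.Filtered

/-!
# Filtered colimits of modules, elementwise and across universes

`IsColim F N g` says that the module `N` with the linear maps `g d : F.obj d → N` is
(elementwise) the colimit of the diagram `F` of modules; `N` may live in any universe.
-/

set_option autoImplicit false
set_option linter.unusedSectionVars false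

universe w w₁ w₂ w₃ v v₁ v₂ u

open CategoryTheory Limits

namespace Groth.Agent.LoccohA.LCTColim

variable {A : Type u} [Ring A]

/-- `N` with the maps `g d` is elementwise the filtered colimit of `F`. -/
structure IsColim {D : Type v} [Category.{v₁} D] (F : D ⥤ ModuleCat.{w} A) (N : Type w₂)
    [AddCommGroup N] [Module A N] (g : ∀ d : D, (F.obj d) →ₗ[A] N) : Prop where
  compat : ∀ {d d' : D} (f : d ⟶ d') (x : F.obj d), g d' ((F.map f).hom x) = g d x
  surj : ∀ n : N, ∃ (d : D) (x : F.obj d), g d x = n
  inj : ∀ (d : D) (x : F.obj d), g d x = 0 → ∃ (d' : D) (f : d ⟶ d'), (F.map f).hom x = 0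

section Preserves

/-- The forgetful functor preserves small filtered colimits. -/
theorem preservesColimit_forget {D : Type v} [SmallCategory D] [IsFiltered D]
    (F : D ⥤ ModuleCat.{max v w} A) :
    PreservesColimit F (forget (ModuleCat.{max v w} A)) := by
  have h1 : PreservesFilteredColimitsOfSize.{v, v} (forget AddCommGrpCat.{max v w}) :=
    preservesFilteredColimitsOfSize_shrink.{v, max v w, v, max v w} _
  have h2 : PreservesColimitsOfShape D (forget AddCommGrpCat.{max v w}) :=
    h1.preserves_filtered_colimits D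
  have h3 : PreservesColimitsOfShape D
      (forget₂ (ModuleCat.{max v w} A) AddCommGrpCat.{max v w}) := inferInstance
  have h4 : PreservesColimitsOfShape D
      (forget₂ (ModuleCat.{max v w} A) AddCommGrpCat.{max v w} ⋙ forget AddCommGrpCat.{max v w}) :=
    inferInstance
  exact (h4.preservesColimit : PreservesColimit F _)

end Preserves

namespace IsColim

section

variable {D : Type v} [Category.{v₁} D] {F : D ⥤ ModuleCat.{w} A}

/-- A categorical colimit preserved by the forgetful functor is an elementwise colimit. -/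
theorem of_isColimit [IsFiltered D] [PreservesColimit F (forget (ModuleCat.{w} A))]
    {c : Cocone F} (hc : IsColimit c) :
    IsColim F c.pt (fun d => (show F.obj d ⟶ c.pt from c.ι.app d).hom) where
  compat {d d'} f x := by
    have := c.w f
    exact congrArg (fun t => t.hom x) this
  surj n := Concrete.isColimit_exists_rep F hc n
  inj d x hx := by
    have h0 : (c.ι.app d) x = (c.ι.app d) (0 : F.obj d) := by
      rw [map_zero]; exact hx
    obtain ⟨k, f, g, hk⟩ := Concrete.isColimit_exists_of_rep_eq F hc x (0 : F.obj d) h0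
    refine ⟨k, f, ?_⟩
    have : (F.map g) (0 : F.obj d) = 0 := map_zero _
    rw [this] at hk
    exact hk

variable {N : Type w₂} [AddCommGroup N] [Module A N] {g : ∀ d : D, (F.obj d) →ₗ[A] N}

theorem exists_eq (h : IsColim F N g) [IsFilteredOrEmpty D] {d d' : D} (x : F.obj d)
    (y : F.obj d') (hxy : g d x = g d' y) :
    ∃ (k : D) (f : d ⟶ k) (f' : d' ⟶ k), (F.map f).hom x = (F.map f').hom y := by
  let m := IsFiltered.max d d'
  have h0 : g m ((F.map (IsFiltered.leftToMax d d')).hom x -
      (F.map (IsFiltered.rightToMax d d')).hom y) = 0 := by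
    rw [map_sub, h.compat, h.compat, hxy, sub_self]
  obtain ⟨k, f, hf⟩ := h.inj _ _ h0
  refine ⟨k, IsFiltered.leftToMax d d' ≫ f, IsFiltered.rightToMax d d' ≫ f, ?_⟩
  rw [F.map_comp, F.map_comp]
  change (F.map f).hom _ = (F.map f).hom _
  rw [← sub_eq_zero, ← map_sub]
  exact hf

/-- common index for two elements -/
theorem surj₂ (h : IsColim F N g) [IsFilteredOrEmpty D] (n n' : N) :
    ∃ (d : D) (x y : F.obj d), g d x = n ∧ g d y = n' := by
  obtain ⟨d, x, rfl⟩ := h.surj n
  obtain ⟨d', y, rfl⟩ := h.surj n'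
  exact ⟨_, (F.map (IsFiltered.leftToMax d d')).hom x,
    (F.map (IsFiltered.rightToMax d d')).hom y, h.compat _ _, h.compat _ _⟩

theorem map_eq_zero_iff (h : IsColim F N g) (d : D) (x : F.obj d) :
    g d x = 0 ↔ ∃ (d' : D) (f : d ⟶ d'), (F.map f).hom x = 0 := by
  refine ⟨h.inj d x, ?_⟩
  rintro ⟨d', f, hf⟩
  rw [← h.compat f, hf, map_zero]

end

section Desc

variable {D : Type v} [Category.{v₁} D] [IsFilteredOrEmpty D] {F : D ⥤ ModuleCat.{w} A}
  {N : Type w₂} [AddCommGroup N] [Module A N] {g : ∀ d : D, (F.obj d) →ₗ[A] N}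
  {P : Type w₃} [AddCommGroup P] [Module A P]

/-- The universal property. -/
noncomputable def desc (h : IsColim F N g) (p : ∀ d : D, (F.obj d) →ₗ[A] P)
    (hp : ∀ {d d' : D} (f : d ⟶ d') (x : F.obj d), p d' ((F.map f).hom x) = p d x) :
    N →ₗ[A] P := by
  have key : ∀ {d d' : D} (x : F.obj d) (y : F.obj d'), g d x = g d' y → p d x = p d' y := by
    intro d d' x y hxy
    obtain ⟨k, f, f', hk⟩ := h.exists_eq x y hxy
    rw [← hp f, ← hp f', hk]
  have key2 : ∀ (n : N) {d : D} (x : F.obj d), g d x = n →
      p _ (h.surj n).choose_spec.choose = p d x := by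
    intro n d x hx
    apply key
    rw [(h.surj n).choose_spec.choose_spec, hx]
  exact
    { toFun := fun n => p _ (h.surj n).choose_spec.choose
      map_add' := by
        intro n n'
        obtain ⟨d, x, y, hx, hy⟩ := h.surj₂ n n'
        rw [key2 (n + n') (x + y) (by rw [map_add, hx, hy]), key2 n x hx, key2 n' y hy, map_add]
      map_smul' := by
        intro a n
        obtain ⟨d, x, hx⟩ := h.surj n
        rw [key2 (a • n) (a • x) (by rw [map_smul, hx]), key2 n x hx, map_smul, RingHom.id_apply] }

theorem desc_apply (h : IsColim F N g) (p : ∀ d : D, (F.obj d) →ₗ[A] P)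
    (hp : ∀ {d d' : D} (f : d ⟶ d') (x : F.obj d), p d' ((F.map f).hom x) = p d x)
    (d : D) (x : F.obj d) : h.desc p hp (g d x) = p d x := by
  obtain ⟨k, f, f', hk⟩ := h.exists_eq _ x (h.surj (g d x)).choose_spec.choose_spec
  change p _ (h.surj (g d x)).choose_spec.choose = p d x
  rw [← hp f, ← hp f', hk]

theorem desc_bijective (h : IsColim F N g) {p : ∀ d : D, (F.obj d) →ₗ[A] P}
    (hp : IsColim F P p) : Function.Bijective (h.desc p hp.compat) := by
  constructor
  · rw [injective_iff_map_eq_zero]
    intro n hn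
    obtain ⟨d, x, rfl⟩ := h.surj n
    rw [h.desc_apply] at hn
    rw [h.map_eq_zero_iff]
    exact hp.inj d x hn
  · intro y
    obtain ⟨d, x, rfl⟩ := hp.surj y
    exact ⟨g d x, h.desc_apply _ _ d x⟩

/-- Two colimits of the same diagram are isomorphic. -/
noncomputable def equiv (h : IsColim F N g) {p : ∀ d : D, (F.obj d) →ₗ[A] P}
    (hp : IsColim F P p) : N ≃ₗ[A] P :=
  LinearEquiv.ofBijective (h.desc p hp.compat) (h.desc_bijective hp)

theorem equiv_apply (h : IsColim F N g) {p : ∀ d : D, (F.obj d) →ₗ[A] P}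
    (hp : IsColim F P p) (d : D) (x : F.obj d) : h.equiv hp (g d x) = p d x :=
  h.desc_apply _ hp.compat d x

/-- Transport along a natural isomorphism of diagrams (in possibly different universes). -/
theorem congr (h : IsColim F N g) {G : D ⥤ ModuleCat.{w₁} A}
    (e : ∀ d, G.obj d ≃ₗ[A] F.obj d)
    (he : ∀ {d d' : D} (f : d ⟶ d') (x : G.obj d), e d' ((G.map f).hom x) =
      (F.map f).hom (e d x)) :
    IsColim G N (fun d => (g d).comp (e d).toLinearMap) where
  compat {d d'} f x := by
    change g d' (e d' _) = g d (e d x)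
    rw [he, h.compat]
  surj n := by
    obtain ⟨d, x, rfl⟩ := h.surj n
    exact ⟨d, (e d).symm x, by simp⟩
  inj d x hx := by
    obtain ⟨d', f, hf⟩ := h.inj d (e d x) hx
    refine ⟨d', f, ?_⟩
    rw [← he] at hf
    exact (e d').map_eq_zero_iff.1 hf

/-- Transport along a linear equivalence of the target. -/
theorem trans (h : IsColim F N g) (e : N ≃ₗ[A] P) :
    IsColim F P (fun d => e.toLinearMap.comp (g d)) where
  compat f x := by
    change e _ = e _
    rw [h.compat]
  surj n := by
    obtain ⟨d, x, hx⟩ := h.surj (e.symm n)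
    exact ⟨d, x, by simp [hx]⟩
  inj d x hx := h.inj d x (e.map_eq_zero_iff.1 hx)

/-- Restriction along a functor which is cofinal in the elementary sense. -/
theorem comp_of_cofinal (h : IsColim F N g) {D' : Type v₂} [Category.{v₁} D'] (φ : D' ⥤ D)
    (h1 : ∀ d : D, ∃ d' : D', Nonempty (d ⟶ φ.obj d'))
    (h2 : ∀ (d : D) (d' : D') (_ : φ.obj d' ⟶ d), ∃ (d'' : D') (f : d' ⟶ d'')
      (s : d ⟶ φ.obj d''), ∀ x : F.obj (φ.obj d'), ∀ t : φ.obj d' ⟶ d,
        (F.map (φ.map f)).hom x = (F.map s).hom ((F.map t).hom x)) :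
    IsColim (φ ⋙ F) N (fun d' => g (φ.obj d')) where
  compat f x := h.compat (φ.map f) x
  surj n := by
    obtain ⟨d, x, rfl⟩ := h.surj n
    obtain ⟨d', ⟨s⟩⟩ := h1 d
    exact ⟨d', (F.map s).hom x, h.compat s x⟩
  inj d' x hx := by
    obtain ⟨d, t, ht⟩ := h.inj _ x hx
    obtain ⟨d'', f, s, hf⟩ := h2 d d' t
    refine ⟨d'', f, ?_⟩
    change (F.map (φ.map f)).hom x = 0
    rw [hf x t, ht, map_zero]

end Desc

end IsColim

end Groth.Agent.LoccohA.LCTColim
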