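import Groth.Prelude.Def_DualLC
import Groth.Agent.LoccohA.LCTColim

/-!
# Local cohomology modules as elementwise filtered colimits
-/

set_option autoImplicit false
set_option linter.unusedVariables false
set_option linter.unusedSectionVars false

universe w v u

open CategoryTheory Limits Opposite
open Groth.Agent.LoccohA.LCTColim

namespace Groth.Agent.LoccohA.LCTBase

variable {A : Type u} [CommRing A]

section IdealsIn

variable (T : Set (PrimeSpectrum A))

/-- constructor for objects of `IdealsIn T` -/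
def mkI (J : Ideal A) (h : PrimeSpectrum.zeroLocus (J : Set A) ⊆ T) : Dual2.IdealsIn T := ⟨J, h⟩

/-- the underlying ideal -/
def toI {T : Set (PrimeSpectrum A)} (J : Dual2.IdealsIn T) : Ideal A := J.obj

theorem toI_prop {T : Set (PrimeSpectrum A)} (J : Dual2.IdealsIn T) :
    PrimeSpectrum.zeroLocus (toI J : Set A) ⊆ T := J.property

/-- morphisms in `IdealsIn T` -/
def homI {T : Set (PrimeSpectrum A)} {J J' : Dual2.IdealsIn T} (h : toI J ≤ toI J') : J ⟶ J' :=
  ObjectProperty.homMk (homOfLE h)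

theorem le_of_hom {T : Set (PrimeSpectrum A)} {J J' : Dual2.IdealsIn T} (f : J ⟶ J') :
    toI J ≤ toI J' := leOfHom f.hom

instance {T : Set (PrimeSpectrum A)} (J J' : Dual2.IdealsIn T) : Subsingleton (J ⟶ J') where
  allEq f g := ObjectProperty.hom_ext _ (Subsingleton.elim _ _)

theorem zeroLocus_inf_subset {T : Set (PrimeSpectrum A)} {J J' : Ideal A}
    (h : PrimeSpectrum.zeroLocus (J : Set A) ⊆ T) (h' : PrimeSpectrum.zeroLocus (J' : Set A) ⊆ T) :
    PrimeSpectrum.zeroLocus ((J ⊓ J' : Ideal A) : Set A) ⊆ T := by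
  rw [PrimeSpectrum.zeroLocus_inf]
  exact Set.union_subset h h'

theorem zeroLocus_top_subset {T : Set (PrimeSpectrum A)} :
    PrimeSpectrum.zeroLocus ((⊤ : Ideal A) : Set A) ⊆ T := by
  rw [PrimeSpectrum.zeroLocus_empty_iff_eq_top.2 rfl]
  exact Set.empty_subset _

instance : IsCofiltered (Dual2.IdealsIn T) where
  cone_objs J J' := ⟨mkI T (toI J ⊓ toI J') (zeroLocus_inf_subset (toI_prop J) (toI_prop J')),
    homI inf_le_left, homI inf_le_right, trivial⟩
  cone_maps J J' f g := ⟨J, 𝟙 _, Subsingleton.elim _ _⟩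
  nonempty := ⟨mkI T ⊤ zeroLocus_top_subset⟩

instance : IsFiltered (Dual2.IdealsIn T)ᵒᵖ := inferInstance

end IdealsIn

section HT

variable (T : Set (PrimeSpectrum A)) (i : ℕ)

/-- The diagram computing `Dual2.HT T i M`. -/
noncomputable def HTdiag (M : ModuleCat.{u} A) : (Dual2.IdealsIn T)ᵒᵖ ⥤ ModuleCat.{u} A :=
  localCohomology.diagram (Dual2.idealsInDiagram T) i ⋙ (evaluation _ _).obj M

theorem HTdiag_obj (M : ModuleCat.{u} A) (J : (Dual2.IdealsIn T)ᵒᵖ) :
    (HTdiag T i M).obj J =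
      ((_root_.Ext A (ModuleCat.{u} A) i).obj (op (ModuleCat.of A (A ⧸ toI J.unop)))).obj M := rfl

/-- The structure maps. -/
noncomputable def HTι (M : Type u) [AddCommGroup M] [Module A M] (J : (Dual2.IdealsIn T)ᵒᵖ) :
    (HTdiag T i (ModuleCat.of A M)).obj J →ₗ[A] Dual2.HT T i M :=
  ((colimit.ι (localCohomology.diagram (Dual2.idealsInDiagram T) i) J).app
    (ModuleCat.of A M)).hom

theorem HT_isColim (M : Type u) [AddCommGroup M] [Module A M] :
    IsColim (HTdiag T i (ModuleCat.of A M)) (Dual2.HT T i M) (HTι T i M) := by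
  have hc : IsColimit (((evaluation _ (ModuleCat.{u} A)).obj (ModuleCat.of A M)).mapCocone
      (colimit.cocone (localCohomology.diagram (Dual2.idealsInDiagram T) i))) :=
    isColimitOfPreserves _ (colimit.isColimit _)
  have : PreservesColimit (localCohomology.diagram (Dual2.idealsInDiagram T) i ⋙
      (evaluation (ModuleCat.{u} A) (ModuleCat.{u} A)).obj (ModuleCat.of A M))
      (forget (ModuleCat.{u} A)) := preservesColimit_forget.{u, u} _
  exact IsColim.of_isColimit hc

end HT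

section H

variable (I : Ideal A) (i : ℕ)

/-- The diagram computing `LocCoh.H I i M`. -/
noncomputable def Hdiag (M : ModuleCat.{u} A) : ℕᵒᵖᵒᵖ ⥤ ModuleCat.{u} A :=
  localCohomology.diagram (localCohomology.idealPowersDiagram I) i ⋙ (evaluation _ _).obj M

theorem Hdiag_obj (M : ModuleCat.{u} A) (n : ℕᵒᵖᵒᵖ) :
    (Hdiag I i M).obj n =
      ((_root_.Ext A (ModuleCat.{u} A) i).obj (op (ModuleCat.of A (A ⧸ I ^ n.unop.unop)))).obj M :=
  rfl

/-- The structure maps. -/
noncomputable def Hι (M : Type u) [AddCommGroup M] [Module A M] (n : ℕᵒᵖᵒᵖ) :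
    (Hdiag I i (ModuleCat.of A M)).obj n →ₗ[A] LocCoh.H I i M :=
  ((colimit.ι (localCohomology.diagram (localCohomology.idealPowersDiagram I) i) n).app
    (ModuleCat.of A M)).hom

theorem H_isColim (M : Type u) [AddCommGroup M] [Module A M] :
    IsColim (Hdiag I i (ModuleCat.of A M)) (LocCoh.H I i M) (Hι I i M) := by
  have hc : IsColimit (((evaluation _ (ModuleCat.{u} A)).obj (ModuleCat.of A M)).mapCocone
      (colimit.cocone (localCohomology.diagram (localCohomology.idealPowersDiagram I) i))) :=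
    isColimitOfPreserves _ (colimit.isColimit _)
  have : PreservesColimit (localCohomology.diagram (localCohomology.idealPowersDiagram I) i ⋙
      (evaluation (ModuleCat.{u} A) (ModuleCat.{u} A)).obj (ModuleCat.of A M))
      (forget (ModuleCat.{u} A)) := preservesColimit_forget.{u, 0} _
  exact IsColim.of_isColimit hc

end H

section Derived

attribute [local instance] HasDerivedCategory.standard

variable (T : Set (PrimeSpectrum A)) (I : Ideal A) (i : ℤ)

/-- The diagram computing `Dual2.HDT A T K i`. -/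
noncomputable def HDTdiag (K : Dual.D A) : (Dual2.IdealsIn T)ᵒᵖ ⥤ ModuleCat.{u + 1} A :=
  (localCohomology.ringModIdeals (Dual2.idealsInDiagram T) ⋙
      DerivedCategory.singleFunctor (ModuleCat.{u} A) 0).op ⋙ (linearYoneda A (Dual.D A)).obj (K⟦i⟧)

/-- The structure maps. -/
noncomputable def HDTι (K : Dual.D A) (J : (Dual2.IdealsIn T)ᵒᵖ) :
    (HDTdiag T i K).obj J →ₗ[A] Dual2.HDT A T K i :=
  (colimit.ι (HDTdiag T i K) J).hom

theorem HDT_isColim (K : Dual.D A) :
    IsColim (HDTdiag T i K) (Dual2.HDT A T K i) (HDTι T i K) := by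
  have := preservesColimit_forget.{u + 1, u} (HDTdiag T i K)
  exact IsColim.of_isColimit (colimit.isColimit (HDTdiag T i K))

/-- The diagram computing `Dual2.HDI A I K i`. -/
noncomputable def HDIdiag (K : Dual.D A) : ℕᵒᵖᵒᵖ ⥤ ModuleCat.{u + 1} A :=
  (localCohomology.ringModIdeals (localCohomology.idealPowersDiagram I) ⋙
      DerivedCategory.singleFunctor (ModuleCat.{u} A) 0).op ⋙ (linearYoneda A (Dual.D A)).obj (K⟦i⟧)

/-- The structure maps. -/
noncomputable def HDIι (K : Dual.D A) (n : ℕᵒᵖᵒᵖ) :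
    (HDIdiag I i K).obj n →ₗ[A] Dual2.HDI A I K i :=
  (colimit.ι (HDIdiag I i K) n).hom

theorem HDI_isColim (K : Dual.D A) :
    IsColim (HDIdiag I i K) (Dual2.HDI A I K i) (HDIι I i K) := by
  have := preservesColimit_forget.{u + 1, 0} (HDIdiag I i K)
  exact IsColim.of_isColimit (colimit.isColimit (HDIdiag I i K))

/-- The projection `A/J → A/J'` for `J ≤ J'` as a morphism of modules. -/
noncomputable def pr {J J' : Ideal A} (h : J ≤ J') :
    ModuleCat.of A (A ⧸ J) ⟶ ModuleCat.of A (A ⧸ J') :=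
  ModuleCat.ofHom (Submodule.mapQ J J' LinearMap.id h)

theorem pr_apply {J J' : Ideal A} (h : J ≤ J') (a : A) :
    (pr h).hom (Submodule.Quotient.mk a) = Submodule.Quotient.mk a := rfl

theorem HDTdiag_map (K : Dual.D A) {J J' : (Dual2.IdealsIn T)ᵒᵖ} (f : J ⟶ J')
    (x : Dual.inD A (A ⧸ toI J.unop) ⟶ K⟦i⟧) :
    ((HDTdiag T i K).map f).hom x =
      (DerivedCategory.singleFunctor (ModuleCat.{u} A) 0).map (pr (le_of_hom f.unop)) ≫ x := rfl

theorem HDIdiag_map (K : Dual.D A) {n n' : ℕᵒᵖᵒᵖ} (f : n ⟶ n')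
    (x : Dual.inD A (A ⧸ I ^ n.unop.unop) ⟶ K⟦i⟧) :
    ((HDIdiag I i K).map f).hom x =
      (DerivedCategory.singleFunctor (ModuleCat.{u} A) 0).map
        (pr (Ideal.pow_le_pow_right (leOfHom f.unop.unop))) ≫ x := rfl

theorem HTdiag_map (i : ℕ) (M : ModuleCat.{u} A) {J J' : (Dual2.IdealsIn T)ᵒᵖ} (f : J ⟶ J')
    (x : ((_root_.Ext A (ModuleCat.{u} A) i).obj (op (ModuleCat.of A (A ⧸ toI J.unop)))).obj M) :
    ((HTdiag T i M).map f).hom x =
      (((_root_.Ext A (ModuleCat.{u} A) i).map (pr (le_of_hom f.unop)).op).app M).hom x := rfl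

theorem Hdiag_map (i : ℕ) (M : ModuleCat.{u} A) {n n' : ℕᵒᵖᵒᵖ} (f : n ⟶ n')
    (x : ((_root_.Ext A (ModuleCat.{u} A) i).obj
      (op (ModuleCat.of A (A ⧸ I ^ n.unop.unop)))).obj M) :
    ((Hdiag I i M).map f).hom x =
      (((_root_.Ext A (ModuleCat.{u} A) i).map
        (pr (Ideal.pow_le_pow_right (leOfHom f.unop.unop))).op).app M).hom x := rfl

end Derived

end Groth.Agent.LoccohA.LCTBase
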