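import Groth.Agent.LoccohA.DExtDepth
import Groth.Agent.Ega4B.DimFinite
import Mathlib.RingTheory.KrullDimension.Module
import Mathlib.Order.Interval.Finset.Defs
import Mathlib.Data.Int.Interval
import Mathlib.RingTheory.Ideal.KrullsHeightTheorem

/-!
# Dimension and Cohen–Macaulayness of `M_p` through `E^i(M)_p`
-/

set_option autoImplicit false
universe u v w
open CategoryTheory CategoryTheory.Limits Pretriangulated
attribute [local instance] HasDerivedCategory.standard

namespace Groth.Agent.LoccohA.DExtCM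

open Groth.Agent.LoccohA.DExt Groth.Agent.LoccohA.DExtSupp Groth.Agent.LoccohA.DExtDim
open Groth.Agent.LoccohA.DExtDepth

section Dim

variable {A : Type u} [CommRing A] [IsNoetherianRing A] {δ : PrimeSpectrum A → ℤ}
  (hcov : ∀ p q : PrimeSpectrum A, p ⋖ q → δ p = δ q + 1)
  (p : PrimeSpectrum A) (M : Type u) [AddCommGroup M] [Module A M]

include hcov in
lemma natCast_le_supportDim_iff (n : ℕ) :
    (n : WithBot ℕ∞) ≤ Module.supportDim (Localization.AtPrime p.asIdeal)
      (LocalizedModule p.asIdeal.primeCompl M) ↔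
    ∃ q ∈ Module.support A M, q ≤ p ∧ (n : ℤ) ≤ δ q - δ p := by
  rw [Groth.Agent.Ega4B.DimFinite.supportDim_atPrime_eq]
  constructor
  · intro h
    obtain ⟨l, hl⟩ := Order.le_krullDim_iff.mp h
    have h1 := DimFun.length_le hcov
      (l.map (fun x => (x : PrimeSpectrum A)) (fun _ _ h => h))
    have h3 := DimFun.le_of_le hcov l.last.2.2
    simp only [LTSeries.map_length, LTSeries.head_map, LTSeries.last_map] at h1
    refine ⟨l.head.1, l.head.2.1, l.head.2.2, ?_⟩
    have h4 : δ (⟨p.asIdeal, p.2⟩ : PrimeSpectrum A) = δ p := rfl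
    omega
  · rintro ⟨q, hq, hqp, hn⟩
    obtain ⟨s, hs1, hs2, hs3⟩ := DimFun.exists_ltSeries hcov hqp
    let t : LTSeries {q : PrimeSpectrum A // q ∈ Module.support A M ∧ q ≤ ⟨p.asIdeal, p.2⟩} :=
      { length := s.length
        toFun := fun i => ⟨s i, by
          constructor
          · refine Module.mem_support_mono ?_ hq
            rw [← hs1]; exact s.monotone (Fin.zero_le i)
          · change s i ≤ p
            rw [← hs2]; exact s.monotone (Fin.le_last i)⟩
        step := fun i => s.step i }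
    refine le_trans ?_ (Order.le_krullDim_iff.mpr ⟨t, rfl⟩ :
      (s.length : WithBot ℕ∞) ≤ _)
    have : n ≤ s.length := by omega
    exact_mod_cast this

lemma exists_supportDim_eq (hp : p ∈ Module.support A M) :
    ∃ D : ℕ, Module.supportDim (Localization.AtPrime p.asIdeal)
      (LocalizedModule p.asIdeal.primeCompl M) = D := by
  have hnt : Nontrivial (LocalizedModule p.asIdeal.primeCompl M) := hp
  have h1 := Module.supportDim_ne_bot_of_nontrivial (Localization.AtPrime p.asIdeal)
    (LocalizedModule p.asIdeal.primeCompl M)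
  have h2 : Module.supportDim (Localization.AtPrime p.asIdeal)
      (LocalizedModule p.asIdeal.primeCompl M) < ⊤ :=
    lt_of_le_of_lt (Module.supportDim_le_ringKrullDim _ _) (ringKrullDim_lt_top)
  obtain ⟨x, hx⟩ := WithBot.ne_bot_iff_exists.mp h1
  rw [← hx] at h2 ⊢
  have h3 : x < ⊤ := WithBot.coe_lt_coe.mp h2
  obtain ⟨D, rfl⟩ := ENat.ne_top_iff_exists.mp h3.ne
  exact ⟨D, rfl⟩

end Dim

variable {A : Type u} [CommRing A] [IsNoetherianRing A] (ω : Dual.D A)
  (hfin : ∀ (i : ℤ) (M : Type u) [AddCommGroup M] [Module A M] [Module.Finite A M],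
    Module.Finite A (E ω i M))
  {δ : PrimeSpectrum A → ℤ}
  (hδ : ∀ (p : PrimeSpectrum A) (i : ℤ),
    p ∈ Module.support A (E ω i (A ⧸ p.asIdeal)) ↔ i = -δ p)
  (hcov : ∀ p q : PrimeSpectrum A, p ⋖ q → δ p = δ q + 1)
  (p : PrimeSpectrum A) (M : Type u) [AddCommGroup M] [Module A M] [Module.Finite A M]

include hfin hδ in
/-- Cohen-Macaulayness of `M_p` in terms of the modules `E^i(M)_p`. -/
theorem isCohenMacaulayModule_iff (hcov : ∀ p q : PrimeSpectrum A, p ⋖ q → δ p = δ q + 1)
    (hp : p ∈ Module.support A M) :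
    LocCoh.IsCohenMacaulayModule (Localization.AtPrime p.asIdeal)
      (LocalizedModule p.asIdeal.primeCompl M) ↔
    ∀ i j : ℤ, p ∈ Module.support A (E ω i M) → p ∈ Module.support A (E ω j M) → i = j := by
  obtain ⟨D, hD⟩ := exists_supportDim_eq p M hp
  have hdim := natCast_le_supportDim_iff hcov p M
  have hdep := natCast_le_depth_iff ω hfin hδ p M
  have hle : ∀ q ∈ Module.support A M, q ≤ p → δ q - δ p ≤ D := by
    intro q hq hqp
    by_contra hlt
    have := (hdim (D + 1)).mpr ⟨q, hq, hqp, by push_cast; omega⟩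
    rw [hD] at this
    have : D + 1 ≤ D := by exact_mod_cast this
    omega
  obtain ⟨q₀, hq₀, hq₀p, hq₀D⟩ := (hdim D).mp hD.ge
  have hq₀D' : δ q₀ - δ p = D := le_antisymm (hle q₀ hq₀ hq₀p) hq₀D
  -- `q₀` is a minimal prime of the support
  have hmin : q₀.asIdeal ∈ (Module.annihilator A M).minimalPrimes := by
    rw [Module.support_eq_zeroLocus] at hq₀
    refine ⟨⟨q₀.2, hq₀⟩, ?_⟩
    intro r hr hrq
    by_contra hne
    let r' : PrimeSpectrum A := ⟨r, hr.1⟩
    have hlt : r' < q₀ := lt_of_le_not_ge hrq hne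
    have h1 := DimFun.lt_of_lt hcov hlt
    have h2 := hle r' (by rw [Module.support_eq_zeroLocus]; exact hr.2) (hlt.le.trans hq₀p)
    omega
  have hass : q₀.asIdeal ∈ associatedPrimes A M :=
    Module.associatedPrimes.minimalPrimes_annihilator_subset_associatedPrimes A M hmin
  have hED : p ∈ Module.support A (E ω (-δ p - D) M) := by
    have := mem_of_mem_associatedPrimes ω hfin hδ q₀ M hass
    have h1 : -δ q₀ = -δ p - D := by omega
    rw [h1] at this
    exact Module.mem_support_mono hq₀p this
  rw [LocCoh.IsCohenMacaulayModule, hD]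
  constructor
  · intro h i j hi hj
    have hdepth : LocCoh.depth (Localization.AtPrime p.asIdeal)
      (LocalizedModule p.asIdeal.primeCompl M) = (D : ℕ∞) := by
      have h' : ((D : ℕ∞) : WithBot ℕ∞) = _ := h
      exact (WithBot.coe_injective h').symm
    have hvan := (hdep D).mp hdepth.ge
    have key : ∀ i : ℤ, p ∈ Module.support A (E ω i M) → i = -δ p - D := by
      intro i hi
      have h1 : i ≤ -δ p := by
        by_contra hlt
        exact notMem_of_gt ω hfin hδ p M i (by omega) hi
      obtain ⟨d, hd⟩ : ∃ d : ℕ, i = -δ p - d := ⟨(-δ p - i).toNat, by omega⟩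
      have h2 : D ≤ d := by
        by_contra hlt
        exact hvan d (by omega) (hd ▸ hi)
      obtain ⟨q, hq, hqp, hqi⟩ := exists_le_of_mem ω hfin hδ hcov p M i hi
      have h3 := hle q hq hqp
      omega
    rw [key i hi, key j hj]
  · intro huniq
    have h1 : (D : ℕ∞) ≤ LocCoh.depth (Localization.AtPrime p.asIdeal)
        (LocalizedModule p.asIdeal.primeCompl M) := by
      rw [hdep]
      intro d hd hmem
      have := huniq _ _ hmem hED
      omega
    have h2 : ¬ (((D + 1 : ℕ) : ℕ∞) ≤ LocCoh.depth (Localization.AtPrime p.asIdeal)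
        (LocalizedModule p.asIdeal.primeCompl M)) := by
      rw [hdep]
      intro h
      exact h D (by omega) hED
    have h3 : LocCoh.depth (Localization.AtPrime p.asIdeal)
        (LocalizedModule p.asIdeal.primeCompl M) = (D : ℕ∞) := by
      refine le_antisymm ?_ h1
      rw [not_le] at h2
      exact ENat.lt_natCast_add_one_iff.mp (by exact_mod_cast h2)
    rw [h3]
    rfl

include hfin hδ in
lemma isCohenMacaulayModule_of_minimal (hcov : ∀ p q : PrimeSpectrum A, p ⋖ q → δ p = δ q + 1)
    (hp : p.asIdeal ∈ (Module.annihilator A M).minimalPrimes) :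
    LocCoh.IsCohenMacaulayModule (Localization.AtPrime p.asIdeal)
      (LocalizedModule p.asIdeal.primeCompl M) := by
  have hpM : p ∈ Module.support A M := by
    rw [Module.support_eq_zeroLocus]; exact hp.1.2
  rw [isCohenMacaulayModule_iff ω hfin hδ p M hcov hpM]
  have key : ∀ i : ℤ, p ∈ Module.support A (E ω i M) → i = -δ p := by
    intro i hi
    have h1 : i ≤ -δ p := by
      by_contra hlt
      exact notMem_of_gt ω hfin hδ p M i (by omega) hi
    obtain ⟨q, hq, hqp, hqi⟩ := exists_le_of_mem ω hfin hδ hcov p M i hi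
    rw [Module.support_eq_zeroLocus] at hq
    have : q = p := le_antisymm hqp (hp.2 ⟨q.2, hq⟩ hqp)
    subst this
    omega
  intro i j hi hj
  rw [key i hi, key j hj]

include hfin hδ in
theorem cm_locus (hcov : ∀ p q : PrimeSpectrum A, p ⋖ q → δ p = δ q + 1)
    (a b : ℤ) (hab : ∀ i : ℤ, (i < a ∨ b < i) → Subsingleton (E ω i M)) :
    IsOpen {p : PrimeSpectrum A | Subsingleton (LocalizedModule p.asIdeal.primeCompl M) ∨
      LocCoh.IsCohenMacaulayModule (Localization.AtPrime p.asIdeal)
        (LocalizedModule p.asIdeal.primeCompl M)} ∧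
    Module.support A M ⊆ closure ({p : PrimeSpectrum A |
      LocCoh.IsCohenMacaulayModule (Localization.AtPrime p.asIdeal)
        (LocalizedModule p.asIdeal.primeCompl M)} ∩ Module.support A M) := by
  constructor
  · have heq : {p : PrimeSpectrum A | Subsingleton (LocalizedModule p.asIdeal.primeCompl M) ∨
      LocCoh.IsCohenMacaulayModule (Localization.AtPrime p.asIdeal)
        (LocalizedModule p.asIdeal.primeCompl M)} =
      (⋃ x ∈ {x : ℤ × ℤ | x.1 ∈ Set.Icc a b ∧ x.2 ∈ Set.Icc a b ∧ x.1 ≠ x.2},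
        (Module.support A (E ω x.1 M) ∩ Module.support A (E ω x.2 M)))ᶜ := by
      ext p
      rw [Set.mem_ofPred_eq, Set.mem_compl_iff]
      by_cases hp : p ∈ Module.support A M
      · have hns : ¬ Subsingleton (LocalizedModule p.asIdeal.primeCompl M) :=
          not_subsingleton_iff_nontrivial.mpr hp
        rw [or_iff_right hns, isCohenMacaulayModule_iff ω hfin hδ p M hcov hp]
        constructor
        · intro h hmem
          simp only [Set.mem_iUnion] at hmem
          obtain ⟨⟨i, j⟩, ⟨-, -, hij⟩, hi, hj⟩ := hmem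
          exact hij (h i j hi hj)
        · intro h i j hi hj
          by_contra hij
          have hrange : ∀ i : ℤ, p ∈ Module.support A (E ω i M) → i ∈ Set.Icc a b := by
            intro i hi
            by_contra hcon
            have : Subsingleton (E ω i M) := hab i (by
              rw [Set.mem_Icc, not_and_or] at hcon; omega)
            rw [Module.support_eq_empty] at hi
            exact hi
          apply h
          simp only [Set.mem_iUnion]
          exact ⟨(i, j), ⟨hrange i hi, hrange j hj, hij⟩, hi, hj⟩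
      · refine ⟨fun _ hmem => ?_, fun _ => Or.inl (Module.notMem_support_iff.mp hp)⟩
        simp only [Set.mem_iUnion] at hmem
        obtain ⟨⟨i, j⟩, -, hi, hj⟩ := hmem
        exact hp (support_subset ω i hi)
    rw [heq, isOpen_compl_iff]
    refine Set.Finite.isClosed_biUnion ?_ ?_
    · refine ((Set.finite_Icc a b).prod (Set.finite_Icc a b)).subset ?_
      rintro ⟨i, j⟩ ⟨hi, hj, -⟩
      exact ⟨hi, hj⟩
    · rintro ⟨i, j⟩ -
      have := hfin i M
      have := hfin j M
      exact Module.isClosed_support.inter Module.isClosed_support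
  · intro p hp
    have hp' := hp
    rw [Module.support_eq_zeroLocus] at hp'
    obtain ⟨q, hq, hqp⟩ := Ideal.exists_minimalPrimes_le (J := p.asIdeal) hp'
    let q' : PrimeSpectrum A := ⟨q, hq.1.1⟩
    have hq' : q' ∈ {p : PrimeSpectrum A |
      LocCoh.IsCohenMacaulayModule (Localization.AtPrime p.asIdeal)
        (LocalizedModule p.asIdeal.primeCompl M)} ∩ Module.support A M :=
      ⟨isCohenMacaulayModule_of_minimal ω hfin hδ q' M hcov hq, by
        rw [Module.support_eq_zeroLocus]; exact hq.1.2⟩
    have hspec : q' ⤳ p := (PrimeSpectrum.le_iff_specializes q' p).mp hqp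
    exact closure_mono (Set.singleton_subset_iff.mpr hq') hspec.mem_closure

include hfin hδ in
/-- Stacks 0ECN. -/
theorem finite_depth_eq (hcov : ∀ p q : PrimeSpectrum A, p ⋖ q → δ p = δ q + 1)
    (a b : ℤ) (hab : ∀ i : ℤ, (i < a ∨ b < i) → Subsingleton (E ω i M)) (k : ℕ)
    (hM : LocCoh.HasSk k A M) :
    Set.Finite {p : PrimeSpectrum A | LocCoh.depth (Localization.AtPrime p.asIdeal)
        (LocalizedModule p.asIdeal.primeCompl M) = k ∧
      (k : WithBot ℕ∞) < Module.supportDim (Localization.AtPrime p.asIdeal)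
        (LocalizedModule p.asIdeal.primeCompl M)} := by
  have hfinite : Set.Finite (⋃ x ∈ (Set.Icc a b) ×ˢ (Set.Icc a b),
      {p : PrimeSpectrum A | p.asIdeal ∈ (Module.annihilator A (E ω x.1 M) ⊔
        Module.annihilator A (E ω x.2 M)).minimalPrimes}) := by
    refine Set.Finite.biUnion ((Set.finite_Icc a b).prod (Set.finite_Icc a b)) ?_
    rintro ⟨i, j⟩ -
    refine Set.Finite.preimage (f := PrimeSpectrum.asIdeal)
      (fun p _ q _ h => PrimeSpectrum.ext h) ?_
    exact Ideal.finite_minimalPrimes_of_isNoetherianRing A _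
  refine hfinite.subset ?_
  rintro p ⟨hdepth, hdim⟩
  have hdep := natCast_le_depth_iff ω hfin hδ p M
  -- `E^{c-k}(M)_p ≠ 0`
  have hj : p ∈ Module.support A (E ω (-δ p - k) M) := by
    have h1 := (hdep k).mp hdepth.ge
    have h2 : ¬ (((k + 1 : ℕ) : ℕ∞) ≤ LocCoh.depth (Localization.AtPrime p.asIdeal)
        (LocalizedModule p.asIdeal.primeCompl M)) := by
      rw [hdepth]
      intro h
      have : k + 1 ≤ k := by exact_mod_cast h
      omega
    rw [hdep] at h2
    push Not at h2
    obtain ⟨d, hd, hd'⟩ := h2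
    rcases Nat.lt_or_ge d k with hlt | hge
    · exact (h1 d hlt hd').elim
    · have : d = k := by omega
      rwa [this] at hd'
  -- a smaller index
  obtain ⟨i, hi, hpi⟩ : ∃ i : ℤ, i < -δ p - k ∧ p ∈ Module.support A (E ω i M) := by
    have h1 : ((k + 1 : ℕ) : WithBot ℕ∞) ≤ Module.supportDim (Localization.AtPrime p.asIdeal)
        (LocalizedModule p.asIdeal.primeCompl M) := by
      have hpM : p ∈ Module.support A M := support_subset ω _ hj
      obtain ⟨D, hD⟩ := exists_supportDim_eq p M hpM
      rw [hD] at hdim ⊢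
      have : k < D := by exact_mod_cast hdim
      exact_mod_cast this
    obtain ⟨q, hq, hqp, hn⟩ := (natCast_le_supportDim_iff hcov p M (k + 1)).mp h1
    rw [Module.support_eq_zeroLocus] at hq
    obtain ⟨r, hr, hrq⟩ := Ideal.exists_minimalPrimes_le (J := q.asIdeal) hq
    let r' : PrimeSpectrum A := ⟨r, hr.1.1⟩
    have hrq' : r' ≤ q := hrq
    have hass : r'.asIdeal ∈ associatedPrimes A M :=
      Module.associatedPrimes.minimalPrimes_annihilator_subset_associatedPrimes A M hr
    refine ⟨-δ r', ?_, Module.mem_support_mono (hrq'.trans hqp)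
      (mem_of_mem_associatedPrimes ω hfin hδ r' M hass)⟩
    have := DimFun.le_of_le hcov hrq'
    push_cast at hn
    omega
  have hrange : ∀ i : ℤ, p ∈ Module.support A (E ω i M) → i ∈ Set.Icc a b := by
    intro i hi
    by_contra hcon
    have : Subsingleton (E ω i M) := hab i (by
      rw [Set.mem_Icc, not_and_or] at hcon; omega)
    rw [Module.support_eq_empty] at hi
    exact hi
  simp only [Set.mem_iUnion]
  refine ⟨(i, -δ p - k), ⟨hrange _ hpi, hrange _ hj⟩, ?_⟩
  change p.asIdeal ∈ (Module.annihilator A (E ω i M) ⊔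
        Module.annihilator A (E ω (-δ p - k) M)).minimalPrimes
  have hfi := hfin i M
  have hfj := hfin (-δ p - k) M
  have hpi' := hpi
  have hj' := hj
  rw [Module.support_eq_zeroLocus] at hpi' hj'
  refine ⟨⟨p.2, sup_le hpi' hj'⟩, ?_⟩
  intro r hr hrp
  by_contra hne
  obtain ⟨r', rfl⟩ : ∃ r' : PrimeSpectrum A, r'.asIdeal = r := ⟨⟨r, hr.1⟩, rfl⟩
  have hlt : r' < p := lt_of_le_not_ge hrp hne
  have hri : r' ∈ Module.support A (E ω i M) := by
    rw [Module.support_eq_zeroLocus]; exact le_sup_left.trans hr.2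
  have hrj : r' ∈ Module.support A (E ω (-δ p - k) M) := by
    rw [Module.support_eq_zeroLocus]; exact le_sup_right.trans hr.2
  have hδlt := DimFun.lt_of_lt hcov hlt
  have hj1 : -δ p - k ≤ -δ r' := by
    by_contra hcon
    exact notMem_of_gt ω hfin hδ r' M _ (by omega) hrj
  obtain ⟨d, hd⟩ : ∃ d : ℕ, -δ p - k = -δ r' - d := ⟨(-δ r' - (-δ p - k)).toNat, by omega⟩
  have hdk : d < k := by omega
  -- depth M_{r'} ≤ d
  have hdr : LocCoh.depth (Localization.AtPrime r'.asIdeal)
      (LocalizedModule r'.asIdeal.primeCompl M) ≤ d := by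
    have h2 : ¬ (((d + 1 : ℕ) : ℕ∞) ≤ LocCoh.depth (Localization.AtPrime r'.asIdeal)
        (LocalizedModule r'.asIdeal.primeCompl M)) := by
      rw [natCast_le_depth_iff ω hfin hδ r' M]
      intro h
      exact h d (by omega) (hd ▸ hrj)
    rw [not_le] at h2
    exact ENat.lt_natCast_add_one_iff.mp (by exact_mod_cast h2)
  -- dim M_{r'} ≥ d + 1
  have hdim' : ((d + 1 : ℕ) : WithBot ℕ∞) ≤ Module.supportDim (Localization.AtPrime r'.asIdeal)
      (LocalizedModule r'.asIdeal.primeCompl M) := by
    rw [natCast_le_supportDim_iff hcov r' M]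
    obtain ⟨q, hq, hqp, hqi⟩ := exists_le_of_mem ω hfin hδ hcov r' M i hri
    exact ⟨q, hq, hqp, by push_cast; omega⟩
  have hS := hM r'.asIdeal
  have h3 : ((d + 1 : ℕ) : WithBot ℕ∞) ≤ ((d : ℕ∞) : WithBot ℕ∞) := by
    refine le_trans (le_min ?_ hdim') (hS.trans (WithBot.coe_le_coe.mpr hdr))
    exact_mod_cast hdk
  have h4 : d + 1 ≤ d := by exact_mod_cast h3
  omega

end Groth.Agent.LoccohA.DExtCM
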