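import Groth.Agent.LoccohA.LCTDev
import Mathlib.Algebra.Homology.DerivedCategory.HomologySequence
import Groth.Agent.LoccohB.DBase2

/-!
# Finiteness of local cohomology and annihilators (Stacks 0EI1, 0AW8)

For `K` in `D(A)` bounded below with finite cohomology, `A` Noetherian: `HDT A T K i` is finite
for all `i ≤ n` iff some `J` with `V(J) ⊆ T` kills all of them.
-/

set_option autoImplicit false
set_option linter.unusedVariables false
set_option linter.unusedSectionVars false

universe u

open CategoryTheory Limits Opposite Pretriangulated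
open Groth.Agent.LoccohA.LCTColim Groth.Agent.LoccohA.LCTBase Groth.Agent.LoccohA.LCTLes
  Groth.Agent.LoccohA.LCTGam Groth.Agent.LoccohA.LCTIso Groth.Agent.LoccohA.LCTDev
open Groth.Agent.LoccohA

attribute [local instance] HasDerivedCategory.standard

namespace Groth.Agent.LoccohA.LCTFin

variable {A : Type u} [CommRing A] (T : Set (PrimeSpectrum A))

section Algebra

variable {M M' M'' : Type*} [AddCommGroup M] [AddCommGroup M'] [AddCommGroup M'']
  [Module A M] [Module A M'] [Module A M'']

/-- finite middle term -/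
theorem finite_of_exact [IsNoetherianRing A] {f : M →ₗ[A] M'} {g : M' →ₗ[A] M''}
    (h : Function.Exact f g) [Module.Finite A M] [Module.Finite A M''] : Module.Finite A M' := by
  have : IsNoetherian A M := isNoetherian_of_isNoetherianRing_of_finite A M
  have : IsNoetherian A M'' := isNoetherian_of_isNoetherianRing_of_finite A M''
  have : IsNoetherian A M' := isNoetherian_of_range_eq_ker f g
    (LinearMap.exact_iff.1 h).symm
  infer_instance

/-- annihilation of the middle term -/
theorem smul_smul_of_exact {f : M →ₗ[A] M'} {g : M' →ₗ[A] M''}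
    (h : Function.Exact f g) (a b : A) (ha : ∀ x : M, a • x = 0) (hb : ∀ x : M'', b • x = 0)
    (y : M') : (a * b) • y = 0 := by
  have h1 : g (b • y) = 0 := by rw [map_smul, hb]
  obtain ⟨x, hx⟩ := (h _).1 h1
  rw [mul_smul, ← hx, ← map_smul, ha, map_zero]

theorem sq_smul_of_exact {f₁ : M →ₗ[A] M} {f₂ : M →ₗ[A] M'} {δ : M' →ₗ[A] M''}
    {f₄ : M'' →ₗ[A] M''} (x : A) (h₁ : ∀ m, f₁ m = x • m) (h₄ : ∀ m, f₄ m = x • m)
    (e₂ : Function.Exact f₁ f₂) (e₃ : Function.Exact f₂ δ) (e₁ : Function.Exact δ f₄) (y : M') :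
    (x * x) • y = 0 := by
  have h1 : δ (x • y) = 0 := by
    rw [map_smul, ← h₄]
    exact (e₁ (δ y)).2 ⟨y, rfl⟩
  obtain ⟨z, hz⟩ := (e₃ _).1 h1
  rw [mul_smul, ← hz, ← map_smul, ← h₁]
  exact (e₂ _).2 ⟨z, rfl⟩

end Algebra

section Homology

/-- the cohomology modules -/
theorem HD_exact₂ (Tr : Triangle (Dual.D A)) (hT : Tr ∈ distTriang (Dual.D A)) (n : ℤ) :
    Function.Exact ((DerivedCategory.homologyFunctor (ModuleCat.{u} A) n).map Tr.mor₁).hom
      ((DerivedCategory.homologyFunctor (ModuleCat.{u} A) n).map Tr.mor₂).hom :=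
  (ShortComplex.ShortExact.moduleCat_exact_iff_function_exact _).1
    (DerivedCategory.HomologySequence.exact₂ Tr hT n)

theorem HD_exact₃ (Tr : Triangle (Dual.D A)) (hT : Tr ∈ distTriang (Dual.D A)) (n₀ n₁ : ℤ)
    (h : n₀ + 1 = n₁) :
    Function.Exact ((DerivedCategory.homologyFunctor (ModuleCat.{u} A) n₀).map Tr.mor₂).hom
      (DerivedCategory.HomologySequence.δ Tr n₀ n₁ h).hom :=
  (ShortComplex.ShortExact.moduleCat_exact_iff_function_exact _).1
    (DerivedCategory.HomologySequence.exact₃ Tr hT n₀ n₁ h)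

theorem HD_exact₁ (Tr : Triangle (Dual.D A)) (hT : Tr ∈ distTriang (Dual.D A)) (n₀ n₁ : ℤ)
    (h : n₀ + 1 = n₁) :
    Function.Exact (DerivedCategory.HomologySequence.δ Tr n₀ n₁ h).hom
      ((DerivedCategory.homologyFunctor (ModuleCat.{u} A) n₁).map Tr.mor₁).hom :=
  (ShortComplex.ShortExact.moduleCat_exact_iff_function_exact _).1
    (DerivedCategory.HomologySequence.exact₁ Tr hT n₀ n₁ h)

theorem isGE_of_HD {K : Dual.D A} {a : ℤ} (h : ∀ i : ℤ, i < a → Subsingleton (Dual.HD A K i)) :
    K.IsGE a := by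
  rw [DerivedCategory.isGE_iff]
  intro i hi
  have := h i hi
  exact ModuleCat.isZero_of_subsingleton _

theorem HD_subsingleton_of_isGE {K : Dual.D A} {a i : ℤ} [K.IsGE a] (hi : i < a) :
    Subsingleton (Dual.HD A K i) :=
  ModuleCat.subsingleton_of_isZero (DerivedCategory.isZero_of_isGE K a i hi)

end Homology

variable [IsNoetherianRing A]

/-- Finite `T`-torsion modules have finite `HDT`. -/
theorem finite_HDT_module (N : ModuleCat.{u} A) (hN : ∀ x : N, x ∈ gam T N) [Module.Finite A N]
    (i : ℤ) : Module.Finite A (Dual2.HDT A T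
      ((DerivedCategory.singleFunctor (ModuleCat.{u} A) 0).obj N) i) := by
  rcases lt_trichotomy i 0 with hi | rfl | hi
  · have : Subsingleton (Dual2.HDT A T
      ((DerivedCategory.singleFunctor (ModuleCat.{u} A) 0).obj N) i) := HDT_of_lt T (a := 0) hi
    infer_instance
  · have : Module.Finite A (gam T N) := inferInstance
    exact Module.Finite.equiv (HDT0equiv T N).symm
  · have := HDT_pos_of_torsion T N hN i hi
    infer_instance

/-- Objects with finite `T`-torsion cohomology have finite `HDT`. -/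
theorem finite_HDT_of_torsion (m : ℕ) : ∀ (a : ℤ) (L : Dual.D A) (_ : L.IsGE a)
    (_ : ∀ j, Module.Finite A (Dual.HD A L j)) (_ : ∀ j, ∀ x : Dual.HD A L j, x ∈ gam T _)
    (i : ℤ), i < a + m → Module.Finite A (Dual2.HDT A T L i) := by
  induction m with
  | zero =>
    intro a L hL _ _ i hi
    have : Subsingleton (Dual2.HDT A T L i) := HDT_of_lt T (a := a) (by simpa using hi)
    infer_instance
  | succ m ih =>
    intro a L hL hfin htor i hi
    have hTr := DerivedCategory.TStructure.t.triangleLEGE_distinguished a (a + 1) rfl L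
    have hGE : ((DerivedCategory.TStructure.t.truncGE (a + 1)).obj L).IsGE (a + 1) := by
      change DerivedCategory.TStructure.t.IsGE _ _
      infer_instance
    have h1 : Module.Finite A (Dual2.HDT A T
        ((DerivedCategory.TStructure.t.truncGE (a + 1)).obj L) i) := by
      refine ih (a + 1) _ hGE ?_ ?_ i (by push_cast at hi; omega)
      · intro j
        by_cases hj : j < a + 1
        · have := HD_subsingleton_of_isGE (K := (DerivedCategory.TStructure.t.truncGE (a + 1)).obj L)
            hj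
          infer_instance
        · have := DzTrunc.isIso_homology_truncGE L (a + 1) j (by omega)
          have := hfin j
          exact Module.Finite.equiv (M := Dual.HD A L j)
            (asIso ((DerivedCategory.homologyFunctor (ModuleCat.{u} A) j).map
            ((DerivedCategory.TStructure.t.truncGEπ (a + 1)).app L))).toLinearEquiv
      · intro j x
        by_cases hj : j < a + 1
        · have := HD_subsingleton_of_isGE (K := (DerivedCategory.TStructure.t.truncGE (a + 1)).obj L)
            hj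
          have : x = 0 := Subsingleton.elim _ _
          rw [this]
          exact Submodule.zero_mem _
        · have := DzTrunc.isIso_homology_truncGE L (a + 1) j (by omega)
          obtain ⟨y, rfl⟩ := (asIso ((DerivedCategory.homologyFunctor (ModuleCat.{u} A) j).map
            ((DerivedCategory.TStructure.t.truncGEπ (a + 1)).app L))).toLinearEquiv.surjective x
          exact map_mem_gam _ (htor j y)
    have hLE1 : ((DerivedCategory.TStructure.t.truncLE a).obj L).IsGE a := by
      change DerivedCategory.TStructure.t.IsGE _ _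
      infer_instance
    have hLE2 : ((DerivedCategory.TStructure.t.truncLE a).obj L).IsLE a := by
      change DerivedCategory.TStructure.t.IsLE _ _
      infer_instance
    obtain ⟨e⟩ := DzTrunc.nonempty_iso_single ((DerivedCategory.TStructure.t.truncLE a).obj L) a
    have := DzTrunc.isIso_homology_truncLE L a a le_rfl
    have e2 := (asIso ((DerivedCategory.homologyFunctor (ModuleCat.{u} A) a).map
            ((DerivedCategory.TStructure.t.truncLEι a).app L))).toLinearEquiv
    have h2 : Module.Finite A (Dual2.HDT A T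
        ((DerivedCategory.TStructure.t.truncLE a).obj L) i) := by
      have : Module.Finite A (Dual.HD A ((DerivedCategory.TStructure.t.truncLE a).obj L) a) :=
        Module.Finite.equiv (M := Dual.HD A L a) e2.symm
      have h3 := finite_HDT_module T
        ((DerivedCategory.homologyFunctor (ModuleCat.{u} A) a).obj
          ((DerivedCategory.TStructure.t.truncLE a).obj L)) (by
          intro x
          obtain ⟨y, rfl⟩ := e2.symm.surjective x
          exact map_mem_gam _ (htor a y)) (i - a)
      have h4 := Module.Finite.equiv (HDTsingle T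
        ((DerivedCategory.homologyFunctor (ModuleCat.{u} A) a).obj
          ((DerivedCategory.TStructure.t.truncLE a).obj L)) a i (i - a) (by omega)).symm
      exact Module.Finite.equiv (hequivOfIso T e i).symm
    exact @finite_of_exact A _ _ _ _ _ _ _ _ _ _ _ _ _ (HDT_exact₂ T _ hTr i) h2 h1

/-- The cone of multiplication by `x`. -/
theorem exists_cone (x : A) (K : Dual.D A) :
    ∃ (C : Dual.D A) (g : K ⟶ C) (h : C ⟶ K⟦(1 : ℤ)⟧),
      Triangle.mk (x • 𝟙 K) g h ∈ distTriang (Dual.D A) :=
  distinguished_cocone_triangle (x • 𝟙 K)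

theorem hmap_smul_id (x : A) (K : Dual.D A) (i : ℤ) (y : Dual2.HDT A T K i) :
    hmap T ((x • 𝟙 K)⟦i⟧') y = x • y := by
  rw [Functor.map_smul, hmap_smul, CategoryTheory.Functor.map_id, hmap_id]

theorem HD_smul_id (x : A) (K : Dual.D A) (i : ℤ) (y : Dual.HD A K i) :
    ((DerivedCategory.homologyFunctor (ModuleCat.{u} A) i).map (x • 𝟙 K)).hom y = x • y := by
  rw [Functor.map_smul, CategoryTheory.Functor.map_id]
  rfl

section Cone

variable {x : A} {K C : Dual.D A} {g : K ⟶ C} {h : C ⟶ K⟦(1 : ℤ)⟧}
  (hT : Triangle.mk (x • 𝟙 K) g h ∈ distTriang (Dual.D A))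

include hT

theorem cone_finite (hfin : ∀ j, Module.Finite A (Dual.HD A K j)) (j : ℤ) :
    Module.Finite A (Dual.HD A C j) := by
  have h1 := hfin j
  have h2 := hfin (j + 1)
  exact @finite_of_exact A _ _ _ _ _ _ _ _ _ _ _ _ _ (HD_exact₃ _ hT j (j + 1) rfl) h1 h2

theorem cone_isGE {a : ℤ} [K.IsGE a] : C.IsGE (a - 1) := by
  apply isGE_of_HD
  intro i hi
  have h1 : Subsingleton (Dual.HD A K i) := HD_subsingleton_of_isGE (a := a) (by omega)
  have h2 : Subsingleton (Dual.HD A K (i + 1)) := HD_subsingleton_of_isGE (a := a) (by omega)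
  refine ⟨fun y z => ?_⟩
  have key : ∀ y : Dual.HD A C i, y = 0 := by
    intro y
    have h3 : (DerivedCategory.HomologySequence.δ (Triangle.mk (x • 𝟙 K) g h) i (i + 1) rfl).hom y
      = 0 := h2.elim _ _
    obtain ⟨z, hz⟩ := (HD_exact₃ _ hT i (i + 1) rfl y).1 h3
    have hz0 : z = 0 := h1.elim _ _
    rw [← hz, hz0]
    exact map_zero _
  rw [key y, key z]

theorem cone_killed (j : ℤ) (b c : A) (hb : ∀ y : Dual.HD A K j, b • y = 0)
    (hc : ∀ y : Dual.HD A K (j + 1), c • y = 0) (y : Dual.HD A C j) : (b * c) • y = 0 :=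
  smul_smul_of_exact (HD_exact₃ _ hT j (j + 1) rfl) b c hb hc y

theorem cone_killed_sq (j : ℤ) (y : Dual.HD A C j) : (x * x) • y = 0 := by
  exact sq_smul_of_exact x (HD_smul_id x K j) (HD_smul_id x K (j + 1)) (HD_exact₂ _ hT j)
    (HD_exact₃ _ hT j (j + 1) rfl) (HD_exact₁ _ hT j (j + 1) rfl) y

theorem cone_HDT_killed (j : ℤ) (b c : A) (hb : ∀ y : Dual2.HDT A T K j, b • y = 0)
    (hc : ∀ y : Dual2.HDT A T K (j + 1), c • y = 0) (y : Dual2.HDT A T C j) : (b * c) • y = 0 :=
  smul_smul_of_exact (HDT_exact₃ T _ hT j (j + 1) rfl) b c hb hc y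

theorem cone_HDT_surjective (j : ℤ) (hx : ∀ y : Dual2.HDT A T K (j + 1), x • y = 0) :
    Function.Surjective (hmap T (conn (Triangle.mk (x • 𝟙 K) g h) j (j + 1) rfl)) := by
  intro y
  refine (HDT_exact₁ T _ hT j (j + 1) rfl y).1 ?_
  exact (hmap_smul_id T x K (j + 1) y).trans (hx y)

end Cone

theorem mem_ofList_map_sq {l : List A} {y : A} (hy : y ∈ l) :
    y * y ∈ Ideal.ofList (l.map (fun z => z * z)) :=
  Ideal.subset_span (List.mem_map.2 ⟨y, hy, rfl⟩)

theorem zeroLocus_step {l : List A} {x : A} {J : Ideal A}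
    (hV : PrimeSpectrum.zeroLocus ((J ⊔ Ideal.ofList (x :: l) : Ideal A) : Set A) ⊆ T) :
    PrimeSpectrum.zeroLocus (((J * J ⊔ Ideal.span {x * x}) ⊔
      Ideal.ofList (l.map (fun z => z * z)) : Ideal A) : Set A) ⊆ T := by
  refine Set.Subset.trans ?_ hV
  intro p hp
  rw [PrimeSpectrum.mem_zeroLocus, SetLike.coe_subset_coe] at hp ⊢
  have hp1 : J * J ≤ p.asIdeal := le_sup_left.trans (le_sup_left.trans hp)
  have hp2 : x * x ∈ p.asIdeal :=
    (le_sup_right.trans (le_sup_left.trans hp)) (Ideal.mem_span_singleton_self _)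
  have hp3 : Ideal.ofList (l.map (fun z => z * z)) ≤ p.asIdeal := le_sup_right.trans hp
  refine sup_le ?_ ?_
  · exact (p.isPrime.mul_le.1 hp1).elim id id
  · rw [Ideal.ofList, Ideal.span_le]
    intro y hy
    rcases List.mem_cons.1 hy with rfl | hy
    · exact (p.isPrime.mem_or_mem hp2).elim id id
    · exact (p.isPrime.mem_or_mem (hp3 (mem_ofList_map_sq hy))).elim id id

/-- **Koszul dévissage.** -/
theorem finite_HDT_of_annihilated (r : ℕ) : ∀ (l : List A) (_ : l.length = r) (K : Dual.D A) (a : ℤ)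
    (_ : K.IsGE a)
    (_ : ∀ j, Module.Finite A (Dual.HD A K j)) (n : ℤ) (J : Ideal A)
    (_ : ∀ j, ∀ b ∈ J, ∀ x : Dual.HD A K j, b • x = 0)
    (_ : PrimeSpectrum.zeroLocus ((J ⊔ Ideal.ofList l : Ideal A) : Set A) ⊆ T)
    (_ : ∀ x ∈ l, ∀ i ≤ n, ∀ y : Dual2.HDT A T K i, x • y = 0),
    Module.Finite A (Dual2.HDT A T K n) := by
  induction r with
  | zero =>
    intro l hl K a hK hfin n J hJ hV _
    obtain rfl := List.length_eq_zero_iff.1 hl
    refine finite_HDT_of_torsion T (n - a + 1).toNat a K hK hfin ?_ n (by omega)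
    intro j x
    refine mem_gam_of x J ?_ (fun b hb => hJ j b hb x)
    simpa using hV
  | succ r ih =>
    intro l hl K a hK hfin n J hJ hV hkill
    obtain ⟨x, l, rfl⟩ : ∃ x l', l = x :: l' := by
      cases l with
      | nil => simp at hl
      | cons x l' => exact ⟨x, l', rfl⟩
    obtain ⟨C, g, h, hT⟩ := exists_cone x K
    have hC : Module.Finite A (Dual2.HDT A T C (n - 1)) := by
      refine ih (l.map (fun z => z * z)) (by simpa using hl) C (a - 1) (cone_isGE hT)
        (cone_finite hT hfin) (n - 1) (J * J ⊔ Ideal.span {x * x}) ?_ (zeroLocus_step T hV) ?_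
      · intro j b hb y
        have : J * J ⊔ Ideal.span {x * x} ≤ Ideal.torsionOf A (Dual.HD A C j) y := by
          refine sup_le ?_ ?_
          · rw [Ideal.mul_le]
            intro b hb c hc
            rw [Ideal.mem_torsionOf_iff]
            exact cone_killed hT j b c (hJ j b hb) (hJ (j + 1) c hc) y
          · rw [Ideal.span_singleton_le_iff_mem, Ideal.mem_torsionOf_iff]
            exact cone_killed_sq hT j y
        exact this hb
      · intro z hz i hi y
        obtain ⟨z, hz', rfl⟩ := List.mem_map.1 hz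
        exact cone_HDT_killed T hT i z z (hkill z (List.mem_cons_of_mem _ hz') i (by omega))
          (hkill z (List.mem_cons_of_mem _ hz') (i + 1) (by omega)) y
    have hs := cone_HDT_surjective T hT (n - 1) (fun y =>
      hkill x (List.mem_cons_self ..) (n - 1 + 1) (by omega) y)
    have h1 : Module.Finite A (Dual2.HDT A T K (n - 1 + 1)) :=
      @Module.Finite.of_surjective A _ _ _ _ _ _ _ _ _ _ hC _ hs
    have e : n - 1 + 1 = n := by omega
    rw [e] at h1
    exact h1

/-- The implication annihilated ⇒ finite. -/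
theorem finite_of_killed (K : Dual.D A) (a : ℤ) (hK : K.IsGE a)
    (hfin : ∀ j, Module.Finite A (Dual.HD A K j)) (n : ℤ) (J : Ideal A)
    (hV : PrimeSpectrum.zeroLocus (J : Set A) ⊆ T)
    (hkill : ∀ i ≤ n, ∀ x ∈ J, ∀ y : Dual2.HDT A T K i, x • y = 0) (i : ℤ) (hi : i ≤ n) :
    Module.Finite A (Dual2.HDT A T K i) := by
  obtain ⟨s, hs⟩ : J.FG := IsNoetherian.noetherian J
  have hl : Ideal.ofList s.toList = J := by
    rw [← hs, Ideal.ofList]
    congr 1
    ext x
    simp
  refine finite_HDT_of_annihilated T _ s.toList rfl K a hK hfin i ⊥ ?_ ?_ ?_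
  · intro j b hb x
    rw [(Submodule.mem_bot A).1 hb, zero_smul]
  · rw [bot_sup_eq, hl]
    exact hV
  · intro x hx i' hi' y
    refine hkill i' (hi'.trans hi) x ?_ y
    rw [← hl]
    exact Ideal.subset_span hx

/-- A finite module all of whose elements are killed by members of the family. -/
theorem exists_ideal_of_finite (K : Dual.D A) (i : ℤ) [Module.Finite A (Dual2.HDT A T K i)] :
    ∃ J : Ideal A, PrimeSpectrum.zeroLocus (J : Set A) ⊆ T ∧
      ∀ x ∈ J, ∀ y : Dual2.HDT A T K i, x • y = 0 := by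
  obtain ⟨s, hs⟩ := (inferInstance : Module.Finite A (Dual2.HDT A T K i)).fg_top
  have key : ∀ s : Finset (Dual2.HDT A T K i), ∃ J : Ideal A,
      PrimeSpectrum.zeroLocus (J : Set A) ⊆ T ∧ ∀ x ∈ J, ∀ y ∈ s, x • y = 0 := by
    classical
    intro s
    induction s using Finset.induction_on with
    | empty => exact ⟨⊤, zeroLocus_top_subset, fun _ _ _ h => absurd h (Finset.notMem_empty _)⟩
    | insert y s _ ih =>
      obtain ⟨J, hJ, h⟩ := ih
      obtain ⟨J', hJ', h'⟩ := exists_killing T y
      refine ⟨J ⊓ J', zeroLocus_inf_subset hJ hJ', ?_⟩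
      intro x hx z hz
      rcases Finset.mem_insert.1 hz with rfl | hz
      · exact h' x hx.2
      · exact h x hx.1 z hz
  obtain ⟨J, hJ, h⟩ := key s
  refine ⟨J, hJ, ?_⟩
  intro x hx y
  have hy : y ∈ Submodule.span A (s : Set (Dual2.HDT A T K i)) := by rw [hs]; trivial
  induction hy using Submodule.span_induction with
  | mem y hy => exact h x hx y hy
  | zero => exact smul_zero _
  | add y z _ _ h1 h2 => rw [smul_add, h1, h2, add_zero]
  | smul a y _ h1 => rw [smul_comm, h1, smul_zero]

/-- The implication finite ⇒ annihilated. -/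
theorem killed_of_finite (K : Dual.D A) (a : ℤ) (hK : K.IsGE a) (n : ℤ)
    (hfin : ∀ i ≤ n, Module.Finite A (Dual2.HDT A T K i)) :
    ∃ J : Ideal A, PrimeSpectrum.zeroLocus (J : Set A) ⊆ T ∧
      ∀ i ≤ n, ∀ x ∈ J, ∀ y : Dual2.HDT A T K i, x • y = 0 := by
  have key : ∀ m : ℕ, (a + m ≤ n + 1) → ∃ J : Ideal A, PrimeSpectrum.zeroLocus (J : Set A) ⊆ T ∧
      ∀ i < a + m, ∀ x ∈ J, ∀ y : Dual2.HDT A T K i, x • y = 0 := by
    intro m
    induction m with
    | zero =>
      intro _
      refine ⟨⊤, zeroLocus_top_subset, ?_⟩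
      intro i hi x _ y
      have := HDT_of_lt T (K := K) (a := a) (i := i) (by simpa using hi)
      exact Subsingleton.elim _ _
    | succ m ih =>
      intro hm
      obtain ⟨J, hJ, h⟩ := ih (by push_cast at hm; omega)
      have := hfin (a + m) (by push_cast at hm; omega)
      obtain ⟨J', hJ', h'⟩ := exists_ideal_of_finite T K (a + m)
      refine ⟨J ⊓ J', zeroLocus_inf_subset hJ hJ', ?_⟩
      intro i hi x hx y
      rcases lt_or_eq_of_le (show i ≤ a + m by push_cast at hi; omega) with hi' | rfl
      · exact h i hi' x hx.1 y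
      · exact h' x hx.2 y
  by_cases hn : a ≤ n
  · obtain ⟨J, hJ, h⟩ := key (n + 1 - a).toNat (by omega)
    exact ⟨J, hJ, fun i hi x hx y => h i (by omega) x hx y⟩
  · refine ⟨⊤, zeroLocus_top_subset, ?_⟩
    intro i hi x _ y
    have := HDT_of_lt T (K := K) (a := a) (i := i) (by omega)
    exact Subsingleton.elim _ _

end Groth.Agent.LoccohA.LCTFin
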