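import Mathlib.RingTheory.Ideal.AssociatedPrime.Basic
import Mathlib.LinearAlgebra.LinearIndependent.Lemmas
import Mathlib.Algebra.Module.Torsion.Basic
import Mathlib.RingTheory.Finiteness.Basic
import Mathlib.LinearAlgebra.Pi

/-!
# Dévissage along associated primes

`devissage`: over a Noetherian ring `A`, a property of modules which passes to submodules (of
finite modules), is stable under extensions and holds for `0` and for `A/p` for all `p ∈ Ass M`
holds for the finite module `M`.
-/

set_option autoImplicit false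

universe u v

namespace Groth.Agent.LoccohA.AssDevissage

open Submodule

/-- A finite torsion-free `A/p`-module embeds in a finite free `A/p`-module. -/
theorem exists_injective_pi {A : Type u} [CommRing A] (p : Ideal A) [hp : p.IsPrime]
    {T : Type v} [AddCommGroup T] [Module A T] [Module.Finite A T]
    (h1 : ∀ a ∈ p, ∀ x : T, a • x = 0) (h2 : ∀ a : A, a ∉ p → ∀ x : T, a • x = 0 → x = 0) :
    ∃ (n : ℕ) (g : T →ₗ[A] (Fin n → A ⧸ p)), Function.Injective g := by
  classical
  have htors : Module.IsTorsionBySet A T (p : Set A) := fun x a => h1 a.1 a.2 x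
  let _ : Module (A ⧸ p) T := htors.module
  have hmk : ∀ (a : A) (x : T), (Ideal.Quotient.mk p a) • x = a • x := fun a x => rfl
  have : IsScalarTower A (A ⧸ p) T := ⟨fun a b x => by
    obtain ⟨b, rfl⟩ := Ideal.Quotient.mk_surjective b
    change (Ideal.Quotient.mk p (a * b)) • x = a • (Ideal.Quotient.mk p b • x)
    rw [hmk, hmk, mul_smul]⟩
  have hD : ∀ (d : A ⧸ p), d ≠ 0 → ∀ x : T, d • x = 0 → x = 0 := by
    intro d hd x hx
    obtain ⟨a, rfl⟩ := Ideal.Quotient.mk_surjective d
    refine h2 a (fun ha => hd (Ideal.Quotient.eq_zero_iff_mem.mpr ha)) x ?_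
    rwa [hmk] at hx
  have : Module.Finite (A ⧸ p) T := Module.Finite.of_restrictScalars_finite A _ _
  obtain ⟨m, v, hv⟩ := Module.Finite.exists_fin (R := A ⧸ p) (M := T)
  obtain ⟨s, hs, hs'⟩ := exists_maximal_linearIndepOn (A ⧸ p) v
  -- common denominator
  have h3 : ∀ i : Fin m, ∃ a : A ⧸ p, a ≠ 0 ∧ a • v i ∈ span (A ⧸ p) (v '' s) := by
    intro i
    by_cases hi : i ∈ s
    · exact ⟨1, one_ne_zero, by rw [one_smul]; exact subset_span ⟨i, hi, rfl⟩⟩
    · exact hs' i hi
  choose a ha ha' using h3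
  let d : A ⧸ p := ∏ i, a i
  have hd : d ≠ 0 := Finset.prod_ne_zero_iff.mpr fun i _ => ha i
  have hdx : ∀ x : T, d • x ∈ span (A ⧸ p) (v '' s) := by
    intro x
    have hx : x ∈ span (A ⧸ p) (Set.range v) := by rw [hv]; trivial
    induction hx using Submodule.span_induction with
    | mem x hx =>
      obtain ⟨i, rfl⟩ := hx
      change (∏ i, a i) • v i ∈ _
      rw [← Finset.prod_erase_mul _ _ (Finset.mem_univ i), mul_smul]
      exact Submodule.smul_mem _ _ (ha' i)
    | zero => simp
    | add x y _ _ hx hy => rw [smul_add]; exact add_mem hx hy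
    | smul c x _ hx => rw [smul_comm]; exact Submodule.smul_mem _ _ hx
  have hspan : span (A ⧸ p) (v '' s) = span (A ⧸ p) (Set.range fun i : s => v i) := by
    congr 1
    ext x
    simp
  have hdx' : ∀ x : T, d • x ∈ span (A ⧸ p) (Set.range fun i : s => v i) := fun x => hspan ▸ hdx x
  let g1 : T →ₗ[A ⧸ p] span (A ⧸ p) (Set.range fun i : s => v i) :=
    LinearMap.codRestrict _ (d • LinearMap.id) hdx'
  have hg1 : Function.Injective g1 := by
    rw [injective_iff_map_eq_zero]
    intro x hx
    refine hD d hd x ?_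
    exact congrArg Subtype.val hx
  have hli : LinearIndependent (A ⧸ p) (fun i : s => v i) := hs
  let e : (s →₀ (A ⧸ p)) ≃ₗ[A ⧸ p] span (A ⧸ p) (Set.range fun i : s => v i) :=
    hli.linearCombinationEquiv
  let e2 : (s →₀ (A ⧸ p)) ≃ₗ[A ⧸ p] (s → (A ⧸ p)) := Finsupp.linearEquivFunOnFinite _ _ _
  let e3 : (s → (A ⧸ p)) ≃ₗ[A ⧸ p] (Fin (Fintype.card s) → (A ⧸ p)) :=
    LinearEquiv.funCongrLeft _ _ (Fintype.equivFin s).symm
  let g : T →ₗ[A ⧸ p] (Fin (Fintype.card s) → (A ⧸ p)) :=
    e3.toLinearMap ∘ₗ e2.toLinearMap ∘ₗ e.symm.toLinearMap ∘ₗ g1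
  exact ⟨Fintype.card s, g.restrictScalars A,
    e3.injective.comp (e2.injective.comp (e.symm.injective.comp hg1))⟩

section

variable {A : Type u} [CommRing A] (X : Type v) [AddCommGroup X] [Module A X]

/-- `X[p]` -/
def tors (p : Ideal A) : Submodule A X where
  carrier := {x | ∀ a ∈ p, a • x = 0}
  zero_mem' := fun a _ => smul_zero a
  add_mem' := fun hx hy a ha => by rw [smul_add, hx a ha, hy a ha, add_zero]
  smul_mem' := fun c x hx a ha => by rw [smul_comm, hx a ha, smul_zero]

theorem mem_tors (p : Ideal A) (x : X) : x ∈ tors X p ↔ ∀ a ∈ p, a • x = 0 := Iff.rfl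

variable [IsNoetherianRing A]

/-- `Ass (X / X[p]) ⊆ Ass X`. -/
theorem associatedPrimes_quotient_tors (p : Ideal A) :
    associatedPrimes A (X ⧸ tors X p) ⊆ associatedPrimes A X := by
  classical
  intro P hP
  rw [AssociatedPrimes.mem_iff, isAssociatedPrime_iff] at hP ⊢
  obtain ⟨hPp, y, hy⟩ := hP
  obtain ⟨x, rfl⟩ := (tors X p).mkQ_surjective y
  refine ⟨hPp, ?_⟩
  obtain ⟨s, hs⟩ := IsNoetherian.noetherian p
  have h1 : P = s.inf fun a => (⊥ : Submodule A X).colon {a • x} := by
    rw [hy]
    ext b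
    rw [mem_colon_singleton, mem_bot, ← map_smul, mkQ_apply, Quotient.mk_eq_zero, mem_tors,
      Submodule.mem_finsetInf]
    constructor
    · intro h a ha
      rw [mem_colon_singleton, mem_bot, smul_comm]
      exact h a (hs ▸ subset_span ha)
    · intro h a ha
      rw [← hs] at ha
      induction ha using Submodule.span_induction with
      | mem a ha =>
        have := h a ha
        rwa [mem_colon_singleton, mem_bot, smul_comm] at this
      | zero => simp
      | add a a' _ _ h h' => rw [add_smul, h, h', add_zero]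
      | smul c a _ h => rw [smul_assoc, h, smul_zero]
  have h2 : ∃ a ∈ s, (⊥ : Submodule A X).colon {a • x} ≤ P := by
    apply (Ideal.IsPrime.inf_le' hPp).mp
    exact le_of_eq h1.symm
  obtain ⟨a, ha, haP⟩ := h2
  refine ⟨a • x, le_antisymm ?_ haP⟩
  conv_lhs => rw [h1]
  exact Finset.inf_le ha

end

/-- Dévissage along associated primes. -/
theorem devissage {A : Type u} [CommRing A] [IsNoetherianRing A]
    (P : ∀ (M : Type u) [AddCommGroup M] [Module A M], Prop)
    (h0 : ∀ (M : Type u) [AddCommGroup M] [Module A M], Subsingleton M → P M)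
    (hsub : ∀ (M N : Type u) [AddCommGroup M] [Module A M] [AddCommGroup N] [Module A N]
      [Module.Finite A N] (f : M →ₗ[A] N), Function.Injective f → P N → P M)
    (hext : ∀ (M₁ M₂ M₃ : Type u) [AddCommGroup M₁] [Module A M₁] [AddCommGroup M₂] [Module A M₂]
      [AddCommGroup M₃] [Module A M₃] [Module.Finite A M₂] (f : M₁ →ₗ[A] M₂) (g : M₂ →ₗ[A] M₃),
      Function.Injective f → Function.Exact f g → Function.Surjective g → P M₁ → P M₃ → P M₂)
    (M : Type u) [AddCommGroup M] [Module A M] [Module.Finite A M]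
    (hM : ∀ p ∈ associatedPrimes A M, P (A ⧸ p)) : P M := by
  classical
  have hpi : ∀ (p : Ideal A), P (A ⧸ p) → ∀ n : ℕ, P (Fin n → A ⧸ p) := by
    intro p hp n
    induction n with
    | zero => exact h0 _ inferInstance
    | succ n ih =>
      refine hext (A ⧸ p) (Fin (n + 1) → A ⧸ p) (Fin n → A ⧸ p)
        (LinearMap.single A (fun _ => A ⧸ p) 0) (LinearMap.funLeft A (A ⧸ p) Fin.succ) ?_ ?_ ?_ hp ih
      · exact Pi.single_injective (M := fun _ : Fin (n + 1) => A ⧸ p) 0
      · intro x
        constructor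
        · intro hx
          refine ⟨x 0, ?_⟩
          ext i
          refine Fin.cases ?_ (fun j => ?_) i
          · simp
          · have := congrFun hx j
            simp only [LinearMap.funLeft_apply, Pi.zero_apply] at this
            rw [this]
            simp
        · rintro ⟨y, rfl⟩
          ext j
          simp [LinearMap.funLeft_apply]
      · exact LinearMap.funLeft_surjective_of_injective _ _ _ (Fin.succ_injective n)
  obtain ⟨N, ⟨hN1, hN2⟩, hN3⟩ := set_has_maximal_iff_noetherian.mpr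
    (inferInstance : IsNoetherian A M)
    {N : Submodule A M | P N ∧ associatedPrimes A (M ⧸ N) ⊆ associatedPrimes A M}
    ⟨⊥, h0 _ inferInstance,
      (LinearEquiv.AssociatedPrimes.eq (Submodule.quotEquivOfEqBot ⊥ rfl)).le⟩
  by_cases hNtop : N = ⊤
  · subst hNtop
    exact hsub M (⊤ : Submodule A M) Submodule.topEquiv.symm.toLinearMap
      Submodule.topEquiv.symm.injective hN1
  exfalso
  have hnt : Nontrivial (M ⧸ N) := Submodule.Quotient.nontrivial_iff.mpr hNtop
  obtain ⟨p, hp, hpmax⟩ : ∃ p : Ideal A, p ∈ associatedPrimes A (M ⧸ N) ∧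
      ∀ q ∈ associatedPrimes A (M ⧸ N), ¬ p < q :=
    set_has_maximal_iff_noetherian.mpr
      (inferInstance : IsNoetherian A A) (associatedPrimes A (M ⧸ N))
      (associatedPrimes.nonempty A (M ⧸ N))
  have hpp : p.IsPrime := hp.isPrime
  set X := M ⧸ N
  set T := tors X p
  -- `P T`
  have hT2 : ∀ a : A, a ∉ p → ∀ x : T, a • x = 0 → x = 0 := by
    intro a ha x hx
    by_contra hx0
    obtain ⟨q, hq, hxq⟩ := exists_le_isAssociatedPrime_of_isNoetherianRing A x hx0
    have hq' : q ∈ associatedPrimes A X :=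
      associatedPrimes.subset_of_injective (f := T.subtype) Subtype.val_injective hq
    have hpq : p ≤ q := by
      intro b hb
      apply hxq
      rw [mem_colon_singleton, mem_bot]
      exact Subtype.ext (x.2 b hb)
    have haq : a ∈ q := by
      apply hxq
      rw [mem_colon_singleton, mem_bot]
      exact hx
    exact hpmax q hq' (lt_of_le_of_ne hpq (fun h => ha (h ▸ haq)))
  obtain ⟨n, g, hg⟩ := exists_injective_pi p (T := T)
    (fun a ha x => Subtype.ext (x.2 a ha)) hT2
  have hPT : P T := hsub T _ g hg (hpi p (hM p (hN2 hp)) n)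
  -- `T ≠ 0`
  have hTne : T ≠ ⊥ := by
    intro hT
    rw [AssociatedPrimes.mem_iff, isAssociatedPrime_iff] at hp
    obtain ⟨-, x, hx⟩ := hp
    have h1 : x ∈ T := by
      intro a ha
      rw [hx, mem_colon_singleton, mem_bot] at ha
      exact ha
    rw [hT, mem_bot] at h1
    apply hpp.ne_top
    rw [hx, h1]
    ext a
    simp
  let N' : Submodule A M := T.comap N.mkQ
  have hNN' : N < N' := by
    refine lt_of_le_of_ne (fun x hx => ?_) (fun h => hTne ?_)
    · change N.mkQ x ∈ T
      rw [mkQ_apply, (Quotient.mk_eq_zero N).mpr hx]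
      exact zero_mem _
    · rw [eq_bot_iff]
      intro y hy
      obtain ⟨x, rfl⟩ := N.mkQ_surjective y
      have h1 : x ∈ N' := hy
      rw [← h] at h1
      rw [mem_bot, mkQ_apply, Quotient.mk_eq_zero]
      exact h1
  refine hN3 N' ⟨?_, ?_⟩ hNN'
  · -- `P N'`
    let f : N →ₗ[A] N' := Submodule.inclusion hNN'.le
    let g : N' →ₗ[A] T := (N.mkQ ∘ₗ N'.subtype).codRestrict T (fun x => x.2)
    refine hext N N' T f g (Submodule.inclusion_injective _) ?_ ?_ hN1 hPT
    · intro x
      constructor
      · intro hx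
        have h1 : N.mkQ x.1 = 0 := congrArg Subtype.val hx
        rw [mkQ_apply, Quotient.mk_eq_zero] at h1
        exact ⟨⟨x.1, h1⟩, rfl⟩
      · rintro ⟨y, rfl⟩
        apply Subtype.ext
        change N.mkQ y.1 = 0
        rw [mkQ_apply, Quotient.mk_eq_zero]
        exact y.2
    · rintro ⟨y, hy⟩
      obtain ⟨x, rfl⟩ := N.mkQ_surjective y
      exact ⟨⟨x, hy⟩, rfl⟩
  · -- `Ass (M / N') ⊆ Ass M`
    let φ : M →ₗ[A] X ⧸ T := T.mkQ ∘ₗ N.mkQ
    have hφ : Function.Surjective φ := T.mkQ_surjective.comp N.mkQ_surjective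
    have hker : LinearMap.ker φ = N' := by
      rw [LinearMap.ker_comp, ker_mkQ]
    have e : (M ⧸ N') ≃ₗ[A] X ⧸ T :=
      (Submodule.quotEquivOfEq _ _ hker.symm).trans (φ.quotKerEquivOfSurjective hφ)
    rw [LinearEquiv.AssociatedPrimes.eq e]
    exact (associatedPrimes_quotient_tors X p).trans hN2

end Groth.Agent.LoccohA.AssDevissage
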