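import Mathlib.RingTheory.AdicCompletion.Noetherian
import Mathlib.RingTheory.AdicCompletion.Topology
import Mathlib.RingTheory.HopkinsLevitzki
import Mathlib.Algebra.Module.Torsion.Basic

/-!
# Chevalley's theorem on decreasing sequences of submodules

`chevalley`: over a Noetherian ring `R`, with `I` in the Jacobson radical, `M` a finite `I`-adically
complete module with all `M / I^n M` Artinian, a decreasing sequence of submodules with zero
intersection is eventually contained in any `I^k M`.
-/

set_option autoImplicit false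

namespace Groth.Agent.LoccohA.ChevalleyAdic

open IsLocalRing

section Closed

variable {R : Type*} [CommRing R] [IsNoetherianRing R] (I : Ideal R)
  {M : Type*} [AddCommGroup M] [Module R M] [Module.Finite R M]

/-- Submodules of a finite module are closed for the `I`-adic topology, `I` in the Jacobson
radical of a Noetherian ring. -/
theorem mem_of_forall_mem_sup_pow (h : I ≤ Ideal.jacobson ⊥) (N : Submodule R M) (x : M)
    (hx : ∀ j : ℕ, x ∈ N ⊔ I ^ j • (⊤ : Submodule R M)) : x ∈ N := by
  have hH := IsHausdorff.of_le_jacobson I (M ⧸ N) h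
  have : N.mkQ x = 0 := by
    refine hH.haus _ fun n => ?_
    rw [SModEq.zero]
    have h1 : N.mkQ x ∈ Submodule.map N.mkQ (N ⊔ I ^ n • (⊤ : Submodule R M)) :=
      Submodule.mem_map_of_mem (hx n)
    rw [Submodule.map_sup, Submodule.map_smul'', Submodule.map_top, Submodule.range_mkQ] at h1
    simpa using h1
  simpa using this

end Closed

theorem chevalley {R : Type*} [CommRing R] [IsNoetherianRing R] (I : Ideal R)
    (h : I ≤ Ideal.jacobson ⊥)
    {M : Type*} [AddCommGroup M] [Module R M] [Module.Finite R M] [IsPrecomplete I M]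
    (hart : ∀ n : ℕ, IsArtinian R (M ⧸ (I ^ n • ⊤ : Submodule R M)))
    (J : ℕ → Submodule R M) (hJ : Antitone J) (hbot : ⨅ n, J n = ⊥) (k : ℕ) :
    ∃ n, J n ≤ I ^ k • (⊤ : Submodule R M) := by
  classical
  -- stabilization
  have stab : ∀ j : ℕ, ∃ N, ∀ n, N ≤ n →
      J n ⊔ I ^ j • (⊤ : Submodule R M) = J N ⊔ I ^ j • (⊤ : Submodule R M) := by
    intro j
    have := hart j
    let F : ℕ →o (Submodule R (M ⧸ (I ^ j • ⊤ : Submodule R M)))ᵒᵈ :=
      ⟨fun n => OrderDual.toDual (Submodule.map (Submodule.mkQ _) (J n)), fun a b hab =>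
        Submodule.map_mono (hJ hab)⟩
    obtain ⟨N, hN⟩ := IsArtinian.monotone_stabilizes F
    refine ⟨N, fun n hn => ?_⟩
    have h1 : Submodule.map (Submodule.mkQ (I ^ j • ⊤ : Submodule R M)) (J N) =
        Submodule.map (Submodule.mkQ (I ^ j • ⊤ : Submodule R M)) (J n) := hN n hn
    have h2 := congrArg (Submodule.comap (Submodule.mkQ (I ^ j • ⊤ : Submodule R M))) h1
    rw [Submodule.comap_map_mkQ, Submodule.comap_map_mkQ] at h2
    rw [sup_comm, ← h2, sup_comm]
  choose N hN using stab
  let L : ℕ → Submodule R M := fun j => J (N j) ⊔ I ^ j • (⊤ : Submodule R M)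
  have hL : ∀ j n, L j ≤ J n ⊔ I ^ j • (⊤ : Submodule R M) := by
    intro j n
    rcases le_total (N j) n with h1 | h1
    · rw [hN j n h1]
    · exact sup_le_sup_right (hJ h1) _
  have hL' : ∀ j n, N j ≤ n → L j = J n ⊔ I ^ j • (⊤ : Submodule R M) := fun j n hn =>
    (hN j n hn).symm
  have step : ∀ j, ∀ x ∈ L j, ∃ y ∈ L (j + 1), y - x ∈ I ^ j • (⊤ : Submodule R M) := by
    intro j x hx
    rw [hL' j (max (N j) (N (j + 1))) (le_max_left _ _)] at hx
    obtain ⟨a, ha, b, hb, rfl⟩ := Submodule.mem_sup.mp hx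
    refine ⟨a, ?_, ?_⟩
    · rw [hL' (j + 1) (max (N j) (N (j + 1))) (le_max_right _ _)]
      exact Submodule.mem_sup_left ha
    · have : a - (a + b) = -b := by abel
      rw [this]
      exact Submodule.neg_mem _ hb
  by_contra hcon
  push Not at hcon
  obtain ⟨x0, hx0, hx0'⟩ := SetLike.not_le_iff_exists.mp (hcon (N k))
  -- the sequence
  let f : (j : ℕ) → {x : M // x ∈ L (k + j)} := fun j =>
    Nat.rec (motive := fun j => {x : M // x ∈ L (k + j)})
      ⟨x0, Submodule.mem_sup_left hx0⟩
      (fun j x => ⟨(step (k + j) x.1 x.2).choose, (step (k + j) x.1 x.2).choose_spec.1⟩) j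
  have hf0 : (f 0).1 = x0 := rfl
  have hf : ∀ j, (f (j + 1)).1 - (f j).1 ∈ I ^ (k + j) • (⊤ : Submodule R M) := fun j =>
    (step (k + j) (f j).1 (f j).2).choose_spec.2
  have hf' : ∀ j m, (f (j + m)).1 - (f j).1 ∈ I ^ (k + j) • (⊤ : Submodule R M) := by
    intro j m
    induction m with
    | zero => simp
    | succ m ih =>
      have h1 := hf (j + m)
      have h2 : I ^ (k + (j + m)) • (⊤ : Submodule R M) ≤ I ^ (k + j) • (⊤ : Submodule R M) :=
        Submodule.smul_mono_left (Ideal.pow_le_pow_right (by omega))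
      have h3 := Submodule.add_mem _ (h2 h1) ih
      have h4 : (f (j + (m + 1))).1 - (f j).1 =
          ((f (j + m + 1)).1 - (f (j + m)).1) + ((f (j + m)).1 - (f j).1) := by
        have : j + (m + 1) = j + m + 1 := by omega
        rw [this]; abel
      rw [h4]
      exact h3
  have hle : ∀ a b : ℕ, a ≤ b →
      I ^ b • (⊤ : Submodule R M) ≤ I ^ a • (⊤ : Submodule R M) := fun a b hab =>
    Submodule.smul_mono_left (Ideal.pow_le_pow_right hab)
  obtain ⟨l, hl⟩ := IsPrecomplete.prec (I := I) (M := M) inferInstance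
    (f := fun j => (f j).1) (by
      intro m n hmn
      obtain ⟨c, rfl⟩ := Nat.exists_eq_add_of_le hmn
      rw [SModEq.sub_mem]
      have h1 := hle m (k + m) (by omega) (hf' m c)
      have h2 : (f m).1 - (f (m + c)).1 = -((f (m + c)).1 - (f m).1) := by abel
      rw [h2]
      exact Submodule.neg_mem _ h1)
  have hl' : ∀ j, l - (f j).1 ∈ I ^ (k + j) • (⊤ : Submodule R M) := by
    intro j
    have h1 := hl (k + j)
    rw [SModEq.sub_mem] at h1
    have h2 := hf' j k
    have h3 : l - (f j).1 = -((f (k + j)).1 - l) + ((f (j + k)).1 - (f j).1) := by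
      rw [add_comm j k]; abel
    rw [h3]
    exact Submodule.add_mem _ (Submodule.neg_mem _ h1) h2
  have hlmem : ∀ n, l ∈ J n := by
    intro n
    apply mem_of_forall_mem_sup_pow I h
    intro j
    have h1 : (f j).1 ∈ J n ⊔ I ^ (k + j) • (⊤ : Submodule R M) := hL _ _ (f j).2
    have h2 : l = (f j).1 + (l - (f j).1) := by abel
    have h3 : l ∈ J n ⊔ I ^ (k + j) • (⊤ : Submodule R M) := by
      rw [h2]
      exact Submodule.add_mem _ h1 (Submodule.mem_sup_right (hl' j))
    exact (sup_le_sup_left (hle j (k + j) (by omega)) _) h3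
  have hl0 : l = 0 := by
    have : l ∈ (⨅ n, J n) := (Submodule.mem_iInf _).mpr hlmem
    rw [hbot] at this
    simpa using this
  apply hx0'
  have h5 := hl' 0
  rw [hl0, hf0, zero_sub, add_zero] at h5
  simpa using Submodule.neg_mem _ h5

theorem isArtinianRing_quotient_pow {R : Type*} [CommRing R] [IsNoetherianRing R] (I : Ideal R)
    [IsArtinianRing (R ⧸ I)] (n : ℕ) : IsArtinianRing (R ⧸ I ^ n) := by
  rw [isArtinianRing_iff_isNoetherianRing_krullDimLE_zero]
  refine ⟨isNoetherianRing_of_surjective _ _ (Ideal.Quotient.mk _) Ideal.Quotient.mk_surjective, Ring.KrullDimLE.mk₀ fun p hp => ?_⟩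
  have h1 : (p.comap (Ideal.Quotient.mk (I ^ n))).IsPrime := inferInstance
  have h2 : I ^ n ≤ p.comap (Ideal.Quotient.mk (I ^ n)) := by
    intro x hx
    rw [Ideal.mem_comap, Ideal.Quotient.eq_zero_iff_mem.mpr hx]
    exact zero_mem _
  have h3 : I ≤ p.comap (Ideal.Quotient.mk (I ^ n)) := Ideal.IsPrime.le_of_pow_le h2
  have h4 : ((p.comap (Ideal.Quotient.mk (I ^ n))).map (Ideal.Quotient.mk I)).IsPrime :=
    Ideal.map_isPrime_of_surjective Ideal.Quotient.mk_surjective (by simpa using h3)
  have h5 : ((p.comap (Ideal.Quotient.mk (I ^ n))).map (Ideal.Quotient.mk I)).IsMaximal :=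
    Ideal.isMaximal_of_isPrime _
  have h6 : (p.comap (Ideal.Quotient.mk (I ^ n))).IsMaximal := by
    have h7 := Ideal.comap_isMaximal_of_surjective (Ideal.Quotient.mk I)
      Ideal.Quotient.mk_surjective
      (K := (p.comap (Ideal.Quotient.mk (I ^ n))).map (Ideal.Quotient.mk I))
    rwa [Ideal.comap_map_of_surjective' _ Ideal.Quotient.mk_surjective, Ideal.mk_ker,
      sup_eq_left.mpr h3] at h7
  have h8 := Ideal.map_eq_top_or_isMaximal_of_surjective (Ideal.Quotient.mk (I ^ n))
    Ideal.Quotient.mk_surjective h6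
  rw [Ideal.map_comap_of_surjective _ Ideal.Quotient.mk_surjective] at h8
  exact h8.resolve_left hp.ne_top

theorem isArtinian_quotient_pow_smul {R : Type*} [CommRing R] [IsNoetherianRing R] (I : Ideal R)
    [IsArtinianRing (R ⧸ I)] {M : Type*} [AddCommGroup M] [Module R M] [Module.Finite R M]
    (n : ℕ) : IsArtinian R (M ⧸ (I ^ n • ⊤ : Submodule R M)) := by
  have := isArtinianRing_quotient_pow I n
  have h1 : Module.Finite (R ⧸ I ^ n) (M ⧸ (I ^ n • ⊤ : Submodule R M)) :=
    Module.Finite.of_restrictScalars_finite R _ _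
  exact isArtinian_of_surjective_algebraMap (R := R ⧸ I ^ n) (S := R)
    Ideal.Quotient.mk_surjective

/-- Chevalley's theorem for ideals in a complete Noetherian local ring. -/
theorem chevalley_local {R : Type*} [CommRing R] [IsNoetherianRing R] [IsLocalRing R]
    [IsPrecomplete (maximalIdeal R) R]
    (J : ℕ → Ideal R) (hJ : Antitone J) (hbot : ⨅ n, J n = ⊥) (k : ℕ) :
    ∃ n, J n ≤ maximalIdeal R ^ k := by
  have : IsArtinianRing (R ⧸ maximalIdeal R) := by
    let _ := Ideal.Quotient.field (maximalIdeal R)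
    infer_instance
  obtain ⟨n, hn⟩ := chevalley (maximalIdeal R) (maximalIdeal_le_jacobson _) (M := R)
    (fun n => isArtinian_quotient_pow_smul _ n) J hJ hbot k
  exact ⟨n, by simpa using hn⟩

/-- Chevalley's theorem for submodules of a finite module over a complete Noetherian local
ring. -/
theorem chevalley_local_module {R : Type*} [CommRing R] [IsNoetherianRing R] [IsLocalRing R]
    {M : Type*} [AddCommGroup M] [Module R M] [Module.Finite R M]
    [IsPrecomplete (maximalIdeal R) M]
    (J : ℕ → Submodule R M) (hJ : Antitone J) (hbot : ⨅ n, J n = ⊥) (k : ℕ) :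
    ∃ n, J n ≤ maximalIdeal R ^ k • (⊤ : Submodule R M) := by
  have : IsArtinianRing (R ⧸ maximalIdeal R) := by
    let _ := Ideal.Quotient.field (maximalIdeal R)
    infer_instance
  exact chevalley (maximalIdeal R) (maximalIdeal_le_jacobson _)
    (fun n => isArtinian_quotient_pow_smul _ n) J hJ hbot k

end Groth.Agent.LoccohA.ChevalleyAdic
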