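import Groth.Agent.LoccohA.CplDepth
import Groth.Prelude.Def_DualLC

/-!
# The invariant `s_{A,I}(M)` and flat local maps (core of Stacks 0BJT)

* `cutoff_le`: for `A → A'` faithfully flat, `s_{A',IA'}(A' ⊗ M) ≤ s_{A,I}(M)`;
* `le_cutoff`: `min (n+1) (s_{A,I}(M)) ≤ s_{A',IA'}(A' ⊗ M)` if the local rings of the fibres satisfy the
  `(S_n)` inequality, `A'` is catenary and `dim A'/q = dim A/p` for `q` minimal over `pA'`.
-/

set_option autoImplicit false

namespace Groth.Agent.LoccohA.CplDepth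

open TensorProduct IsLocalRing Groth.Agent.Ega4A.ChainOrder Groth.Agent.Ega4A.CatenaryDim

universe u

variable (A A' : Type u) [CommRing A] [CommRing A'] [Algebra A A'] [IsNoetherianRing A]
  [IsNoetherianRing A']

theorem depth_tensor_eq [Module.Flat A A'] (M : Type u) [AddCommGroup M] [Module A M] [Module.Finite A M]
    (p : PrimeSpectrum A) (p' : PrimeSpectrum A') (h : PrimeSpectrum.comap (algebraMap A A') p' = p) :
    LocCoh.depth (Localization.AtPrime p'.asIdeal) (LocalizedModule p'.asIdeal.primeCompl (A' ⊗[A] M)) =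
      LocCoh.depth (Localization.AtPrime p.asIdeal) (LocalizedModule p.asIdeal.primeCompl M) +
      LocCoh.depth (EGA4.FibLocRing A A' p'.asIdeal) (EGA4.FibLocRing A A' p'.asIdeal) := by
  subst h
  exact depth_localized_tensor A A' M p'.asIdeal

omit [IsNoetherianRing A] in
theorem exists_dim_fib (r : Ideal A') [r.IsPrime] :
    ∃ n : ℕ, ringKrullDim (EGA4.FibLocRing A A' r) = n :=
  Groth.Agent.Ega4C.FlatLocal.exists_ringKrullDim_eq (R := EGA4.FibLocRing A A' r)

theorem exists_height (R : Type u) [CommRing R] [IsNoetherianRing R] (r : Ideal R) [r.IsPrime] :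
    ∃ n : ℕ, r.height = n := by
  obtain ⟨n, hn⟩ := ENat.ne_top_iff_exists.mp (Ideal.height_ne_top_of_isPrime (I := r))
  exact ⟨n, hn.symm⟩

theorem exists_relHt (R : Type u) [CommRing R] [IsNoetherianRing R] (p q : PrimeSpectrum R) (h : p ≤ q) :
    ∃ n : ℕ, relHt p q h = n := by
  obtain ⟨n, hn⟩ := ENat.ne_top_iff_exists.mp (relHt_ne_top p q h)
  exact ⟨n, hn.symm⟩

theorem ringKrullDim_fib_eq_zero [Module.Flat A A'] (r : Ideal A') [r.IsPrime]
    (hr : r ∈ ((r.comap (algebraMap A A')).map (algebraMap A A')).minimalPrimes) :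
    ringKrullDim (EGA4.FibLocRing A A' r) = 0 := by
  have h1 := height_eq_add_fib A A' r
  rw [height_eq_of_minimal A A' r hr] at h1
  obtain ⟨n, hn⟩ := exists_dim_fib A A' r
  obtain ⟨m, hm⟩ := exists_height A (r.comap (algebraMap A A'))
  rw [hm, hn] at h1
  rw [hn]
  norm_cast at h1 ⊢
  omega

theorem depth_fib_eq_zero [Module.Flat A A'] (r : Ideal A') [r.IsPrime]
    (hr : r ∈ ((r.comap (algebraMap A A')).map (algebraMap A A')).minimalPrimes) :
    LocCoh.depth (EGA4.FibLocRing A A' r) (EGA4.FibLocRing A A' r) = 0 := by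
  have h := Groth.Agent.Ega4C.FlatLocal.depth_le_ringKrullDim (R := EGA4.FibLocRing A A' r)
  rw [ringKrullDim_fib_eq_zero A A' r hr] at h
  have h2 : LocCoh.depth (EGA4.FibLocRing A A' r) (EGA4.FibLocRing A A' r) ≤ 0 := by
    exact_mod_cast h
  exact le_antisymm h2 zero_le

/-- for `r` minimal over `pA'` and `r ≤ p'` with `p'` over `p`: `relHt r p' ≤ dim F_{p'}`. -/
theorem relHt_le_fib [Module.Flat A A'] (r p' : PrimeSpectrum A') (h : r ≤ p')
    (hr : r.asIdeal ∈ ((p'.asIdeal.comap (algebraMap A A')).map (algebraMap A A')).minimalPrimes) :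
    ((relHt r p' h : ℕ∞) : WithBot ℕ∞) ≤ ringKrullDim (EGA4.FibLocRing A A' p'.asIdeal) := by
  have hc : r.asIdeal.comap (algebraMap A A') = p'.asIdeal.comap (algebraMap A A') :=
    le_antisymm (Ideal.comap_mono h) (Ideal.map_le_iff_le_comap.mp hr.1.2)
  have h1 := height_eq_add_fib A A' p'.asIdeal
  have h2 := height_eq_of_minimal A A' r.asIdeal (by rw [hc]; exact hr)
  have h3 := height_add_relHt_le h
  rw [← PrimeSpectrum.height_eq_orderHeight, ← PrimeSpectrum.height_eq_orderHeight, h2, hc] at h3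
  obtain ⟨n, hn⟩ := exists_dim_fib A A' p'.asIdeal
  obtain ⟨m, hm⟩ := exists_height A (p'.asIdeal.comap (algebraMap A A'))
  obtain ⟨k, hk⟩ := exists_height A' p'.asIdeal
  obtain ⟨l, hl⟩ := exists_relHt A' r p' h
  rw [hk, hm, hn] at h1
  rw [hk, hm, hl] at h3
  rw [hl, hn]
  norm_cast at h1 h3 ⊢
  omega

/-- First inequality of Stacks 0BJT (for any faithfully flat map of Noetherian rings). -/
theorem cutoff_le [Module.FaithfullyFlat A A'] (I : Ideal A) (M : Type u) [AddCommGroup M] [Module A M]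
    [Module.Finite A M] :
    Dual2.cutoff A' (I.map (algebraMap A A')) (A' ⊗[A] M) ≤ Dual2.cutoff A I M := by
  refine le_iInf fun p => le_iInf fun q => le_iInf fun hpq => le_iInf fun hIp => le_iInf fun hIq => ?_
  obtain ⟨Q', hQ'⟩ := PrimeSpectrum.comap_surjective_of_faithfullyFlat (B := A') q
  have hQ'I : Q'.asIdeal.comap (algebraMap A A') = q.asIdeal := congrArg PrimeSpectrum.asIdeal hQ'
  obtain ⟨q₁, hq₁, hq₁Q⟩ := Ideal.exists_minimalPrimes_le (I := q.asIdeal.map (algebraMap A A'))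
    (J := Q'.asIdeal) (by rw [Ideal.map_le_iff_le_comap, hQ'I])
  have hq₁p : q₁.IsPrime := hq₁.1.1
  have hq₁c : q₁.comap (algebraMap A A') = q.asIdeal :=
    le_antisymm ((Ideal.comap_mono hq₁Q).trans hQ'I.le) (Ideal.map_le_iff_le_comap.mp hq₁.1.2)
  have hq₁o : q₁.LiesOver q.asIdeal := ⟨hq₁c.symm⟩
  obtain ⟨P, hPq, hPp, hPo⟩ := Ideal.exists_ideal_le_liesOver_of_le (p := p.asIdeal) (q := q.asIdeal)
    q₁ hpq
  have hPc : P.comap (algebraMap A A') = p.asIdeal := hPo.over.symm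
  obtain ⟨p₁, hp₁, hp₁P⟩ := Ideal.exists_minimalPrimes_le (I := p.asIdeal.map (algebraMap A A'))
    (J := P) (by rw [Ideal.map_le_iff_le_comap, hPc])
  have hp₁p : p₁.IsPrime := hp₁.1.1
  have hp₁c : p₁.comap (algebraMap A A') = p.asIdeal :=
    le_antisymm ((Ideal.comap_mono hp₁P).trans hPc.le) (Ideal.map_le_iff_le_comap.mp hp₁.1.2)
  let p' : PrimeSpectrum A' := ⟨p₁, hp₁p⟩
  let q' : PrimeSpectrum A' := ⟨q₁, hq₁p⟩
  have hp'q' : p' ≤ q' := hp₁P.trans hPq
  have hIp' : ¬ I.map (algebraMap A A') ≤ p'.asIdeal := by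
    rw [Ideal.map_le_iff_le_comap]
    exact fun h => hIp (h.trans hp₁c.le)
  have hIq' : I.map (algebraMap A A') ≤ q'.asIdeal := by
    rw [Ideal.map_le_iff_le_comap]
    exact hIq.trans hq₁c.ge
  refine iInf₂_le_of_le p' q' (iInf₂_le_of_le hp'q' hIp' (iInf_le_of_le hIq' ?_))
  rw [depth_tensor_eq A A' M p p' (PrimeSpectrum.ext hp₁c), depth_fib_eq_zero A A' p'.asIdeal (by
    rw [hp₁c]; exact hp₁), add_zero]
  gcongr
  exact relHt_le_of_minimal A A' p q p' q' hpq hp'q' (PrimeSpectrum.ext hp₁c) (PrimeSpectrum.ext hq₁c) hq₁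

theorem one_le_relHt {X : Type*} [PartialOrder X] (p q : X) (h : p ≤ q) (hlt : p < q) :
    1 ≤ relHt p q h := by
  have := length_le_relHt h ((RelSeries.singleton _ p).snoc q hlt) (by simp) (by simp)
  simpa using this

/-- Second inequality of Stacks 0BJT. -/
theorem le_cutoff [IsLocalRing A] [IsLocalRing A'] [Module.Flat A A'] [IsLocalHom (algebraMap A A')]
    (hcA : CAlg.IsCatenary A) (hc : CAlg.IsCatenary A') (n : ℕ)
    (hR : ∀ (p : Ideal A) [p.IsPrime] (q : Ideal A'), q ∈ (p.map (algebraMap A A')).minimalPrimes →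
      ringKrullDim (A' ⧸ q) = ringKrullDim (A ⧸ p))
    (hd : ∀ (q : Ideal A), ringKrullDim (A' ⧸ q.map (algebraMap A A')) = ringKrullDim (A ⧸ q))
    (hS : ∀ (r : Ideal A') [r.IsPrime], min (n : WithBot ℕ∞) (ringKrullDim (EGA4.FibLocRing A A' r)) ≤
      ((LocCoh.depth (EGA4.FibLocRing A A' r) (EGA4.FibLocRing A A' r) : ℕ∞) : WithBot ℕ∞))
    (I : Ideal A) (M : Type u) [AddCommGroup M] [Module A M] [Module.Finite A M] :
    min ((n : ℕ∞) + 1) (Dual2.cutoff A I M) ≤
      Dual2.cutoff A' (I.map (algebraMap A A')) (A' ⊗[A] M) := by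
  refine le_iInf fun p' => le_iInf fun q' => le_iInf fun hpq' => le_iInf fun hIp' =>
    le_iInf fun hIq' => ?_
  let p : PrimeSpectrum A := PrimeSpectrum.comap (algebraMap A A') p'
  let q : PrimeSpectrum A := PrimeSpectrum.comap (algebraMap A A') q'
  have hpq : p ≤ q := Ideal.comap_mono hpq'
  have hIp : ¬ I ≤ p.asIdeal := fun h => hIp' (Ideal.map_le_iff_le_comap.mpr h)
  have hIq : I ≤ q.asIdeal := Ideal.map_le_iff_le_comap.mp hIq'
  have hlt : p' < q' := lt_of_le_of_ne hpq' (fun h => hIp' (h ▸ hIq'))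
  rw [depth_tensor_eq A A' M p p' rfl]
  change _ ≤ _ + _ + relHt p' q' hpq'
  have hS' := hS p'.asIdeal
  set dF := LocCoh.depth (EGA4.FibLocRing A A' p'.asIdeal) (EGA4.FibLocRing A A' p'.asIdeal) with hdF
  by_cases hn : (n : ℕ∞) ≤ dF
  · refine (min_le_left _ _).trans ?_
    calc (n : ℕ∞) + 1 ≤ dF + relHt p' q' hpq' := add_le_add hn (one_le_relHt p' q' hpq' hlt)
      _ ≤ LocCoh.depth (Localization.AtPrime p.asIdeal) (LocalizedModule p.asIdeal.primeCompl M) +
          (dF + relHt p' q' hpq') := le_add_self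
      _ = _ := (add_assoc _ _ _).symm
  · refine (min_le_right _ _).trans ?_
    have hdim : ringKrullDim (EGA4.FibLocRing A A' p'.asIdeal) ≤ ((dF : ℕ∞) : WithBot ℕ∞) := by
      rcases min_le_iff.mp hS' with h | h
      · exact absurd (by exact_mod_cast h) hn
      · exact h
    have hcut : Dual2.cutoff A I M ≤ LocCoh.depth (Localization.AtPrime p.asIdeal)
        (LocalizedModule p.asIdeal.primeCompl M) + relHt p q hpq :=
      iInf₂_le_of_le p q (iInf₂_le_of_le hpq hIp (iInf_le_of_le hIq le_rfl))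
    refine hcut.trans ?_
    rw [add_assoc]
    gcongr
    -- now relHt p q ≤ dF + relHt p' q'
    obtain ⟨r₁, hr₁, hr₁p⟩ := Ideal.exists_minimalPrimes_le (I := p.asIdeal.map (algebraMap A A'))
      (J := p'.asIdeal) (Ideal.map_le_iff_le_comap.mpr le_rfl)
    let r : PrimeSpectrum A' := ⟨r₁, hr₁.1.1⟩
    have hrp : r ≤ p' := hr₁p
    have e1 := relHt_le_fib A A' r p' hrp hr₁
    have e2 := relHt_add_relHt hc hrp hpq'
    have hq'm : q' ≤ closedPoint A' := IsLocalRing.le_maximalIdeal q'.2.ne_top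
    have hqm : q ≤ closedPoint A := IsLocalRing.le_maximalIdeal q.2.ne_top
    have e3 := relHt_add_relHt hc (hrp.trans hpq') hq'm
    have e4 := relHt_maximalIdeal r ((hrp.trans hpq').trans hq'm)
    have e5 := relHt_maximalIdeal q' hq'm
    have e6 := relHt_maximalIdeal p (hpq.trans hqm)
    have e7 := relHt_maximalIdeal q hqm
    have e8 := relHt_add_relHt hcA hpq hqm
    have e9 : ringKrullDim (A' ⧸ q'.asIdeal) ≤ ringKrullDim (A ⧸ q.asIdeal) := by
      rw [← hd q.asIdeal]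
      exact ringKrullDim_le_of_surjective (Ideal.Quotient.factor (Ideal.map_le_iff_le_comap.mpr le_rfl))
        (Ideal.Quotient.factor_surjective _)
    have e10 : ringKrullDim (A' ⧸ r.asIdeal) = ringKrullDim (A ⧸ p.asIdeal) := hR p.asIdeal r₁ hr₁
    rw [← e4, ← e6] at e10
    rw [← e5, ← e7] at e9
    have e11 := e1.trans hdim
    clear e1 hdim hcut hS' e4 e5 e6 e7
    obtain ⟨a1, ha1⟩ := exists_relHt A' r p' hrp
    obtain ⟨a2, ha2⟩ := exists_relHt A' p' q' hpq'
    obtain ⟨a3, ha3⟩ := exists_relHt A' r q' (hrp.trans hpq')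
    obtain ⟨a4, ha4⟩ := exists_relHt A' q' _ hq'm
    obtain ⟨a5, ha5⟩ := exists_relHt A' r _ ((hrp.trans hpq').trans hq'm)
    obtain ⟨a6, ha6⟩ := exists_relHt A p q hpq
    obtain ⟨a7, ha7⟩ := exists_relHt A q _ hqm
    obtain ⟨a8, ha8⟩ := exists_relHt A p _ (hpq.trans hqm)
    obtain ⟨a9, ha9⟩ := Groth.Agent.Ega4C.FlatLocal.exists_depth_eq
      (R := EGA4.FibLocRing A A' p'.asIdeal)
    rw [← hdF] at ha9
    rw [ha1, ha2, ha3] at e2
    rw [ha3, ha4, ha5] at e3
    rw [ha6, ha7, ha8] at e8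
    rw [ha5, ha8] at e10
    rw [ha4, ha7] at e9
    rw [ha1, ha9] at e11
    rw [ha6, ha2, ha9]
    norm_cast at e2 e3 e8 e10 e9 e11 ⊢
    omega

end Groth.Agent.LoccohA.CplDepth
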