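import Groth.Agent.Ega4A.CatenaryDim
import Groth.Agent.Ega4B.FibLoc
import Groth.Agent.Ega4C.FlatLocal
import Groth.Agent.LoccohA.RatliffC
import Groth.Agent.LoccohA.EquidimS2

/-!
# Depth and dimension along flat maps of Noetherian rings, localized at primes

For `A → A'` flat, `M` a finite `A`-module and `r` a prime of `A'` over `p`:
* `depth_localized_tensor`: `depth (A' ⊗ M)_r = depth M_p + depth (A'_r / p A'_r)`;
* `height_eq_add_fib`: `ht r = ht p + dim (A'_r / p A'_r)`;
* `relHt_le_of_minimal`: if `p' ≤ q'` lie over `p ≤ q`, with `p'` containing `p A'` and `q'` minimal over `q A'`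
  then `relHt p' q' ≤ relHt p q`.
-/

set_option autoImplicit false

namespace Groth.Agent.LoccohA.CplDepth

open TensorProduct IsLocalRing Groth.Agent.Ega4A.ChainOrder Groth.Agent.Ega4A.CatenaryDim

universe u

section Fib

variable (A A' : Type u) [CommRing A] [CommRing A'] [Algebra A A']

instance nontrivial_fibLocRing (r : Ideal A') [r.IsPrime] : Nontrivial (EGA4.FibLocRing A A' r) := by
  rw [Ideal.Quotient.nontrivial_iff]
  apply ne_top_of_le_ne_top (maximalIdeal.isMaximal (Localization.AtPrime r)).ne_top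
  have h : (maximalIdeal (Localization.AtPrime r)).comap (algebraMap A' (Localization.AtPrime r)) = r :=
    Localization.AtPrime.under_maximalIdeal
  rw [Ideal.map_le_iff_le_comap, IsScalarTower.algebraMap_eq A A' (Localization.AtPrime r),
    ← Ideal.comap_comap, h]

instance isLocalRing_fibLocRing (r : Ideal A') [r.IsPrime] : IsLocalRing (EGA4.FibLocRing A A' r) :=
  IsLocalRing.of_surjective' (Ideal.Quotient.mk _) Ideal.Quotient.mk_surjective

end Fib

/-- The localization of a base change (same as in `Ega4A.CMFibre`). -/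
noncomputable def localizedBaseChangeEquiv (A A' : Type u) [CommRing A] [CommRing A'] [Algebra A A']
    (M : Type u) [AddCommGroup M] [Module A M]
    (p : Ideal A) [p.IsPrime] (r : Ideal A') [r.IsPrime] [r.LiesOver p]
    [Algebra (Localization.AtPrime p) (Localization.AtPrime r)]
    [Localization.AtPrime.IsLiesOverAlgebra p r] :
    LocalizedModule r.primeCompl (A' ⊗[A] M) ≃ₗ[Localization.AtPrime r]
      Localization.AtPrime r ⊗[Localization.AtPrime p] LocalizedModule p.primeCompl M :=
  (LocalizedModule.equivTensorProduct r.primeCompl (A' ⊗[A] M)) ≪≫ₗ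
    (TensorProduct.AlgebraTensorModule.cancelBaseChange A A' (Localization.AtPrime r)
      (Localization.AtPrime r) M) ≪≫ₗ
    (TensorProduct.AlgebraTensorModule.cancelBaseChange A (Localization.AtPrime p)
      (Localization.AtPrime r) (Localization.AtPrime r) M).symm ≪≫ₗ
    (TensorProduct.AlgebraTensorModule.congr (LinearEquiv.refl _ _)
      (LocalizedModule.equivTensorProduct p.primeCompl M).symm)

section Depth

variable (A A' : Type u) [CommRing A] [CommRing A'] [Algebra A A'] [IsNoetherianRing A]
  [IsNoetherianRing A'] [Module.Flat A A']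

theorem depth_localized_tensor (M : Type u) [AddCommGroup M] [Module A M] [Module.Finite A M]
    (r : Ideal A') [r.IsPrime] :
    LocCoh.depth (Localization.AtPrime r) (LocalizedModule r.primeCompl (A' ⊗[A] M)) =
      LocCoh.depth (Localization.AtPrime (r.comap (algebraMap A A')))
        (LocalizedModule (r.comap (algebraMap A A')).primeCompl M) +
      LocCoh.depth (EGA4.FibLocRing A A' r) (EGA4.FibLocRing A A' r) := by
  let p := r.comap (algebraMap A A')
  have hover : r.LiesOver p := ⟨rfl⟩
  let _ := Localization.AtPrime.algebraOfLiesOver p r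
  let Ap := Localization.AtPrime p
  let S := Localization.AtPrime r
  have halg : algebraMap Ap S = Localization.localRingHom p r (algebraMap A A') Ideal.LiesOver.over :=
    Localization.AtPrime.IsLiesOverAlgebra.algebraMap_eq (p := p) (P := r)
  have hloc : IsLocalHom (algebraMap Ap S) := by
    rw [halg]; infer_instance
  have hflat : Module.Flat Ap S := inferInstance
  have h := Groth.Agent.S2062.result (R := Ap) (S := S) (M := LocalizedModule p.primeCompl M) (N := S)
  have h1 : LocCoh.depth S (LocalizedModule r.primeCompl (A' ⊗[A] M)) =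
      LocCoh.depth S (S ⊗[Ap] LocalizedModule p.primeCompl M) :=
    Groth.Agent.Ega4A.Depth.idealDepth_eq_of_linearEquiv _ (localizedBaseChangeEquiv A A' M p r)
  have h2 : LocCoh.depth S (S ⧸ ((maximalIdeal Ap).map (algebraMap Ap S) • (⊤ : Submodule S S))) =
      LocCoh.depth (EGA4.FibLocRing A A' r) (EGA4.FibLocRing A A' r) := by
    rw [← Groth.Agent.Ega4C.FlatLocal.depth_of_surjective (R := S) (S := EGA4.FibLocRing A A' r)
      Ideal.Quotient.mk_surjective]
    refine Groth.Agent.Ega4A.Depth.idealDepth_eq_of_linearEquiv _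
      (Submodule.quotEquivOfEq _ _ ?_)
    rw [smul_eq_mul, Ideal.mul_top, ← Localization.AtPrime.map_eq_maximalIdeal, Ideal.map_map,
      ← IsScalarTower.algebraMap_eq]
  rw [h1, h, h2]

theorem height_eq_add_fib (r : Ideal A') [r.IsPrime] :
    ((r.height : ℕ∞) : WithBot ℕ∞) = (((r.comap (algebraMap A A')).height : ℕ∞) : WithBot ℕ∞) +
      ringKrullDim (EGA4.FibLocRing A A' r) := by
  let p := r.comap (algebraMap A A')
  have hover : r.LiesOver p := ⟨rfl⟩
  let _ := Localization.AtPrime.algebraOfLiesOver p r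
  let Ap := Localization.AtPrime p
  let S := Localization.AtPrime r
  have halg : algebraMap Ap S = Localization.localRingHom p r (algebraMap A A') Ideal.LiesOver.over :=
    Localization.AtPrime.IsLiesOverAlgebra.algebraMap_eq (p := p) (P := r)
  have hloc : IsLocalHom (algebraMap Ap S) := by
    rw [halg]; infer_instance
  have hflat : Module.Flat Ap S := inferInstance
  have h := Groth.Agent.Ega4C.FlatLocal.ringKrullDim_eq Ap S
  rw [IsLocalization.AtPrime.ringKrullDim_eq_height p Ap,
    IsLocalization.AtPrime.ringKrullDim_eq_height r S] at h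
  rw [h]
  congr 1
  apply ringKrullDim_eq_of_ringEquiv
  refine Ideal.quotEquivOfEq ?_
  rw [EGA4.mB, ← Localization.AtPrime.map_eq_maximalIdeal, Ideal.map_map,
    ← IsScalarTower.algebraMap_eq]

end Depth

/-- `(S_n)` for the fibre ring gives the depth estimate for the local rings of the fibre. -/
theorem min_le_depth_fibLocRing (n : ℕ) (A A' : Type u) [CommRing A] [CommRing A'] [Algebra A A']
    (r : Ideal A') [r.IsPrime]
    (h : LocCoh.HasSk n ((r.comap (algebraMap A A')).Fiber A') ((r.comap (algebraMap A A')).Fiber A')) :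
    min (n : WithBot ℕ∞) (ringKrullDim (EGA4.FibLocRing A A' r)) ≤
      ((LocCoh.depth (EGA4.FibLocRing A A' r) (EGA4.FibLocRing A A' r) : ℕ∞) : WithBot ℕ∞) := by
  obtain ⟨q', hq', -, ⟨e⟩⟩ := Groth.Agent.Ega4B.FibLoc.exists_fibLocRing_equiv A A' r
  have h1 := h q'
  rw [Module.supportDim_eq_of_equiv
    (Groth.Agent.LoccohA.EquidimS2.localizedModuleSelfEquiv q'.primeCompl),
    Module.supportDim_self_eq_ringKrullDim] at h1
  have e1 : LocCoh.depth (Localization.AtPrime q')
      (LocalizedModule q'.primeCompl ((r.comap (algebraMap A A')).Fiber A')) =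
      LocCoh.depth (Localization.AtPrime q') (Localization.AtPrime q') :=
    Groth.Agent.Localalg.Depth.idealDepth_congr_equiv _
      (Groth.Agent.LoccohA.EquidimS2.localizedModuleSelfEquiv q'.primeCompl)
  rw [e1, ringKrullDim_eq_of_ringEquiv e, Groth.Agent.Ega4C.FlatLocal.depth_self_congr e] at h1
  exact h1

section Order

theorem height_add_relHt_le {X : Type*} [PartialOrder X] {x y : X} (h : x ≤ y) :
    Order.height x + relHt x y h ≤ Order.height y := by
  by_cases hx : Order.height x = ⊤
  · rw [hx, top_add]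
    have := Order.height_mono h
    rw [hx] at this
    exact this
  by_cases hy : relHt x y h = ⊤
  · rw [hy, add_top, ← hy]
    exact Order.height_le_height_apply_of_strictMono
      (fun a : Set.Ici x => (a : X)) (fun a b hab => hab) ⟨y, h⟩
  obtain ⟨n, hn⟩ := ENat.ne_top_iff_exists.mp hx
  obtain ⟨s, hs1, hs2⟩ := Order.exists_series_of_height_eq_coe x hn.symm
  obtain ⟨t, ht0, ht1, ht2, -⟩ := exists_sat h hy
  have := Order.length_le_height (p := s.smash t (hs1.trans ht0.symm)) (x := y) (by
    rw [RelSeries.last_smash, ht1])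
  rw [← hn, ← ht2, ← hs2]
  simpa using this

end Order

section Minimal

variable (A A' : Type u) [CommRing A] [CommRing A'] [Algebra A A'] [IsNoetherianRing A]
  [IsNoetherianRing A'] [Module.Flat A A']

/-- for `q'` minimal over `qA'` the height is preserved. -/
theorem height_eq_of_minimal (q' : Ideal A') [q'.IsPrime]
    (hq' : q' ∈ ((q'.comap (algebraMap A A')).map (algebraMap A A')).minimalPrimes) :
    q'.height = (q'.comap (algebraMap A A')).height := by
  let q := q'.comap (algebraMap A A')
  have hover : q'.LiesOver q := ⟨rfl⟩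
  rw [Ideal.height_eq_height_add_of_liesOver_of_hasGoingDown q q']
  have hle : q.map (algebraMap A A') ≤ q' := Ideal.map_comap_le
  have hp : (q'.map (Ideal.Quotient.mk (q.map (algebraMap A A')))).IsPrime :=
    Ideal.map_isPrime_of_surjective Ideal.Quotient.mk_surjective (by rw [Ideal.mk_ker]; exact hle)
  have h0 : (q'.map (Ideal.Quotient.mk (q.map (algebraMap A A')))).height = 0 := by
    rw [Ideal.height_eq_zero_iff]
    have := Ideal.minimalPrimes_map_of_surjective (S := A' ⧸ q.map (algebraMap A A'))
      (f := Ideal.Quotient.mk (q.map (algebraMap A A'))) Ideal.Quotient.mk_surjective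
      (q.map (algebraMap A A'))
    have h2 : (q.map (algebraMap A A')).map (Ideal.Quotient.mk (q.map (algebraMap A A'))) = ⊥ :=
      Ideal.map_quotient_self _
    rw [h2, Ideal.mk_ker, sup_idem] at this
    change _ ∈ (⊥ : Ideal (A' ⧸ q.map (algebraMap A A'))).minimalPrimes
    rw [this]
    exact ⟨q', hq', rfl⟩
  rw [h0, add_zero]

theorem relHt_le_of_minimal (p q : PrimeSpectrum A) (p' q' : PrimeSpectrum A')
    (hpq : p ≤ q) (hpq' : p' ≤ q') (hp : PrimeSpectrum.comap (algebraMap A A') p' = p)
    (hq : PrimeSpectrum.comap (algebraMap A A') q' = q)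
    (hq' : q'.asIdeal ∈ (q.asIdeal.map (algebraMap A A')).minimalPrimes) :
    relHt p' q' hpq' ≤ relHt p q hpq := by
  let I := p.asIdeal
  let I' := p.asIdeal.map (algebraMap A A')
  have hpI : p'.asIdeal.comap (algebraMap A A') = p.asIdeal := congrArg PrimeSpectrum.asIdeal hp
  have hqI : q'.asIdeal.comap (algebraMap A A') = q.asIdeal := congrArg PrimeSpectrum.asIdeal hq
  have hI'p : I' ≤ p'.asIdeal := by
    rw [Ideal.map_le_iff_le_comap, hpI]
  have hI'q : I' ≤ q'.asIdeal := hI'p.trans hpq'
  have hflat : Module.Flat (A ⧸ I) (A' ⧸ I') := Groth.Agent.LoccohA.RatliffC.flat_quotient A A' I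
  let Q : Ideal (A ⧸ I) := q.asIdeal.map (Ideal.Quotient.mk I)
  let Q' : Ideal (A' ⧸ I') := q'.asIdeal.map (Ideal.Quotient.mk I')
  have hQp : Q.IsPrime := Ideal.map_isPrime_of_surjective Ideal.Quotient.mk_surjective
    (by rw [Ideal.mk_ker]; exact hpq)
  have hQ'p : Q'.IsPrime := Ideal.map_isPrime_of_surjective Ideal.Quotient.mk_surjective
    (by rw [Ideal.mk_ker]; exact hI'q)
  have hcomm : (algebraMap (A ⧸ I) (A' ⧸ I')).comp (Ideal.Quotient.mk I) =
      (Ideal.Quotient.mk I').comp (algebraMap A A') := by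
    ext a; rfl
  have hQ'c : Q'.comap (Ideal.Quotient.mk I') = q'.asIdeal := by
    rw [Ideal.comap_map_of_surjective _ Ideal.Quotient.mk_surjective, ← RingHom.ker_eq_comap_bot,
      Ideal.mk_ker, sup_eq_left]
    exact hI'q
  have hQc : Q'.comap (algebraMap (A ⧸ I) (A' ⧸ I')) = Q := by
    have h1 : (Q'.comap (algebraMap (A ⧸ I) (A' ⧸ I'))).comap (Ideal.Quotient.mk I) = q.asIdeal := by
      rw [Ideal.comap_comap, hcomm, ← Ideal.comap_comap, hQ'c, hqI]
    rw [← Ideal.map_comap_of_surjective (Ideal.Quotient.mk I) Ideal.Quotient.mk_surjective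
      (Q'.comap (algebraMap (A ⧸ I) (A' ⧸ I'))), h1]
  have hmin : Q' ∈ ((Q'.comap (algebraMap (A ⧸ I) (A' ⧸ I'))).map
      (algebraMap (A ⧸ I) (A' ⧸ I'))).minimalPrimes := by
    rw [hQc]
    have h1 : Q.map (algebraMap (A ⧸ I) (A' ⧸ I')) =
        (q.asIdeal.map (algebraMap A A')).map (Ideal.Quotient.mk I') := by
      rw [Ideal.map_map, Ideal.map_map, hcomm]
    have h2 := Ideal.minimalPrimes_map_of_surjective (S := A' ⧸ I')
      (f := Ideal.Quotient.mk I') Ideal.Quotient.mk_surjective (q.asIdeal.map (algebraMap A A'))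
    rw [Ideal.mk_ker] at h2
    have h3 : q.asIdeal.map (algebraMap A A') ⊔ I' = q.asIdeal.map (algebraMap A A') :=
      sup_eq_left.mpr (Ideal.map_mono hpq)
    rw [h3] at h2
    rw [h1, h2]
    exact ⟨q'.asIdeal, hq', rfl⟩
  have h1 := height_eq_of_minimal (A ⧸ I) (A' ⧸ I') Q' hmin
  rw [hQc] at h1
  have h2 : Q.height = relHt p q hpq := height_map_mk_eq_relHt p q hpq
  rw [← h2, ← h1]
  -- compare chains
  rw [show Q'.height = Order.height (⟨Q', hQ'p⟩ : PrimeSpectrum (A' ⧸ I')) from
    PrimeSpectrum.height_eq_orderHeight ⟨Q', hQ'p⟩]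
  let F : Set.Ici p' → PrimeSpectrum (A' ⧸ I') := fun P =>
    ⟨P.1.asIdeal.map (Ideal.Quotient.mk I'), Ideal.map_isPrime_of_surjective Ideal.Quotient.mk_surjective
      (by rw [Ideal.mk_ker]; exact hI'p.trans P.2)⟩
  have hF : StrictMono F := by
    intro P P' hPP'
    refine lt_of_le_of_ne (Ideal.map_mono hPP'.le) ?_
    intro heq
    have hc : ∀ J : Ideal A', I' ≤ J → (J.map (Ideal.Quotient.mk I')).comap (Ideal.Quotient.mk I') = J := by
      intro J hJ
      rw [Ideal.comap_map_of_surjective _ Ideal.Quotient.mk_surjective, ← RingHom.ker_eq_comap_bot,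
        Ideal.mk_ker, sup_eq_left]
      exact hJ
    have h4 : P.1.asIdeal = P'.1.asIdeal := by
      rw [← hc P.1.asIdeal (hI'p.trans P.2), ← hc P'.1.asIdeal (hI'p.trans P'.2)]
      exact congrArg (fun x => Ideal.comap (Ideal.Quotient.mk I') x) (congrArg PrimeSpectrum.asIdeal heq)
    exact hPP'.ne (Subtype.ext (PrimeSpectrum.ext h4))
  exact Order.height_le_height_apply_of_strictMono F hF ⟨q', hpq'⟩

end Minimal

end Groth.Agent.LoccohA.CplDepth
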