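import Groth.Prelude.Def_CAlg
import Mathlib.RingTheory.Regular.RegularSequence
import Mathlib.RingTheory.Regular.Flat
import Mathlib.RingTheory.QuotSMulTop
import Mathlib.RingTheory.Support
import Mathlib.RingTheory.Localization.AtPrime.Basic
import Mathlib.RingTheory.TensorProduct.IsBaseChangePi

set_option autoImplicit false
universe u v

/-!
# Spreading out weakly regular sequences; basic facts on `LocCoh.idealDepth`
-/

namespace Groth.Agent.LoccohA.DepthSpread

open RingTheory.Sequence
open scoped Pointwise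

section Associated

variable {R : Type u} [CommRing R]

lemma isSMulRegular_of_associated {M : Type v} [AddCommGroup M] [Module R M] {r s : R}
    (h : Associated r s) (hr : IsSMulRegular M r) : IsSMulRegular M s := by
  obtain ⟨u, rfl⟩ := h
  exact hr.mul (Units.isSMulRegular M u)

lemma smul_top_eq_of_associated {M : Type v} [AddCommGroup M] [Module R M] {r s : R}
    (h : Associated r s) : (r • ⊤ : Submodule R M) = s • ⊤ := by
  obtain ⟨u, rfl⟩ := h
  rw [mul_smul]
  congr 1
  refine le_antisymm (fun x _ => ?_) le_top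
  rw [Submodule.mem_smul_pointwise_iff_exists]
  exact ⟨((u⁻¹ : Rˣ) : R) • x, trivial, by rw [smul_smul, Units.mul_inv, one_smul]⟩

/-- Weak regularity of a sequence only depends on its entries up to units. -/
lemma isWeaklyRegular_of_associated {rs ss : List R} (h : List.Forall₂ Associated rs ss) :
    ∀ {M : Type v} [AddCommGroup M] [Module R M], IsWeaklyRegular M rs → IsWeaklyRegular M ss := by
  induction h with
  | nil => intro M _ _ h; exact h
  | @cons r s rs ss hrs _ ih =>
    intro M _ _ h
    rw [isWeaklyRegular_cons_iff] at h ⊢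
    refine ⟨isSMulRegular_of_associated hrs h.1, ?_⟩
    have := ih h.2
    exact (LinearEquiv.isWeaklyRegular_congr
      (Submodule.quotEquivOfEq _ _ (smul_top_eq_of_associated hrs)) ss).1 this

end Associated

section Depth

variable {R : Type u} [CommRing R]

/-- A weakly regular sequence in `I` bounds the `I`-depth below. -/
lemma length_le_idealDepth {I : Ideal R} {M : Type v} [AddCommGroup M] [Module R M] {rs : List R}
    (h : IsWeaklyRegular M rs) (hI : ∀ r ∈ rs, r ∈ I) :
    (rs.length : ℕ∞) ≤ LocCoh.idealDepth I M := by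
  unfold LocCoh.idealDepth
  split_ifs with htop
  · exact le_top
  · exact le_iSup₂_of_le rs ⟨h, hI⟩ le_rfl

/-- If the depth is at least a natural number `e` and `I M ≠ M` then there is a weakly regular
sequence in `I` of length at least `e`. -/
lemma exists_isWeaklyRegular_of_le_idealDepth {I : Ideal R} {M : Type v} [AddCommGroup M]
    [Module R M] (hIM : I • (⊤ : Submodule R M) ≠ ⊤) {e : ℕ}
    (he : (e : ℕ∞) ≤ LocCoh.idealDepth I M) :
    ∃ rs : List R, IsWeaklyRegular M rs ∧ (∀ r ∈ rs, r ∈ I) ∧ e ≤ rs.length := by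
  unfold LocCoh.idealDepth at he
  rw [if_neg hIM] at he
  rcases e with _ | e
  · exact ⟨[], IsWeaklyRegular.nil R M, by simp, by simp⟩
  · by_contra hcon
    push Not at hcon
    have hle : (⨆ (rs : List R) (_ : IsWeaklyRegular M rs ∧ ∀ r ∈ rs, r ∈ I), (rs.length : ℕ∞))
        ≤ (e : ℕ∞) := by
      refine iSup₂_le fun rs hrs => ?_
      have := hcon rs hrs.1 hrs.2
      exact_mod_cast (by omega : rs.length ≤ e)
    have := he.trans hle
    have h' : e + 1 ≤ e := by exact_mod_cast this
    omega

/-- If the depth is at least a natural number `e` and `I M ≠ M` then there is a weakly regular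
sequence in `I` of length exactly `e`. -/
lemma exists_isWeaklyRegular_length_eq_of_le_idealDepth {I : Ideal R} {M : Type v}
    [AddCommGroup M] [Module R M] (hIM : I • (⊤ : Submodule R M) ≠ ⊤) {e : ℕ}
    (he : (e : ℕ∞) ≤ LocCoh.idealDepth I M) :
    ∃ rs : List R, IsWeaklyRegular M rs ∧ (∀ r ∈ rs, r ∈ I) ∧ rs.length = e := by
  obtain ⟨rs, h1, h2, h3⟩ := exists_isWeaklyRegular_of_le_idealDepth hIM he
  refine ⟨rs.take e, ?_, fun r hr => h2 r (List.mem_of_mem_take hr), by simpa using h3⟩
  rw [← List.take_append_drop e rs, isWeaklyRegular_append_iff] at h1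
  exact h1.1

lemma smul_top_ne_top_of_idealDepth_ne_top {I : Ideal R} {M : Type v} [AddCommGroup M]
    [Module R M] (h : LocCoh.idealDepth I M ≠ ⊤) : I • (⊤ : Submodule R M) ≠ ⊤ := by
  intro h'
  exact h (by unfold LocCoh.idealDepth; rw [if_pos h'])

end Depth

section Localize

variable {A : Type u} [CommRing A]

/-- Localization commutes with `QuotSMulTop`. -/
noncomputable def quotSMulTopLocalizedEquiv (S : Submonoid A) (M : Type v) [AddCommGroup M]
    [Module A M] (a : A) :
    QuotSMulTop a (LocalizedModule S M) ≃ₗ[A] LocalizedModule S (QuotSMulTop a M) :=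
  (QuotSMulTop.congr a ((LocalizedModule.equivTensorProduct S M).restrictScalars A)) ≪≫ₗ
    (QuotSMulTop.tensorQuotSMulTopEquivQuotSMulTop a (Localization S) M).symm ≪≫ₗ
    ((LocalizedModule.equivTensorProduct S (QuotSMulTop a M)).restrictScalars A).symm

lemma exists_notMem_isSMulRegular [IsNoetherianRing A] (M : Type v) [AddCommGroup M] [Module A M]
    [Module.Finite A M] (p : PrimeSpectrum A) (a : A)
    (h : IsSMulRegular (LocalizedModule p.asIdeal.primeCompl M) a) :
    ∃ f : A, f ∉ p.asIdeal ∧ ∀ q : PrimeSpectrum A, f ∉ q.asIdeal →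
      IsSMulRegular (LocalizedModule q.asIdeal.primeCompl M) a := by
  let K : Submodule A M := LinearMap.ker (LinearMap.lsmul A M a)
  have hp : p ∉ Module.support A K := by
    rw [Module.notMem_support_iff']
    rintro ⟨x, hx⟩
    have hx' : a • x = 0 := hx
    have h0 : LocalizedModule.mkLinearMap p.asIdeal.primeCompl M x = 0 := by
      apply h
      simp only [smul_zero]
      rw [← LinearMap.map_smul, hx', map_zero]
    obtain ⟨t, ht⟩ := (IsLocalizedModule.eq_zero_iff p.asIdeal.primeCompl
      (LocalizedModule.mkLinearMap p.asIdeal.primeCompl M)).1 h0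
    exact ⟨t, t.2, Subtype.ext ht⟩
  rw [Module.mem_support_iff_of_finite] at hp
  obtain ⟨f, hf, hfp⟩ := SetLike.not_le_iff_exists.1 hp
  refine ⟨f, hfp, fun q hfq => ?_⟩
  rw [isSMulRegular_iff_right_eq_zero_of_smul]
  intro z hz
  obtain ⟨⟨m, s⟩, hms⟩ := IsLocalizedModule.mk'_surjective q.asIdeal.primeCompl
    (LocalizedModule.mkLinearMap q.asIdeal.primeCompl M) z
  simp only [Function.uncurry_apply_pair] at hms
  subst hms
  rw [← IsLocalizedModule.mk'_smul, IsLocalizedModule.mk'_eq_zero'] at hz
  obtain ⟨t, ht⟩ := hz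
  rw [IsLocalizedModule.mk'_eq_zero']
  refine ⟨⟨f, hfq⟩ * t, ?_⟩
  have hK : (t : A) • m ∈ K := by
    change a • ((t : A) • m) = 0
    rw [smul_comm]
    exact ht
  have := Module.mem_annihilator.1 hf ⟨_, hK⟩
  have h2 : f • ((t : A) • m) = 0 := congrArg Subtype.val this
  rw [mul_smul]
  exact h2

/-- Stacks 0DWX, spreading out: a sequence weakly regular on `M_p` stays weakly regular on `M_q`
for `q` in an open neighbourhood of `p`. -/
theorem exists_notMem_isWeaklyRegular [IsNoetherianRing A] (p : PrimeSpectrum A) (as : List A) :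
    ∀ (M : Type v) [AddCommGroup M] [Module A M] [Module.Finite A M],
    IsWeaklyRegular (LocalizedModule p.asIdeal.primeCompl M) as →
    ∃ f : A, f ∉ p.asIdeal ∧ ∀ q : PrimeSpectrum A, f ∉ q.asIdeal →
      IsWeaklyRegular (LocalizedModule q.asIdeal.primeCompl M) as := by
  induction as with
  | nil =>
    intro M _ _ _ _
    exact ⟨1, (Ideal.ne_top_iff_one _).1 p.isPrime.ne_top, fun q _ => IsWeaklyRegular.nil A _⟩
  | cons a as ih =>
    intro M _ _ _ h
    rw [isWeaklyRegular_cons_iff] at h
    obtain ⟨f₁, hf₁, H₁⟩ := exists_notMem_isSMulRegular M p a h.1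
    obtain ⟨f₂, hf₂, H₂⟩ := ih (QuotSMulTop a M)
      ((LinearEquiv.isWeaklyRegular_congr (quotSMulTopLocalizedEquiv _ M a) as).1 h.2)
    refine ⟨f₁ * f₂, fun hmem => ?_, fun q hq => ?_⟩
    · rcases p.isPrime.mem_or_mem hmem with h | h
      · exact hf₁ h
      · exact hf₂ h
    · rw [isWeaklyRegular_cons_iff]
      have h1 : f₁ ∉ q.asIdeal := fun h => hq (Ideal.mul_mem_right _ _ h)
      have h2 : f₂ ∉ q.asIdeal := fun h => hq (Ideal.mul_mem_left _ _ h)
      exact ⟨H₁ q h1, (LinearEquiv.isWeaklyRegular_congr (quotSMulTopLocalizedEquiv _ M a) as).2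
        (H₂ q h2)⟩

/-- Clearing denominators in a list of elements of `I A_S`. -/
lemma exists_list_associated (S : Submonoid A) (I : Ideal A)
    (rs : List (Localization S)) (h : ∀ r ∈ rs, r ∈ I.map (algebraMap A (Localization S))) :
    ∃ as : List A, (∀ a ∈ as, a ∈ I) ∧
      List.Forall₂ Associated rs (as.map (algebraMap A (Localization S))) := by
  induction rs with
  | nil => exact ⟨[], by simp, by simp⟩
  | cons r rs ih =>
    obtain ⟨as, h1, h2⟩ := ih (fun r hr => h r (List.mem_cons_of_mem _ hr))
    obtain ⟨⟨⟨a, ha⟩, s⟩, has⟩ := (IsLocalization.mem_map_algebraMap_iff S (Localization S)).1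
      (h r List.mem_cons_self)
    refine ⟨a :: as, ?_, ?_⟩
    · intro x hx
      rcases List.mem_cons.1 hx with rfl | hx
      · exact ha
      · exact h1 x hx
    · rw [List.map_cons]
      refine List.Forall₂.cons ?_ h2
      exact ⟨(IsLocalization.map_units (Localization S) s).unit, has⟩

end Localize

end Groth.Agent.LoccohA.DepthSpread
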