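import Groth.Prelude.Def_Wider
import Mathlib.Algebra.Homology.DerivedCategory.SingleTriangle
import Mathlib.Algebra.Homology.ShortComplex.ModuleCat
import Mathlib.RingTheory.Support
import Mathlib.RingTheory.Ideal.AssociatedPrime.Finiteness

/-!
# The modules `E^i(M) = Hom_{D(A)}(M, ω[i])` : functoriality, long exact sequences, supports

For an arbitrary object `ω` of `D(A)`.
-/

set_option autoImplicit false
universe u
open CategoryTheory CategoryTheory.Limits Pretriangulated
attribute [local instance] HasDerivedCategory.standard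

namespace Groth.Agent.LoccohA.DExt

variable {A : Type u} [CommRing A]

/-- `E ω i M = Hom_{D(A)}(M, ω[i])`. -/
abbrev E (ω : Dual.D A) (i : ℤ) (M : Type u) [AddCommGroup M] [Module A M] :=
  Dual.inD A M ⟶ ω⟦i⟧

section Map

variable (ω : Dual.D A) (i : ℤ)
variable {M N P : Type u} [AddCommGroup M] [Module A M] [AddCommGroup N] [Module A N]
  [AddCommGroup P] [Module A P]

/-- contravariant functoriality -/
noncomputable def Emap (f : M →ₗ[A] N) : E ω i N →ₗ[A] E ω i M :=
  Linear.leftComp A (ω⟦i⟧)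
    ((DerivedCategory.singleFunctor (ModuleCat.{u} A) 0).map (ModuleCat.ofHom f))

lemma Emap_apply (f : M →ₗ[A] N) (x : E ω i N) : Emap ω i f x =
    (DerivedCategory.singleFunctor (ModuleCat.{u} A) 0).map (ModuleCat.ofHom f) ≫ x := rfl

lemma Emap_id : Emap ω i (LinearMap.id : M →ₗ[A] M) = LinearMap.id := by
  ext x
  rw [Emap_apply]
  have : ModuleCat.ofHom (LinearMap.id : M →ₗ[A] M) = 𝟙 (ModuleCat.of A M) := rfl
  rw [this, CategoryTheory.Functor.map_id]
  simp

lemma Emap_comp (f : M →ₗ[A] N) (g : N →ₗ[A] P) : Emap ω i (g ∘ₗ f) = Emap ω i f ∘ₗ Emap ω i g := by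
  ext x
  rw [LinearMap.comp_apply, Emap_apply, Emap_apply, Emap_apply]
  have : ModuleCat.ofHom (g ∘ₗ f) = ModuleCat.ofHom f ≫ ModuleCat.ofHom g := rfl
  rw [this, CategoryTheory.Functor.map_comp, Category.assoc]

lemma Emap_smul (a : A) (f : M →ₗ[A] N) : Emap ω i (a • f) = a • Emap ω i f := by
  ext x
  rw [LinearMap.smul_apply, Emap_apply, Emap_apply]
  have : ModuleCat.ofHom (a • f) = a • ModuleCat.ofHom f := rfl
  rw [this, Functor.map_smul, Linear.smul_comp]

lemma Emap_zero : Emap ω i (0 : M →ₗ[A] N) = 0 := by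
  have := Emap_smul ω i (0 : A) (0 : M →ₗ[A] N)
  rwa [zero_smul, zero_smul] at this

lemma Emap_add (f g : M →ₗ[A] N) : Emap ω i (f + g) = Emap ω i f + Emap ω i g := by
  ext x
  rw [LinearMap.add_apply, Emap_apply, Emap_apply, Emap_apply]
  have : ModuleCat.ofHom (f + g) = ModuleCat.ofHom f + ModuleCat.ofHom g := rfl
  rw [this, Functor.map_add, Preadditive.add_comp]

/-- a linear equivalence induces a linear equivalence -/
noncomputable def EmapEquiv (e : M ≃ₗ[A] N) : E ω i N ≃ₗ[A] E ω i M :=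
  LinearEquiv.ofLinearMap (Emap ω i e.toLinearMap) (Emap ω i e.symm.toLinearMap)
    (by rw [← Emap_comp]; simp [Emap_id]) (by rw [← Emap_comp]; simp [Emap_id])

end Map

section LES

variable (ω : Dual.D A)
variable {M N P : Type u} [AddCommGroup M] [Module A M] [AddCommGroup N] [Module A N]
  [AddCommGroup P] [Module A P] {f : M →ₗ[A] N} {g : N →ₗ[A] P}

lemma shortExact (hf : Function.Injective f) (hfg : Function.Exact f g)
    (hg : Function.Surjective g) :
    (ShortComplex.mk (ModuleCat.ofHom f) (ModuleCat.ofHom g)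
      (by ext x; exact hfg.apply_apply_eq_zero x)).ShortExact := by
  have hm : Mono (ModuleCat.ofHom f) := (ModuleCat.mono_iff_injective _).mpr hf
  have he : Epi (ModuleCat.ofHom g) := (ModuleCat.epi_iff_surjective _).mpr hg
  exact { exact := (CategoryTheory.ShortComplex.ShortExact.moduleCat_exact_iff_function_exact _).mpr hfg }

variable (hf : Function.Injective f) (hfg : Function.Exact f g) (hg : Function.Surjective g)

/-- The class of a short exact sequence in `D(A)`. -/
noncomputable def cls : Dual.inD A P ⟶ (Dual.inD A M)⟦(1 : ℤ)⟧ := (shortExact hf hfg hg).singleδ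

lemma triangle_mem : Pretriangulated.Triangle.mk
    ((DerivedCategory.singleFunctor (ModuleCat.{u} A) 0).map (ModuleCat.ofHom f))
    ((DerivedCategory.singleFunctor (ModuleCat.{u} A) 0).map (ModuleCat.ofHom g))
    (cls hf hfg hg) ∈ distTriang (Dual.D A) :=
  (shortExact hf hfg hg).singleTriangle_distinguished

lemma cls_comp : cls hf hfg hg ≫
    ((DerivedCategory.singleFunctor (ModuleCat.{u} A) 0).map (ModuleCat.ofHom f))⟦(1 : ℤ)⟧' = 0 :=
  Pretriangulated.comp_distTriang_mor_zero₃₁ _ (triangle_mem hf hfg hg)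

lemma comp_cls : ((DerivedCategory.singleFunctor (ModuleCat.{u} A) 0).map (ModuleCat.ofHom g)) ≫
    cls hf hfg hg = 0 :=
  Pretriangulated.comp_distTriang_mor_zero₂₃ _ (triangle_mem hf hfg hg)

/-- the connecting map `E^i(M) → E^j(P)`, `i + 1 = j` -/
noncomputable def conn (i j : ℤ) (h : i + 1 = j) : E ω i M →ₗ[A] E ω j P where
  toFun x := cls hf hfg hg ≫ x⟦(1 : ℤ)⟧' ≫
    ((shiftFunctorAdd' (Dual.D A) i 1 j h).inv.app ω)
  map_add' x y := by
    rw [Functor.map_add, Preadditive.add_comp, Preadditive.comp_add]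
  map_smul' a x := by
    rw [Functor.map_smul, Linear.smul_comp, Linear.comp_smul]; rfl

lemma conn_apply (i j : ℤ) (h : i + 1 = j) (x : E ω i M) : conn ω hf hfg hg i j h x =
    cls hf hfg hg ≫ x⟦(1 : ℤ)⟧' ≫ ((shiftFunctorAdd' (Dual.D A) i 1 j h).inv.app ω) := rfl

include hf hfg hg in
lemma exact₂ (i : ℤ) : Function.Exact (Emap ω i g) (Emap ω i f) := by
  intro y
  constructor
  · intro hy
    obtain ⟨z, hz⟩ := Pretriangulated.Triangle.yoneda_exact₂ _ (triangle_mem hf hfg hg) y hy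
    exact ⟨z, hz.symm⟩
  · rintro ⟨z, rfl⟩
    rw [← LinearMap.comp_apply, ← Emap_comp]
    have : g ∘ₗ f = 0 := LinearMap.ext fun x => hfg.apply_apply_eq_zero x
    rw [this, Emap_zero]; rfl

lemma exact₁ (i j : ℤ) (h : i + 1 = j) :
    Function.Exact (Emap ω i f) (conn ω hf hfg hg i j h) := by
  intro x
  constructor
  · intro hx
    have hx' : cls hf hfg hg ≫ x⟦(1 : ℤ)⟧' = 0 := by
      have h1 : (cls hf hfg hg ≫ x⟦(1 : ℤ)⟧') ≫
        ((shiftFunctorAdd' (Dual.D A) i 1 j h).inv.app ω) = 0 := by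
        rw [Category.assoc]; exact hx
      rwa [Preadditive.IsIso.comp_right_eq_zero] at h1
    obtain ⟨z, hz⟩ : ∃ z : (Dual.inD A N)⟦(1 : ℤ)⟧ ⟶ (ω⟦i⟧)⟦(1 : ℤ)⟧, x⟦(1 : ℤ)⟧' =
      (-((DerivedCategory.singleFunctor (ModuleCat.{u} A) 0).map (ModuleCat.ofHom f))⟦(1 : ℤ)⟧') ≫
        z :=
      Pretriangulated.Triangle.yoneda_exact₂ _
      (Pretriangulated.rot_of_distTriang _
        (Pretriangulated.rot_of_distTriang _ (triangle_mem hf hfg hg))) (x⟦(1 : ℤ)⟧') hx'
    obtain ⟨w, rfl⟩ : ∃ w : E ω i N, w⟦(1 : ℤ)⟧' = z :=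
      (shiftFunctor (Dual.D A) (1 : ℤ)).map_surjective z
    refine ⟨-w, ?_⟩
    apply (shiftFunctor (Dual.D A) (1 : ℤ)).map_injective
    rw [hz, Emap_apply, Functor.map_comp, Functor.map_neg]
    simp
  · rintro ⟨z, rfl⟩
    rw [conn_apply, Emap_apply, Functor.map_comp, Category.assoc, reassoc_of% cls_comp hf hfg hg,
      zero_comp]

lemma exact₃ (i j : ℤ) (h : i + 1 = j) :
    Function.Exact (conn ω hf hfg hg i j h) (Emap ω j g) := by
  intro y
  constructor
  · intro hy
    obtain ⟨z, hz⟩ : ∃ z : (Dual.inD A M)⟦(1 : ℤ)⟧ ⟶ ω⟦j⟧, y = cls hf hfg hg ≫ z :=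
      Pretriangulated.Triangle.yoneda_exact₃ _ (triangle_mem hf hfg hg) y hy
    obtain ⟨w, hw⟩ : ∃ w : E ω i M, w⟦(1 : ℤ)⟧' = z ≫
      (shiftFunctorAdd' (Dual.D A) i 1 j h).hom.app ω :=
      (shiftFunctor (Dual.D A) (1 : ℤ)).map_surjective _
    refine ⟨w, ?_⟩
    rw [conn_apply, hw, hz, Category.assoc, ← NatTrans.comp_app, Iso.hom_inv_id, NatTrans.id_app,
      Category.comp_id]
  · rintro ⟨x, rfl⟩
    rw [conn_apply, Emap_apply, reassoc_of% comp_cls hf hfg hg, zero_comp]

end LES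

end Groth.Agent.LoccohA.DExt
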