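import Groth.Agent.LoccohA.DExtDepth
import Groth.Agent.LoccohA.DExtFin
import Groth.Agent.LoccohB.HomBC2

/-!
# Flat base change, supports of `E^i(M) = Hom_{D(A)}(M, ω[i])` and depth

* `mem_support_tensor_iff`: for `A → B` flat, `P ∈ Supp_B (B ⊗ N)` iff `P ∩ A ∈ Supp_A N` (any `N`).
* `mem_support_E_iff`: for `A → B` flat, `M` finite, `P ∈ Supp E^i_B(B ⊗ M)` iff `P ∩ A ∈ Supp E^i_A(M)`,
  where `ω_B = ω ⊗ B`.
* `depth_tensor`: if `ω`, `ω_B` are dualizing with dimension functions `δ`, `δ'`, then
  `δ' P ≤ δ (P ∩ A)` and `depth (B ⊗ M)_P = depth M_{P ∩ A} + (δ (P ∩ A) - δ' P)`.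
-/

set_option autoImplicit false
universe u v
open CategoryTheory CategoryTheory.Limits Pretriangulated TensorProduct
attribute [local instance] HasDerivedCategory.standard

namespace Groth.Agent.LoccohA.DExtBC

open Groth.Agent.LoccohA.DExt Groth.Agent.LoccohA.DExtSupp Groth.Agent.LoccohA.DExtDim
open Groth.Agent.LoccohB.FlatLBC Groth.Agent.LoccohB.HomBC

section Support

variable {A : Type u} {B : Type v} [CommRing A] [CommRing B] [Algebra A B]

/-- The support of a base change along a flat ring map. -/
theorem mem_support_tensor_iff [Module.Flat A B] (N : Type*) [AddCommGroup N] [Module A N]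
    (P : PrimeSpectrum B) :
    P ∈ Module.support B (B ⊗[A] N) ↔
      PrimeSpectrum.comap (algebraMap A B) P ∈ Module.support A N := by
  constructor
  · intro h
    by_contra hn
    rw [Module.notMem_support_iff'] at hn
    refine (Module.notMem_support_iff'.mpr fun x => ?_) h
    induction x using TensorProduct.induction_on with
    | zero => exact ⟨1, (Ideal.ne_top_iff_one _).mp P.2.ne_top, smul_zero _⟩
    | tmul b n =>
      obtain ⟨s, hs, hsn⟩ := hn n
      exact ⟨algebraMap A B s, hs, by rw [algebraMap_smul, ← TensorProduct.tmul_smul, hsn,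
        TensorProduct.tmul_zero]⟩
    | add x y hx hy =>
      obtain ⟨s, hs, hsx⟩ := hx
      obtain ⟨t, ht, hty⟩ := hy
      refine ⟨s * t, fun h => (P.2.mem_or_mem h).elim hs ht, ?_⟩
      rw [smul_add, mul_comm s t, mul_smul, hsx, smul_zero, zero_add, mul_comm, mul_smul, hty,
        smul_zero]
  · intro h
    rw [Module.mem_support_iff_exists_annihilator] at h
    obtain ⟨n, hn⟩ := h
    rw [Module.mem_support_iff']
    refine ⟨1 ⊗ₜ n, fun r hr h0 => hr ?_⟩
    let J : Ideal A := (Submodule.span A {n}).annihilator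
    let f : (A ⧸ J) →ₗ[A] N := J.liftQ (LinearMap.toSpanSingleton A N n) (fun a ha => by
      exact (Submodule.mem_annihilator_span_singleton _ _).mp ha)
    have hf : Function.Injective f := by
      rw [← LinearMap.ker_eq_bot, Submodule.ker_liftQ_eq_bot']
      ext a
      rw [LinearMap.mem_ker]
      exact Submodule.mem_annihilator_span_singleton _ _
    have h1 := Module.Flat.lTensor_preserves_injective_linearMap (M := B) f hf
    have h2 : r ⊗ₜ[A] (Submodule.Quotient.mk 1 : A ⧸ J) = 0 := by
      apply h1
      rw [LinearMap.lTensor_tmul, map_zero]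
      have : f (Submodule.Quotient.mk 1) = n := by
        change (1 : A) • n = n
        rw [one_smul]
      rw [this]
      simpa [TensorProduct.smul_tmul'] using h0
    have h3 := congrArg (TensorProduct.tensorQuotEquivQuotSMul B J) h2
    rw [map_zero] at h3
    have h4 : (TensorProduct.tensorQuotEquivQuotSMul B J) (r ⊗ₜ (Submodule.Quotient.mk 1 : A ⧸ J)) =
        Submodule.Quotient.mk r := by
      have := TensorProduct.tensorQuotEquivQuotSMul_tmul_mk (M := B) J r 1
      rw [one_smul] at this
      exact this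
    rw [h4, Submodule.Quotient.mk_eq_zero] at h3
    have h5 : J • (⊤ : Submodule A B) ≤ P.asIdeal.restrictScalars A := by
      rw [Submodule.smul_le]
      intro a ha b _
      change a • b ∈ P.asIdeal
      rw [Algebra.smul_def]
      exact P.asIdeal.mul_mem_right b (hn ha)
    exact h5 h3

end Support

section BC

variable {A B : Type u} [CommRing A] [CommRing B] [Algebra A B] (h : (algebraMap A B).Flat)

include h in
/-- Supports of `E^i(M)` and flat base change. -/
theorem mem_support_E_iff [IsNoetherianRing A] (ω : Dual.D A) (k : ℤ) [ω.IsGE k] (M : Type u)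
    [AddCommGroup M] [Module A M] [Module.Finite A M] (i : ℤ) (P : PrimeSpectrum B) :
    P ∈ Module.support B (E ((flatBC (algebraMap A B) h).obj ω) i (B ⊗[A] M)) ↔
      PrimeSpectrum.comap (algebraMap A B) P ∈ Module.support A (E ω i M) := by
  have : Module.Flat A B := RingHom.flat_algebraMap_iff.mp h
  have : Module.Finite A (ModuleCat.of A M) := inferInstanceAs (Module.Finite A M)
  rw [← mem_support_tensor_iff (A := A) (B := B), support_congr _ i (extEquiv A B (ModuleCat.of A M))]
  have e := homBCModuleEquiv B h (ModuleCat.of A M) ω k i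
  rw [show Module.support B (B ⊗[A] E ω i M) = _ from e.support_eq]

end BC

section Depth

variable {A B : Type u} [CommRing A] [CommRing B] [Algebra A B] (h : (algebraMap A B).Flat)
  [IsNoetherianRing A] [IsNoetherianRing B] (ω : Dual.D A) (k : ℤ) [ω.IsGE k]
  {δ : PrimeSpectrum A → ℤ} {δ' : PrimeSpectrum B → ℤ}
  (hfin : ∀ (i : ℤ) (M : Type u) [AddCommGroup M] [Module A M] [Module.Finite A M],
    Module.Finite A (E ω i M))
  (hfin' : ∀ (i : ℤ) (M : Type u) [AddCommGroup M] [Module B M] [Module.Finite B M],
    Module.Finite B (E ((flatBC (algebraMap A B) h).obj ω) i M))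
  (hδ : ∀ (p : PrimeSpectrum A) (i : ℤ),
    p ∈ Module.support A (E ω i (A ⧸ p.asIdeal)) ↔ i = -δ p)
  (hδ' : ∀ (p : PrimeSpectrum B) (i : ℤ),
    p ∈ Module.support B (E ((flatBC (algebraMap A B) h).obj ω) i (B ⧸ p.asIdeal)) ↔ i = -δ' p)

include k hδ hfin' hδ' in
theorem delta_le (P : PrimeSpectrum B) : δ' P ≤ δ (PrimeSpectrum.comap (algebraMap A B) P) := by
  set p := PrimeSpectrum.comap (algebraMap A B) P with hp
  have h1 := (mem_support_E_iff h ω k (A ⧸ p.asIdeal) (-δ p) P).mpr ((hδ p _).mpr rfl)
  by_contra hcon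
  exact notMem_of_gt _ hfin' hδ' P _ (-δ p) (by omega) h1

include k hδ hδ' in
theorem delta_eq (P : PrimeSpectrum B)
    (hP : (PrimeSpectrum.comap (algebraMap A B) P).asIdeal.map (algebraMap A B) = P.asIdeal) :
    δ' P = δ (PrimeSpectrum.comap (algebraMap A B) P) := by
  set p := PrimeSpectrum.comap (algebraMap A B) P with hp
  have h1 := (mem_support_E_iff h ω k (A ⧸ p.asIdeal) (-δ p) P).mpr ((hδ p _).mpr rfl)
  rw [support_congr _ _ ((Algebra.TensorProduct.quotIdealMapEquivTensorQuot B p.asIdeal).symm.toLinearEquiv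
    ≪≫ₗ Submodule.quotEquivOfEq _ _ hP), hδ'] at h1
  omega

include k hδ hfin hfin' hδ' in
/-- The depth of a flat base change. -/
theorem natCast_le_depth_tensor_iff (P : PrimeSpectrum B) (M : Type u) [AddCommGroup M]
    [Module A M] [Module.Finite A M] (n m : ℕ)
    (hm : δ (PrimeSpectrum.comap (algebraMap A B) P) = δ' P + m) :
    (n : ℕ∞) ≤ LocCoh.depth (Localization.AtPrime P.asIdeal)
      (LocalizedModule P.asIdeal.primeCompl (B ⊗[A] M)) ↔
    ((n - m : ℕ) : ℕ∞) ≤ LocCoh.depth
      (Localization.AtPrime (PrimeSpectrum.comap (algebraMap A B) P).asIdeal)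
      (LocalizedModule (PrimeSpectrum.comap (algebraMap A B) P).asIdeal.primeCompl M) := by
  rw [DExtDepth.natCast_le_depth_iff _ hfin' hδ', DExtDepth.natCast_le_depth_iff ω hfin hδ]
  constructor
  · intro H d hd
    have := H (d + m) (by omega)
    rw [mem_support_E_iff h ω k] at this
    have e1 : -δ' P - ((d + m : ℕ) : ℤ) = -δ (PrimeSpectrum.comap (algebraMap A B) P) - d := by
      push_cast; omega
    rwa [e1] at this
  · intro H d hd
    rw [mem_support_E_iff h ω k]
    by_cases hdm : d < m
    · exact notMem_of_gt ω hfin hδ _ M _ (by omega)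
    · have := H (d - m) (by omega)
      have e1 : -δ' P - (d : ℤ) = -δ (PrimeSpectrum.comap (algebraMap A B) P) - ((d - m : ℕ) : ℤ) := by
        omega
      rwa [e1]

include k hδ hfin hfin' hδ' in
/-- The depth of a flat base change. -/
theorem depth_tensor (P : PrimeSpectrum B) (M : Type u) [AddCommGroup M]
    [Module A M] [Module.Finite A M] (m : ℕ)
    (hm : δ (PrimeSpectrum.comap (algebraMap A B) P) = δ' P + m) :
    LocCoh.depth (Localization.AtPrime P.asIdeal)
      (LocalizedModule P.asIdeal.primeCompl (B ⊗[A] M)) =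
    LocCoh.depth
      (Localization.AtPrime (PrimeSpectrum.comap (algebraMap A B) P).asIdeal)
      (LocalizedModule (PrimeSpectrum.comap (algebraMap A B) P).asIdeal.primeCompl M) + m := by
  refine ENat.eq_of_forall_natCast_le_iff fun n => ?_
  rw [natCast_le_depth_tensor_iff h ω k hfin hfin' hδ hδ' P M n m hm]
  generalize LocCoh.depth
      (Localization.AtPrime (PrimeSpectrum.comap (algebraMap A B) P).asIdeal)
      (LocalizedModule (PrimeSpectrum.comap (algebraMap A B) P).asIdeal.primeCompl M) = x
  induction x using ENat.recTopCoe with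
  | top => simp
  | coe x =>
    norm_cast
    omega

end Depth

end Groth.Agent.LoccohA.DExtBC
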