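import Mathlib.RingTheory.Ideal.KrullsHeightTheorem
import Mathlib.Order.KrullDimension
import Mathlib.RingTheory.Spectrum.Prime.Basic
import Mathlib.RingTheory.KrullDimension.NonZeroDivisors
import Mathlib.RingTheory.LocalRing.MaximalIdeal.Basic
import Mathlib.RingTheory.Spectrum.Prime.Topology

/-!
# Dimension functions on the spectrum of a Noetherian ring

`δ : PrimeSpectrum A → ℤ` with `δ p = δ q + 1` whenever `p ⋖ q`.
-/

set_option autoImplicit false
universe u

namespace Groth.Agent.LoccohA.DimFun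

variable {A : Type u} [CommRing A] [IsNoetherianRing A] {δ : PrimeSpectrum A → ℤ}

instance wellFoundedGT_primeSpectrum : WellFoundedGT (PrimeSpectrum A) := by
  have h : StrictMono (fun p : PrimeSpectrum A => p.asIdeal) := fun _ _ h => h
  exact h.wellFoundedGT

/-- the chain from `p` to `q`. -/
lemma exists_ltSeries (hδ : ∀ p q : PrimeSpectrum A, p ⋖ q → δ p = δ q + 1)
    {p q : PrimeSpectrum A} (h : p ≤ q) :
    ∃ s : LTSeries (PrimeSpectrum A), s.head = p ∧ s.last = q ∧ δ p = δ q + (s.length : ℤ) := by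
  obtain ⟨n, hn⟩ : ∃ n : ℕ, q.asIdeal.height = n :=
    ENat.ne_top_iff_exists.mp (Ideal.height_ne_top q.2.ne_top) |>.imp fun _ h => h.symm
  induction n using Nat.strong_induction_on generalizing q with
  | _ n ih =>
    rcases h.eq_or_lt with rfl | hlt
    · exact ⟨RelSeries.singleton _ p, rfl, rfl, by simp⟩
    · obtain ⟨r, hpr, hrq⟩ := exists_le_covBy_of_lt hlt
      have hr : r.asIdeal.height < q.asIdeal.height :=
        Ideal.height_strict_mono_of_isPrime_of_isPrime (show r.asIdeal < q.asIdeal from hrq.lt)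
      obtain ⟨m, hm⟩ : ∃ m : ℕ, r.asIdeal.height = m :=
        ENat.ne_top_iff_exists.mp (Ideal.height_ne_top r.2.ne_top) |>.imp fun _ h => h.symm
      obtain ⟨s, hs1, hs2, hs3⟩ := ih m (by rw [hm, hn] at hr; exact_mod_cast hr) hpr hm
      refine ⟨s.snoc q (by rw [hs2]; exact hrq.lt), by simp [hs1], by simp, ?_⟩
      rw [hs3, hδ r q hrq]
      simp only [RelSeries.snoc_length, Nat.cast_add, Nat.cast_one]
      ring

lemma le_of_le (hδ : ∀ p q : PrimeSpectrum A, p ⋖ q → δ p = δ q + 1)
    {p q : PrimeSpectrum A} (h : p ≤ q) : δ q ≤ δ p := by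
  obtain ⟨s, -, -, hs⟩ := exists_ltSeries hδ h
  omega

lemma lt_of_lt (hδ : ∀ p q : PrimeSpectrum A, p ⋖ q → δ p = δ q + 1)
    {p q : PrimeSpectrum A} (h : p < q) : δ q < δ p := by
  obtain ⟨r, hpr, hrq⟩ := exists_le_covBy_of_lt h
  have h1 := le_of_le hδ hpr
  have h2 := hδ r q hrq
  omega

lemma length_le (hδ : ∀ p q : PrimeSpectrum A, p ⋖ q → δ p = δ q + 1)
    (s : LTSeries (PrimeSpectrum A)) : (s.length : ℤ) ≤ δ s.head - δ s.last := by
  induction s using RelSeries.inductionOn' with
  | singleton x => simp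
  | snoc s x hx ih =>
    have := lt_of_lt hδ hx
    simp only [RelSeries.snoc_length, Nat.cast_add, Nat.cast_one, RelSeries.head_snoc,
      RelSeries.last_snoc]
    omega

/-- The Krull dimension of the interval `[p, q]` of primes is `δ p - δ q`. -/
theorem krullDim_Icc (hδ : ∀ p q : PrimeSpectrum A, p ⋖ q → δ p = δ q + 1)
    {p q : PrimeSpectrum A} (h : p ≤ q) (n : ℕ) :
    Order.krullDim (Set.Icc p q) = n ↔ δ p = δ q + n := by
  suffices key : ∀ m : ℕ, δ p = δ q + m → Order.krullDim (Set.Icc p q) = m by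
    refine ⟨fun hn => ?_, key n⟩
    obtain ⟨s, -, -, hs⟩ := exists_ltSeries hδ h
    have := key _ hs
    rw [this] at hn
    rw [hs]
    have : s.length = n := by exact_mod_cast hn
    rw [this]
  intro m hm
  refine le_antisymm (iSup_le fun l => ?_) ?_
  · have h1 := length_le hδ (l.map (fun x => (x : PrimeSpectrum A)) (fun _ _ h => h))
    have h2 := le_of_le hδ l.head.2.1
    have h3 := le_of_le hδ l.last.2.2
    simp only [LTSeries.map_length, LTSeries.head_map, LTSeries.last_map] at h1
    have : l.length ≤ m := by omega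
    exact_mod_cast this
  · obtain ⟨s, hs1, hs2, hs3⟩ := exists_ltSeries hδ h
    have hlen : s.length = m := by omega
    subst hlen
    let t : LTSeries (Set.Icc p q) :=
      { length := s.length
        toFun := fun i => ⟨s i, by
          constructor
          · rw [← hs1]; exact s.monotone (Fin.zero_le i)
          · rw [← hs2]; exact s.monotone (Fin.le_last i)⟩
        step := fun i => s.step i }
    exact _root_.Order.LTSeries.length_le_krullDim t

/-- In a local ring, `dim A/p = δ p - δ m`. -/
theorem dim_quotient [IsLocalRing A]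
    (hδ : ∀ p q : PrimeSpectrum A, p ⋖ q → δ p = δ q + 1) (p : PrimeSpectrum A) (n : ℕ) :
    ringKrullDim (A ⧸ p.asIdeal) = n ↔ δ p = δ (IsLocalRing.closedPoint A) + n := by
  rw [← krullDim_Icc hδ (IsLocalRing.le_maximalIdeal p.2.ne_top : p ≤ IsLocalRing.closedPoint A),
    _root_.ringKrullDim_quotient]
  have : Set.Icc p (IsLocalRing.closedPoint A) = PrimeSpectrum.zeroLocus (p.asIdeal : Set A) := by
    ext q
    constructor
    · intro h; exact h.1
    · intro h; exact ⟨h, IsLocalRing.le_maximalIdeal q.2.ne_top⟩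
  rw [this]

end Groth.Agent.LoccohA.DimFun
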