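import Groth.Agent.LoccohA.DExtSupp
import Groth.Agent.LoccohA.DimFun
import Groth.Agent.LoccohA.DepthSpread
import Mathlib.RingTheory.Ideal.AssociatedPrime.Localization

/-!
# Supports of `E^i(M) = Hom_{D(A)}(M, ω[i])` for an object `ω` with a dimension function

We assume: `E^i(M)` is finite for finite `M`, and `δ : Spec A → ℤ` is such that `E^i(A/p)_p ≠ 0` iff `i = -δ p`,
and `δ p = δ q + 1` for `p ⋖ q`.  Then (`c = -δ p`):
* `E^i(M)_p = 0` for `i > c`;
* `depth M_p = min {d | E^{c-d}(M)_p ≠ 0}`;
* `dim M_p = max {d | E^{c-d}(M)_p ≠ 0}`.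
-/

set_option autoImplicit false
universe u v w
open CategoryTheory CategoryTheory.Limits Pretriangulated
attribute [local instance] HasDerivedCategory.standard

namespace Groth.Agent.LoccohA.DExtDim

open Groth.Agent.LoccohA.DExt Groth.Agent.LoccohA.DExtSupp

lemma mem_support_quot {A : Type u} [CommRing A] {I : Ideal A} {p : PrimeSpectrum A} :
    p ∈ Module.support A (A ⧸ I) ↔ I ≤ p.asIdeal := by
  rw [Module.support_eq_zeroLocus, Ideal.annihilator_quotient]
  exact PrimeSpectrum.mem_zeroLocus p _

variable {A : Type u} [CommRing A] [IsNoetherianRing A] (ω : Dual.D A)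

/-- dévissage: if `E^i(A/q)_p = 0` for all `q ∈ Z` then `E^i(M)_p = 0` for all finite `M` supported in `Z`. -/
lemma devissage (p : PrimeSpectrum A) (i : ℤ) (Z : Set (PrimeSpectrum A))
    (hZ : ∀ q ∈ Z, p ∉ Module.support A (E ω i (A ⧸ q.asIdeal)))
    (M : Type u) [AddCommGroup M] [Module A M] [hM : Module.Finite A M]
    (hMZ : Module.support A M ⊆ Z) : p ∉ Module.support A (E ω i M) := by
  revert hMZ
  induction hM using IsNoetherianRing.induction_on_isQuotientEquivQuotientPrime A with
  | subsingleton N =>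
    intro _ hp
    have := support_subset ω i hp
    rw [Module.support_eq_empty] at this
    exact this
  | quotient N q e =>
    intro hN
    rw [support_congr ω i e]
    refine hZ q (hN ?_)
    rw [LinearEquiv.support_eq e, mem_support_quot]
  | exact N₁ N₂ N₃ f g hf hg hfg h₁ h₃ =>
    intro hN
    have hs := Module.support_of_exact hfg hf hg
    exact notMem₂ ω hf hfg hg i (h₁ (fun x hx => hN (hs ▸ Or.inl hx)))
      (h₃ (fun x hx => hN (hs ▸ Or.inr hx)))

variable (hfin : ∀ (i : ℤ) (M : Type u) [AddCommGroup M] [Module A M] [Module.Finite A M],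
    Module.Finite A (E ω i M))
  {δ : PrimeSpectrum A → ℤ}
  (hδ : ∀ (p : PrimeSpectrum A) (i : ℤ),
    p ∈ Module.support A (E ω i (A ⧸ p.asIdeal)) ↔ i = -δ p)

omit [IsNoetherianRing A] in
/-- the kernel of multiplication by a nonzero element on `A/q` is zero -/
lemma ker_eq_bot {q : PrimeSpectrum A} {x : A} (hx : x ∉ q.asIdeal) :
    K (A ⧸ q.asIdeal) x = ⊥ := by
  rw [LinearMap.ker_eq_bot']
  intro m hm
  have h1 : (Ideal.Quotient.mk q.asIdeal x) * m = 0 := by
    simpa [Algebra.smul_def] using! hm
  rcases mul_eq_zero.mp h1 with h | h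
  · exact (hx (Ideal.Quotient.eq_zero_iff_mem.mp h)).elim
  · exact h

omit [IsNoetherianRing A] in
lemma notMem_support_ker {q : PrimeSpectrum A} {x : A} (hx : x ∉ q.asIdeal) (p : PrimeSpectrum A) :
    p ∉ Module.support A (K (A ⧸ q.asIdeal) x) := by
  rw [ker_eq_bot hx]
  have : Subsingleton (⊥ : Submodule A (A ⧸ q.asIdeal)) := inferInstance
  rw [Module.support_eq_empty]
  exact Set.notMem_empty _

omit [IsNoetherianRing A] in
lemma support_Q_subset {M : Type u} [AddCommGroup M] [Module A M] [Module.Finite A M] (x : A) :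
    Module.support A (Q M x) ⊆ Module.support A M ∩ PrimeSpectrum.zeroLocus {x} := by
  intro p hp
  refine ⟨Module.support_subset_of_surjective _ (Submodule.mkQ_surjective _) hp, ?_⟩
  rw [Module.support_eq_zeroLocus] at hp
  have : x ∈ Module.annihilator A (Q M x) := by
    rw [Module.mem_annihilator]
    intro m
    obtain ⟨m, rfl⟩ := Submodule.Quotient.mk_surjective _ m
    rw [← Submodule.Quotient.mk_smul, Submodule.Quotient.mk_eq_zero]
    exact ⟨m, rfl⟩
  intro y hy
  rw [Set.mem_singleton_iff] at hy
  subst hy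
  exact hp this

omit [IsNoetherianRing A] in
lemma lt_of_mem_support_Q {q : PrimeSpectrum A} {x : A} (hx : x ∉ q.asIdeal) {r : PrimeSpectrum A}
    (hr : r ∈ Module.support A (Q (A ⧸ q.asIdeal) x)) : q < r := by
  obtain ⟨h1, h2⟩ := support_Q_subset x hr
  rw [mem_support_quot] at h1
  refine lt_of_le_of_ne h1 ?_
  rintro rfl
  exact hx (h2 rfl)

include hfin hδ in
/-- `E^i(M)_p = 0` for `i > -δ p`. -/
theorem notMem_of_gt (p : PrimeSpectrum A) (M : Type u) [AddCommGroup M] [Module A M]
    [Module.Finite A M] (i : ℤ) (hi : -δ p < i) : p ∉ Module.support A (E ω i M) := by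
  suffices H : ∀ (q : PrimeSpectrum A) (i : ℤ), -δ p < i →
      p ∉ Module.support A (E ω i (A ⧸ q.asIdeal)) from
    devissage ω p i Set.univ (fun q _ => H q i hi) M (Set.subset_univ _)
  intro q
  induction q using WellFoundedGT.induction with
  | ind q ih =>
    intro i hi
    by_cases hqp : q ≤ p
    · rcases hqp.eq_or_lt with rfl | hlt
      · rw [hδ]; omega
      · obtain ⟨x, hxp, hxq⟩ : ∃ x ∈ p.asIdeal, x ∉ q.asIdeal :=
          Set.exists_of_ssubset (show q.asIdeal < p.asIdeal from hlt)
        refine notMem_of_smul ω p hxp i (i + 1) rfl (hfin i _) (notMem_support_ker hxq p) ?_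
        refine devissage ω p (i + 1) {r | q < r} (fun r hr => ih r hr (i + 1) (by omega)) _ ?_
        intro r hr
        exact lt_of_mem_support_Q hxq hr
    · intro h
      have := support_subset ω i h
      rw [mem_support_quot] at this
      exact hqp this

include hfin hδ in
/-- `E^i(A/q)_p = 0` for `i < -δ q`. -/
theorem notMem_quotient_of_lt (hcov : ∀ p q : PrimeSpectrum A, p ⋖ q → δ p = δ q + 1)
    (p q : PrimeSpectrum A) (i : ℤ) (hi : i < -δ q) :
    p ∉ Module.support A (E ω i (A ⧸ q.asIdeal)) := by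
  induction q using WellFoundedGT.induction generalizing i with
  | ind q ih =>
    by_cases hqp : q ≤ p
    · rcases hqp.eq_or_lt with rfl | hlt
      · rw [hδ]; omega
      · obtain ⟨x, hxp, hxq⟩ : ∃ x ∈ p.asIdeal, x ∉ q.asIdeal :=
          Set.exists_of_ssubset (show q.asIdeal < p.asIdeal from hlt)
        refine notMem_of_smul ω p hxp i (i + 1) rfl (hfin i _) (notMem_support_ker hxq p) ?_
        refine devissage ω p (i + 1) {r | q < r} (fun r hr => ih r hr (i + 1) ?_) _ ?_
        · have := DimFun.lt_of_lt hcov hr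
          omega
        · intro r hr
          exact lt_of_mem_support_Q hxq hr
    · intro h
      have := support_subset ω i h
      rw [mem_support_quot] at this
      exact hqp this

include hfin hδ in
/-- If `E^i(M)_p ≠ 0` then `-δ q ≤ i` for some `q ∈ Supp M`, `q ≤ p`. -/
theorem exists_le_of_mem (hcov : ∀ p q : PrimeSpectrum A, p ⋖ q → δ p = δ q + 1)
    (p : PrimeSpectrum A) (M : Type u) [AddCommGroup M] [Module A M]
    [Module.Finite A M] (i : ℤ) (hp : p ∈ Module.support A (E ω i M)) :
    ∃ q ∈ Module.support A M, q ≤ p ∧ -δ q ≤ i := by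
  by_contra hcon
  push Not at hcon
  refine devissage ω p i (Module.support A M) (fun q hq => ?_) M subset_rfl hp
  by_cases hqp : q ≤ p
  · exact notMem_quotient_of_lt ω hfin hδ hcov p q i (hcon q hq hqp)
  · intro h
    have := support_subset ω i h
    rw [mem_support_quot] at this
    exact hqp this

include hfin hδ in
/-- `E^{-δ p}(M)_p ≠ 0` if `p` is associated to `M`. -/
theorem mem_of_mem_associatedPrimes (p : PrimeSpectrum A) (M : Type u) [AddCommGroup M] [Module A M]
    [Module.Finite A M] (hp : p.asIdeal ∈ associatedPrimes A M) :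
    p ∈ Module.support A (E ω (-δ p) M) := by
  obtain ⟨-, f, hf⟩ := (isAssociatedPrime_iff_exists_injective_linearMap _ _).mp hp
  by_contra hcon
  have hfg : Function.Exact f (LinearMap.range f).mkQ := by
    rw [LinearMap.exact_iff]; simp
  have h1 := notMem₁ ω hf hfg (Submodule.mkQ_surjective _) (-δ p) (-δ p + 1) rfl hcon
    (notMem_of_gt ω hfin hδ p _ _ (by omega))
  exact h1 ((hδ p _).mpr rfl)

end Groth.Agent.LoccohA.DExtDim
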