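import Groth.Agent.LoccohA.DExt
import Mathlib.RingTheory.Regular.RegularSequence
import Mathlib.RingTheory.LocalRing.MaximalIdeal.Basic
import Mathlib.RingTheory.Nakayama
import Mathlib.RingTheory.Localization.AtPrime.Basic
import Mathlib.RingTheory.Localization.Finiteness

/-!
# Supports of `E^i(M) = Hom_{D(A)}(M, ω[i])`
-/

set_option autoImplicit false
universe u v w
open CategoryTheory CategoryTheory.Limits Pretriangulated
attribute [local instance] HasDerivedCategory.standard

namespace Groth.Agent.LoccohA.DExtSupp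

open Groth.Agent.LoccohA.DExt

variable {A : Type u} [CommRing A]

section General

variable {X : Type*} {Y : Type*} {Z : Type*} [AddCommGroup X] [Module A X]
  [AddCommGroup Y] [Module A Y] [AddCommGroup Z] [Module A Z]

lemma support_subset_union {f : X →ₗ[A] Y} {g : Y →ₗ[A] Z} (h : Function.Exact f g) :
    Module.support A Y ⊆ Module.support A X ∪ Module.support A Z := by
  intro p hp
  by_contra hn
  rw [Set.mem_union, not_or, Module.notMem_support_iff', Module.notMem_support_iff'] at hn
  refine (Module.notMem_support_iff'.mpr fun y => ?_) hp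
  obtain ⟨s, hs, hs'⟩ := hn.2 (g y)
  obtain ⟨x, hx⟩ := (h (s • y)).mp (by rw [map_smul, hs'])
  obtain ⟨t, ht, ht'⟩ := hn.1 x
  exact ⟨t * s, fun h => (p.2.mem_or_mem h).elim ht hs, by rw [mul_smul, ← hx, ← map_smul, ht', map_zero]⟩

lemma notMem_support_of_exact {f : X →ₗ[A] Y} {g : Y →ₗ[A] Z} (h : Function.Exact f g)
    {p : PrimeSpectrum A} (hX : p ∉ Module.support A X) (hZ : p ∉ Module.support A Z) :
    p ∉ Module.support A Y := fun hp =>
  (support_subset_union h hp).elim hX hZ

/-- Nakayama at a prime. -/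
lemma notMem_support_of_nakayama [Module.Finite A X] {p : PrimeSpectrum A} {a : A}
    (ha : a ∈ p.asIdeal) (h : ∀ x : X, ∃ s ∉ p.asIdeal, ∃ y : X, s • x = a • y) :
    p ∉ Module.support A X := by
  rw [Module.notMem_support_iff]
  have hfin : Module.Finite (Localization p.asIdeal.primeCompl)
    (LocalizedModule p.asIdeal.primeCompl X) :=
    Module.Finite.of_isLocalizedModule p.asIdeal.primeCompl
      (LocalizedModule.mkLinearMap p.asIdeal.primeCompl X)
  have key : (⊤ : Submodule (Localization.AtPrime p.asIdeal)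
      (LocalizedModule p.asIdeal.primeCompl X)) = ⊥ := by
    refine Submodule.eq_bot_of_le_smul_of_le_jacobson_bot
      (IsLocalRing.maximalIdeal (Localization.AtPrime p.asIdeal)) ⊤
      (Module.finite_def.mp hfin) ?_ (IsLocalRing.maximalIdeal_le_jacobson _)
    intro z _
    induction z using LocalizedModule.induction_on with
    | _ x s =>
      obtain ⟨t, ht, y, hy⟩ := h x
      have : LocalizedModule.mk x s = (algebraMap A (Localization.AtPrime p.asIdeal) a) •
          (LocalizedModule.mk y (⟨t, ht⟩ * s) : LocalizedModule p.asIdeal.primeCompl X) := by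
        rw [algebraMap_smul, LocalizedModule.smul'_mk, ← hy]
        rw [LocalizedModule.mk_eq]
        refine ⟨1, ?_⟩
        simp only [one_smul, Submonoid.smul_def, mul_smul]
        rw [smul_comm]
      rw [this]
      refine Submodule.smul_mem_smul ?_ trivial
      rw [← Localization.AtPrime.map_eq_maximalIdeal]
      exact Ideal.mem_map_of_mem _ ha
  exact (Submodule.subsingleton_iff (Localization.AtPrime p.asIdeal)).mp
    (subsingleton_of_bot_eq_top key.symm)

end General

section E

variable (ω : Dual.D A)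
variable {M N P : Type u} [AddCommGroup M] [Module A M] [AddCommGroup N] [Module A N]
  [AddCommGroup P] [Module A P] {f : M →ₗ[A] N} {g : N →ₗ[A] P}

/-- an element killing `M` kills `E^i(M)`. -/
lemma smul_eq_zero (i : ℤ) {a : A} (ha : ∀ m : M, a • m = 0) (x : E ω i M) : a • x = 0 := by
  have h1 : a • (LinearMap.id : M →ₗ[A] M) = 0 := LinearMap.ext fun m => ha m
  have h2 := Emap_smul ω i a (LinearMap.id : M →ₗ[A] M)
  rw [h1, Emap_id, Emap_zero] at h2
  have := LinearMap.congr_fun h2 x
  simpa using this.symm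

/-- multiplication by `a` on `M` induces multiplication by `a` on `E^i(M)`. -/
lemma Emap_lsmul (i : ℤ) (a : A) (x : E ω i M) :
    Emap ω i (a • (LinearMap.id : M →ₗ[A] M)) x = a • x := by
  rw [Emap_smul, Emap_id]; rfl

lemma support_subset (i : ℤ) [Module.Finite A M] :
    Module.support A (E ω i M) ⊆ Module.support A M := by
  intro p hp
  rw [Module.support_eq_zeroLocus]
  intro a ha
  by_contra hap
  refine (Module.notMem_support_iff'.mpr fun x => ⟨a, hap, ?_⟩) hp
  exact smul_eq_zero ω i (fun m => Module.mem_annihilator.mp ha m) x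

lemma support_congr (i : ℤ) (e : M ≃ₗ[A] N) :
    Module.support A (E ω i M) = Module.support A (E ω i N) :=
  LinearEquiv.support_eq (EmapEquiv ω i e).symm

variable (hf : Function.Injective f) (hfg : Function.Exact f g) (hg : Function.Surjective g)

include hf hfg hg

lemma notMem₂ (i : ℤ) {p : PrimeSpectrum A} (h₁ : p ∉ Module.support A (E ω i M))
    (h₃ : p ∉ Module.support A (E ω i P)) : p ∉ Module.support A (E ω i N) :=
  notMem_support_of_exact (exact₂ ω hf hfg hg i) h₃ h₁

lemma notMem₁ (i j : ℤ) (h : i + 1 = j) {p : PrimeSpectrum A}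
    (h₂ : p ∉ Module.support A (E ω i N))
    (h₃ : p ∉ Module.support A (E ω j P)) : p ∉ Module.support A (E ω i M) :=
  notMem_support_of_exact (exact₁ ω hf hfg hg i j h) h₂ h₃

lemma notMem₃ (i j : ℤ) (h : i + 1 = j) {p : PrimeSpectrum A}
    (h₁ : p ∉ Module.support A (E ω i M))
    (h₂ : p ∉ Module.support A (E ω j N)) : p ∉ Module.support A (E ω j P) :=
  notMem_support_of_exact (exact₃ ω hf hfg hg i j h) h₁ h₂

end E

section Mul

variable (ω : Dual.D A) {M : Type u} [AddCommGroup M] [Module A M] [Module.Finite A M]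
  [IsNoetherianRing A]

/-- the submodule `ker (a : M → M)`. -/
abbrev K (M : Type u) [AddCommGroup M] [Module A M] (a : A) : Submodule A M :=
  LinearMap.ker (a • (LinearMap.id : M →ₗ[A] M))

/-- `M / aM`. -/
abbrev Q (M : Type u) [AddCommGroup M] [Module A M] (a : A) : Type u :=
  M ⧸ LinearMap.range (a • (LinearMap.id : M →ₗ[A] M))

/-- If `a ∈ p` is injective on `M_p` and `E^{i+1}(M/aM)_p = 0` then `E^i(M)_p = 0`. -/
lemma notMem_of_smul (p : PrimeSpectrum A) {a : A} (ha : a ∈ p.asIdeal) (i j : ℤ) (h : i + 1 = j)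
    (hfin : Module.Finite A (E ω i M))
    (hK : p ∉ Module.support A (K M a)) (hQ : p ∉ Module.support A (E ω j (Q M a))) :
    p ∉ Module.support A (E ω i M) := by
  set φ : M →ₗ[A] M := a • (LinearMap.id : M →ₗ[A] M) with hφ
  refine notMem_support_of_nakayama ha fun x => ?_
  -- sequence `0 → K → M → R → 0`
  have e1 : Function.Exact (LinearMap.ker φ).subtype φ.rangeRestrict := by
    rw [LinearMap.exact_iff]; simp
  have e2 : Function.Exact (LinearMap.range φ).subtype (LinearMap.range φ).mkQ := by
    rw [LinearMap.exact_iff]; simp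
  have hR : p ∉ Module.support A (E ω i (K M a)) := fun h => hK (support_subset ω i h)
  -- `x` restricted to `K` is zero locally
  obtain ⟨s, hs, hsx⟩ := Module.notMem_support_iff'.mp hR
    (Emap ω i (LinearMap.ker φ).subtype x)
  rw [← LinearMap.map_smul] at hsx
  obtain ⟨y, hy⟩ := (exact₂ ω (LinearMap.ker φ).injective_subtype e1
    φ.surjective_rangeRestrict i (s • x)).mp hsx
  obtain ⟨t, ht, hty⟩ := Module.notMem_support_iff'.mp hQ
    (conn ω (LinearMap.range φ).injective_subtype e2 (Submodule.mkQ_surjective _) i j h y)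
  rw [← LinearMap.map_smul] at hty
  obtain ⟨z, hz⟩ := (exact₁ ω (LinearMap.range φ).injective_subtype e2
    (Submodule.mkQ_surjective _) i j h (t • y)).mp hty
  refine ⟨t * s, fun h => (p.2.mem_or_mem h).elim ht hs, z, ?_⟩
  rw [← Emap_lsmul ω i a z, ← hφ, mul_smul, ← hy, ← LinearMap.map_smul, ← hz, ← LinearMap.comp_apply,
    ← Emap_comp]
  rfl

/-- If `a` is injective on `M_p`, `E^i(M)_p = 0` and `E^{i+1}(M)_p = 0` then `E^{i+1}(M/aM)_p = 0`. -/
lemma notMem_quot (p : PrimeSpectrum A) {a : A} (i j : ℤ) (h : i + 1 = j)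
    (hK : p ∉ Module.support A (K M a))
    (hi : p ∉ Module.support A (E ω i M)) (hj : p ∉ Module.support A (E ω j M)) :
    p ∉ Module.support A (E ω j (Q M a)) := by
  set φ : M →ₗ[A] M := a • (LinearMap.id : M →ₗ[A] M) with hφ
  have e1 : Function.Exact (LinearMap.ker φ).subtype φ.rangeRestrict := by
    rw [LinearMap.exact_iff]; simp
  have e2 : Function.Exact (LinearMap.range φ).subtype (LinearMap.range φ).mkQ := by
    rw [LinearMap.exact_iff]; simp
  have hR : p ∉ Module.support A (E ω i (LinearMap.range φ)) := by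
    -- E^{i-1}(K) → E^i(R) → E^i(M)
    refine notMem₃ ω (LinearMap.ker φ).injective_subtype e1 φ.surjective_rangeRestrict
      (i - 1) i (by ring) (fun h => hK (support_subset ω (i - 1) h)) hi
  exact notMem₃ ω (LinearMap.range φ).injective_subtype e2 (Submodule.mkQ_surjective _) i j h hR hj

end Mul

end Groth.Agent.LoccohA.DExtSupp
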