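import Groth.Agent.LoccohA.DzInj
import Mathlib.Algebra.Module.FinitePresentation
import Mathlib.RingTheory.Finiteness.Cardinality

/-!
# Biduality for finite modules

`J` is a K-injective complex of injective `A`-modules, `L` an object of `D(A)`.  The cohomological functor
`M ↦ (Q (Hom(M, J)) ⟶ L[k])` on finite modules over the Noetherian ring `A`.
-/

set_option linter.unusedSectionVars false
set_option backward.isDefEq.respectTransparency.types false

universe u

open CategoryTheory Limits Pretriangulated Category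

namespace Groth.Agent.LoccohA.DzBidual

open DzExact DzTrunc DzHom DzHomology DerivedCategory HomologicalComplex

attribute [local instance] HasDerivedCategory.standard

variable {A : Type u} [CommRing A]

/-- `F^k(M) = Hom_{D(A)}(Hom(M, J), L[k])`. -/
noncomputable abbrev F (J : CochainComplex (ModuleCat.{u} A) ℤ) (L : Dual.D A) (k : ℤ)
    (M : ModuleCat.{u} A) : Type (u + 1) :=
  Q.obj (G M J) ⟶ L⟦k⟧

section

variable (J : CochainComplex (ModuleCat.{u} A) ℤ) (L : Dual.D A)

/-- Functoriality. -/
noncomputable def Fmap (k : ℤ) {M N : ModuleCat.{u} A} (f : M ⟶ N) :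
    F J L k M →ₗ[A] F J L k N :=
  Linear.leftComp A (L⟦k⟧) (Q.map (Gmap f J))

lemma Fmap_apply (k : ℤ) {M N : ModuleCat.{u} A} (f : M ⟶ N) (x : F J L k M) :
    Fmap J L k f x = Q.map (Gmap f J) ≫ x := rfl

/-- `F^k(A) = Hom(Q J, L[k])`. -/
noncomputable def FAequiv (k : ℤ) :
    (Q.obj J ⟶ L⟦k⟧) ≃ₗ[A] F J L k (ModuleCat.of A A) :=
  Linear.homCongr A (Q.mapIso (GAiso J).symm) (Iso.refl _)

/-- the natural map `M → F^0(M)` attached to `α : Q J ⟶ L[0]`. -/
noncomputable def eta (k : ℤ) (α : Q.obj J ⟶ L⟦k⟧) (M : ModuleCat.{u} A) :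
    M →ₗ[A] F J L k M where
  toFun m := Q.map (ev M J m) ≫ α
  map_add' m m' := by rw [ev_add, Functor.map_add, Preadditive.add_comp]
  map_smul' a m := by rw [ev_smul, Functor.map_smul, Linear.smul_comp, RingHom.id_apply]

lemma eta_apply (k : ℤ) (α : Q.obj J ⟶ L⟦k⟧) (M : ModuleCat.{u} A) (m : M) :
    eta J L k α M m = Q.map (ev M J m) ≫ α := rfl

lemma eta_naturality (k : ℤ) (α : Q.obj J ⟶ L⟦k⟧) {M N : ModuleCat.{u} A} (f : M ⟶ N) (m : M) :
    Fmap J L k f (eta J L k α M m) = eta J L k α N (f.hom m) := by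
  rw [Fmap_apply, eta_apply, eta_apply, ← Category.assoc, ← Functor.map_comp, Gmap_ev]

lemma eta_A (k : ℤ) (α : Q.obj J ⟶ L⟦k⟧) (a : A) :
    eta J L k α (ModuleCat.of A A) a = FAequiv J L k (a • α) := by
  have h1 : eta J L k α (ModuleCat.of A A) (1 : A) = FAequiv J L k α := by
    rw [eta_apply]
    simp [FAequiv, Linear.homCongr_apply, ← GAiso_hom]
  have h2 : eta J L k α (ModuleCat.of A A) a = a • eta J L k α (ModuleCat.of A A) (1 : A) := by
    rw [← map_smul]
    congr 1
    exact (mul_one a).symm
  rw [h2, h1, map_smul]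

lemma eta_A_bijective (k : ℤ) (α : Q.obj J ⟶ L⟦k⟧)
    (hα : Function.Bijective (fun a : A => a • α)) :
    Function.Bijective (eta J L k α (ModuleCat.of A A)) := by
  have : (eta J L k α (ModuleCat.of A A) : A → _) =
      (FAequiv J L k) ∘ (fun a : A => a • α) := by
    funext a
    exact eta_A J L k α a
  rw [show (⇑(eta J L k α (ModuleCat.of A A))) = (FAequiv J L k) ∘ (fun a : A => a • α) from this]
  exact (FAequiv J L k).bijective.comp hα

variable [hJ : ∀ i, Injective (J.X i)] {S : ShortComplex (ModuleCat.{u} A)} (hS : S.ShortExact)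

include hS

/-- the triangle. -/
noncomputable def tri : Triangle (Dual.D A) := triangleOfSES (Gsc_shortExact hS J)

lemma tri_dist : tri J hS ∈ distTriang _ := triangleOfSES_distinguished _

/-- connecting map. -/
noncomputable def Fdelta (k k' : ℤ) (h : k + 1 = k') : F J L k S.X₃ →ₗ[A] F J L k' S.X₁ :=
  delta A (tri J hS) L k k' h

lemma F_exact₂ (k : ℤ) : Function.Exact (Fmap J L k S.f) (Fmap J L k S.g) :=
  exact₂ A (tri J hS) (tri_dist J hS) (L⟦k⟧)

lemma F_exact₃ (k k' : ℤ) (h : k + 1 = k') :
    Function.Exact (Fmap J L k S.g) (Fdelta J L hS k k' h) :=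
  exact₁ A (tri J hS) (tri_dist J hS) L k k' h

lemma F_exact₁ (k k' : ℤ) (h : k + 1 = k') :
    Function.Exact (Fdelta J L hS k k' h) (Fmap J L k' S.f) :=
  exact₃ A (tri J hS) (tri_dist J hS) L k k' h

end

/-- An induction principle for finite free modules. -/
theorem free_induction (R : ModuleCat.{u} A → Prop)
    (h0 : ∀ M : ModuleCat.{u} A, Subsingleton M → R M)
    (hA : R (ModuleCat.of A A))
    (hext : ∀ (S : ShortComplex (ModuleCat.{u} A)), S.ShortExact → R S.X₁ → R S.X₃ → R S.X₂)
    (n : ℕ) : R (ModuleCat.of A (Fin n → A)) := by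
  induction n with
  | zero => exact h0 _ (inferInstanceAs (Subsingleton (Fin 0 → A)))
  | succ n ih =>
    let f : A →ₗ[A] (Fin (n + 1) → A) := LinearMap.single A (fun _ => A) 0
    let g : (Fin (n + 1) → A) →ₗ[A] (Fin n → A) := LinearMap.funLeft A A Fin.succ
    have hfg : g ∘ₗ f = 0 := by
      ext i
      simp [f, g, LinearMap.funLeft_apply]
    have hex : Function.Exact f g := by
      intro x
      constructor
      · intro hx
        refine ⟨x 0, ?_⟩
        ext i
        refine Fin.cases ?_ (fun j => ?_) i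
        · simp [f]
        · have := congrFun hx j
          simp only [g, LinearMap.funLeft_apply, Pi.zero_apply] at this
          simp [f, this]
      · rintro ⟨a, rfl⟩
        exact LinearMap.congr_fun hfg a
    let S : ShortComplex (ModuleCat.{u} A) :=
      ModuleCat.shortComplexOfCompEqZero f g hfg
    refine hext S ?_ hA ih
    refine ModuleCat.shortComplex_shortExact S hex ?_ ?_
    · intro a b hab
      have := congrFun (show f a = f b from hab) 0
      simpa [f] using this
    · intro y
      refine ⟨Fin.cons 0 y, ?_⟩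
      ext i
      change (Fin.cons 0 y : Fin (n + 1) → A) (Fin.succ i) = y i
      simp

/-- presentation of a finite module as a short exact sequence `0 → N → A^n → M → 0`. -/
theorem exists_presentation [IsNoetherianRing A] (M : ModuleCat.{u} A) [Module.Finite A M] :
    ∃ (n : ℕ) (S : ShortComplex (ModuleCat.{u} A)) (_ : S.ShortExact)
      (_ : S.X₃ = M) (_ : S.X₂ = ModuleCat.of A (Fin n → A)), Module.Finite A S.X₁ := by
  obtain ⟨n, f, hf⟩ := Module.Finite.exists_fin' A M
  let S : ShortComplex (ModuleCat.{u} A) :=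
    LinearMap.shortComplexKer f
  refine ⟨n, S, LinearMap.shortExact_shortComplexKer hf, rfl, rfl, ?_⟩
  change Module.Finite A (LinearMap.ker f)
  infer_instance

end Groth.Agent.LoccohA.DzBidual
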