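import Groth.Agent.LoccohA.DzBidual

/-!
# Biduality for finite modules: the theorem
-/

set_option linter.unusedSectionVars false
set_option backward.isDefEq.respectTransparency.types false

universe u

open CategoryTheory Limits Pretriangulated Category

namespace Groth.Agent.LoccohA.DzBidual2

open DzExact DzTrunc DzHom DzHomology DzBidual DerivedCategory HomologicalComplex

attribute [local instance] HasDerivedCategory.standard

variable {A : Type u} [CommRing A]

/-- Vanishing range of an object `L` of `D(A)`: `Hom(M, L[i]) = 0` for `i` outside `[a, b]`. -/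
def InjRange (L : Dual.D A) (a b : ℤ) : Prop :=
  ∀ (M : Type u) [AddCommGroup M] [Module A M] (i : ℤ), (i < a ∨ b < i) →
    Subsingleton (Dual.inD A M ⟶ L⟦i⟧)

lemma InjRange.of_iso {L L' : Dual.D A} (e : L ≅ L') {a b : ℤ} (h : InjRange L a b) :
    InjRange L' a b := by
  intro M _ _ i hi
  have := h M i hi
  exact (Linear.homCongr A (Iso.refl (Dual.inD A M)) ((shiftFunctor _ i).mapIso e)).symm.subsingleton

section

variable (J : CochainComplex (ModuleCat.{u} A) ℤ) [J.IsKInjective]

lemma QG_isGE {a b : ℤ} (h : InjRange (Q.obj J) a b) (M : ModuleCat.{u} A) :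
    (Q.obj (G M J)).IsGE a := by
  rw [isGE_iff]
  intro i hi
  have := h M i (Or.inl hi)
  have : Subsingleton ((homologyFunctor (ModuleCat.{u} A) i).obj (Q.obj (G M J))) :=
    (Ghomology' M J i).toEquiv.subsingleton
  exact ModuleCat.isZero_of_subsingleton _

lemma QG_isLE {a b : ℤ} (h : InjRange (Q.obj J) a b) (M : ModuleCat.{u} A) :
    (Q.obj (G M J)).IsLE b := by
  rw [isLE_iff]
  intro i hi
  have := h M i (Or.inr hi)
  have : Subsingleton ((homologyFunctor (ModuleCat.{u} A) i).obj (Q.obj (G M J))) :=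
    (Ghomology' M J i).toEquiv.subsingleton
  exact ModuleCat.isZero_of_subsingleton _

/-- Dévissage of `F^k(M)` along the truncations of `Hom(M, J)`. -/
lemma F_devissage {P : ∀ (E : Type (u + 1)) [AddCommGroup E] [Module A E], Prop}
    (hP : Closed A P) {a b : ℤ} (h : InjRange (Q.obj J) a b) (L : Dual.D A) (k : ℤ)
    (M : ModuleCat.{u} A)
    (hM : ∀ i : ℤ, a ≤ i → i ≤ b →
      P ((singleFunctor _ 0).obj ((homologyFunctor (ModuleCat.{u} A) i).obj (Q.obj (G M J))) ⟶
        L⟦k + i⟧)) : P (F J L k M) := by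
  have h1 := QG_isGE J h M
  by_cases hab : a ≤ b + 1
  · have h2 : (Q.obj (G M J)).IsLE (a + (b - a + 1).toNat - 1) := by
      rw [Int.toNat_of_nonneg (by lia)]
      have := QG_isLE J h M
      exact (TStructure.t (C := ModuleCat.{u} A)).isLE_of_le _ b _ (by lia)
    refine hom_of_truncation hP L k a (b - a + 1).toNat (Q.obj (G M J)) fun i hi hi' => hM i hi ?_
    rw [Int.toNat_of_nonneg (by lia)] at hi'
    lia
  · have h2 := QG_isLE J h M
    have : IsZero (Q.obj (G M J)) := isZero_of_isGE_isLE _ a b (by lia)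
    exact hP.zero _ ⟨fun f g => this.eq_of_src _ _⟩

lemma F_subsingleton_of_gt {a b c d : ℤ} (h : InjRange (Q.obj J) a b) (L : Dual.D A)
    (hL : InjRange L c d) (k : ℤ) (hk : d - a < k ∨ k < c - b) (M : ModuleCat.{u} A) :
    Subsingleton (F J L k M) := by
  refine F_devissage J (closed_subsingleton A) h L k M fun i hi hi' => ?_
  exact hL _ (k + i) (by lia)

end

section

variable (J : CochainComplex (ModuleCat.{u} A) ℤ) [J.IsKInjective]
  [hJ : ∀ i, Injective (J.X i)] (L : Dual.D A)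

lemma F_of_subsingleton (k : ℤ) (M : ModuleCat.{u} A) (hM : Subsingleton M) :
    Subsingleton (F J L k M) := by
  have h1 : 𝟙 (G M J) = 0 := by
    rw [← Gmap_id]
    have : 𝟙 M = 0 := by
      ext x
      exact Subsingleton.elim _ _
    rw [this, Gmap_zero]
  refine ⟨fun f g => ?_⟩
  have h2 : 𝟙 (Q.obj (G M J)) = 0 := by
    rw [← CategoryTheory.Functor.map_id, h1, Functor.map_zero]
  rw [← Category.id_comp f, ← Category.id_comp g, h2, zero_comp, zero_comp]

lemma F_free {k : ℤ} (h : Subsingleton (Q.obj J ⟶ L⟦k⟧)) (n : ℕ) :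
    Subsingleton (F J L k (ModuleCat.of A (Fin n → A))) := by
  refine free_induction (fun M => Subsingleton (F J L k M)) (F_of_subsingleton J L k) ?_ ?_ n
  · exact (FAequiv J L k).symm.toEquiv.subsingleton
  · intro S hS h₁ h₃
    exact (closed_subsingleton A).exact _ _ (F_exact₂ J L hS k) h₁ h₃

/-- Injectivity part of the five lemma. -/
lemma eta_inj_mid (α : Q.obj J ⟶ L⟦(0 : ℤ)⟧) {S : ShortComplex (ModuleCat.{u} A)}
    (hS : S.ShortExact) (h₁ : Function.Injective (eta J L 0 α S.X₁))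
    (h₃ : Function.Injective (eta J L 0 α S.X₃)) (hF : Subsingleton (F J L (-1) S.X₃)) :
    Function.Injective (eta J L 0 α S.X₂) := by
  rw [injective_iff_map_eq_zero]
  intro x hx
  have h2 : S.g.hom x = 0 := by
    apply h₃
    rw [← eta_naturality, hx, map_zero, map_zero]
  obtain ⟨y, rfl⟩ := ((ShortComplex.ShortExact.moduleCat_exact_iff_function_exact S).1
    hS.exact x).1 h2
  have h4 : Fmap J L 0 S.f (eta J L 0 α S.X₁ y) = 0 := by
    rw [eta_naturality]
    exact hx
  obtain ⟨z, hz⟩ := (F_exact₁ J L hS (-1) 0 (by simp) _).1 h4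
  have h5 : y = 0 := by
    apply h₁
    rw [← hz, Subsingleton.elim z 0, map_zero, map_zero]
  rw [h5, map_zero]

/-- Surjectivity part of the five lemma. -/
lemma eta_surj_mid (α : Q.obj J ⟶ L⟦(0 : ℤ)⟧) {S : ShortComplex (ModuleCat.{u} A)}
    (hS : S.ShortExact) (h₁ : Function.Surjective (eta J L 0 α S.X₁))
    (h₃ : Function.Surjective (eta J L 0 α S.X₃)) :
    Function.Surjective (eta J L 0 α S.X₂) := by
  intro z
  obtain ⟨w, hw⟩ := h₃ (Fmap J L 0 S.g z)
  obtain ⟨x, rfl⟩ := hS.moduleCat_surjective_g w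
  have h4 : Fmap J L 0 S.g (z - eta J L 0 α S.X₂ x) = 0 := by
    rw [map_sub, eta_naturality, ← hw, sub_self]
  obtain ⟨v, hv⟩ := (F_exact₂ J L hS 0 _).1 h4
  obtain ⟨y, rfl⟩ := h₁ v
  refine ⟨x + S.f.hom y, ?_⟩
  rw [map_add, ← eta_naturality, hv]
  abel

lemma eta_free (α : Q.obj J ⟶ L⟦(0 : ℤ)⟧) (hα : Function.Bijective (fun a : A => a • α))
    (hvan : ∀ k : ℤ, k ≠ 0 → Subsingleton (Q.obj J ⟶ L⟦k⟧)) (n : ℕ) :
    Function.Bijective (eta J L 0 α (ModuleCat.of A (Fin n → A))) := by
  refine (free_induction (fun M => Function.Bijective (eta J L 0 α M) ∧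
    Subsingleton (F J L (-1) M)) ?_ ?_ ?_ n).1
  · intro M hM
    have := F_of_subsingleton J L 0 M hM
    exact ⟨⟨fun x y _ => Subsingleton.elim _ _, fun y => ⟨0, Subsingleton.elim _ _⟩⟩,
      F_of_subsingleton J L (-1) M hM⟩
  · refine ⟨eta_A_bijective J L 0 α hα, ?_⟩
    have := hvan (-1) (by simp)
    exact (FAequiv J L (-1)).symm.toEquiv.subsingleton
  · intro S hS h₁ h₃
    exact ⟨⟨eta_inj_mid J L α hS h₁.1.1 h₃.1.1 h₃.2, eta_surj_mid J L α hS h₁.1.2 h₃.1.2⟩,
      (closed_subsingleton A).exact _ _ (F_exact₂ J L hS (-1)) h₁.2 h₃.2⟩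

variable [IsNoetherianRing A]

/-- vanishing in positive degrees. -/
lemma F_pos {a b c d : ℤ} (h : InjRange (Q.obj J) a b) (hL : InjRange L c d)
    (hvan : ∀ k : ℤ, 0 < k → Subsingleton (Q.obj J ⟶ L⟦k⟧)) (n : ℕ) :
    ∀ (k : ℤ) (_ : 0 < k) (_ : d - a < k + n) (M : ModuleCat.{u} A) [Module.Finite A M],
      Subsingleton (F J L k M) := by
  induction n with
  | zero =>
    intro k _ hk' M _
    exact F_subsingleton_of_gt J h L hL k (Or.inl (by simpa using hk')) M
  | succ n ih =>
    intro k hk hk' M _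
    obtain ⟨m, S, hS, rfl, h2, hfin⟩ := exists_presentation M
    have h₂ : Subsingleton (F J L k S.X₂) := by
      rw [h2]
      exact F_free J L (hvan k hk) m
    have h₁ : Subsingleton (F J L (k + 1) S.X₁) :=
      ih (k + 1) (by lia) (by push_cast at hk'; lia) S.X₁
    exact (closed_subsingleton A).exact _ _ (F_exact₃ J L hS k (k + 1) rfl) h₂ h₁

lemma F_pos' {a b c d : ℤ} (h : InjRange (Q.obj J) a b) (hL : InjRange L c d)
    (hvan : ∀ k : ℤ, 0 < k → Subsingleton (Q.obj J ⟶ L⟦k⟧))
    (k : ℤ) (hk : 0 < k) (M : ModuleCat.{u} A) [Module.Finite A M] :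
    Subsingleton (F J L k M) :=
  F_pos J L h hL hvan (d - a - k + 1).toNat k hk (by lia) M

/-- **Biduality for finite modules**. -/
theorem bidual {a b c d : ℤ} (h : InjRange (Q.obj J) a b) (hL : InjRange L c d)
    (α : Q.obj J ⟶ L⟦(0 : ℤ)⟧) (hα : Function.Bijective (fun a : A => a • α))
    (hvan : ∀ k : ℤ, k ≠ 0 → Subsingleton (Q.obj J ⟶ L⟦k⟧))
    (M : ModuleCat.{u} A) [hM : Module.Finite A M] :
    Function.Bijective (eta J L 0 α M) ∧ ∀ k : ℤ, k ≠ 0 → Subsingleton (F J L k M) := by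
  have hpos : ∀ (k : ℤ) (_ : 0 < k) (M : ModuleCat.{u} A) [Module.Finite A M],
      Subsingleton (F J L k M) :=
    F_pos' J L h hL (fun k hk => hvan k hk.ne')
  have hsurj : ∀ (M : ModuleCat.{u} A) [Module.Finite A M],
      Function.Surjective (eta J L 0 α M) := by
    intro M _
    obtain ⟨m, S, hS, rfl, h2, hfin⟩ := exists_presentation M
    intro z
    have h₁ : Subsingleton (F J L 1 S.X₁) := hpos 1 (by lia) S.X₁
    obtain ⟨w, rfl⟩ := (F_exact₃ J L hS 0 1 rfl z).1 (Subsingleton.elim _ _)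
    have h₂ : Function.Surjective (eta J L 0 α S.X₂) := by
      rw [h2]
      exact (eta_free J L α hα hvan m).2
    obtain ⟨x, rfl⟩ := h₂ w
    exact ⟨S.g.hom x, (eta_naturality ..).symm⟩
  have hinj : ∀ (M : ModuleCat.{u} A) [Module.Finite A M],
      Function.Injective (eta J L 0 α M) := by
    intro M _
    obtain ⟨m, S, hS, rfl, h2, hfin⟩ := exists_presentation M
    rw [injective_iff_map_eq_zero]
    intro x hx
    obtain ⟨y, rfl⟩ := hS.moduleCat_surjective_g x
    have h₂ : Function.Injective (eta J L 0 α S.X₂) := by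
      rw [h2]
      exact (eta_free J L α hα hvan m).1
    have h4 : Fmap J L 0 S.g (eta J L 0 α S.X₂ y) = 0 := by
      rw [eta_naturality]
      exact hx
    obtain ⟨v, hv⟩ := (F_exact₂ J L hS 0 _).1 h4
    obtain ⟨w, rfl⟩ := hsurj S.X₁ v
    rw [eta_naturality] at hv
    rw [← h₂ hv]
    have := ((ShortComplex.ShortExact.moduleCat_exact_iff_function_exact S).1
      hS.exact (S.f w)).2 ⟨w, rfl⟩
    exact this
  have hneg : ∀ (n : ℕ) (M : ModuleCat.{u} A) [Module.Finite A M],
      Subsingleton (F J L (-((n : ℤ) + 1)) M) := by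
    intro n
    induction n with
    | zero =>
      intro M _
      obtain ⟨m, S, hS, rfl, h2, hfin⟩ := exists_presentation M
      have h₂ : Subsingleton (F J L (-1) S.X₂) := by
        rw [h2]
        exact F_free J L (hvan (-1) (by simp)) m
      have hδ : ∀ x : F J L (-1) S.X₃, Fdelta J L hS (-1) 0 (by simp) x = 0 := by
        intro x
        obtain ⟨y, hy⟩ := hsurj S.X₁ (Fdelta J L hS (-1) 0 (by simp) x)
        have h5 : Fmap J L 0 S.f (eta J L 0 α S.X₁ y) = 0 := by
          rw [hy]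
          exact (F_exact₁ J L hS (-1) 0 (by simp) _).2 ⟨x, rfl⟩
        rw [eta_naturality] at h5
        have hfin2 : Module.Finite A S.X₂ := by
          rw [h2]
          change Module.Finite A (Fin m → A)
          infer_instance
        have h6 : S.f.hom y = 0 := hinj S.X₂ (by rw [h5, map_zero])
        have h7 : y = 0 := hS.moduleCat_injective_f (by rw [map_zero]; exact h6)
        rw [← hy, h7, map_zero]
      refine ⟨fun x x' => ?_⟩
      obtain ⟨w, rfl⟩ := (F_exact₃ J L hS (-1) 0 (by simp) x).1 (hδ x)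
      obtain ⟨w', rfl⟩ := (F_exact₃ J L hS (-1) 0 (by simp) x').1 (hδ x')
      rw [Subsingleton.elim w w']
    | succ n ih =>
      intro M _
      obtain ⟨m, S, hS, rfl, h2, hfin⟩ := exists_presentation M
      have h₂ : Subsingleton (F J L (-(((n + 1 : ℕ) : ℤ) + 1)) S.X₂) := by
        rw [h2]
        exact F_free J L (hvan _ (by lia)) m
      have h₁ := ih S.X₁
      exact (closed_subsingleton A).exact _ _ (F_exact₃ J L hS _ _ (by push_cast; lia)) h₂ h₁
  refine ⟨⟨hinj M, hsurj M⟩, fun k hk => ?_⟩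
  rcases lt_or_gt_of_ne hk with hk | hk
  · obtain ⟨n, rfl⟩ : ∃ n : ℕ, k = -((n : ℤ) + 1) := ⟨(-k - 1).toNat, by lia⟩
    exact hneg n M
  · exact hpos k hk M

end

end Groth.Agent.LoccohA.DzBidual2
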