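import Groth.Agent.LoccohA.DzExt

/-!
# Dualizing complexes: representation by a K-injective complex of injectives, biduality, finiteness
-/

set_option linter.unusedSectionVars false
set_option backward.isDefEq.respectTransparency.types false

universe u

open CategoryTheory Limits Pretriangulated Category

namespace Groth.Agent.LoccohA.DzDual

open DzExact DzTrunc DzHom DzHomology DzBidual DzBidual2 DzExt DzInj DerivedCategory

attribute [local instance] HasDerivedCategory.standard

variable {A : Type u} [CommRing A]

/-- `IsDualizing` is invariant under isomorphisms. -/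
lemma isDualizing_of_iso {ω ω' : Dual.D A} (e : ω ≅ ω') (h : Dual.IsDualizing A ω) :
    Dual.IsDualizing A ω' where
  isNoetherianRing := h.isNoetherianRing
  finite_injective_dimension := by
    obtain ⟨a, b, hab⟩ := h.finite_injective_dimension
    exact ⟨a, b, (show InjRange ω a b from hab).of_iso e⟩
  finite_cohomology i := by
    have := h.finite_cohomology i
    exact Module.Finite.equiv ((homologyFunctor (ModuleCat.{u} A) i).mapIso e).toLinearEquiv
  toEnd_bijective := by
    have h1 : (fun a : A => a • (𝟙 ω')) =
        (Linear.homCongr A e e) ∘ (fun a : A => a • (𝟙 ω)) := by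
      funext a
      simp [Linear.homCongr_apply]
    rw [h1]
    exact (Linear.homCongr A e e).bijective.comp h.toEnd_bijective
  ext_self_subsingleton i hi := by
    have := h.ext_self_subsingleton i hi
    exact (Linear.homCongr A e ((shiftFunctor _ i).mapIso e)).symm.toEquiv.subsingleton

/-- `Hom(A, L[i]) = 0` for `i < a` implies `L` is `≥ a`. -/
lemma isGE_of_injRange {L : Dual.D A} {a b : ℤ} (h : InjRange L a b) : L.IsGE a := by
  rw [isGE_iff]
  intro i hi
  have := h A i (Or.inl hi)
  have : Subsingleton ((homologyFunctor (ModuleCat.{u} A) i).obj L) :=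
    (homA L i).toEquiv.subsingleton
  exact ModuleCat.isZero_of_subsingleton _

lemma isLE_of_injRange {L : Dual.D A} {a b : ℤ} (h : InjRange L a b) : L.IsLE b := by
  rw [isLE_iff]
  intro i hi
  have := h A i (Or.inr hi)
  have : Subsingleton ((homologyFunctor (ModuleCat.{u} A) i).obj L) :=
    (homA L i).toEquiv.subsingleton
  exact ModuleCat.isZero_of_subsingleton _

/-- **Finiteness**: over a Noetherian ring, if `L` has finite cohomology modules and `Hom(M, L[i]) = 0`
for `i` outside a bounded range, then `Hom(M, L[i])` is finite for every finite module `M`. -/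
theorem finite_E [IsNoetherianRing A] {L : Dual.D A} {a b : ℤ} (h : InjRange L a b)
    (hL : ∀ i : ℤ, Module.Finite A (Dual.HD A L i)) (i : ℤ) (M : ModuleCat.{u} A)
    [Module.Finite A M] : Module.Finite A (E L i M) := by
  refine E_of_cohomology' (closed_finite A) L a ?_ ?_ i M
  · intro i hi M _
    have := h M i (Or.inl hi)
    exact (closed_finite A).zero _ this
  · intro i
    have := hL i
    exact Module.Finite.equiv (homA L i)

/-- The data attached to a dualizing complex represented by a K-injective complex of injectives. -/
structure Setup (J : CochainComplex (ModuleCat.{u} A) ℤ) (a b : ℤ) : Prop where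
  range : InjRange (Q.obj J) a b
  fin : ∀ (i : ℤ) (M : ModuleCat.{u} A) [Module.Finite A M], Module.Finite A (E (Q.obj J) i M)
  eta_bij : ∀ (M : ModuleCat.{u} A) [Module.Finite A M],
    Function.Bijective (eta J (Q.obj J) 0 ((shiftFunctorZero _ ℤ).inv.app (Q.obj J)) M)
  F_zero : ∀ (M : ModuleCat.{u} A) [Module.Finite A M] (k : ℤ), k ≠ 0 →
    Subsingleton (F J (Q.obj J) k M)

theorem exists_setup {ω : Dual.D A} (hω : Dual.IsDualizing A ω) :
    ∃ (J : CochainComplex (ModuleCat.{u} A) ℤ) (a b : ℤ) (_ : J.IsKInjective)
      (_ : ∀ i, Injective (J.X i)) (_ : J.IsStrictlyGE a) (_ : ω ≅ Q.obj J), Setup J a b := by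
  have hN := hω.isNoetherianRing
  obtain ⟨a, b, hab⟩ := hω.finite_injective_dimension
  have hr : InjRange ω a b := hab
  have := isGE_of_injRange hr
  obtain ⟨J, hJ1, hJ2, hJ3, ⟨e⟩⟩ := exists_injective_rep ω a
  have hω' := isDualizing_of_iso e hω
  have hr' := hr.of_iso e
  refine ⟨J, a, b, hJ2, hJ3, hJ1, e, ?_⟩
  have hbid := fun (M : ModuleCat.{u} A) (_ : Module.Finite A M) =>
    bidual J (Q.obj J) hr' hr' ((shiftFunctorZero _ ℤ).inv.app (Q.obj J)) (by
      have h1 : (fun a : A => a • (shiftFunctorZero (Dual.D A) ℤ).inv.app (Q.obj J)) =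
          (Linear.homCongr A (Iso.refl (Q.obj J))
            ((shiftFunctorZero (Dual.D A) ℤ).symm.app (Q.obj J))) ∘
            (fun a : A => a • (𝟙 (Q.obj J))) := by
        funext a
        simp [Linear.homCongr_apply]
      rw [h1]
      exact (LinearEquiv.bijective _).comp hω'.toEnd_bijective)
      hω'.ext_self_subsingleton M
  exact
    { range := hr'
      fin := fun i M _ => finite_E hr' hω'.finite_cohomology i M
      eta_bij := fun M _ => (hbid M inferInstance).1
      F_zero := fun M _ k hk => (hbid M inferInstance).2 k hk }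

end Groth.Agent.LoccohA.DzDual
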