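import Mathlib.CategoryTheory.Triangulated.Yoneda
import Mathlib.CategoryTheory.Linear.Basic
import Mathlib.CategoryTheory.Linear.LinearFunctor
import Mathlib.CategoryTheory.Shift.Linear
import Mathlib.RingTheory.Noetherian.Basic
import Mathlib.Algebra.Exact.Basic
import Mathlib.CategoryTheory.Shift.ShiftedHom

/-!
# Long exact sequences of Hom's in a linear pretriangulated category, as linear maps
-/

set_option linter.unusedSectionVars false

universe t w v u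

open CategoryTheory Limits Pretriangulated Category

namespace Groth.Agent.LoccohA.DzExact

variable (A : Type t) [CommRing A] {C : Type u} [Category.{v} C] [Preadditive C] [Linear A C]
  [HasShift C ℤ] [∀ n : ℤ, (shiftFunctor C n).Additive] [∀ n : ℤ, (shiftFunctor C n).Linear A]

/-- The connecting map `Hom(T.obj₁, L[n₀]) → Hom(T.obj₃, L[n₁])`, `n₀ + 1 = n₁`. -/
noncomputable def delta (T : Triangle C) (L : C) (n₀ n₁ : ℤ) (h : n₀ + 1 = n₁) :
    (T.obj₁ ⟶ L⟦n₀⟧) →ₗ[A] (T.obj₃ ⟶ L⟦n₁⟧) where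
  toFun x := T.mor₃ ≫ x⟦(1 : ℤ)⟧' ≫ (shiftFunctorAdd' C n₀ 1 n₁ h).inv.app L
  map_add' x y := by simp [Functor.map_add]
  map_smul' a x := by simp [Functor.map_smul]

lemma delta_apply (T : Triangle C) (L : C) (n₀ n₁ : ℤ) (h : n₀ + 1 = n₁) (x : T.obj₁ ⟶ L⟦n₀⟧) :
    delta A T L n₀ n₁ h x = T.mor₃ ≫ x⟦(1 : ℤ)⟧' ≫ (shiftFunctorAdd' C n₀ 1 n₁ h).inv.app L := rfl

variable [HasZeroObject C] [Pretriangulated C]

lemma exact₂ (T : Triangle C) (hT : T ∈ distTriang C) (L : C) :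
    Function.Exact (Linear.leftComp A L T.mor₂) (Linear.leftComp A L T.mor₁) := by
  intro f
  constructor
  · intro hf
    obtain ⟨g, hg⟩ := Triangle.yoneda_exact₂ T hT f hf
    exact ⟨g, hg.symm⟩
  · rintro ⟨g, rfl⟩
    change T.mor₁ ≫ T.mor₂ ≫ g = 0
    rw [← Category.assoc, comp_distTriang_mor_zero₁₂ _ hT, zero_comp]

lemma exact₁ (T : Triangle C) (hT : T ∈ distTriang C) (L : C) (n₀ n₁ : ℤ) (h : n₀ + 1 = n₁) :
    Function.Exact (Linear.leftComp A (L⟦n₀⟧) T.mor₁) (delta A T L n₀ n₁ h) := by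
  intro f
  constructor
  · intro hf
    rw [delta_apply, ← Category.assoc, Preadditive.IsIso.comp_right_eq_zero] at hf
    have hT' := rot_of_distTriang _ (rot_of_distTriang _ hT)
    obtain ⟨g, hg⟩ := Triangle.yoneda_exact₂ _ hT' (f⟦(1 : ℤ)⟧') hf
    change T.obj₂⟦(1 : ℤ)⟧ ⟶ (L⟦n₀⟧)⟦(1 : ℤ)⟧ at g
    change f⟦(1 : ℤ)⟧' = (-(T.mor₁)⟦(1 : ℤ)⟧') ≫ g at hg
    obtain ⟨g', rfl⟩ := (shiftFunctor C (1 : ℤ)).map_surjective g
    refine ⟨- g', ?_⟩
    apply (shiftFunctor C (1 : ℤ)).map_injective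
    change (T.mor₁ ≫ (- g'))⟦(1 : ℤ)⟧' = _
    rw [hg]
    simp
  · rintro ⟨g, rfl⟩
    rw [delta_apply]
    change T.mor₃ ≫ (T.mor₁ ≫ g)⟦(1 : ℤ)⟧' ≫ _ = 0
    rw [Functor.map_comp, Category.assoc, ← Category.assoc T.mor₃,
      comp_distTriang_mor_zero₃₁ _ hT, zero_comp]

lemma exact₃ (T : Triangle C) (hT : T ∈ distTriang C) (L : C) (n₀ n₁ : ℤ) (h : n₀ + 1 = n₁) :
    Function.Exact (delta A T L n₀ n₁ h) (Linear.leftComp A (L⟦n₁⟧) T.mor₂) := by
  intro f
  constructor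
  · intro hf
    obtain ⟨g, hg⟩ := Triangle.yoneda_exact₃ T hT f hf
    obtain ⟨g', hg'⟩ := (shiftFunctor C (1 : ℤ)).map_surjective
      (g ≫ (shiftFunctorAdd' C n₀ 1 n₁ h).hom.app L)
    refine ⟨g', ?_⟩
    rw [delta_apply, hg', Category.assoc, Iso.hom_inv_id_app, hg]
    simp
  · rintro ⟨g, rfl⟩
    rw [delta_apply]
    change T.mor₂ ≫ T.mor₃ ≫ _ = 0
    rw [← Category.assoc, comp_distTriang_mor_zero₂₃ _ hT, zero_comp]

/-- Covariant exactness. -/
lemma coexact₂ (T : Triangle C) (hT : T ∈ distTriang C) (X : C) :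
    Function.Exact (Linear.rightComp A X T.mor₁) (Linear.rightComp A X T.mor₂) := by
  intro f
  constructor
  · intro hf
    obtain ⟨g, hg⟩ := Triangle.coyoneda_exact₂ T hT f hf
    exact ⟨g, hg.symm⟩
  · rintro ⟨g, rfl⟩
    change (g ≫ T.mor₁) ≫ T.mor₂ = 0
    rw [Category.assoc, comp_distTriang_mor_zero₁₂ _ hT, comp_zero]

/-- A property of `A`-modules closed under "middle terms of exact sequences". -/
structure Closed (P : ∀ (E : Type w) [AddCommGroup E] [Module A E], Prop) : Prop where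
  exact : ∀ {E₁ E₂ E₃ : Type w} [AddCommGroup E₁] [AddCommGroup E₂] [AddCommGroup E₃]
    [Module A E₁] [Module A E₂] [Module A E₃] (f : E₁ →ₗ[A] E₂) (g : E₂ →ₗ[A] E₃),
    Function.Exact f g → P E₁ → P E₃ → P E₂
  zero : ∀ (E : Type w) [AddCommGroup E] [Module A E], Subsingleton E → P E

namespace Closed

variable {A} {P : ∀ (E : Type w) [AddCommGroup E] [Module A E], Prop} (hP : Closed A P)

include hP

lemma of_injective {E₁ E₂ : Type w} [AddCommGroup E₁] [AddCommGroup E₂]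
    [Module A E₁] [Module A E₂] (f : E₁ →ₗ[A] E₂) (hf : Function.Injective f) (h : P E₂) :
    P E₁ := by
  refine hP.exact (E₁ := PUnit.{w + 1}) (0 : PUnit.{w + 1} →ₗ[A] E₁) f ?_
    (hP.zero _ inferInstance) h
  intro x
  constructor
  · intro hx
    exact ⟨0, by simpa using (hf (by simpa using hx.symm) : (0 : E₁) = x)⟩
  · rintro ⟨y, rfl⟩
    simp

lemma of_surjective {E₁ E₂ : Type w} [AddCommGroup E₁] [AddCommGroup E₂]
    [Module A E₁] [Module A E₂] (f : E₁ →ₗ[A] E₂) (hf : Function.Surjective f) (h : P E₁) :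
    P E₂ := by
  refine hP.exact (E₃ := PUnit.{w + 1}) f (0 : E₂ →ₗ[A] PUnit.{w + 1}) ?_
    h (hP.zero _ inferInstance)
  intro x
  simp only [LinearMap.zero_apply, true_iff]
  exact hf x

lemma of_equiv {E₁ E₂ : Type w} [AddCommGroup E₁] [AddCommGroup E₂]
    [Module A E₁] [Module A E₂] (e : E₁ ≃ₗ[A] E₂) (h : P E₁) : P E₂ :=
  hP.of_surjective e.toLinearMap e.surjective h

end Closed

/-- Being subsingleton is a closed property. -/
lemma closed_subsingleton : Closed.{t, w} A (fun E _ _ => Subsingleton E) where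
  exact {E₁ E₂ E₃} _ _ _ _ _ _ f g hfg h₁ h₃ := by
    refine ⟨fun x y => ?_⟩
    obtain ⟨x', hx'⟩ := (hfg x).1 (Subsingleton.elim _ _)
    obtain ⟨y', hy'⟩ := (hfg y).1 (Subsingleton.elim _ _)
    rw [← hx', ← hy', Subsingleton.elim x' y']
  zero E _ _ h := h

/-- Over a Noetherian ring being finite is a closed property. -/
lemma closed_finite [IsNoetherianRing A] : Closed.{t, w} A (fun E _ _ => Module.Finite A E) where
  exact {E₁ E₂ E₃} _ _ _ _ _ _ f g hfg h₁ h₃ := by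
    have : IsNoetherian A E₁ := isNoetherian_of_isNoetherianRing_of_finite A E₁
    have : IsNoetherian A E₃ := isNoetherian_of_isNoetherianRing_of_finite A E₃
    have := isNoetherian_of_range_eq_ker f g (LinearMap.exact_iff.1 hfg).symm
    infer_instance
  zero E _ _ h := inferInstance

/-- Vanishing after localization at the prime `p` (elementwise form). -/
def VanAt (p : Ideal A) (E : Type w) [AddCommGroup E] [Module A E] : Prop :=
  ∀ x : E, ∃ s : A, s ∉ p ∧ s • x = 0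

lemma closed_vanAt (p : Ideal A) [p.IsPrime] : Closed.{t, w} A (fun E _ _ => VanAt A p E) where
  exact {E₁ E₂ E₃} _ _ _ _ _ _ f g hfg h₁ h₃ := by
    intro x
    obtain ⟨s, hs, hsx⟩ := h₃ (g x)
    obtain ⟨y, hy⟩ := (hfg (s • x)).1 (by rw [map_smul, hsx])
    obtain ⟨t, ht, hty⟩ := h₁ y
    refine ⟨t * s, fun h => ?_, ?_⟩
    · exact (Ideal.IsPrime.mem_or_mem inferInstance h).elim ht hs
    · rw [mul_smul, ← hy, ← map_smul, hty, map_zero]
  zero E _ _ h x := ⟨1, fun h => (inferInstance : p.IsPrime).ne_top ((Ideal.eq_top_iff_one _).2 h),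
    Subsingleton.elim _ _⟩

variable {A}

/-- Dévissage along a distinguished triangle, contravariant variable. -/
lemma Closed.hom_of_triangle {P : ∀ (E : Type v) [AddCommGroup E] [Module A E], Prop}
    (hP : Closed A P) (T : Triangle C) (hT : T ∈ distTriang C) (L : C)
    (h₁ : P (T.obj₁ ⟶ L)) (h₃ : P (T.obj₃ ⟶ L)) : P (T.obj₂ ⟶ L) :=
  hP.exact _ _ (exact₂ A T hT L) h₃ h₁

lemma Closed.hom_of_triangle₃ {P : ∀ (E : Type v) [AddCommGroup E] [Module A E], Prop}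
    (hP : Closed A P) (T : Triangle C) (hT : T ∈ distTriang C) (L : C) (n₀ n₁ : ℤ)
    (h : n₀ + 1 = n₁)
    (h₁ : P (T.obj₁ ⟶ L⟦n₀⟧)) (h₂ : P (T.obj₂ ⟶ L⟦n₁⟧)) : P (T.obj₃ ⟶ L⟦n₁⟧) :=
  hP.exact _ _ (exact₃ A T hT L n₀ n₁ h) h₁ h₂

lemma Closed.hom_of_triangle₁ {P : ∀ (E : Type v) [AddCommGroup E] [Module A E], Prop}
    (hP : Closed A P) (T : Triangle C) (hT : T ∈ distTriang C) (L : C) (n₀ n₁ : ℤ)
    (h : n₀ + 1 = n₁)
    (h₂ : P (T.obj₂ ⟶ L⟦n₀⟧)) (h₃ : P (T.obj₃ ⟶ L⟦n₁⟧)) : P (T.obj₁ ⟶ L⟦n₀⟧) :=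
  hP.exact _ _ (exact₁ A T hT L n₀ n₁ h) h₂ h₃

end Groth.Agent.LoccohA.DzExact
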