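import Groth.Agent.LoccohA.DzBidual2
import Mathlib.Algebra.Homology.DerivedCategory.SingleTriangle
import Mathlib.RingTheory.Ideal.AssociatedPrime.Finiteness
import Mathlib.RingTheory.Support

/-!
# The functors `M ↦ Hom_{D(A)}(M, L[i])` on finite modules over a Noetherian ring: exact sequences, dévissage,
finiteness
-/

set_option linter.unusedSectionVars false
set_option backward.isDefEq.respectTransparency.types false

universe u

open CategoryTheory Limits Pretriangulated Category

namespace Groth.Agent.LoccohA.DzExt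

open DzExact DzTrunc DzHom DzHomology DzBidual DzBidual2 DerivedCategory

attribute [local instance] HasDerivedCategory.standard

variable {A : Type u} [CommRing A]

/-- `E^i(M) = Hom_{D(A)}(M, L[i])`. -/
noncomputable abbrev E (L : Dual.D A) (i : ℤ) (M : ModuleCat.{u} A) : Type (u + 1) :=
  (singleFunctor (ModuleCat.{u} A) 0).obj M ⟶ L⟦i⟧

variable (L : Dual.D A)

/-- Functoriality of `E^i`. -/
noncomputable def Emap (i : ℤ) {M N : ModuleCat.{u} A} (f : M ⟶ N) : E L i N →ₗ[A] E L i M :=
  Linear.leftComp A (L⟦i⟧) ((singleFunctor (ModuleCat.{u} A) 0).map f)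

lemma Emap_apply (i : ℤ) {M N : ModuleCat.{u} A} (f : M ⟶ N) (x : E L i N) :
    Emap L i f x = (singleFunctor (ModuleCat.{u} A) 0).map f ≫ x := rfl

lemma Emap_id (i : ℤ) (M : ModuleCat.{u} A) (x : E L i M) : Emap L i (𝟙 M) x = x := by
  rw [Emap_apply, CategoryTheory.Functor.map_id, Category.id_comp]

lemma Emap_comp (i : ℤ) {M N K : ModuleCat.{u} A} (f : M ⟶ N) (g : N ⟶ K) (x : E L i K) :
    Emap L i (f ≫ g) x = Emap L i f (Emap L i g x) := by
  simp only [Emap_apply, Functor.map_comp, Category.assoc]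

lemma Emap_add (i : ℤ) {M N : ModuleCat.{u} A} (f g : M ⟶ N) (x : E L i N) :
    Emap L i (f + g) x = Emap L i f x + Emap L i g x := by
  simp only [Emap_apply, Functor.map_add, Preadditive.add_comp]

lemma Emap_smul (i : ℤ) {M N : ModuleCat.{u} A} (a : A) (f : M ⟶ N) (x : E L i N) :
    Emap L i (a • f) x = a • Emap L i f x := by
  simp only [Emap_apply, Functor.map_smul, Linear.smul_comp]

/-- iso invariance. -/
noncomputable def Eequiv (i : ℤ) {M N : ModuleCat.{u} A} (e : M ≅ N) : E L i M ≃ₗ[A] E L i N :=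
  Linear.homCongr A ((singleFunctor (ModuleCat.{u} A) 0).mapIso e) (Iso.refl _)

section

variable {S : ShortComplex (ModuleCat.{u} A)} (hS : S.ShortExact)

include hS

/-- connecting map. -/
noncomputable def Edelta (k k' : ℤ) (h : k + 1 = k') : E L k S.X₁ →ₗ[A] E L k' S.X₃ :=
  delta A hS.singleTriangle L k k' h

lemma E_exact₂ (k : ℤ) : Function.Exact (Emap L k S.g) (Emap L k S.f) :=
  exact₂ A hS.singleTriangle hS.singleTriangle_distinguished (L⟦k⟧)

lemma E_exact₁ (k k' : ℤ) (h : k + 1 = k') :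
    Function.Exact (Emap L k S.f) (Edelta L hS k k' h) :=
  exact₁ A hS.singleTriangle hS.singleTriangle_distinguished L k k' h

lemma E_exact₃ (k k' : ℤ) (h : k + 1 = k') :
    Function.Exact (Edelta L hS k k' h) (Emap L k' S.g) :=
  exact₃ A hS.singleTriangle hS.singleTriangle_distinguished L k k' h

end

lemma E_of_subsingleton (k : ℤ) (M : ModuleCat.{u} A) (hM : Subsingleton M) :
    Subsingleton (E L k M) := by
  have h1 : 𝟙 M = 0 := by
    ext x
    exact Subsingleton.elim _ _
  refine ⟨fun f g => ?_⟩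
  have h2 : 𝟙 ((singleFunctor (ModuleCat.{u} A) 0).obj M) = 0 := by
    rw [← CategoryTheory.Functor.map_id, h1, Functor.map_zero]
  rw [← Category.id_comp f, ← Category.id_comp g, h2, zero_comp, zero_comp]

variable {L}

/-- `a ∈ Ann M` kills `E^k(M)`. -/
lemma smul_eq_zero_of_annihilator (k : ℤ) (M : ModuleCat.{u} A) (a : A)
    (ha : ∀ m : M, a • m = 0) (x : E L k M) : a • x = 0 := by
  have h1 : a • 𝟙 M = 0 := by
    ext m
    exact ha m
  rw [← Emap_id L k M x, ← Emap_smul, h1, Emap_apply, Functor.map_zero, zero_comp]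

section Noeth

variable [IsNoetherianRing A]

/-- Dévissage for finite modules with control on the support. -/
theorem finite_devissage (R : ModuleCat.{u} A → Prop)
    (h0 : ∀ M : ModuleCat.{u} A, Subsingleton M → R M)
    (hiso : ∀ M N : ModuleCat.{u} A, Nonempty (M ≅ N) → R M → R N)
    (hext : ∀ (S : ShortComplex (ModuleCat.{u} A)), S.ShortExact → R S.X₁ → R S.X₃ → R S.X₂)
    (M : ModuleCat.{u} A) [hM : Module.Finite A M]
    (hp : ∀ p : PrimeSpectrum A, p ∈ Module.support A M → R (ModuleCat.of A (A ⧸ p.asIdeal))) :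
    R M := by
  refine IsNoetherianRing.induction_on_isQuotientEquivQuotientPrime (A := A) (M := M) hM
    (motive := fun N _ _ _ => (∀ p : PrimeSpectrum A, p ∈ Module.support A N →
      R (ModuleCat.of A (A ⧸ p.asIdeal))) → R (ModuleCat.of A N)) ?_ ?_ ?_ hp
  · intro N _ _ _ _ _
    exact h0 _ (inferInstanceAs (Subsingleton N))
  · intro N _ _ _ p e hN
    refine hiso _ _ ⟨e.symm.toModuleIso⟩ (hN p ?_)
    rw [e.support_eq, Module.mem_support_iff_of_finite, Ideal.annihilator_quotient]
  · intro N₁ _ _ _ N₂ _ _ _ N₃ _ _ _ f g hf hg hfg h1 h3 h2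
    let S : ShortComplex (ModuleCat.{u} A) :=
      ModuleCat.shortComplexOfCompEqZero f g hfg.linearMap_comp_eq_zero
    have hS : S.ShortExact := ModuleCat.shortComplex_shortExact S hfg hf hg
    refine hext S hS (h1 fun p hp => h2 p ?_) (h3 fun p hp => h2 p ?_)
    · exact Module.support_subset_of_injective f hf hp
    · exact Module.support_subset_of_surjective g hg hp

/-- Dévissage of a closed property of `E^k(M)`. -/
theorem E_devissage {P : ∀ (E : Type (u + 1)) [AddCommGroup E] [Module A E], Prop}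
    (hP : Closed A P) (k : ℤ) (M : ModuleCat.{u} A) [hM : Module.Finite A M]
    (hp : ∀ p : PrimeSpectrum A, p ∈ Module.support A M →
      P (E L k (ModuleCat.of A (A ⧸ p.asIdeal)))) :
    P (E L k M) := by
  refine finite_devissage (fun N => P (E L k N)) ?_ ?_ ?_ M hp
  · intro N hN
    exact hP.zero _ (E_of_subsingleton L k N hN)
  · rintro N N' ⟨e⟩ h
    exact hP.of_equiv (Eequiv L k e) h
  · intro S hS h1 h3
    exact hP.exact _ _ (E_exact₂ L hS k) h3 h1

/-- If `L` has cohomology satisfying a closed property `P` and `Hom(M, L[i]) = 0` for `i < a` then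
all `E^i(M)`, `M` finite, satisfy `P`. -/
theorem E_of_cohomology {P : ∀ (E : Type (u + 1)) [AddCommGroup E] [Module A E], Prop}
    (hP : Closed A P) (L : Dual.D A) (a : ℤ)
    (ha : ∀ (i : ℤ), i < a → ∀ (M : ModuleCat.{u} A) [Module.Finite A M], P (E L i M))
    (hL : ∀ i : ℤ, P (E L i (ModuleCat.of A A))) (n : ℕ) :
    ∀ (i : ℤ) (_ : i < a + n) (M : ModuleCat.{u} A) [Module.Finite A M], P (E L i M) := by
  have hfree : ∀ (i : ℤ) (n : ℕ), P (E L i (ModuleCat.of A (Fin n → A))) := by
    intro i n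
    refine free_induction (fun M => P (E L i M)) ?_ (hL i) ?_ n
    · intro M hM
      exact hP.zero _ (E_of_subsingleton L i M hM)
    · intro S hS h₁ h₃
      exact hP.exact _ _ (E_exact₂ L hS i) h₃ h₁
  induction n with
  | zero =>
    intro i hi M _
    exact ha i (by simpa using hi) M
  | succ n ih =>
    intro i hi M _
    obtain ⟨m, S, hS, rfl, h2, hfin⟩ := exists_presentation M
    have h₂ : P (E L i S.X₂) := by
      rw [h2]
      exact hfree i m
    have h₁ : P (E L (i - 1) S.X₁) := ih (i - 1) (by push_cast at hi; lia) S.X₁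
    exact hP.exact _ _ (E_exact₃ L hS (i - 1) i (by lia)) h₁ h₂

theorem E_of_cohomology' {P : ∀ (E : Type (u + 1)) [AddCommGroup E] [Module A E], Prop}
    (hP : Closed A P) (L : Dual.D A) (a : ℤ)
    (ha : ∀ (i : ℤ), i < a → ∀ (M : ModuleCat.{u} A) [Module.Finite A M], P (E L i M))
    (hL : ∀ i : ℤ, P (E L i (ModuleCat.of A A)))
    (i : ℤ) (M : ModuleCat.{u} A) [Module.Finite A M] : P (E L i M) :=
  E_of_cohomology hP L a ha hL (i - a + 1).toNat i (by lia) M

end Noeth

end Groth.Agent.LoccohA.DzExt
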