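import Groth.Agent.LoccohA.DzTrunc
import Groth.Prelude.Def_Wider
import Mathlib.Algebra.Homology.DerivedCategory.KInjective
import Mathlib.Algebra.Homology.DerivedCategory.ShortExact
import Mathlib.Algebra.Homology.HomologicalComplexAbelian
import Mathlib.Algebra.Category.ModuleCat.Injective
import Mathlib.Algebra.Category.ModuleCat.Abelian
import Mathlib.Algebra.Homology.ShortComplex.ModuleCat

/-!
# The complex `Hom(M, J)` for a module `M` and a complex `J` of modules
-/

set_option linter.unusedSectionVars false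
set_option backward.isDefEq.respectTransparency.types false

universe u

open CategoryTheory Limits Pretriangulated Category

namespace Groth.Agent.LoccohA.DzHom

open DzExact DzTrunc DerivedCategory

attribute [local instance] HasDerivedCategory.standard

variable {A : Type u} [CommRing A]

/-- The complex `Hom(M, J)`. -/
def G (M : ModuleCat.{u} A) (J : CochainComplex (ModuleCat.{u} A) ℤ) :
    CochainComplex (ModuleCat.{u} A) ℤ where
  X i := ModuleCat.of A (M ⟶ J.X i)
  d i j := ModuleCat.ofHom (Linear.rightComp A M (J.d i j))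
  shape i j h := by
    refine ModuleCat.hom_ext (LinearMap.ext fun (f : M ⟶ J.X i) => ?_)
    change f ≫ J.d i j = 0
    rw [J.shape i j h, comp_zero]
  d_comp_d' i j k _ _ := by
    refine ModuleCat.hom_ext (LinearMap.ext fun (f : M ⟶ J.X i) => ?_)
    change (f ≫ J.d i j) ≫ J.d j k = 0
    rw [Category.assoc, J.d_comp_d, comp_zero]

/-- Functoriality of `Hom(M, J)` in `M`. -/
def Gmap {M N : ModuleCat.{u} A} (f : M ⟶ N) (J : CochainComplex (ModuleCat.{u} A) ℤ) :
    G N J ⟶ G M J where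
  f i := ModuleCat.ofHom (Linear.leftComp A (J.X i) f)
  comm' i j _ := by
    ext g
    change (f ≫ g) ≫ J.d i j = f ≫ (g ≫ J.d i j)
    rw [Category.assoc]

lemma G_X (M : ModuleCat.{u} A) (J : CochainComplex (ModuleCat.{u} A) ℤ) (i : ℤ) :
    (G M J).X i = ModuleCat.of A (M ⟶ J.X i) := rfl

lemma Gmap_f_apply {M N : ModuleCat.{u} A} (f : M ⟶ N) (J : CochainComplex (ModuleCat.{u} A) ℤ)
    (i : ℤ) (g : N ⟶ J.X i) : (Gmap f J).f i g = f ≫ g := rfl

lemma Gmap_zero {M N : ModuleCat.{u} A} (J : CochainComplex (ModuleCat.{u} A) ℤ) :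
    Gmap (0 : M ⟶ N) J = 0 := by
  ext i g
  change (0 : M ⟶ N) ≫ g = 0
  rw [zero_comp]

lemma Gmap_id (M : ModuleCat.{u} A) (J : CochainComplex (ModuleCat.{u} A) ℤ) :
    Gmap (𝟙 M) J = 𝟙 _ := by
  ext i g
  change 𝟙 M ≫ g = g
  rw [Category.id_comp]

lemma Gmap_comp {M N K : ModuleCat.{u} A} (f : M ⟶ N) (g : N ⟶ K)
    (J : CochainComplex (ModuleCat.{u} A) ℤ) :
    Gmap (f ≫ g) J = Gmap g J ≫ Gmap f J := by
  ext i h
  change (f ≫ g) ≫ h = f ≫ (g ≫ h)
  rw [Category.assoc]

/-- The short complex of complexes `Hom(X₃, J) → Hom(X₂, J) → Hom(X₁, J)`. -/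
def Gsc (S : ShortComplex (ModuleCat.{u} A)) (J : CochainComplex (ModuleCat.{u} A) ℤ) :
    ShortComplex (CochainComplex (ModuleCat.{u} A) ℤ) :=
  ShortComplex.mk (Gmap S.g J) (Gmap S.f J) (by rw [← Gmap_comp, S.zero, Gmap_zero])

lemma Gsc_shortExact {S : ShortComplex (ModuleCat.{u} A)} (hS : S.ShortExact)
    (J : CochainComplex (ModuleCat.{u} A) ℤ) [hJ : ∀ i, Injective (J.X i)] :
    (Gsc S J).ShortExact := by
  apply HomologicalComplex.shortExact_of_degreewise_shortExact
  intro i
  have hmono : Mono S.f := hS.mono_f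
  have hepi : Epi S.g := hS.epi_g
  have := ModuleCat.shortComplex_shortExact ((Gsc S J).map (HomologicalComplex.eval _ _ i))
  refine this ?_ ?_ ?_
  · intro (g : S.X₂ ⟶ J.X i)
    constructor
    · intro hg
      have hg' : S.f ≫ g = 0 := hg
      obtain ⟨l, hl⟩ : ∃ l : S.X₃ ⟶ J.X i, S.g ≫ l = g :=
        ⟨hS.exact.desc g hg', hS.exact.g_desc g hg'⟩
      exact ⟨l, hl⟩
    · rintro ⟨(l : S.X₃ ⟶ J.X i), rfl⟩
      change S.f ≫ (S.g ≫ l) = 0
      rw [← Category.assoc, S.zero, zero_comp]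
  · intro (g : S.X₃ ⟶ J.X i) (g' : S.X₃ ⟶ J.X i) h
    have h' : S.g ≫ g = S.g ≫ g' := h
    exact (cancel_epi S.g).1 h'
  · intro (g : S.X₁ ⟶ J.X i)
    exact ⟨Injective.factorThru g S.f, Injective.comp_factorThru g S.f⟩

/-- Evaluation at `m : M` as a morphism of complexes `Hom(M, J) ⟶ J`. -/
def ev (M : ModuleCat.{u} A) (J : CochainComplex (ModuleCat.{u} A) ℤ) (m : M) : G M J ⟶ J where
  f i := ModuleCat.ofHom
    { toFun := fun (φ : M ⟶ J.X i) => φ.hom m
      map_add' := fun _ _ => rfl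
      map_smul' := fun _ _ => rfl }
  comm' i j _ := by
    ext g
    rfl

lemma ev_f_apply (M : ModuleCat.{u} A) (J : CochainComplex (ModuleCat.{u} A) ℤ) (m : M) (i : ℤ)
    (g : M ⟶ J.X i) : (ev M J m).f i g = g.hom m := rfl

lemma ev_add (M : ModuleCat.{u} A) (J : CochainComplex (ModuleCat.{u} A) ℤ) (m m' : M) :
    ev M J (m + m') = ev M J m + ev M J m' := by
  ext i g
  exact map_add (ModuleCat.Hom.hom (show M ⟶ J.X i from g)) m m'

lemma ev_smul (M : ModuleCat.{u} A) (J : CochainComplex (ModuleCat.{u} A) ℤ) (a : A) (m : M) :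
    ev M J (a • m) = a • ev M J m := by
  ext i g
  exact map_smul (ModuleCat.Hom.hom (show M ⟶ J.X i from g)) a m

lemma Gmap_ev {M N : ModuleCat.{u} A} (f : M ⟶ N) (J : CochainComplex (ModuleCat.{u} A) ℤ)
    (m : M) : Gmap f J ≫ ev M J m = ev N J (f.hom m) := by
  ext i g
  rfl

/-- `Hom(A, J) ≅ J`, by evaluation at `1`. -/
noncomputable def GAiso (J : CochainComplex (ModuleCat.{u} A) ℤ) :
    G (ModuleCat.of A A) J ≅ J :=
  HomologicalComplex.Hom.isoOfComponents
    (fun i => LinearEquiv.toModuleIso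
      { toFun := fun (φ : ModuleCat.of A A ⟶ J.X i) => φ.hom (1 : A)
        map_add' := fun _ _ => rfl
        map_smul' := fun _ _ => rfl
        invFun := fun x => ModuleCat.ofHom (LinearMap.toSpanSingleton A _ x)
        left_inv := fun φ => by
          ext
          exact (LinearMap.toSpanSingleton_apply _ _ _ _).trans (one_smul _ _)
        right_inv := fun x => one_smul _ _ })
    (fun i j _ => by
      ext g
      rfl)

lemma GAiso_hom (J : CochainComplex (ModuleCat.{u} A) ℤ) :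
    (GAiso J).hom = ev (ModuleCat.of A A) J (1 : A) := by
  ext i g
  rfl

end Groth.Agent.LoccohA.DzHom
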