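import Groth.Agent.LoccohA.DzHom
import Mathlib.Algebra.Homology.DerivedCategory.KProjective
import Mathlib.Algebra.Category.ModuleCat.Projective

/-!
# Homology of the complex `Hom(M, J)` for `J` K-injective
-/

set_option linter.unusedSectionVars false
set_option backward.isDefEq.respectTransparency.types false

universe u

open CategoryTheory Limits Pretriangulated Category

namespace Groth.Agent.LoccohA.DzHomology

open DzExact DzTrunc DzHom DerivedCategory HomologicalComplex

attribute [local instance] HasDerivedCategory.standard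

variable {A : Type u} [CommRing A]

/-- `Hom_K(K, J) → Hom_D(K, J)` is bijective. -/
def HomBij (K J : CochainComplex (ModuleCat.{u} A) ℤ) : Prop :=
  Function.Bijective (Qh.map :
    ((HomotopyCategory.quotient _ _).obj K ⟶ (HomotopyCategory.quotient _ _).obj J) → _)

lemma homBij_of_isKInjective (K J : CochainComplex (ModuleCat.{u} A) ℤ) [J.IsKInjective] :
    HomBij K J :=
  CochainComplex.IsKInjective.Qh_map_bijective _ J

lemma homBij_of_isKProjective (K J : CochainComplex (ModuleCat.{u} A) ℤ) [K.IsKProjective] :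
    HomBij K J :=
  CochainComplex.IsKProjective.Qh_map_bijective K _

lemma Q_map_eq_zero_iff {K J : CochainComplex (ModuleCat.{u} A) ℤ} (hb : HomBij K J)
    (f : K ⟶ J) : Q.map f = 0 ↔ Nonempty (Homotopy f 0) := by
  constructor
  · intro h
    have h1 : Qh.map ((HomotopyCategory.quotient _ _).map f) = 0 := by
      have := (quotientCompQhIso (ModuleCat.{u} A)).hom.naturality f
      rw [h, comp_zero] at this
      change Qh.map ((HomotopyCategory.quotient _ _).map f) ≫ _ = 0 at this
      exact (Preadditive.IsIso.comp_right_eq_zero _ _).1 this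
    have h2 : (HomotopyCategory.quotient _ _).map f = 0 :=
      hb.injective (by rw [h1, Functor.map_zero])
    exact ⟨HomotopyCategory.homotopyOfEq _ _ (by rw [h2, Functor.map_zero])⟩
  · rintro ⟨h⟩
    rw [DerivedCategory.Q_map_eq_of_homotopy _ h, Functor.map_zero]

lemma Q_map_surjective {K J : CochainComplex (ModuleCat.{u} A) ℤ} (hb : HomBij K J)
    (g : Q.obj K ⟶ Q.obj J) : ∃ f : K ⟶ J, Q.map f = g := by
  obtain ⟨f, hf⟩ := hb.surjective
    ((quotientCompQhIso _).hom.app K ≫ g ≫ (quotientCompQhIso _).inv.app J)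
  obtain ⟨f, rfl⟩ := (HomotopyCategory.quotient _ _).map_surjective f
  refine ⟨f, ?_⟩
  have := (quotientCompQhIso (ModuleCat.{u} A)).hom.naturality f
  change Qh.map ((HomotopyCategory.quotient _ _).map f) ≫ _ = _ at this
  rw [hf] at this
  simp only [Category.assoc, Iso.inv_hom_id_app, Category.comp_id] at this
  exact ((cancel_epi _).1 this).symm

section

variable (M : ModuleCat.{u} A) (J : CochainComplex (ModuleCat.{u} A) ℤ)

/-- A cocycle `φ : M ⟶ J.X i` gives a morphism of complexes from the single complex. -/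
noncomputable def fromCocycle (i : ℤ) :
    LinearMap.ker (Linear.rightComp A M (J.d i (i + 1))) →ₗ[A]
      ((single (ModuleCat.{u} A) (ComplexShape.up ℤ) i).obj M ⟶ J) where
  toFun φ := mkHomFromSingle φ.1 (by
    intro k hk
    obtain rfl : i + 1 = k := hk
    exact φ.2)
  map_add' φ ψ := by
    apply HomologicalComplex.from_single_hom_ext
    simp
  map_smul' a φ := by
    apply HomologicalComplex.from_single_hom_ext
    simp

lemma fromCocycle_f (i : ℤ) (φ : LinearMap.ker (Linear.rightComp A M (J.d i (i + 1)))) :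
    (fromCocycle M J i φ).f i = (singleObjXSelf (ComplexShape.up ℤ) i M).hom ≫ φ.1 :=
  mkHomFromSingle_f φ.1 (by
    intro k hk
    obtain rfl : i + 1 = k := hk
    exact φ.2)

lemma fromCocycle_surjective (i : ℤ) : Function.Surjective (fromCocycle M J i) := by
  intro f
  refine ⟨⟨(singleObjXSelf (ComplexShape.up ℤ) i M).inv ≫ f.f i, ?_⟩, ?_⟩
  · change (_ ≫ f.f i) ≫ J.d i (i + 1) = 0
    rw [Category.assoc, f.comm]
    simp
  · apply HomologicalComplex.from_single_hom_ext
    rw [fromCocycle_f]
    simp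

/-- the map from cocycles to morphisms in the derived category. -/
noncomputable def Psi (i : ℤ) :
    LinearMap.ker (Linear.rightComp A M (J.d i (i + 1))) →ₗ[A]
      ((singleFunctor (ModuleCat.{u} A) i).obj M ⟶ Q.obj J) :=
  (Q (C := ModuleCat.{u} A)).mapLinearMap A ∘ₗ (fromCocycle M J i)

lemma Psi_apply (i : ℤ) (φ : LinearMap.ker (Linear.rightComp A M (J.d i (i + 1)))) :
    Psi M J i φ = Q.map (fromCocycle M J i φ) := rfl

variable (hb : ∀ i : ℤ, HomBij ((single (ModuleCat.{u} A) (ComplexShape.up ℤ) i).obj M) J)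

include hb

lemma Psi_surjective (i : ℤ) : Function.Surjective (Psi M J i) := by
  intro g
  obtain ⟨f, hf⟩ := Q_map_surjective (hb i) g
  obtain ⟨φ, rfl⟩ := fromCocycle_surjective M J i f
  exact ⟨φ, hf⟩

lemma Psi_eq_zero_iff (i : ℤ) (φ : LinearMap.ker (Linear.rightComp A M (J.d i (i + 1)))) :
    Psi M J i φ = 0 ↔ ∃ ψ : M ⟶ J.X (i - 1), ψ ≫ J.d (i - 1) i = φ.1 := by
  refine (Q_map_eq_zero_iff (hb i) (fromCocycle M J i φ)).trans ?_
  constructor
  · rintro ⟨h⟩
    have := h.comm i
    rw [prevD_eq h.hom (show (ComplexShape.up ℤ).Rel (i - 1) i by simp),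
      dNext_eq h.hom (show (ComplexShape.up ℤ).Rel i (i + 1) by simp), fromCocycle_f] at this
    simp only [single_obj_d, zero_comp, zero_add, HomologicalComplex.zero_f, add_zero] at this
    refine ⟨(singleObjXSelf (ComplexShape.up ℤ) i M).inv ≫ h.hom i (i - 1), ?_⟩
    rw [Category.assoc, ← this]
    simp
  · rintro ⟨ψ, hψ⟩
    refine ⟨{ hom := fun p q => if h : p = i ∧ q = i - 1 then
        (singleObjXIsoOfEq (ComplexShape.up ℤ) i M p h.1).hom ≫ ψ ≫
          (J.XIsoOfEq h.2).inv else 0
              zero := ?_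
              comm := ?_ }⟩
    · intro p q hpq
      rw [dif_neg]
      rintro ⟨rfl, rfl⟩
      exact hpq (by simp)
    · intro p
      by_cases hp : p = i
      · subst hp
        rw [prevD_eq _ (show (ComplexShape.up ℤ).Rel (p - 1) p by simp),
          dNext_eq _ (show (ComplexShape.up ℤ).Rel p (p + 1) by simp), fromCocycle_f]
        simp only [single_obj_d, zero_comp, zero_add, HomologicalComplex.zero_f, add_zero]
        rw [dif_pos (by simp)]
        simp only [XIsoOfEq_rfl, Iso.refl_inv, Category.comp_id, Category.assoc, hψ]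
        rfl
      · apply (isZero_single_obj_X (ComplexShape.up ℤ) i M p hp).eq_of_src

omit hb in
/-- The explicit description of homology of `Hom(M, J)`. -/
noncomputable def GhomologyIso (M : ModuleCat.{u} A) (J : CochainComplex (ModuleCat.{u} A) ℤ)
    (i : ℤ) : (homologyFunctor (ModuleCat.{u} A) i).obj (Q.obj (G M J)) ≅
      ((G M J).sc' (i - 1) i (i + 1)).moduleCatLeftHomologyData.H :=
  (homologyFunctorFactors _ i).app (G M J) ≪≫
    (G M J).homologyIsoSc' (i - 1) i (i + 1) (by simp) (by simp) ≪≫
    ShortComplex.moduleCatHomologyIso _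

/-- The cohomology of `Hom(M, J)` is `Hom_{D(A)}(M, J[i])`. -/
noncomputable def GhomologyOf (i : ℤ) :
    ((homologyFunctor (ModuleCat.{u} A) i).obj (Q.obj (G M J))) ≃ₗ[A]
      ((singleFunctor (ModuleCat.{u} A) i).obj M ⟶ Q.obj J) :=
  (GhomologyIso M J i).toLinearEquiv.trans <|
    LinearEquiv.trans
      (Submodule.quotEquivOfEq _ _ (by
        apply le_antisymm
        · rintro _ ⟨(ψ : M ⟶ J.X (i - 1)), rfl⟩
          exact (Psi_eq_zero_iff M J hb i _).2 ⟨ψ, rfl⟩
        · intro φ hφ
          obtain ⟨ψ, hψ⟩ := (Psi_eq_zero_iff M J hb i _).1 hφ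
          exact ⟨ψ, Subtype.ext hψ⟩))
      ((Psi M J i).quotKerEquivOfSurjective (Psi_surjective M J hb i))

end

section

variable (M : ModuleCat.{u} A) (J : CochainComplex (ModuleCat.{u} A) ℤ) [J.IsKInjective]

/-- The cohomology of `Hom(M, J)` is `Hom_{D(A)}(M, J[i])`. -/
noncomputable def Ghomology (i : ℤ) :
    ((homologyFunctor (ModuleCat.{u} A) i).obj (Q.obj (G M J))) ≃ₗ[A]
      ((singleFunctor (ModuleCat.{u} A) i).obj M ⟶ Q.obj J) :=
  GhomologyOf M J (fun _ => homBij_of_isKInjective _ _) i

/-- The cohomology of `Hom(M, J)` is `Hom_{D(A)}(M, J[i])`. -/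
noncomputable def Ghomology' (i : ℤ) :
    ((homologyFunctor (ModuleCat.{u} A) i).obj (Q.obj (G M J))) ≃ₗ[A]
      ((singleFunctor (ModuleCat.{u} A) 0).obj M ⟶ (Q.obj J)⟦i⟧) :=
  (Ghomology M J i).trans <|
    (Linear.homCongr A (Iso.refl _) ((shiftFunctorZero _ ℤ).app (Q.obj J)).symm).trans <|
      singleShiftEquiv A M (Q.obj J) 0 i i (zero_add i)

end

section

lemma isKProjective_single (P : ModuleCat.{u} A) [Projective P] (i : ℤ) :
    CochainComplex.IsKProjective ((single (ModuleCat.{u} A) (ComplexShape.up ℤ) i).obj P) := by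
  have h1 : ∀ n, Projective (((single (ModuleCat.{u} A) (ComplexShape.up ℤ) i).obj P).X n) := by
    intro n
    by_cases h : n = i
    · subst h
      exact Projective.of_iso (singleObjXSelf (ComplexShape.up ℤ) n P).symm inferInstance
    · exact (isZero_single_obj_X (ComplexShape.up ℤ) i P n h).projective
  have h2 : CochainComplex.IsStrictlyLE
      ((single (ModuleCat.{u} A) (ComplexShape.up ℤ) i).obj P) i := by
    rw [CochainComplex.isStrictlyLE_iff]
    intro n hn
    exact isZero_single_obj_X (ComplexShape.up ℤ) i P n (by lia)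
  exact CochainComplex.isKProjective_of_projective _ i

instance : Projective (ModuleCat.of A A) :=
  (IsProjective.iff_projective (R := A) A).1 inferInstance

/-- `H^i(L) = Hom(A, L[i])`. -/
noncomputable def homA (L : Dual.D A) (i : ℤ) :
    ((homologyFunctor (ModuleCat.{u} A) i).obj L) ≃ₗ[A]
      ((singleFunctor (ModuleCat.{u} A) 0).obj (ModuleCat.of A A) ⟶ L⟦i⟧) :=
  ((homologyFunctor (ModuleCat.{u} A) i).mapIso
    ((Q.objObjPreimageIso L).symm ≪≫ Q.mapIso (GAiso (Q.objPreimage L)).symm)).toLinearEquiv.trans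
  <| (GhomologyOf (ModuleCat.of A A) (Q.objPreimage L) (fun i =>
    have := isKProjective_single (ModuleCat.of A A) i
    homBij_of_isKProjective _ _) i).trans <|
    (Linear.homCongr A (Iso.refl _) (Q.objObjPreimageIso L ≪≫
      ((shiftFunctorZero _ ℤ).app L).symm)).trans <|
      singleShiftEquiv A (ModuleCat.of A A) L 0 i i (zero_add i)

end

end Groth.Agent.LoccohA.DzHomology
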