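import Groth.Agent.LoccohA.DzHomology
import Mathlib.Algebra.Homology.Factorizations.CM5a
import Mathlib.Algebra.Category.ModuleCat.EnoughInjectives

/-!
# Bounded below objects of `D(A)` are represented by K-injective complexes of injectives
-/

set_option linter.unusedSectionVars false
set_option backward.isDefEq.respectTransparency.types false

universe u

open CategoryTheory Limits Pretriangulated Category

namespace Groth.Agent.LoccohA.DzInj

open DzExact DzTrunc DzHom DzHomology DerivedCategory HomologicalComplex

attribute [local instance] HasDerivedCategory.standard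

variable {A : Type u} [CommRing A]

/-- A bounded below object of `D(A)` is represented by a bounded below complex of injectives. -/
theorem exists_injective_rep (L : Dual.D A) (n : ℤ) [hL : L.IsGE n] :
    ∃ (J : CochainComplex (ModuleCat.{u} A) ℤ) (_ : J.IsStrictlyGE n)
      (_ : J.IsKInjective) (_ : ∀ i, Injective (J.X i)), Nonempty (L ≅ Q.obj J) := by
  obtain ⟨K, hK, ⟨e⟩⟩ := exists_iso_Q_obj_of_isGE L n
  obtain ⟨J, ι, hι, hinj, hJ⟩ :=
    CochainComplex.Plus.modelCategoryQuillen.exists_quasiIso_injective K n
  exact ⟨J, hJ, CochainComplex.isKInjective_of_injective J n, hinj, ⟨e ≪≫ asIso (Q.map ι)⟩⟩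

end Groth.Agent.LoccohA.DzInj
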