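import Mathlib.Order.KrullDimension
import Mathlib.Order.Cover
import Mathlib.RingTheory.Ideal.KrullsHeightTheorem
import Mathlib.RingTheory.Spectrum.Prime.Noetherian
import Groth.Prelude.Def_Found

/-!
# Orders with a dimension function (`δ p = δ q + 1` when `q` covers `p`)
-/

set_option linter.unusedSectionVars false

universe u

namespace Groth.Agent.LoccohA.DzOrder

section Order

variable {α : Type*} [PartialOrder α]

/-- A dimension function on a partial order with ascending chain condition in which every `p < q` has a cover of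
`p` below `q`. -/
structure IsDimFun (δ : α → ℤ) : Prop where
  wf : WellFoundedGT α
  cov : ∀ p q : α, p < q → ∃ r, p ⋖ r ∧ r ≤ q
  step : ∀ p q : α, p ⋖ q → δ p = δ q + 1

variable {δ : α → ℤ} (hδ : IsDimFun δ)

include hδ

lemma delta_lt : ∀ (p q : α), p < q → δ q < δ p := by
  have := hδ.wf
  intro p
  induction p using WellFoundedGT.induction with
  | ind p ih =>
    intro q hpq
    obtain ⟨r, hpr, hrq⟩ := hδ.cov p q hpq
    have h1 := hδ.step p r hpr
    rcases hrq.lt_or_eq with h | rfl
    · have := ih r hpr.1 q h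
      lia
    · lia

lemma delta_le {p q : α} (h : p ≤ q) : δ q ≤ δ p := by
  rcases h.lt_or_eq with h | rfl
  · exact (delta_lt hδ p q h).le
  · exact le_rfl

/-- Chains have bounded length. -/
lemma length_le (s : LTSeries α) : (s.length : ℤ) ≤ δ s.head - δ s.last := by
  have h1 := LTSeries.head_add_length_le_int (s.map (fun p => - δ p) (fun p q h => by
    have := delta_lt hδ p q h
    change - δ p < - δ q
    lia))
  have h2 : - δ s.head + (s.length : ℤ) ≤ - δ s.last := h1
  lia

omit hδ in
/-- prepend an element. -/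
lemma exists_cons (s : LTSeries α) (p : α) (hp : p < s.head) :
    ∃ t : LTSeries α, t.length = s.length + 1 ∧ t.head = p ∧ t.last = s.last ∧
      (p ⋖ s.head → (∀ i : Fin s.length, s (Fin.castSucc i) ⋖ s (Fin.succ i)) →
        (∀ i : Fin t.length, t (Fin.castSucc i) ⋖ t (Fin.succ i))) := by
  refine ⟨{ length := s.length + 1
            toFun := Fin.cons (α := fun _ => α) p s.toFun
            step := ?_ }, rfl, ?_, ?_, ?_⟩
  · intro i
    refine Fin.cases ?_ (fun j => ?_) i
    · exact hp
    · exact s.step j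
  · change Fin.cons (α := fun _ => α) p s.toFun 0 = p
    exact Fin.cons_zero _ _
  · change Fin.cons (α := fun _ => α) p s.toFun (Fin.last (s.length + 1)) = _
    rw [← Fin.succ_last, Fin.cons_succ]
    rfl
  · intro h1 h2 i
    refine Fin.cases ?_ (fun j => ?_) i
    · exact h1
    · exact h2 j

/-- Existence of saturated chains of the expected length. -/
lemma exists_saturated : ∀ (p q : α), p ≤ q → ∃ s : LTSeries α, s.head = p ∧ s.last = q ∧
    (s.length : ℤ) = δ p - δ q ∧
    (∀ i : Fin s.length, s (Fin.castSucc i) ⋖ s (Fin.succ i)) := by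
  have := hδ.wf
  intro p
  induction p using WellFoundedGT.induction with
  | ind p ih =>
    intro q hpq
    rcases hpq.lt_or_eq with h | rfl
    · obtain ⟨r, hpr, hrq⟩ := hδ.cov p q h
      obtain ⟨s, hs1, hs2, hs3, hs4⟩ := ih r hpr.1 q hrq
      subst hs1
      obtain ⟨t, ht1, ht2, ht3, ht4⟩ := exists_cons s p hpr.1
      refine ⟨t, ht2, ht3.trans hs2, ?_, ht4 hpr hs4⟩
      have := hδ.step p _ hpr
      rw [ht1]
      push_cast
      lia
    · refine ⟨RelSeries.singleton _ p, rfl, rfl, ?_, fun i => i.elim0⟩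
      simp

/-- Saturated chains have the expected length. -/
lemma length_eq_of_saturated (s : LTSeries α)
    (hs : ∀ i : Fin s.length, s (Fin.castSucc i) ⋖ s (Fin.succ i)) :
    (s.length : ℤ) = δ s.head - δ s.last := by
  have h1 : ∀ (n : ℕ) (hn : n < s.length + 1), δ (s ⟨n, hn⟩) = δ s.head - n := by
    intro n
    induction n with
    | zero =>
      intro hn
      change δ s.head = _
      simp
    | succ n ih =>
      intro hn
      have h2 := ih (by lia)
      have h3 := hδ.step _ _ (hs ⟨n, by lia⟩)
      have h4 : s (Fin.castSucc ⟨n, by lia⟩) = s ⟨n, by lia⟩ := rfl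
      have h5 : s (Fin.succ ⟨n, by lia⟩) = s ⟨n + 1, hn⟩ := rfl
      rw [h4, h5] at h3
      push_cast
      lia
  have h2 := h1 s.length (by lia)
  have h3 : s ⟨s.length, by lia⟩ = s.last := rfl
  rw [h3] at h2
  lia

/-- A chain of the expected length in `[p, q]`. -/
lemma exists_chain_Icc {p q : α} (h : p ≤ q) : ∃ s : LTSeries (Set.Icc p q),
    s.head = ⟨p, le_rfl, h⟩ ∧ s.last = ⟨q, h, le_rfl⟩ ∧ (s.length : ℤ) = δ p - δ q := by
  obtain ⟨s, hs1, hs2, hs3, hs4⟩ := exists_saturated hδ p q h
  have hmem : ∀ i, s i ∈ Set.Icc p q := by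
    intro i
    constructor
    · rw [← hs1]
      exact s.monotone (Fin.zero_le i)
    · rw [← hs2]
      exact s.monotone (Fin.le_last i)
  refine ⟨{ length := s.length
            toFun := fun i => ⟨s i, hmem i⟩
            step := fun i => s.step i }, Subtype.ext hs1, Subtype.ext hs2, hs3⟩

/-- **Dimension of an interval.** -/
theorem krullDim_Icc {p q : α} (h : p ≤ q) :
    Order.krullDim (Set.Icc p q) = ((δ p - δ q).toNat : WithBot ℕ∞) := by
  apply le_antisymm
  · rw [Order.krullDim]
    refine iSup_le fun s => ?_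
    have h1 := length_le hδ (s.map Subtype.val (fun _ _ h => h))
    have h2 : δ (s.map Subtype.val (fun _ _ h => h) : LTSeries α).head ≤ δ p :=
      delta_le hδ (s.head).2.1
    have h3 : δ q ≤ δ (s.map Subtype.val (fun _ _ h => h) : LTSeries α).last :=
      delta_le hδ (s.last).2.2
    have h4 : (s.length : ℤ) ≤ δ p - δ q := by
      change (s.length : ℤ) ≤ _ at h1
      lia
    have h5 : s.length ≤ (δ p - δ q).toNat := by lia
    exact_mod_cast h5
  · obtain ⟨s, hs1, hs2, hs3⟩ := exists_chain_Icc hδ h
    have h1 : s.length = (δ p - δ q).toNat := by lia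
    rw [← h1]
    exact Order.LTSeries.length_le_krullDim s

/-- **Height of `q` above `p`.** -/
theorem height_Ici {p q : α} (h : p ≤ q) :
    Order.height (⟨q, h⟩ : Set.Ici p) = ((δ p - δ q).toNat : ℕ∞) := by
  apply le_antisymm
  · refine Order.height_le fun s hs => ?_
    have h1 := length_le hδ (s.map Subtype.val (fun _ _ h => h))
    have h2 : δ (s.map Subtype.val (fun _ _ h => h) : LTSeries α).head ≤ δ p :=
      delta_le hδ (s.head).2
    have h3 : (s.map Subtype.val (fun _ _ h => h) : LTSeries α).last = q := by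
      change (s.last).1 = q
      rw [hs]
    have h4 : (s.length : ℤ) ≤ δ p - δ q := by
      change (s.length : ℤ) ≤ _ at h1
      rw [h3] at h1
      lia
    have h5 : s.length ≤ (δ p - δ q).toNat := by lia
    exact_mod_cast h5
  · obtain ⟨s, hs1, hs2, hs3⟩ := exists_chain_Icc hδ h
    have h1 : s.length = (δ p - δ q).toNat := by lia
    rw [← h1]
    have h2 := Order.length_le_height_last (p := s.map (fun x => (⟨x.1, x.2.1⟩ : Set.Ici p))
      (fun _ _ h => h))
    have h3 : (s.map (fun x => (⟨x.1, x.2.1⟩ : Set.Ici p)) (fun _ _ h => h)).last = ⟨q, h⟩ := by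
      change (⟨(s.last).1, _⟩ : Set.Ici p) = _
      simp only [hs2]
    rw [h3] at h2
    exact h2

end Order

section Ring

variable {A : Type u} [CommRing A] [IsNoetherianRing A]

lemma wellFoundedGT_primeSpectrum : WellFoundedGT (PrimeSpectrum A) := by
  have h1 : WellFoundedGT (Ideal A) := inferInstance
  refine ⟨?_⟩
  exact Subrelation.wf (r := InvImage (· > ·) (fun p : PrimeSpectrum A => p.asIdeal))
    (fun {p q} h => h) (InvImage.wf _ h1.wf)

lemma height_lt_top (p : PrimeSpectrum A) : Order.height p < ⊤ := by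
  rw [← PrimeSpectrum.height_eq_orderHeight]
  exact Ideal.height_lt_top_of_isPrime

lemma exists_cov (p q : PrimeSpectrum A) (h : p < q) : ∃ r, p ⋖ r ∧ r ≤ q := by
  classical
  let S : Set (PrimeSpectrum A) := {r | p < r ∧ r ≤ q}
  have hne : (Order.height '' S).Nonempty := ⟨_, q, ⟨h, le_rfl⟩, rfl⟩
  obtain ⟨r, hr, hr'⟩ := csInf_mem hne
  refine ⟨r, ⟨hr.1, fun s hps hsr => ?_⟩, hr.2⟩
  have h1 : Order.height s < Order.height r := Order.height_strictMono hsr (height_lt_top s)
  have h2 : Order.height r ≤ Order.height s := by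
    rw [hr']
    exact csInf_le (OrderBot.bddBelow _) ⟨s, ⟨hps, hsr.le.trans hr.2⟩, rfl⟩
  exact absurd h1 (not_lt.2 h2)

/-- a function with `δ p = δ q + 1` for `p ⋖ q` on the spectrum of a Noetherian ring. -/
theorem isDimFun (δ : PrimeSpectrum A → ℤ) (h : ∀ p q : PrimeSpectrum A, p ⋖ q → δ p = δ q + 1) :
    IsDimFun δ where
  wf := wellFoundedGT_primeSpectrum
  cov := exists_cov
  step := h

/-- A Noetherian ring with a dimension function is catenary. -/
theorem isCatenary (δ : PrimeSpectrum A → ℤ) (h : ∀ p q : PrimeSpectrum A, p ⋖ q → δ p = δ q + 1) :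
    CAlg.IsCatenary A := by
  have hδ := isDimFun δ h
  refine ⟨fun p q hpq => ⟨(δ p - δ q).toNat, fun s hs1 hs2 => ?_⟩, fun s t h1 h2 h3 h4 => ?_⟩
  · have := length_le hδ s
    rw [hs1, hs2] at this
    lia
  · have h5 := length_eq_of_saturated hδ s h3
    have h6 := length_eq_of_saturated hδ t h4
    rw [h1, h2] at h5
    lia

end Ring

end Groth.Agent.LoccohA.DzOrder
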