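import Groth.Agent.LoccohA.DzMin
import Groth.Agent.LoccohA.DzOrder
import Mathlib.RingTheory.KrullDimension.Basic

/-!
# Normalized dualizing complexes over local rings: `δ(p) = dim A/p`
-/

set_option linter.unusedSectionVars false
set_option backward.isDefEq.respectTransparency.types false

universe u

open CategoryTheory Limits Pretriangulated Category

namespace Groth.Agent.LoccohA.DzLocal

open DzExact DzTrunc DzTrunc2 DzHom DzHomology DzBidual DzBidual2 DzExt DzInj DzDual DzDim DzMin
  DzOrder DerivedCategory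

attribute [local instance] HasDerivedCategory.standard

variable {A : Type u} [CommRing A] [IsLocalRing A] [IsNoetherianRing A]

/-- `dim A/p = δ(p) - δ(m)` over a local ring with a dimension function. -/
theorem ringKrullDim_quotient_eq (δ : PrimeSpectrum A → ℤ)
    (hδ : ∀ p q : PrimeSpectrum A, p ⋖ q → δ p = δ q + 1) (p : PrimeSpectrum A) :
    ringKrullDim (A ⧸ p.asIdeal) =
      ((δ p - δ (IsLocalRing.closedPoint A)).toNat : WithBot ℕ∞) := by
  have hle : ∀ q : PrimeSpectrum A, q ≤ IsLocalRing.closedPoint A := fun q =>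
    IsLocalRing.le_maximalIdeal q.2.ne_top
  rw [← krullDim_Icc (isDimFun δ hδ) (hle p), ringKrullDim_quotient]
  refine Order.krullDim_eq_of_orderIso
    { toFun := fun q => ⟨q.1, (PrimeSpectrum.mem_zeroLocus _ _).1 q.2, hle q.1⟩
      invFun := fun q => ⟨q.1, (PrimeSpectrum.mem_zeroLocus _ _).2 q.2.1⟩
      left_inv := fun _ => rfl
      right_inv := fun _ => rfl
      map_rel_iff' := Iff.rfl }

/-- `δ(m) = 0` for a normalized dualizing complex. -/
theorem delta_closedPoint {ω : Dual.D A} (hn : Dual.IsNormalized A ω) (δ : PrimeSpectrum A → ℤ)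
    (hδ : ∀ (p : PrimeSpectrum A) (i : ℤ), (¬ VanAt A p.asIdeal (E ω i (Aq p))) ↔ i = -δ p) :
    δ (IsLocalRing.closedPoint A) = 0 := by
  have h1 := (hδ (IsLocalRing.closedPoint A) _).2 rfl
  by_contra hne
  apply h1
  have := hn (- δ (IsLocalRing.closedPoint A)) (by lia)
  exact (closed_vanAt A _).zero _ this

/-- a normalized dualizing complex has a dimension function with `δ(p) = dim A/p`. -/
theorem exists_delta_normalized {ω : Dual.D A} (hω : Dual.IsDualizing A ω)
    (hn : Dual.IsNormalized A ω) :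
    ∃ δ : PrimeSpectrum A → ℕ,
      (∀ (p : PrimeSpectrum A) (i : ℤ), (¬ VanAt A p.asIdeal (E ω i (Aq p))) ↔ i = -(δ p : ℤ)) ∧
      (∀ p q : PrimeSpectrum A, p ⋖ q → δ p = δ q + 1) ∧
      (∀ p : PrimeSpectrum A, ringKrullDim (A ⧸ p.asIdeal) = (δ p : WithBot ℕ∞)) ∧
      δ (IsLocalRing.closedPoint A) = 0 ∧
      (∀ p q : PrimeSpectrum A, p ≤ q → Order.krullDim (Set.Icc p q) =
        ((δ p - δ q : ℕ) : WithBot ℕ∞)) ∧
      (∀ (p q : PrimeSpectrum A) (h : p ≤ q), Order.height (⟨q, h⟩ : Set.Ici p) =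
        ((δ p - δ q : ℕ) : ℕ∞)) ∧
      (∀ p q : PrimeSpectrum A, p < q → δ q < δ p) := by
  obtain ⟨δ, h1, h2⟩ := exists_delta hω
  have h0 := delta_closedPoint hn δ h1
  have hd := isDimFun δ h2
  have hle : ∀ q : PrimeSpectrum A, q ≤ IsLocalRing.closedPoint A := fun q =>
    IsLocalRing.le_maximalIdeal q.2.ne_top
  have hnonneg : ∀ p, 0 ≤ δ p := fun p => by
    have := delta_le hd (hle p)
    lia
  refine ⟨fun p => (δ p).toNat, fun p i => ?_, fun p q hpq => ?_, fun p => ?_, ?_, fun p q hpq => ?_,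
    fun p q hpq => ?_, fun p q hpq => ?_⟩
  · rw [h1 p i]
    have := hnonneg p
    dsimp only
    rw [Int.toNat_of_nonneg this]
  · have := h2 p q hpq
    have := hnonneg p
    have := hnonneg q
    lia
  · rw [ringKrullDim_quotient_eq δ h2 p, h0, sub_zero]
  · simp [h0]
  · rw [krullDim_Icc hd hpq]
    have := hnonneg p
    have := hnonneg q
    have h3 : (δ p - δ q).toNat = (δ p).toNat - (δ q).toNat := by lia
    rw [h3]
  · rw [height_Ici hd hpq]
    have := hnonneg p
    have := hnonneg q
    have h3 : (δ p - δ q).toNat = (δ p).toNat - (δ q).toNat := by lia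
    rw [h3]
  · have := delta_lt hd p q hpq
    have := hnonneg p
    have := hnonneg q
    lia

end Groth.Agent.LoccohA.DzLocal
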