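import Groth.Agent.LoccohA.DzDim
import Mathlib.RingTheory.Ideal.MinimalPrime.Basic

/-!
# Dualizing complexes at minimal primes
-/

set_option linter.unusedSectionVars false
set_option backward.isDefEq.respectTransparency.types false

universe u

open CategoryTheory Limits Pretriangulated Category

namespace Groth.Agent.LoccohA.DzMin

open DzExact DzTrunc DzTrunc2 DzHom DzHomology DzBidual DzBidual2 DzExt DzInj DzDual DzDim
  DerivedCategory

attribute [local instance] HasDerivedCategory.standard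

variable {A : Type u} [CommRing A] [IsNoetherianRing A] {L : Dual.D A}

/-- At a minimal prime `p`: if `E^i(A/p)_p` vanishes for `i ≠ d` then `E^i(M)_p = 0` for `i ≠ d`. -/
lemma vanAt_E_of_min (p : PrimeSpectrum A) (hp : ∀ q : PrimeSpectrum A, q ≤ p → q = p)
    (i : ℤ) (h : VanAt A p.asIdeal (E L i (Aq p)))
    (M : ModuleCat.{u} A) [Module.Finite A M] : VanAt A p.asIdeal (E L i M) := by
  refine vanAt_E_devissage i M fun q _ hqp => ?_
  rw [hp q hqp]
  exact h

/-- The short exact sequence `0 → I → A → A/I → 0`. -/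
lemma exists_ses_ideal (I : Ideal A) : ∃ S : ShortComplex (ModuleCat.{u} A), ∃ _ : S.ShortExact,
    S.X₁ = ModuleCat.of A I ∧ S.X₂ = ModuleCat.of A A ∧ S.X₃ = ModuleCat.of A (A ⧸ I) := by
  let S : ShortComplex (ModuleCat.{u} A) :=
    ModuleCat.shortComplexOfCompEqZero (Submodule.subtype I) (Submodule.mkQ I) (by
      ext x
      exact Ideal.Quotient.eq_zero_iff_mem.2 x.2)
  refine ⟨S, ModuleCat.shortComplex_shortExact S (LinearMap.exact_subtype_mkQ I)
    (Submodule.subtype_injective I) (Submodule.mkQ_surjective I), rfl, rfl, rfl⟩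

/-- At a minimal prime the module `Hom(A, L[d]) = H^d(L)` does not vanish. -/
lemma not_vanAt_of_min (p : PrimeSpectrum A) (hp : ∀ q : PrimeSpectrum A, q ≤ p → q = p)
    (d : ℤ) (h : ∀ i, i ≠ d → VanAt A p.asIdeal (E L i (Aq p)))
    (hd : ¬ VanAt A p.asIdeal (E L d (Aq p))) :
    ¬ VanAt A p.asIdeal (E L d (ModuleCat.of A A)) := by
  intro hcon
  obtain ⟨S, hS, h1, h2, h3⟩ := exists_ses_ideal p.asIdeal
  apply hd
  have h4 : VanAt A p.asIdeal (E L (d - 1) S.X₁) := by
    rw [h1]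
    exact vanAt_E_of_min p hp (d - 1) (h _ (by lia)) _
  have h5 : VanAt A p.asIdeal (E L d S.X₂) := by
    rw [h2]
    exact hcon
  have h6 : VanAt A p.asIdeal (E L d S.X₃) :=
    (closed_vanAt A p.asIdeal).exact _ _ (E_exact₃ L hS (d - 1) d (by lia)) h4 h5
  rw [h3] at h6
  exact h6

/-- **H^i(ω)_p ≠ 0 iff i = -δ(p)** for `p` minimal. -/
theorem not_vanAt_HD_iff {ω : Dual.D A} (δ : PrimeSpectrum A → ℤ)
    (hδ : ∀ (p : PrimeSpectrum A) (i : ℤ), (¬ VanAt A p.asIdeal (E ω i (Aq p))) ↔ i = -δ p)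
    (p : PrimeSpectrum A) (hp : ∀ q : PrimeSpectrum A, q ≤ p → q = p) (i : ℤ) :
    (¬ VanAt A p.asIdeal (Dual.HD A ω i)) ↔ i = -δ p := by
  have h1 : VanAt A p.asIdeal (Dual.HD A ω i) ↔ VanAt A p.asIdeal (E ω i (ModuleCat.of A A)) :=
    ⟨fun h => VanAt.of_injective (homA ω i).symm.toLinearMap (homA ω i).symm.injective h,
      fun h => VanAt.of_injective (homA ω i).toLinearMap (homA ω i).injective h⟩
  have h2 : ∀ i, i ≠ -δ p → VanAt A p.asIdeal (E ω i (Aq p)) := by
    intro i hi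
    by_contra hcon
    exact hi ((hδ p i).1 hcon)
  rw [h1]
  constructor
  · intro h
    by_contra hne
    exact h (vanAt_E_of_min p hp i (h2 i hne) _)
  · rintro rfl
    exact not_vanAt_of_min p hp _ h2 ((hδ p _).2 rfl)

lemma eq_of_le_of_mem_minimalPrimes {p : Ideal A} (hp : p ∈ minimalPrimes A) :
    ∀ q : PrimeSpectrum A, q ≤ ⟨p, hp.1.1⟩ → q = ⟨p, hp.1.1⟩ := by
  intro q hq
  have h1 : p ≤ q.asIdeal := hp.2 ⟨q.2, bot_le⟩ hq
  exact le_antisymm hq h1

end Groth.Agent.LoccohA.DzMin
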