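import Groth.Agent.LoccohA.DzTrunc2

/-!
# Zigzag between `Hom(X, L[k])` and `Hom(H^{i₀}(X), L[k + i₀])`
-/

set_option linter.unusedSectionVars false

universe t w v u

open CategoryTheory Limits Pretriangulated Category

namespace Groth.Agent.LoccohA.DzTrunc3

open DzExact DzTrunc DzTrunc2 DerivedCategory

variable {A : Type t} [CommRing A] {C : Type u} [Category.{v} C] [Abelian C] [Linear A C]
  [HasDerivedCategory.{w} C]

lemma P_quot_of_exact {P : ∀ (E : Type w) [AddCommGroup E] [Module A E], Prop}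
    (hP : Closed A P) {E₁ E₂ E₃ : Type w} [AddCommGroup E₁] [AddCommGroup E₂] [AddCommGroup E₃]
    [Module A E₁] [Module A E₂] [Module A E₃] (f : E₁ →ₗ[A] E₂) (g : E₂ →ₗ[A] E₃)
    (h : Function.Exact f g) (h3 : P E₃) : P (E₂ ⧸ LinearMap.range f) := by
  have h1 : LinearMap.range f = LinearMap.ker g := (LinearMap.exact_iff.1 h).symm
  rw [h1]
  exact hP.of_injective _ (LinearMap.ker_eq_bot.1 (Submodule.ker_liftQ_eq_bot _ g le_rfl le_rfl)) h3

lemma P_ker_of_exact {P : ∀ (E : Type w) [AddCommGroup E] [Module A E], Prop}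
    (hP : Closed A P) {E₁ E₂ E₃ : Type w} [AddCommGroup E₁] [AddCommGroup E₂] [AddCommGroup E₃]
    [Module A E₁] [Module A E₂] [Module A E₃] (f : E₁ →ₗ[A] E₂) (g : E₂ →ₗ[A] E₃)
    (h : Function.Exact f g) (h1 : P E₁) : P (LinearMap.ker g) := by
  have h2 : LinearMap.range f = LinearMap.ker g := (LinearMap.exact_iff.1 h).symm
  rw [← h2]
  exact hP.of_surjective _ f.surjective_rangeRestrict h1

/-- Zigzag between `Hom(X, L[k])` and `Hom(H^{i₀}(X), L[k + i₀])`. -/
theorem extract_zigzag {P : ∀ (E : Type w) [AddCommGroup E] [Module A E], Prop}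
    (hP : Closed A P) (L : DerivedCategory C) (k c d i₀ : ℤ) (X : DerivedCategory C)
    [hc : X.IsGE c] [hd : X.IsLE d]
    (hgt : ∀ i : ℤ, i₀ < i →
      P ((singleFunctor C 0).obj ((homologyFunctor C i).obj X) ⟶ L⟦k + 1 + i⟧))
    (hgt' : ∀ i : ℤ, i₀ < i →
      P ((singleFunctor C 0).obj ((homologyFunctor C i).obj X) ⟶ L⟦k + i⟧))
    (hlt : ∀ i : ℤ, i < i₀ →
      P ((singleFunctor C 0).obj ((homologyFunctor C i).obj X) ⟶ L⟦k - 1 + i⟧))
    (hlt' : ∀ i : ℤ, i < i₀ →
      P ((singleFunctor C 0).obj ((homologyFunctor C i).obj X) ⟶ L⟦k + i⟧)) :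
    ∃ (W : Type w) (_ : AddCommGroup W) (_ : Module A W) (f : (X ⟶ L⟦k⟧) →ₗ[A] W)
      (g : ((singleFunctor C 0).obj ((homologyFunctor C i₀).obj X) ⟶ L⟦k + i₀⟧) →ₗ[A] W),
      P (W ⧸ LinearMap.range f) ∧ P (LinearMap.ker f) ∧
      P (W ⧸ LinearMap.range g) ∧ P (LinearMap.ker g) := by
  have hT := TStructure.t.triangleLEGE_distinguished i₀ (i₀ + 1) (by lia) X
  -- the part above
  have hG1 : IsGE ((TStructure.t.truncGE (i₀ + 1)).obj X) (i₀ + 1) := by
    change TStructure.t.IsGE _ _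
    infer_instance
  have hG2 : IsLE ((TStructure.t.truncGE (i₀ + 1)).obj X) d := by
    change TStructure.t.IsLE _ _
    infer_instance
  have h1 : P ((TStructure.t.truncGE (i₀ + 1)).obj X ⟶ L⟦k + 1⟧) := by
    refine hom_of_truncation' hP L (k + 1) (i₀ + 1) d _ fun i => ?_
    by_cases hi : i₀ + 1 ≤ i
    · have := isIso_homology_truncGE X (i₀ + 1) i hi
      exact hP.of_equiv (Linear.homCongr A ((singleFunctor C 0).mapIso
        (asIso ((homologyFunctor C i).map ((TStructure.t.truncGEπ (i₀ + 1)).app X))))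
        (Iso.refl _)) (hgt i (by lia))
    · exact P_of_isZero hP L i _ _ (isZero_of_isGE _ (i₀ + 1) i (by lia))
  have h1' : P ((TStructure.t.truncGE (i₀ + 1)).obj X ⟶ L⟦k⟧) := by
    refine hom_of_truncation' hP L k (i₀ + 1) d _ fun i => ?_
    by_cases hi : i₀ + 1 ≤ i
    · have := isIso_homology_truncGE X (i₀ + 1) i hi
      exact hP.of_equiv (Linear.homCongr A ((singleFunctor C 0).mapIso
        (asIso ((homologyFunctor C i).map ((TStructure.t.truncGEπ (i₀ + 1)).app X))))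
        (Iso.refl _)) (hgt' i (by lia))
    · exact P_of_isZero hP L i _ _ (isZero_of_isGE _ (i₀ + 1) i (by lia))
  set Y := (TStructure.t.truncLE i₀).obj X with hY
  have hYLE : Y.IsLE i₀ := by
    change TStructure.t.IsLE _ _
    infer_instance
  have hYGE : Y.IsGE c := by
    change TStructure.t.IsGE ((TStructure.t.truncLE i₀).obj X) c
    infer_instance
  have hT' := TStructure.t.triangleLEGE_distinguished (i₀ - 1) i₀ (by lia) Y
  have hY1 : IsGE ((TStructure.t.truncLE (i₀ - 1)).obj Y) c := by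
    change TStructure.t.IsGE _ _
    infer_instance
  have hY2 : IsLE ((TStructure.t.truncLE (i₀ - 1)).obj Y) (i₀ - 1) := by
    change TStructure.t.IsLE _ _
    infer_instance
  have h3 : P ((TStructure.t.truncLE (i₀ - 1)).obj Y ⟶ L⟦k - 1⟧) := by
    refine hom_of_truncation' hP L (k - 1) c (i₀ - 1) _ fun i => ?_
    by_cases hi : i ≤ i₀ - 1
    · have := isIso_homology_truncLE Y (i₀ - 1) i hi
      have := isIso_homology_truncLE X i₀ i (by lia)
      exact hP.of_equiv (Linear.homCongr A ((singleFunctor C 0).mapIso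
        (asIso ((homologyFunctor C i).map ((TStructure.t.truncLEι (i₀ - 1)).app Y)) ≪≫
          asIso ((homologyFunctor C i).map ((TStructure.t.truncLEι i₀).app X)))).symm
        (Iso.refl _)) (hlt i (by lia))
    · exact P_of_isZero hP L i _ _ (isZero_of_isLE _ (i₀ - 1) i (by lia))
  have h3' : P ((TStructure.t.truncLE (i₀ - 1)).obj Y ⟶ L⟦k⟧) := by
    refine hom_of_truncation' hP L k c (i₀ - 1) _ fun i => ?_
    by_cases hi : i ≤ i₀ - 1
    · have := isIso_homology_truncLE Y (i₀ - 1) i hi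
      have := isIso_homology_truncLE X i₀ i (by lia)
      exact hP.of_equiv (Linear.homCongr A ((singleFunctor C 0).mapIso
        (asIso ((homologyFunctor C i).map ((TStructure.t.truncLEι (i₀ - 1)).app Y)) ≪≫
          asIso ((homologyFunctor C i).map ((TStructure.t.truncLEι i₀).app X)))).symm
        (Iso.refl _)) (hlt' i (by lia))
    · exact P_of_isZero hP L i _ _ (isZero_of_isLE _ (i₀ - 1) i (by lia))
  have h5 : IsGE ((TStructure.t.truncGE i₀).obj Y) i₀ := by
    change TStructure.t.IsGE _ _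
    infer_instance
  have h6 : IsLE ((TStructure.t.truncGE i₀).obj Y) i₀ := by
    change TStructure.t.IsLE _ _
    infer_instance
  obtain ⟨e⟩ := nonempty_iso_single ((TStructure.t.truncGE i₀).obj Y) i₀
  have := isIso_homology_truncGE Y i₀ i₀ le_rfl
  have := isIso_homology_truncLE X i₀ i₀ le_rfl
  have e2 : (homologyFunctor C i₀).obj ((TStructure.t.truncGE i₀).obj Y) ≅
      (homologyFunctor C i₀).obj X :=
    (asIso ((homologyFunctor C i₀).map ((TStructure.t.truncGEπ i₀).app Y))).symm ≪≫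
      asIso ((homologyFunctor C i₀).map ((TStructure.t.truncLEι i₀).app X))
  let e3 : ((singleFunctor C 0).obj ((homologyFunctor C i₀).obj X) ⟶ L⟦k + i₀⟧) ≃ₗ[A]
      ((TStructure.t.truncGE i₀).obj Y ⟶ L⟦k⟧) :=
    (singleShiftEquiv A _ L k i₀ (k + i₀) rfl).symm.trans (Linear.homCongr A
      (e ≪≫ (singleFunctor C i₀).mapIso e2).symm (Iso.refl _))
  let f : (X ⟶ L⟦k⟧) →ₗ[A] (Y ⟶ L⟦k⟧) :=
    Linear.leftComp A (L⟦k⟧) ((TStructure.t.triangleLEGE i₀ (i₀ + 1) (by lia)).obj X).mor₁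
  let g₀ : ((TStructure.t.truncGE i₀).obj Y ⟶ L⟦k⟧) →ₗ[A] (Y ⟶ L⟦k⟧) :=
    Linear.leftComp A (L⟦k⟧) ((TStructure.t.triangleLEGE (i₀ - 1) i₀ (by lia)).obj Y).mor₂
  refine ⟨(Y ⟶ L⟦k⟧), inferInstance, inferInstance, f, g₀ ∘ₗ e3.toLinearMap, ?_, ?_, ?_, ?_⟩
  · exact P_quot_of_exact hP _ _ (exact₁ A _ hT L k (k + 1) rfl) h1
  · exact P_ker_of_exact hP _ _ (exact₂ A _ hT (L⟦k⟧)) h1'
  · have : LinearMap.range (g₀ ∘ₗ e3.toLinearMap) = LinearMap.range g₀ :=
      LinearMap.range_comp_of_range_eq_top _ e3.range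
    rw [this]
    exact P_quot_of_exact hP _ _ (exact₂ A _ hT' (L⟦k⟧)) h3'
  · refine hP.of_injective (E₂ := LinearMap.ker g₀)
      ((e3.toLinearMap.comp (LinearMap.ker (g₀ ∘ₗ e3.toLinearMap)).subtype).codRestrict _
        (fun x => x.2)) ?_ ?_
    · intro x y hxy
      have := congrArg Subtype.val hxy
      exact Subtype.ext (e3.injective this)
    · exact P_ker_of_exact hP _ _ (exact₃ A _ hT' L (k - 1) k (by lia)) h3

end Groth.Agent.LoccohA.DzTrunc3
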