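import Groth.Agent.LoccohA.DzDim
import Groth.Agent.LoccohA.DzTrunc3

/-!
# `Hom(A/p, ω[d])_p` is one-dimensional
-/

set_option linter.unusedSectionVars false
set_option backward.isDefEq.respectTransparency.types false

universe u

open CategoryTheory Limits Pretriangulated Category

namespace Groth.Agent.LoccohA.DzOne

open DzExact DzTrunc DzTrunc2 DzTrunc3 DzHom DzHomology DzBidual DzBidual2 DzExt DzInj DzDual DzDim
  DerivedCategory

attribute [local instance] HasDerivedCategory.standard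

section Rank

universe w w'

variable {A : Type u} [CommRing A] (p : Ideal A)

/-- Any two elements are proportional at `p`: the localization at `p` has "rank at most 1" (for modules killed
by `p`: dimension at most one over `κ(p)`). -/
def RankLE1 (E : Type w) [AddCommGroup E] [Module A E] : Prop :=
  ∀ x y : E, ∃ s t : A, (s ∉ p ∨ t ∉ p) ∧ s • x = t • y

variable {p} [hp : p.IsPrime]

lemma RankLE1.of_surj {E₁ : Type w} {E₂ : Type w'} [AddCommGroup E₁] [AddCommGroup E₂]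
    [Module A E₁] [Module A E₂] (f : E₁ →ₗ[A] E₂) (hf : VanAt A p (E₂ ⧸ LinearMap.range f))
    (h : RankLE1 p E₁) : RankLE1 p E₂ := by
  intro x' y'
  obtain ⟨s₁, hs₁, h1⟩ := hf (Submodule.Quotient.mk x')
  obtain ⟨t₁, ht₁, h2⟩ := hf (Submodule.Quotient.mk y')
  rw [← Submodule.Quotient.mk_smul, Submodule.Quotient.mk_eq_zero] at h1 h2
  obtain ⟨x, hx⟩ := h1
  obtain ⟨y, hy⟩ := h2
  obtain ⟨s, t, hst, hxy⟩ := h x y
  refine ⟨s * s₁, t * t₁, ?_, ?_⟩
  · rcases hst with h | h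
    · exact Or.inl fun h' => (hp.mem_or_mem h').elim h hs₁
    · exact Or.inr fun h' => (hp.mem_or_mem h').elim h ht₁
  · rw [mul_smul, mul_smul, ← hx, ← hy, ← map_smul, ← map_smul, hxy]

lemma RankLE1.of_inj {E₁ : Type w} {E₂ : Type w'} [AddCommGroup E₁] [AddCommGroup E₂]
    [Module A E₁] [Module A E₂] (f : E₁ →ₗ[A] E₂) (hf : VanAt A p (LinearMap.ker f))
    (h : RankLE1 p E₂) : RankLE1 p E₁ := by
  intro x y
  obtain ⟨s, t, hst, hxy⟩ := h (f x) (f y)
  obtain ⟨r, hr, hr'⟩ := hf ⟨s • x - t • y, by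
    rw [LinearMap.mem_ker, map_sub, map_smul, map_smul, hxy, sub_self]⟩
  refine ⟨r * s, r * t, ?_, ?_⟩
  · rcases hst with h | h
    · exact Or.inl fun h' => (hp.mem_or_mem h').elim hr h
    · exact Or.inr fun h' => (hp.mem_or_mem h').elim hr h
  · have := congrArg Subtype.val hr'
    change r • (s • x - t • y) = 0 at this
    rw [smul_sub, sub_eq_zero, smul_smul, smul_smul] at this
    exact this

lemma RankLE1.of_equiv {E₁ : Type w} {E₂ : Type w'} [AddCommGroup E₁] [AddCommGroup E₂]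
    [Module A E₁] [Module A E₂] (e : E₁ ≃ₗ[A] E₂) (h : RankLE1 p E₁) : RankLE1 p E₂ := by
  intro x y
  obtain ⟨s, t, hst, hxy⟩ := h (e.symm x) (e.symm y)
  refine ⟨s, t, hst, ?_⟩
  apply e.symm.injective
  rw [map_smul, map_smul, hxy]

lemma rankLE1_Aq (p : PrimeSpectrum A) : RankLE1 p.asIdeal (A ⧸ p.asIdeal) := by
  intro x y
  obtain ⟨a, rfl⟩ := Ideal.Quotient.mk_surjective x
  obtain ⟨b, rfl⟩ := Ideal.Quotient.mk_surjective y
  by_cases h : b ∈ p.asIdeal ∧ a ∈ p.asIdeal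
  · refine ⟨1, 1, Or.inl fun h' => p.2.ne_top ((Ideal.eq_top_iff_one _).2 h'), ?_⟩
    rw [Ideal.Quotient.eq_zero_iff_mem.2 h.1, Ideal.Quotient.eq_zero_iff_mem.2 h.2]
  · refine ⟨b, a, ?_, ?_⟩
    · by_contra hcon
      push Not at hcon
      exact h hcon
    · rw [← Ideal.Quotient.mk_eq_mk, ← Ideal.Quotient.mk_eq_mk, ← Submodule.Quotient.mk_smul,
        ← Submodule.Quotient.mk_smul, smul_eq_mul, smul_eq_mul, mul_comm]

end Rank

section Main

variable {A : Type u} [CommRing A] [IsNoetherianRing A]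
  {J : CochainComplex (ModuleCat.{u} A) ℤ} [J.IsKInjective] [hJ : ∀ i, Injective (J.X i)]
  {a b : ℤ}

/-- **One-dimensionality**, for `L = Q J`. -/
theorem rankLE1_E (hs : Setup J a b) (p : PrimeSpectrum A) {d : ℤ}
    (hd : ¬ VanAt A p.asIdeal (E (Q.obj J) d (Aq p))) :
    RankLE1 p.asIdeal (E (Q.obj J) d (Aq p)) := by
  have hne : ∀ i, i ≠ d → VanAt A p.asIdeal (E (Q.obj J) i (Aq p)) := by
    intro i hi
    by_contra hcon
    exact hi (unique_not_vanAt hs p hcon hd)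
  have hGE := QG_isGE J hs.range (Aq p)
  have hLE := QG_isLE J hs.range (Aq p)
  have hfin : ∀ i, Module.Finite A ((homologyFunctor (ModuleCat.{u} A) i).obj
      (Q.obj (G (Aq p) J))) := finite_homology_G hs (Aq p)
  have hkill : ∀ i, ∀ s ∈ p.asIdeal, ∀ x : ((homologyFunctor (ModuleCat.{u} A) i).obj
      (Q.obj (G (Aq p) J))), s • x = 0 := fun i s hs x =>
    killed_homology_G (Aq p) i s (Aq_killed p s hs) x
  have hvan : ∀ i j, i ≠ d → VanAt A p.asIdeal (E (Q.obj J) j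
      ((homologyFunctor (ModuleCat.{u} A) i).obj (Q.obj (G (Aq p) J)))) := by
    intro i j hi
    have := hfin i
    exact vanAt_E_of_vanAt _ (VanAt.of_injective (Ghomology' (Aq p) J i).toLinearMap
      (Ghomology' (Aq p) J i).injective (hne i hi)) _
  obtain ⟨W, _, _, f, g, hf1, -, -, hg2⟩ := extract_zigzag (closed_vanAt.{u, u + 1} A p.asIdeal)
    (Q.obj J) 0 a b d (Q.obj (G (Aq p) J))
    (fun i hi => hvan i _ (by lia)) (fun i hi => hvan i _ (by lia))
    (fun i hi => hvan i _ (by lia)) (fun i hi => hvan i _ (by lia))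
  have h1 : RankLE1 p.asIdeal (F J (Q.obj J) 0 (Aq p)) :=
    RankLE1.of_equiv (LinearEquiv.ofBijective _ (hs.eta_bij (Aq p))) (rankLE1_Aq p)
  have h2 : RankLE1 p.asIdeal W := RankLE1.of_surj f hf1 h1
  have h3 := RankLE1.of_inj g hg2 h2
  rw [zero_add] at h3
  refine RankLE1.of_equiv (Ghomology' (Aq p) J d) ?_
  by_contra hcon
  unfold RankLE1 at hcon
  push Not at hcon
  obtain ⟨v₁, v₂, hv⟩ := hcon
  -- the inclusion of `(A/p)²`
  have hkd := hkill d
  have hfd := hfin d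
  generalize hV : (homologyFunctor (ModuleCat.{u} A) d).obj (Q.obj (G (Aq p) J)) = V at *
  let h₁ : (A ⧸ p.asIdeal) →ₗ[A] V := p.asIdeal.liftQ (LinearMap.toSpanSingleton A V v₁)
    (fun s hs => by
      rw [LinearMap.mem_ker, LinearMap.toSpanSingleton_apply]
      exact hkd s hs v₁)
  let h₂ : (A ⧸ p.asIdeal) →ₗ[A] V := p.asIdeal.liftQ (LinearMap.toSpanSingleton A V v₂)
    (fun s hs => by
      rw [LinearMap.mem_ker, LinearMap.toSpanSingleton_apply]
      exact hkd s hs v₂)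
  let h : ((A ⧸ p.asIdeal) × (A ⧸ p.asIdeal)) →ₗ[A] V := LinearMap.coprod h₁ h₂
  have hinj : Function.Injective h := by
    rw [injective_iff_map_eq_zero]
    rintro ⟨x, y⟩ hxy
    obtain ⟨x, rfl⟩ := Ideal.Quotient.mk_surjective x
    obtain ⟨y, rfl⟩ := Ideal.Quotient.mk_surjective y
    have h4 : x • v₁ + y • v₂ = 0 := hxy
    have h5 : x ∈ p.asIdeal ∧ y ∈ p.asIdeal := by
      by_contra hcon
      refine hv x (-y) ?_ (by rw [neg_smul]; exact eq_neg_of_add_eq_zero_left h4)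
      rw [not_and_or] at hcon
      rcases hcon with hcon | hcon
      · exact Or.inl hcon
      · exact Or.inr (fun h => hcon ((Ideal.neg_mem_iff _).1 h))
    exact Prod.ext (Ideal.Quotient.eq_zero_iff_mem.2 h5.1) (Ideal.Quotient.eq_zero_iff_mem.2 h5.2)
  let S : ShortComplex (ModuleCat.{u} A) :=
    ModuleCat.shortComplexOfCompEqZero h (LinearMap.range h).mkQ (by
      ext <;> simp)
  have hS : S.ShortExact := ModuleCat.shortComplex_shortExact S
    (LinearMap.exact_map_mkQ_range h) hinj (Submodule.mkQ_surjective _)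
  have hfinX : Module.Finite A S.X₃ := by
    change Module.Finite A (_ ⧸ _)
    infer_instance
  have hX₃ : VanAt A p.asIdeal (E (Q.obj J) (d + 1) S.X₃) := by
    refine vanAt_E_of_killed _ _ ?_ (hne _ (by lia))
    intro s hs m
    obtain ⟨x, rfl⟩ := hS.moduleCat_surjective_g m
    rw [← map_smul]
    have : s • x = 0 := hkd s hs x
    rw [this, map_zero]
  have h4 : RankLE1 p.asIdeal (E (Q.obj J) d S.X₁) := by
    refine RankLE1.of_surj (Emap (Q.obj J) d S.f) ?_ h3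
    exact P_quot_of_exact (closed_vanAt.{u, u + 1} A p.asIdeal) _ _
      (E_exact₁ (Q.obj J) hS d (d + 1) rfl) hX₃
  -- contradiction
  unfold VanAt at hd
  push Not at hd
  obtain ⟨v, hv⟩ := hd
  let pr₁ : S.X₁ ⟶ Aq p := ModuleCat.ofHom (LinearMap.fst A (A ⧸ p.asIdeal) (A ⧸ p.asIdeal))
  let pr₂ : S.X₁ ⟶ Aq p := ModuleCat.ofHom (LinearMap.snd A (A ⧸ p.asIdeal) (A ⧸ p.asIdeal))
  let i₁ : Aq p ⟶ S.X₁ := ModuleCat.ofHom (LinearMap.inl A (A ⧸ p.asIdeal) (A ⧸ p.asIdeal))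
  let i₂ : Aq p ⟶ S.X₁ := ModuleCat.ofHom (LinearMap.inr A (A ⧸ p.asIdeal) (A ⧸ p.asIdeal))
  obtain ⟨s, t, hst, hst'⟩ := h4 (Emap _ d pr₁ v) (Emap _ d pr₂ v)
  have h11 : i₁ ≫ pr₁ = 𝟙 _ := rfl
  have h12 : i₁ ≫ pr₂ = 0 := rfl
  have h21 : i₂ ≫ pr₁ = 0 := rfl
  have h22 : i₂ ≫ pr₂ = 𝟙 _ := rfl
  have h5 := congrArg (Emap _ d i₁) hst'
  have h6 := congrArg (Emap _ d i₂) hst'
  rw [map_smul, map_smul, ← Emap_comp, ← Emap_comp, h11, h12, Emap_id] at h5
  rw [map_smul, map_smul, ← Emap_comp, ← Emap_comp, h21, h22, Emap_id] at h6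
  have h0 : Emap (Q.obj J) d (0 : Aq p ⟶ Aq p) v = 0 := by
    rw [Emap_apply, Functor.map_zero, zero_comp]
  rw [h0, smul_zero] at h5 h6
  rcases hst with h | h
  · exact hv s h h5
  · exact hv t h h6.symm

end Main

end Groth.Agent.LoccohA.DzOne
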