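import Groth.Agent.LoccohA.DzKappa
import Groth.Agent.Localalg.DLes

/-!
# Uniqueness of dualizing complexes over a local ring, up to shift
-/

set_option linter.unusedSectionVars false
set_option backward.isDefEq.respectTransparency.types false

universe u

open CategoryTheory Limits Pretriangulated Category

namespace Groth.Agent.LoccohA.DzUnique

open DzExact DzTrunc DzHom DzHomology DzBidual DzBidual2 DzExt DzInj DzDual DzDim
  DzKappa DerivedCategory

open Groth.Agent.Localalg

attribute [local instance] HasDerivedCategory.standard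

section Devissage

variable {A : Type u} [CommRing A] [IsLocalRing A] [IsNoetherianRing A]

/-- Nakayama: surjectivity of the multiplication by `x ∈ m` on a finite module. -/
theorem subsingleton_of_smul_surjective {E₁ : Type*} [AddCommGroup E₁] [Module A E₁]
    [hfin : Module.Finite A E₁] (x : A) (hx : x ∈ IsLocalRing.maximalIdeal A)
    (h : ∀ y : E₁, ∃ z : E₁, y = x • z) : Subsingleton E₁ := by
  have h1 : (⊤ : Submodule A E₁) ≤ IsLocalRing.maximalIdeal A • ⊤ := by
    intro y _
    obtain ⟨z, rfl⟩ := h y
    exact Submodule.smul_mem_smul hx Submodule.mem_top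
  have h2 := Submodule.eq_bot_of_le_smul_of_le_jacobson_bot _ _ hfin.fg_top h1
    (IsLocalRing.maximalIdeal_le_jacobson _)
  exact (Submodule.subsingleton_iff _).1 (subsingleton_of_bot_eq_top h2.symm)

/-- Dévissage over a local ring: from the residue field to all finite modules, with Nakayama. -/
theorem local_devissage (R : ModuleCat.{u} A → Prop)
    (h0 : ∀ M : ModuleCat.{u} A, Subsingleton M → R M)
    (hiso : ∀ M N : ModuleCat.{u} A, Nonempty (M ≅ N) → R M → R N)
    (hext : ∀ (S : ShortComplex (ModuleCat.{u} A)), S.ShortExact → R S.X₁ → R S.X₃ → R S.X₂)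
    (hκ : R (ModuleCat.of A (A ⧸ IsLocalRing.maximalIdeal A)))
    (hN : ∀ (M N : ModuleCat.{u} A) [Module.Finite A M] (x : A)
      (_ : x ∈ IsLocalRing.maximalIdeal A) (g : M ⟶ N) (w : (x • 𝟙 M) ≫ g = 0),
      (ShortComplex.mk (x • 𝟙 M) g w).ShortExact → R N → R M)
    (M : ModuleCat.{u} A) [hM : Module.Finite A M] : R M := by
  suffices key : ∀ p : PrimeSpectrum A, R (ModuleCat.of A (A ⧸ p.asIdeal)) from
    finite_devissage R h0 hiso hext M fun p _ => key p
  intro p
  have hwf : WellFoundedGT (PrimeSpectrum A) := by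
    refine ⟨(InvImage.wf (fun p : PrimeSpectrum A => p.asIdeal)
      (wellFounded_gt (α := Ideal A))).mono ?_⟩
    intro p q hpq
    exact hpq
  induction p using hwf.wf.induction with
  | h p ih =>
  by_cases hp : p.asIdeal = IsLocalRing.maximalIdeal A
  · rw [hp]
    exact hκ
  · have hle := IsLocalRing.le_maximalIdeal p.2.ne_top
    obtain ⟨x, hxq, hxp⟩ := SetLike.not_le_iff_exists.1
      (show ¬ IsLocalRing.maximalIdeal A ≤ p.asIdeal from fun h => hp (le_antisymm hle h))
    let f : (A ⧸ p.asIdeal) →ₗ[A] (A ⧸ p.asIdeal) := LinearMap.lsmul A _ x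
    have hf : Function.Injective f := by
      rw [injective_iff_map_eq_zero]
      intro y hy
      obtain ⟨y, rfl⟩ := Ideal.Quotient.mk_surjective y
      have h1 : x • (Ideal.Quotient.mk p.asIdeal y) = 0 := hy
      rw [← Ideal.Quotient.mk_eq_mk, ← Submodule.Quotient.mk_smul,
        Submodule.Quotient.mk_eq_zero] at h1
      exact Ideal.Quotient.eq_zero_iff_mem.2 ((p.2.mem_or_mem h1).resolve_left hxp)
    let S : ShortComplex (ModuleCat.{u} A) :=
      ModuleCat.shortComplexOfCompEqZero f (LinearMap.range f).mkQ (by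
        ext
        simp)
    have hS : S.ShortExact := ModuleCat.shortComplex_shortExact S
      (LinearMap.exact_map_mkQ_range f) hf (Submodule.mkQ_surjective _)
    have hfinX : Module.Finite A S.X₃ := by
      change Module.Finite A (_ ⧸ _)
      infer_instance
    refine hN (ModuleCat.of A (A ⧸ p.asIdeal)) S.X₃ x hxq S.g S.zero hS ?_
    refine finite_devissage R h0 hiso hext S.X₃ fun r hr => ih r ?_
    have h1 : p ≤ r := by
      intro s hs
      refine (Module.mem_support_iff_of_finite.1 hr) (Module.mem_annihilator.2 fun m => ?_)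
      obtain ⟨y, rfl⟩ := hS.moduleCat_surjective_g m
      rw [← map_smul]
      have : s • y = 0 := Aq_killed p s hs y
      rw [this, map_zero]
    have h2 : x ∈ r.asIdeal := by
      refine (Module.mem_support_iff_of_finite.1 hr) (Module.mem_annihilator.2 fun m => ?_)
      obtain ⟨y, rfl⟩ := hS.moduleCat_surjective_g m
      rw [← map_smul]
      exact ((ShortComplex.ShortExact.moduleCat_exact_iff_function_exact S).1 hS.exact _).2
        ⟨y, rfl⟩
    exact lt_of_le_of_ne h1 (by rintro rfl; exact hxp h2)

end Devissage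

section F

variable {A : Type u} [CommRing A]
variable (J : CochainComplex (ModuleCat.{u} A) ℤ) (L : Dual.D A)

lemma Gmap_smul {M N : ModuleCat.{u} A} (x : A) (f : M ⟶ N) :
    Gmap (x • f) J = x • Gmap f J := by
  ext i φ
  change (x • f) ≫ φ = x • (f ≫ φ)
  rw [Linear.smul_comp]

lemma Fmap_smul_id (k : ℤ) (M : ModuleCat.{u} A) (x : A) (y : F J L k M) :
    Fmap J L k (x • 𝟙 M) y = x • y := by
  rw [Fmap_apply, Gmap_smul, Gmap_id, Functor.map_smul, CategoryTheory.Functor.map_id,
    Linear.smul_comp, Category.id_comp]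

lemma F_iso_subsingleton (k : ℤ) {M N : ModuleCat.{u} A} (e : M ≅ N)
    (h : Subsingleton (F J L k M)) : Subsingleton (F J L k N) := by
  refine (Function.LeftInverse.injective (g := Fmap J L k e.hom) (f := Fmap J L k e.inv)
    fun x => ?_).subsingleton
  rw [Fmap_apply, Fmap_apply, ← Category.assoc, ← Functor.map_comp, ← Gmap_comp, e.inv_hom_id,
    Gmap_id, CategoryTheory.Functor.map_id, Category.id_comp]

end F

section Vanishing

variable {A : Type u} [CommRing A] [IsLocalRing A] [IsNoetherianRing A]

/-- Local criterion of vanishing of `Hom(M, C[i])` for all `i` and finite `M`. -/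
theorem E_subsingleton_of_residueField {C : Dual.D A}
    (hfin : ∀ (i : ℤ) (M : ModuleCat.{u} A) [Module.Finite A M], Module.Finite A (E C i M))
    (hκ : ∀ i, Subsingleton (E C i (ModuleCat.of A (A ⧸ IsLocalRing.maximalIdeal A))))
    (M : ModuleCat.{u} A) [hM : Module.Finite A M] (i : ℤ) : Subsingleton (E C i M) := by
  refine local_devissage (fun M => ∀ i, Subsingleton (E C i M)) ?_ ?_ ?_ hκ ?_ M i
  · exact fun M hM i => E_of_subsingleton C i M hM
  · rintro M N ⟨e⟩ h i
    have := h i
    exact (Eequiv C i e).symm.toEquiv.subsingleton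
  · exact fun S hS h₁ h₃ i => (closed_subsingleton A).exact _ _ (E_exact₂ C hS i) (h₃ i) (h₁ i)
  · intro M N _ x hx g w hS h i
    have := hfin i M
    refine subsingleton_of_smul_surjective x hx fun y => ?_
    have := h (i + 1)
    obtain ⟨z, hz⟩ := (E_exact₁ C hS i (i + 1) rfl y).1 (Subsingleton.elim _ _)
    refine ⟨z, ?_⟩
    rw [← hz, Emap_smul, Emap_id]

/-- Local criterion of vanishing of `F^k(M)` for finite `M` in degrees satisfying a predicate. -/
theorem F_subsingleton_of_residueField (J : CochainComplex (ModuleCat.{u} A) ℤ)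
    [J.IsKInjective] [hJ : ∀ i, Injective (J.X i)] (L : Dual.D A) (k : ℤ)
    (hfin : ∀ (M : ModuleCat.{u} A) [Module.Finite A M], Module.Finite A (F J L k M))
    (hκ : Subsingleton (F J L k (ModuleCat.of A (A ⧸ IsLocalRing.maximalIdeal A))))
    (M : ModuleCat.{u} A) [hM : Module.Finite A M] : Subsingleton (F J L k M) := by
  refine local_devissage (fun M => Subsingleton (F J L k M)) ?_ ?_ ?_ hκ ?_ M
  · exact fun M hM => F_of_subsingleton J L k M hM
  · rintro M N ⟨e⟩ h
    exact F_iso_subsingleton J L k e h
  · exact fun S hS h₁ h₃ => (closed_subsingleton A).exact _ _ (F_exact₂ J L hS k) h₁ h₃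
  · intro M N _ x hx g w hS h
    have := hfin M
    refine subsingleton_of_smul_surjective x hx fun y => ?_
    obtain ⟨z, hz⟩ := (F_exact₂ J L hS k y).1 (Subsingleton.elim _ _)
    refine ⟨z, ?_⟩
    rw [← hz]
    exact Fmap_smul_id J L k M x z

end Vanishing

end Groth.Agent.LoccohA.DzUnique
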