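import Groth.Agent.LoccohA.DzUnique
import Mathlib.RingTheory.SimpleModule.Basic

/-!
# Uniqueness of dualizing complexes over a local ring, up to shift: the theorem
-/

set_option linter.unusedSectionVars false
set_option backward.isDefEq.respectTransparency.types false

universe u

open CategoryTheory Limits Pretriangulated Category

namespace Groth.Agent.LoccohA.DzUnique2

open DzExact DzTrunc DzHom DzHomology DzBidual DzBidual2 DzExt DzInj DzDual DzDim
  DzKappa DzUnique DerivedCategory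

open Groth.Agent.Localalg

attribute [local instance] HasDerivedCategory.standard

lemma bijective_of_ne_zero {A : Type u} [CommRing A] (m : Ideal A) [hm : m.IsMaximal]
    {E₁ E₂ : Type*} [AddCommGroup E₁] [AddCommGroup E₂] [Module A E₁] [Module A E₂]
    (e₁ : E₁ ≃ₗ[A] (A ⧸ m)) (e₂ : E₂ ≃ₗ[A] (A ⧸ m)) (f : E₁ →ₗ[A] E₂) (hf : f ≠ 0) :
    Function.Bijective f := by
  have h : IsSimpleModule A (A ⧸ m) := isSimpleModule_iff_quot_maximal.2 ⟨m, hm, ⟨LinearEquiv.refl _ _⟩⟩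
  have h1 : IsSimpleModule A E₁ := IsSimpleModule.congr e₁
  have h2 : IsSimpleModule A E₂ := IsSimpleModule.congr e₂
  exact LinearMap.bijective_of_ne_zero hf

lemma cone_vanishing {A : Type u} [CommRing A] (X : Dual.D A) (T : Triangle (Dual.D A))
    (hT : T ∈ distTriang _) (h₁ : ∀ k : ℤ, k ≠ 0 → Subsingleton (X ⟶ T.obj₁⟦k⟧))
    (h₂ : ∀ k : ℤ, k ≠ 0 → Subsingleton (X ⟶ T.obj₂⟦k⟧))
    (hb : Function.Bijective (DLes.post A X (T.mor₁⟦(0 : ℤ)⟧'))) (k : ℤ) :
    Subsingleton (X ⟶ T.obj₃⟦k⟧) := by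
  have hco2 := DLes.coexact₂ A X _ hT k
  have hco3 := DLes.coexact₃ A X _ hT k (k + 1) rfl
  have hco1 := DLes.coexact₁ A X _ hT k (k + 1) rfl
  refine subsingleton_of_forall_eq 0 fun z => ?_
  have hz : DLes.codelta A X T k (k + 1) rfl z = 0 := by
    by_cases hk : k + 1 = 0
    · have h1 := (hco1 (DLes.codelta A X T k (k + 1) rfl z)).2 ⟨z, rfl⟩
      have hinj : Function.Injective (DLes.post A X (T.mor₁⟦k + 1⟧')) := by
        rw [hk]
        exact hb.1
      exact hinj (by rw [h1, map_zero])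
    · have := h₁ (k + 1) hk
      exact Subsingleton.elim _ _
  obtain ⟨w, rfl⟩ := (hco3 z).1 hz
  by_cases hk : k = 0
  · subst hk
    obtain ⟨v, rfl⟩ := hb.2 w
    exact (hco2 _).2 ⟨v, rfl⟩
  · have := h₂ k hk
    rw [Subsingleton.elim w 0, map_zero]

section Main

variable {A : Type u} [CommRing A]

/-- `κ`. -/
noncomputable abbrev κ (A : Type u) [CommRing A] [IsLocalRing A] : ModuleCat.{u} A :=
  ModuleCat.of A (A ⧸ IsLocalRing.maximalIdeal A)

variable [IsLocalRing A] [IsNoetherianRing A]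
  {J : CochainComplex (ModuleCat.{u} A) ℤ} [J.IsKInjective] [hJ : ∀ i, Injective (J.X i)]
  {a b : ℤ}

/-- `Hom(κ, J) ≅ κ[-n]`. -/
lemma nonempty_G_iso (n : ℤ) (hn : ∀ i, i ≠ n → Subsingleton (E (Q.obj J) i (κ A)))
    (e : E (Q.obj J) n (κ A) ≃ₗ[A] (A ⧸ IsLocalRing.maximalIdeal A)) :
    Nonempty (Q.obj (G (κ A) J) ≅ (singleFunctor (ModuleCat.{u} A) n).obj (κ A)) := by
  have hz : ∀ i, i ≠ n → IsZero ((homologyFunctor (ModuleCat.{u} A) i).obj (Q.obj (G (κ A) J))) := by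
    intro i hi
    have := hn i hi
    have : Subsingleton ((homologyFunctor (ModuleCat.{u} A) i).obj (Q.obj (G (κ A) J))) :=
      (Ghomology' (κ A) J i).toEquiv.subsingleton
    exact ModuleCat.isZero_of_subsingleton _
  have h1 : (Q.obj (G (κ A) J)).IsGE n := by
    rw [isGE_iff]
    exact fun i hi => hz i (by lia)
  have h2 : (Q.obj (G (κ A) J)).IsLE n := by
    rw [isLE_iff]
    exact fun i hi => hz i (by lia)
  obtain ⟨e1⟩ := nonempty_iso_single (Q.obj (G (κ A) J)) n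
  exact ⟨e1 ≪≫ (singleFunctor (ModuleCat.{u} A) n).mapIso
    ((Ghomology' (κ A) J n).trans e).toModuleIso⟩

/-- `Hom(X, Y[k]) ≃ Hom(κ, Y[k+n])` for `X ≅ κ[-n]`. -/
noncomputable def equivX {X : Dual.D A} {n : ℤ}
    (e : X ≅ (singleFunctor (ModuleCat.{u} A) n).obj (κ A)) (Y : Dual.D A) (k j : ℤ)
    (h : k + n = j) : (X ⟶ Y⟦k⟧) ≃ₗ[A] E Y j (κ A) :=
  (Linear.homCongr A e (Iso.refl _)).trans (singleShiftEquiv A (κ A) Y k n j h)

theorem exists_iso_of_same_degree (hs : Setup J a b) (L : Dual.D A)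
    (hLfin : ∀ (i : ℤ) (M : ModuleCat.{u} A) [Module.Finite A M], Module.Finite A (E L i M))
    (n : ℤ) (hn : ∀ i, i ≠ n → Subsingleton (E (Q.obj J) i (κ A)))
    (e : E (Q.obj J) n (κ A) ≃ₗ[A] (A ⧸ IsLocalRing.maximalIdeal A))
    (hn' : ∀ i, i ≠ n → Subsingleton (E L i (κ A)))
    (e' : E L n (κ A) ≃ₗ[A] (A ⧸ IsLocalRing.maximalIdeal A)) :
    Nonempty (Q.obj J ≅ L) := by
  obtain ⟨e1⟩ := nonempty_G_iso n hn e
  have hFfin : ∀ (k : ℤ) (M : ModuleCat.{u} A) [Module.Finite A M],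
      Module.Finite A (F J L k M) := by
    intro k M _
    refine F_devissage J (closed_finite A) hs.range L k M fun i _ _ => ?_
    have := finite_homology_G hs M i
    exact hLfin (k + i) _
  have hXL : ∀ k : ℤ, k ≠ 0 → Subsingleton (Q.obj (G (κ A) J) ⟶ L⟦k⟧) := by
    intro k hk
    have := hn' (k + n) (by lia)
    exact (equivX e1 L k (k + n) rfl).toEquiv.subsingleton
  have hXJ : ∀ k : ℤ, k ≠ 0 → Subsingleton (Q.obj (G (κ A) J) ⟶ (Q.obj J)⟦k⟧) := by
    intro k hk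
    have := hn (k + n) (by lia)
    exact (equivX e1 (Q.obj J) k (k + n) rfl).toEquiv.subsingleton
  have hF : ∀ (k : ℤ) (_ : k ≠ 0) (M : ModuleCat.{u} A) [Module.Finite A M],
      Subsingleton (F J L k M) := by
    intro k hk M _
    exact F_subsingleton_of_residueField J L k (hFfin k) (hXL k hk) M
  -- the short exact sequence `0 → m → A → κ → 0`
  let π : A →ₗ[A] (A ⧸ IsLocalRing.maximalIdeal A) := Submodule.mkQ _
  have hπ : Function.Surjective π := Submodule.mkQ_surjective _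
  let S : ShortComplex (ModuleCat.{u} A) := LinearMap.shortComplexKer π
  have hS : S.ShortExact := LinearMap.shortExact_shortComplexKer hπ
  have hfin1 : Module.Finite A S.X₁ := by
    change Module.Finite A (LinearMap.ker π)
    infer_instance
  -- a nonzero element
  let eL : (Q.obj (G (κ A) J) ⟶ L⟦(0 : ℤ)⟧) ≃ₗ[A] (A ⧸ IsLocalRing.maximalIdeal A) :=
    (equivX e1 L 0 n (zero_add n)).trans e'
  let eJ : (Q.obj (G (κ A) J) ⟶ (Q.obj J)⟦(0 : ℤ)⟧) ≃ₗ[A] (A ⧸ IsLocalRing.maximalIdeal A) :=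
    (equivX e1 (Q.obj J) 0 n (zero_add n)).trans e
  obtain ⟨β, hβ⟩ : ∃ β : F J L 0 S.X₃, β ≠ 0 := by
    have : Nontrivial (Q.obj (G (κ A) J) ⟶ L⟦(0 : ℤ)⟧) := eL.toEquiv.nontrivial
    exact exists_ne _
  obtain ⟨y, hy⟩ : ∃ y, Fmap J L 0 S.g y = β := by
    have := hF 1 one_ne_zero S.X₁
    exact (F_exact₃ J L hS 0 1 rfl β).1 (Subsingleton.elim _ _)
  let f₀ : Q.obj J ⟶ L⟦(0 : ℤ)⟧ := (FAequiv J L 0).symm y
  let g : Q.obj (G (κ A) J) ⟶ Q.obj J := Q.map (Gmap S.g J) ≫ Q.map (GAiso J).hom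
  have hg : g ≫ f₀ ≠ 0 := by
    have h1 : FAequiv J L 0 f₀ = y := LinearEquiv.apply_symm_apply _ _
    have h2 : g ≫ f₀ = β := by
      rw [← hy, ← h1]
      simp [g, Fmap_apply, FAequiv, Linear.homCongr_apply]
    rw [h2]
    exact hβ
  let f : Q.obj J ⟶ L := f₀ ≫ (shiftFunctorZero _ ℤ).hom.app L
  obtain ⟨C, g', h', hT⟩ := distinguished_cocone_triangle f
  have hpost : DLes.post A (Q.obj (G (κ A) J)) (f⟦(0 : ℤ)⟧') ≠ 0 := by
    intro h
    have h1 := LinearMap.congr_fun h (g ≫ (shiftFunctorZero _ ℤ).inv.app (Q.obj J))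
    apply hg
    have h2 : (shiftFunctorZero _ ℤ).inv.app (Q.obj J) ≫ f⟦(0 : ℤ)⟧' = f₀ := by
      have := (shiftFunctorZero (Dual.D A) ℤ).inv.naturality f
      change f ≫ _ = _ at this
      rw [← this]
      simp [f]
    rw [DLes.post_apply, Category.assoc, h2] at h1
    exact h1
  have hbij : Function.Bijective (DLes.post A (Q.obj (G (κ A) J)) (f⟦(0 : ℤ)⟧')) :=
    bijective_of_ne_zero _ eJ eL _ hpost
  have hXC : ∀ k : ℤ, Subsingleton (Q.obj (G (κ A) J) ⟶ C⟦k⟧) :=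
    cone_vanishing _ _ hT hXJ hXL hbij
  have hCκ : ∀ i, Subsingleton (E C i (κ A)) := by
    intro i
    have := hXC (i - n)
    exact (equivX e1 C (i - n) i (by lia)).symm.toEquiv.subsingleton
  have hCfin : ∀ (i : ℤ) (M : ModuleCat.{u} A) [Module.Finite A M],
      Module.Finite A (E C i M) := by
    intro i M _
    exact (closed_finite A).exact _ _
      (DLes.coexact₃ A ((singleFunctor (ModuleCat.{u} A) 0).obj M) _ hT i (i + 1) rfl)
      (hLfin i M) (hs.fin (i + 1) M)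
  have hCA := E_subsingleton_of_residueField hCfin hCκ (ModuleCat.of A A)
  have hz : ∀ i, IsZero ((homologyFunctor (ModuleCat.{u} A) i).obj C) := by
    intro i
    have := hCA i
    have : Subsingleton ((homologyFunctor (ModuleCat.{u} A) i).obj C) :=
      (homA C i).toEquiv.subsingleton
    exact ModuleCat.isZero_of_subsingleton _
  have h1 : C.IsGE 1 := by
    rw [isGE_iff]
    exact fun i hi => hz i
  have h2 : C.IsLE 0 := by
    rw [isLE_iff]
    exact fun i hi => hz i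
  have h3 : IsZero C := isZero_of_isGE_isLE C 1 0 (by lia)
  have h4 : IsIso f := (Triangle.isZero₃_iff_isIso₁ _ hT).1 h3
  exact ⟨asIso f⟩

end Main

end Groth.Agent.LoccohA.DzUnique2
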