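import Groth.Agent.LoccohA.DzUnique2

/-!
# Uniqueness of dualizing complexes over a local ring, up to shift: general form
-/

set_option linter.unusedSectionVars false
set_option backward.isDefEq.respectTransparency.types false

universe u

open CategoryTheory Limits Pretriangulated Category

namespace Groth.Agent.LoccohA.DzUnique3

open DzExact DzTrunc DzHom DzHomology DzBidual DzBidual2 DzExt DzInj DzDual DzDim
  DzKappa DzUnique DzUnique2 DerivedCategory

attribute [local instance] HasDerivedCategory.standard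

variable {A : Type u} [CommRing A] [IsLocalRing A] [IsNoetherianRing A]

/-- Two dualizing complexes over a local ring differ by the shift computed from the degrees of `κ`. -/
theorem nonempty_iso_shift {ω ω' : Dual.D A} (hω : Dual.IsDualizing A ω)
    (hω' : Dual.IsDualizing A ω') (n n' k : ℤ) (hk : k + n = n')
    (hn : ∀ i : ℤ, i ≠ n → Subsingleton (E ω i (κ A)))
    (hn' : ∀ i : ℤ, i ≠ n' → Subsingleton (E ω' i (κ A))) : Nonempty (ω ≅ ω'⟦k⟧) := by
  obtain ⟨J, a, b, hJ1, hJ2, _, e, hs⟩ := exists_setup hω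
  have key : ∀ {L : Dual.D A} (_ : Dual.IsDualizing A L) (n : ℤ)
      (_ : ∀ i : ℤ, i ≠ n → Subsingleton (E L i (κ A))),
      Nonempty (E L n (κ A) ≃ₗ[A] (A ⧸ IsLocalRing.maximalIdeal A)) := by
    intro L hL n hn
    obtain ⟨m, h1, ⟨e1⟩⟩ := ext_residueField hL (IsLocalRing.maximalIdeal A)
    by_cases h : m = n
    · subst h
      exact ⟨e1⟩
    · have := hn m h
      have h2 : Subsingleton (A ⧸ IsLocalRing.maximalIdeal A) := e1.symm.toEquiv.subsingleton
      exact (not_subsingleton _ h2).elim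
  have hωJ := isDualizing_of_iso e hω
  have hnJ : ∀ i : ℤ, i ≠ n → Subsingleton (E (Q.obj J) i (κ A)) := by
    intro i hi
    have := hn i hi
    exact (Linear.homCongr A (Iso.refl _) ((shiftFunctor _ i).mapIso e)).symm.toEquiv.subsingleton
  obtain ⟨e1⟩ := key hωJ n hnJ
  obtain ⟨e2⟩ := key hω' n' hn'
  obtain ⟨a', b', hr⟩ := hω'.finite_injective_dimension
  obtain ⟨e3⟩ := exists_iso_of_same_degree hs (ω'⟦k⟧)
    (fun i M _ => by
      have := finite_E hr hω'.finite_cohomology (k + i) M
      exact Module.Finite.equiv (homShiftAdd A ((singleFunctor (ModuleCat.{u} A) 0).obj M) ω' k i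
        (k + i) rfl).symm)
    n hnJ e1 (fun i hi => by
      have := hn' (k + i) (by lia)
      exact (homShiftAdd A ((singleFunctor (ModuleCat.{u} A) 0).obj (κ A)) ω' k i
        (k + i) rfl).toEquiv.subsingleton)
    ((homShiftAdd A ((singleFunctor (ModuleCat.{u} A) 0).obj (κ A)) ω' k n n' hk).trans e2)
  exact ⟨e ≪≫ e3⟩

/-- **Tag 0A7F**, local case. -/
theorem unique_up_to_shift {ω ω' : Dual.D A} (hω : Dual.IsDualizing A ω)
    (hω' : Dual.IsDualizing A ω') : ∃ n : ℤ, Nonempty (ω' ≅ ω⟦n⟧) := by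
  obtain ⟨n, h1, -⟩ := ext_residueField hω (IsLocalRing.maximalIdeal A)
  obtain ⟨n', h2, -⟩ := ext_residueField hω' (IsLocalRing.maximalIdeal A)
  exact ⟨n - n', nonempty_iso_shift hω' hω n' n (n - n') (by lia) h2 h1⟩

/-- Two normalized dualizing complexes over a local ring are isomorphic. -/
theorem nonempty_iso_of_isNormalized {ω ω' : Dual.D A} (hω : Dual.IsDualizing A ω)
    (hω' : Dual.IsDualizing A ω') (hn : Dual.IsNormalized A ω) (hn' : Dual.IsNormalized A ω') :
    Nonempty (ω ≅ ω') := by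
  obtain ⟨e⟩ := nonempty_iso_shift hω hω' 0 0 0 rfl hn hn'
  exact ⟨e ≪≫ (shiftFunctorZero (Dual.D A) ℤ).app ω'⟩

end Groth.Agent.LoccohA.DzUnique3
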