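import Mathlib.Algebra.Homology.DerivedCategory.Ext.ExactSequences
import Mathlib.Algebra.Homology.DerivedCategory.Ext.Map

/-!
# Five lemma for `Ext T (-)` along a morphism of short exact sequences

For a morphism `φ : S ⟶ S'` of short exact sequences in an abelian category and an object `T`,
two-out-of-three lemmas for the property that `Ext T S.Xᵢ n → Ext T S'.Xᵢ n` is bijective in all degrees.
-/

set_option autoImplicit false

universe w v u

open CategoryTheory CategoryTheory.Limits CategoryTheory.Abelian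

namespace Groth.Agent.LoccohA.ExtUnit

variable {C : Type u} [Category.{v} C] [Abelian C] [HasExt.{w} C]

/-- Postcomposition with a morphism `N ⟶ N'`. -/
noncomputable def α (T : C) {N N' : C} (f : N ⟶ N') (n : ℕ) : Ext.{w} T N n →+ Ext.{w} T N' n :=
  (Ext.mk₀ f).postcomp T (add_zero n)

theorem α_apply (T : C) {N N' : C} (f : N ⟶ N') (n : ℕ) (x : Ext.{w} T N n) :
    α T f n x = x.comp (Ext.mk₀ f) (add_zero n) := rfl

theorem α_comp (T : C) {N N' N'' : C} (f : N ⟶ N') (g : N' ⟶ N'') {n : ℕ} (x : Ext.{w} T N n) :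
    α T (f ≫ g) n x = α T g n (α T f n x) := by
  rw [α_apply, α_apply, α_apply, Ext.comp_assoc_of_third_deg_zero, Ext.mk₀_comp_mk₀]

theorem α_comm (T : C) {N N' M M' : C} (f : N ⟶ N') (g : N' ⟶ M') (h : N ⟶ M) (k : M ⟶ M')
    (w : f ≫ g = h ≫ k) {n : ℕ} (x : Ext.{w} T N n) :
    α T g n (α T f n x) = α T k n (α T h n x) := by
  rw [← α_comp, ← α_comp, w]

theorem α_zero (T : C) {N N' : C} {n : ℕ} (x : Ext.{w} T N n) :
    α T (0 : N ⟶ N') n x = 0 := by
  rw [α_apply, Ext.mk₀_zero, Ext.comp_zero]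

/-- The connecting homomorphism. -/
noncomputable def δ (T : C) {S : ShortComplex C} (hS : S.ShortExact) (n : ℕ) :
    Ext.{w} T S.X₃ n →+ Ext.{w} T S.X₁ (n + 1) := hS.extClass.postcomp T rfl

theorem δ_apply (T : C) {S : ShortComplex C} (hS : S.ShortExact) (n : ℕ) (x : Ext.{w} T S.X₃ n) :
    δ T hS n x = x.comp hS.extClass rfl := rfl

section

variable (T : C) {S : ShortComplex C} (hS : S.ShortExact)

include hS in
theorem exact₂ {n : ℕ} (x : Ext.{w} T S.X₂ n) (hx : α T S.g n x = 0) : ∃ y, α T S.f n y = x :=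
  Ext.covariant_sequence_exact₂ T hS x hx

theorem exact₃ {n : ℕ} (x : Ext.{w} T S.X₃ n) (hx : δ T hS n x = 0) : ∃ y, α T S.g n y = x :=
  Ext.covariant_sequence_exact₃ T hS x rfl hx

theorem exact₁ {n : ℕ} (x : Ext.{w} T S.X₁ (n + 1)) (hx : α T S.f (n + 1) x = 0) :
    ∃ y, δ T hS n y = x :=
  Ext.covariant_sequence_exact₁ T hS x hx rfl

include hS in
theorem inj₁ (x : Ext.{w} T S.X₁ 0) (hx : α T S.f 0 x = 0) : x = 0 := by
  have hm : Mono S.f := hS.mono_f
  apply Ext.postcomp_mk₀_injective_of_mono T S.f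
  rw [map_zero]
  exact hx

theorem α_f_δ {n : ℕ} (x : Ext.{w} T S.X₃ n) : α T S.f (n + 1) (δ T hS n x) = 0 := by
  rw [α_apply, δ_apply, Ext.comp_assoc_of_third_deg_zero, hS.extClass_comp, Ext.comp_zero]

theorem δ_α_g {n : ℕ} (x : Ext.{w} T S.X₂ n) : δ T hS n (α T S.g n x) = 0 := by
  rw [α_apply, δ_apply, Ext.comp_assoc_of_second_deg_zero, hS.comp_extClass, Ext.comp_zero]

end

section Five

variable {T : C} {S S' : ShortComplex C} (hS : S.ShortExact) (hS' : S'.ShortExact) (φ : S ⟶ S')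

theorem α_δ {n : ℕ} (x : Ext.{w} T S.X₃ n) :
    α T φ.τ₁ (n + 1) (δ T hS n x) = δ T hS' n (α T φ.τ₃ n x) := by
  rw [α_apply, α_apply, δ_apply, δ_apply, Ext.comp_assoc_of_third_deg_zero,
    ShortComplex.ShortExact.extClass_naturality hS hS' φ, ← Ext.comp_assoc_of_second_deg_zero]

include hS hS' in
/-- Two out of three: the outer terms are good, so the middle one is. -/
theorem bijective_X₂ (h₁ : ∀ n, Function.Bijective (α.{w} T φ.τ₁ n))
    (h₃ : ∀ n, Function.Bijective (α.{w} T φ.τ₃ n)) (n : ℕ) :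
    Function.Bijective (α.{w} T φ.τ₂ n) := by
  constructor
  · rw [injective_iff_map_eq_zero]
    intro x hx
    have h1 : α T S.g n x = 0 := by
      apply (injective_iff_map_eq_zero _).mp (h₃ n).1
      rw [α_comm T S.g φ.τ₃ φ.τ₂ S'.g φ.comm₂₃.symm, hx, map_zero]
    obtain ⟨y, rfl⟩ := exact₂ T hS x h1
    rw [α_comm T S.f φ.τ₂ φ.τ₁ S'.f φ.comm₁₂.symm] at hx
    rcases n with _ | n
    · have h2 := inj₁ T hS' _ hx
      rw [(injective_iff_map_eq_zero _).mp (h₁ 0).1 y h2, map_zero]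
    · obtain ⟨z, hz⟩ := exact₁ T hS' _ hx
      obtain ⟨z', rfl⟩ := (h₃ n).2 z
      rw [← α_δ hS hS' φ] at hz
      rw [← (h₁ (n + 1)).1 hz, α_f_δ]
  · intro y
    obtain ⟨z, hz⟩ := (h₃ n).2 (α T S'.g n y)
    have h1 : δ T hS n z = 0 := by
      apply (injective_iff_map_eq_zero _).mp (h₁ (n + 1)).1
      rw [α_δ hS hS' φ, hz, δ_α_g]
    obtain ⟨x, rfl⟩ := exact₃ T hS z h1
    have h2 : α T S'.g n (y - α T φ.τ₂ n x) = 0 := by
      rw [map_sub, ← hz, α_comm T S.g φ.τ₃ φ.τ₂ S'.g φ.comm₂₃.symm, sub_self]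
    obtain ⟨w, hw⟩ := exact₂ T hS' _ h2
    obtain ⟨w', rfl⟩ := (h₁ n).2 w
    refine ⟨x + α T S.f n w', ?_⟩
    rw [map_add, α_comm T S.f φ.τ₂ φ.τ₁ S'.f φ.comm₁₂.symm, hw]
    abel

include hS hS' in
/-- Two out of three: the last two terms are good, so the first one is. -/
theorem bijective_X₁ (h₂ : ∀ n, Function.Bijective (α.{w} T φ.τ₂ n))
    (h₃ : ∀ n, Function.Bijective (α.{w} T φ.τ₃ n)) (n : ℕ) :
    Function.Bijective (α.{w} T φ.τ₁ n) := by
  constructor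
  · rw [injective_iff_map_eq_zero]
    intro x hx
    have h1 : α T S.f n x = 0 := by
      apply (injective_iff_map_eq_zero _).mp (h₂ n).1
      rw [α_comm T S.f φ.τ₂ φ.τ₁ S'.f φ.comm₁₂.symm, hx, map_zero]
    rcases n with _ | n
    · exact inj₁ T hS _ h1
    · obtain ⟨y, rfl⟩ := exact₁ T hS x h1
      rw [α_δ hS hS' φ] at hx
      obtain ⟨z, hz⟩ := exact₃ T hS' _ hx
      obtain ⟨z', rfl⟩ := (h₂ n).2 z
      rw [← α_comm T S.g φ.τ₃ φ.τ₂ S'.g φ.comm₂₃.symm] at hz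
      rw [← (h₃ n).1 hz, δ_α_g]
  · intro y
    obtain ⟨x, hx⟩ := (h₂ n).2 (α T S'.f n y)
    have h1 : α T S.g n x = 0 := by
      apply (injective_iff_map_eq_zero _).mp (h₃ n).1
      rw [α_comm T S.g φ.τ₃ φ.τ₂ S'.g φ.comm₂₃.symm, hx, ← α_comp, S'.zero, α_zero]
    obtain ⟨z, rfl⟩ := exact₂ T hS x h1
    rw [α_comm T S.f φ.τ₂ φ.τ₁ S'.f φ.comm₁₂.symm] at hx
    have h2 : α T S'.f n (y - α T φ.τ₁ n z) = 0 := by
      rw [map_sub, hx, sub_self]
    rcases n with _ | n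
    · exact ⟨z, (sub_eq_zero.mp (inj₁ T hS' _ h2)).symm⟩
    · obtain ⟨w, hw⟩ := exact₁ T hS' _ h2
      obtain ⟨w', rfl⟩ := (h₃ n).2 w
      refine ⟨z + δ T hS n w', ?_⟩
      rw [map_add, α_δ hS hS' φ, hw]
      abel

end Five

/-- Postcomposition with an isomorphism is bijective. -/
theorem bijective_of_isIso (T : C) {N N' : C} (f : N ⟶ N') [IsIso f] (n : ℕ) :
    Function.Bijective (α.{w} T f n) := by
  constructor
  · intro x y hxy
    have h1 := congrArg (α T (inv f) n) hxy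
    rw [← α_comp, ← α_comp, IsIso.hom_inv_id] at h1
    simpa only [α_apply, Ext.comp_mk₀_id] using h1
  · intro y
    refine ⟨α T (inv f) n y, ?_⟩
    rw [← α_comp, IsIso.inv_hom_id, α_apply, Ext.comp_mk₀_id]

end Groth.Agent.LoccohA.ExtUnit
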