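import Groth.Agent.Localalg.LCFam
import Groth.Agent.Localalg.Depth3
import Groth.Agent.LoccohA.LCTBase
import Groth.Agent.LoccohA.LCTGam
import Groth.Agent.LoccohA.LES2

/-!
# Extension of a finite module across a specialization stable subset (Stacks 0EI3)
-/

set_option autoImplicit false

universe u

open CategoryTheory Opposite CategoryTheory.Limits

namespace Groth.Agent.LoccohA.ExtendT

open Groth.Agent.Localalg.LCData Groth.Agent.Localalg.LCFam
open Groth.Agent.LoccohA.LCTGam Groth.Agent.LoccohA.LCTBase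

variable {A : Type u} [CommRing A] (T : Set (PrimeSpectrum A))

/-- The comparison data for `HT`. -/
noncomputable def cT (i : ℕ) : LCData (localCohomology.ringModIdeals (Dual2.idealsInDiagram T)) i
    (localCohomology.ofDiagram.{u, u} (Dual2.idealsInDiagram T) i) :=
  lcData₁ (Dual2.idealsInDiagram T) i

/-- The module `A ⧸ J` at the stage `J`. -/
noncomputable abbrev qT (J : Dual2.IdealsIn T) : ModuleCat.{u} A :=
  (localCohomology.ringModIdeals (Dual2.idealsInDiagram T)).obj J

theorem exists_equivT (M : Type u) [AddCommGroup M] [Module A M] :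
    ∃ φ : Dual2.HT T 0 M →ₗ[A] M, Function.Injective φ ∧ ∀ x : M, x ∈ gam T M ↔ ∃ y, φ y = x := by
  let ev : ∀ k : Dual2.IdealsIn T, Abelian.Ext.{u} (qT T k) (ModuleCat.of A M) 0 →ₗ[A] M := fun k =>
    { toFun := fun x => (Abelian.Ext.linearEquiv₀ (R := A) x).hom (Ideal.Quotient.mk _ 1)
      map_add' := fun x y => by rw [map_add]; rfl
      map_smul' := fun a x => by rw [map_smul]; rfl }
  have hev : ∀ (k : Dual2.IdealsIn T) (f : qT T k ⟶ ModuleCat.of A M), ev k (Abelian.Ext.mk₀ f) =
      f.hom (Ideal.Quotient.mk _ 1) := by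
    intro k f
    change (Abelian.Ext.linearEquiv₀ (R := A) (Abelian.Ext.mk₀ f)).hom (Ideal.Quotient.mk _ 1) = _
    have : Abelian.Ext.linearEquiv₀ (R := A) (Abelian.Ext.mk₀ f) = f := by
      apply (Abelian.Ext.linearEquiv₀ (R := A)).symm.injective
      rw [LinearEquiv.symm_apply_apply, Abelian.Ext.linearEquiv₀_symm_apply]
    rw [this]
  have hmk : ∀ (k : Dual2.IdealsIn T) (x : Abelian.Ext.{u} (qT T k) (ModuleCat.of A M) 0),
      ∃ f : qT T k ⟶ ModuleCat.of A M, x = Abelian.Ext.mk₀ f := fun k x =>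
    ⟨Abelian.Ext.linearEquiv₀ (R := A) x, (Abelian.Ext.mk₀_linearEquiv₀_apply x).symm⟩
  have hcompat : ∀ (s t : Dual2.IdealsIn T) (w : s ⟶ t)
      (x : Abelian.Ext.{u} (qT T t) (ModuleCat.of A M) 0),
      ev s ((Abelian.Ext.mk₀ ((localCohomology.ringModIdeals (Dual2.idealsInDiagram T)).map w)).comp
        x (zero_add 0)) = ev t x := by
    intro s t w x
    obtain ⟨g, rfl⟩ := hmk t x
    rw [Abelian.Ext.mk₀_comp_mk₀, hev, hev]
    rfl
  let φ : Dual2.HT T 0 M →ₗ[A] M := (cT T 0).desc (ModuleCat.of A M) (ModuleCat.of A M) ev hcompat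
  have hφ' : ∀ (k : Dual2.IdealsIn T) (f : qT T k ⟶ ModuleCat.of A M),
      φ ((cT T 0).toH k (ModuleCat.of A M) (Abelian.Ext.mk₀ f)) =
        f.hom (Ideal.Quotient.mk _ 1) := fun k f =>
    ((cT T 0).desc_toH (ModuleCat.of A M) (ModuleCat.of A M) ev hcompat k _).trans (hev k f)
  refine ⟨φ, ?_, fun x => ⟨fun hx => ?_, ?_⟩⟩
  · rw [injective_iff_map_eq_zero]
    intro x hx
    obtain ⟨k, x, rfl⟩ := (cT T 0).exists_rep inferInstance (ModuleCat.of A M) x
    obtain ⟨f, rfl⟩ := hmk k x
    rw [hφ'] at hx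
    have : f = 0 := by
      apply ModuleCat.hom_ext
      refine LinearMap.ext fun y => ?_
      obtain ⟨y, rfl⟩ := Ideal.Quotient.mk_surjective y
      have h : Ideal.Quotient.mk ((Dual2.idealsInDiagram T).obj k) y =
          y • Ideal.Quotient.mk ((Dual2.idealsInDiagram T).obj k) 1 := by
        change _ = Ideal.Quotient.mk ((Dual2.idealsInDiagram T).obj k) (y * 1)
        rw [mul_one]
      change f.hom (Ideal.Quotient.mk ((Dual2.idealsInDiagram T).obj k) y) = 0
      rw [h]
      exact (f.hom.map_smul y _).trans (by rw [hx, smul_zero])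
    rw [this, Abelian.Ext.mk₀_zero, map_zero]
  · let J : Dual2.IdealsIn T := mkI T (Ideal.torsionOf A M x) hx
    let f : qT T J ⟶ ModuleCat.of A M := ModuleCat.ofHom
      (Submodule.liftQ _ (LinearMap.toSpanSingleton A M x) (fun a ha => ha))
    refine ⟨(cT T 0).toH J (ModuleCat.of A M) (Abelian.Ext.mk₀ f), ?_⟩
    rw [hφ']
    change (1 : A) • x = x
    exact one_smul _ _
  · rintro ⟨y, rfl⟩
    obtain ⟨k, y, rfl⟩ := (cT T 0).exists_rep inferInstance (ModuleCat.of A M) y
    obtain ⟨f, rfl⟩ := hmk k y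
    rw [hφ']
    refine mem_gam_of _ ((Dual2.idealsInDiagram T).obj k) (toI_prop k) (fun a ha => ?_)
    have : a • Ideal.Quotient.mk ((Dual2.idealsInDiagram T).obj k) 1 = 0 := by
      have h : a • Ideal.Quotient.mk ((Dual2.idealsInDiagram T).obj k) 1 =
        Ideal.Quotient.mk ((Dual2.idealsInDiagram T).obj k) (a * 1) := rfl
      rw [h]
      exact Ideal.Quotient.eq_zero_iff_mem.mpr (Ideal.mul_mem_right _ _ ha)
    exact ((f.hom.map_smul a _).symm.trans (congrArg f.hom this)).trans (map_zero f.hom)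

theorem subsingleton_HT_zero {M : Type u} [AddCommGroup M] [Module A M]
    (h : gam T M = ⊥) : Subsingleton (Dual2.HT T 0 M) := by
  obtain ⟨φ, h1, h2⟩ := exists_equivT T M
  refine ⟨fun x y => h1 ?_⟩
  have hx : φ x = 0 := by
    have := (h2 (φ x)).2 ⟨x, rfl⟩
    rwa [h] at this
  have hy : φ y = 0 := by
    have := (h2 (φ y)).2 ⟨y, rfl⟩
    rwa [h] at this
  rw [hx, hy]

/-- The short exact sequence `0 → N → E → E/N → 0`. -/
theorem shortExact_quotient {E : Type u} [AddCommGroup E] [Module A E] (N : Submodule A E) :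
    (ShortComplex.mk (ModuleCat.ofHom N.subtype) (ModuleCat.ofHom N.mkQ) (by
      ext x
      exact (Submodule.Quotient.mk_eq_zero N).2 x.2)).ShortExact where
  exact := by
    rw [ShortComplex.ShortExact.moduleCat_exact_iff_function_exact]
    intro x
    change N.mkQ x = 0 ↔ x ∈ Set.range N.subtype
    rw [Submodule.mkQ_apply, Submodule.Quotient.mk_eq_zero]
    exact ⟨fun h => ⟨⟨x, h⟩, rfl⟩, by rintro ⟨y, rfl⟩; exact y.2⟩
  mono_f := (ModuleCat.mono_iff_injective _).2 Subtype.val_injective
  epi_g := (ModuleCat.epi_iff_surjective _).2 (Submodule.mkQ_surjective N)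

/-- `Γ_T(E/N)` is finite if `Γ_T(E) = 0` and `H^1_T(N)` is finite. -/
theorem finite_gam_quotient [IsNoetherianRing A] {E : Type u} [AddCommGroup E] [Module A E]
    (hE : gam T E = ⊥) (N : Submodule A E) (hN : Module.Finite A (Dual2.HT T 1 N)) :
    Module.Finite A (gam T (E ⧸ N)) := by
  have hS := shortExact_quotient N
  have h1 := exact₃ (cT T) hS 0 1 rfl
  let δ' : Dual2.HT T 0 (E ⧸ N) →ₗ[A] Dual2.HT T 1 N := δ (cT T) hS 0 1 rfl
  have hδ : Function.Injective δ' := by
    rw [injective_iff_map_eq_zero]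
    intro y hy
    obtain ⟨x, rfl⟩ := (h1 y).1 hy
    have := subsingleton_HT_zero T hE
    have hx : x = 0 := Subsingleton.elim (α := Dual2.HT T 0 E) x 0
    rw [hx, map_zero]
  have hfin : Module.Finite A (Dual2.HT T 0 (E ⧸ N)) := Module.Finite.of_injective δ' hδ
  obtain ⟨φ, -, h2⟩ := exists_equivT T (E ⧸ N)
  have h3 : gam T (E ⧸ N) = LinearMap.range φ := by
    ext x
    rw [h2, LinearMap.mem_range]
  rw [h3]
  infer_instance

theorem gam_quotient_gam [IsNoetherianRing A] (M : Type u) [AddCommGroup M] [Module A M] :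
    gam T (M ⧸ gam T M) = ⊥ := by
  rw [eq_bot_iff]
  intro x hx
  obtain ⟨x, rfl⟩ := Submodule.Quotient.mk_surjective _ x
  obtain ⟨J, hJ, hJx⟩ := (mem_gam_iff_exists _).1 hx
  rw [Submodule.mem_bot, Submodule.Quotient.mk_eq_zero]
  let L : Submodule A M := Submodule.map (LinearMap.toSpanSingleton A M x) (J : Submodule A A)
  have hL : ∀ a ∈ J, a • x ∈ L := fun a ha => Submodule.mem_map_of_mem (f :=
    LinearMap.toSpanSingleton A M x) ha
  have hLg : ∀ y : L, y ∈ gam T L := by
    rintro ⟨y, hy⟩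
    obtain ⟨a, ha, rfl⟩ := Submodule.mem_map.1 hy
    apply mem_gam_of_injective L.subtype Subtype.val_injective
    have h := hJx a ha
    rw [← Submodule.Quotient.mk_smul, Submodule.Quotient.mk_eq_zero] at h
    exact h
  have hfin : Module.Finite A L :=
    Module.Finite.iff_fg.2 (Submodule.FG.map _ (IsNoetherian.noetherian J))
  have hz := zeroLocus_annihilator_subset hLg
  refine mem_gam_of x (Module.annihilator A L * J) (zeroLocus_mul_subset hz hJ) ?_
  intro a ha
  have : Module.annihilator A L * J ≤ Ideal.torsionOf A M x := by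
    rw [Ideal.mul_le]
    intro r hr s hs
    rw [Ideal.mem_torsionOf_iff, mul_smul]
    exact congrArg Subtype.val (Module.mem_annihilator.1 hr ⟨s • x, hL s hs⟩)
  exact this ha

theorem subsingleton_ext_zero {M : Type u} [AddCommGroup M] [Module A M] (h : gam T M = ⊥)
    (J : Ideal A) (hJ : PrimeSpectrum.zeroLocus (J : Set A) ⊆ T) :
    Subsingleton (Abelian.Ext.{u} (ModuleCat.of A (A ⧸ J)) (ModuleCat.of A M) 0) := by
  refine subsingleton_of_forall_eq 0 fun x => ?_
  obtain ⟨f, rfl⟩ : ∃ f : ModuleCat.of A (A ⧸ J) ⟶ ModuleCat.of A M, x = Abelian.Ext.mk₀ f :=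
    ⟨Abelian.Ext.linearEquiv₀ (R := A) x, (Abelian.Ext.mk₀_linearEquiv₀_apply x).symm⟩
  have : f = 0 := by
    apply ModuleCat.hom_ext
    refine LinearMap.ext fun y => ?_
    have : f.hom y ∈ gam T M := by
      refine mem_gam_of _ J hJ (fun a ha => ?_)
      rw [← map_smul]
      obtain ⟨y, rfl⟩ := Ideal.Quotient.mk_surjective y
      have h : a • Ideal.Quotient.mk J y = 0 := by
        change Ideal.Quotient.mk J (a * y) = 0
        exact Ideal.Quotient.eq_zero_iff_mem.mpr (Ideal.mul_mem_right _ _ ha)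
      rw [h, map_zero]
    rw [h] at this
    exact this
  rw [this, Abelian.Ext.mk₀_zero]

/-- A map with `T`-torsion kernel and cokernel is bijective at the primes outside `T`. -/
theorem bijective_map {M N : Type u} [AddCommGroup M] [Module A M] [AddCommGroup N] [Module A N]
    (f : M →ₗ[A] N) (h1 : ∀ x, f x = 0 → x ∈ gam T M)
    (h2 : ∀ y, ∃ J : Ideal A, PrimeSpectrum.zeroLocus (J : Set A) ⊆ T ∧
      ∀ j ∈ J, j • y ∈ LinearMap.range f) (p : PrimeSpectrum A) (hp : p ∉ T) :
    Function.Bijective (LocalizedModule.map p.asIdeal.primeCompl f) := by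
  have hJp : ∀ J : Ideal A, PrimeSpectrum.zeroLocus (J : Set A) ⊆ T →
      ∃ j ∈ J, j ∈ p.asIdeal.primeCompl := by
    intro J hJ
    by_contra hcon
    push Not at hcon
    apply hp
    apply hJ
    intro j hj
    by_contra h
    exact hcon j hj h
  have hmap : ∀ (m : M) (s : p.asIdeal.primeCompl),
      LocalizedModule.map p.asIdeal.primeCompl f (LocalizedModule.mk m s) =
        LocalizedModule.mk (f m) s := fun m s =>
    IsLocalizedModule.map_LocalizedModules p.asIdeal.primeCompl f m s
  constructor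
  · rw [injective_iff_map_eq_zero]
    intro x
    induction x using LocalizedModule.induction_on with
    | h m s =>
      intro hx
      rw [hmap, ← LocalizedModule.zero_mk 1, LocalizedModule.mk_eq] at hx
      obtain ⟨t, ht⟩ := hx
      rw [smul_zero, smul_zero, one_smul] at ht
      have h3 : f ((t : A) • m) = 0 := by
        rw [map_smul]
        exact ht
      obtain ⟨J, hJ, hJx⟩ := (mem_gam_iff_exists ((t : A) • m)).1 (h1 _ h3)
      obtain ⟨j, hj, hjp⟩ := hJp J hJ
      rw [← LocalizedModule.zero_mk 1, LocalizedModule.mk_eq]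
      refine ⟨⟨j, hjp⟩ * t, ?_⟩
      rw [smul_zero, smul_zero, one_smul, mul_smul]
      exact hJx j hj
  · intro x
    induction x using LocalizedModule.induction_on with
    | h m s =>
      obtain ⟨J, hJ, hJx⟩ := h2 m
      obtain ⟨j, hj, hjp⟩ := hJp J hJ
      obtain ⟨y, hy⟩ := hJx j hj
      refine ⟨LocalizedModule.mk y (⟨j, hjp⟩ * s), ?_⟩
      rw [hmap, LocalizedModule.mk_eq]
      refine ⟨1, ?_⟩
      have h2 : f y = (⟨j, hjp⟩ : p.asIdeal.primeCompl) • m := hy
      rw [h2, one_smul, one_smul, mul_smul, smul_comm]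

/-- `M → M/Γ_T(M)` is bijective at the primes outside `T`. -/
theorem bijective_map_mkQ (M : Type u) [AddCommGroup M] [Module A M] (p : PrimeSpectrum A)
    (hp : p ∉ T) :
    Function.Bijective (LocalizedModule.map p.asIdeal.primeCompl (gam T M).mkQ) := by
  refine bijective_map T _ (fun x hx => (Submodule.Quotient.mk_eq_zero _).1 hx) (fun y => ?_) p hp
  refine ⟨⊤, ?_, fun j _ => Submodule.mkQ_surjective _ _⟩
  rw [PrimeSpectrum.zeroLocus_empty_iff_eq_top.2 rfl]
  exact Set.empty_subset _

theorem depth_quotient_gam [IsNoetherianRing A] (M : Type u) [AddCommGroup M] [Module A M]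
    (p : PrimeSpectrum A) (hp : p ∉ T) :
    LocCoh.depth (Localization.AtPrime p.asIdeal) (LocalizedModule p.asIdeal.primeCompl M) =
      LocCoh.depth (Localization.AtPrime p.asIdeal)
        (LocalizedModule p.asIdeal.primeCompl (M ⧸ gam T M)) :=
  Groth.Agent.Localalg.Depth.idealDepth_congr_equiv _
    (LinearEquiv.ofBijective _ (bijective_map_mkQ T M p hp))

/-- Existence of the extension `M''` (Stacks 0EI3) from finiteness of `H^1_T`. -/
theorem exists_map [IsNoetherianRing A] (hT : StableUnderSpecialization T) (M : Type u)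
    [AddCommGroup M] [Module A M] [Module.Finite A M]
    (hfin : Module.Finite A (Dual2.HT T 1 (M ⧸ gam T M))) :
    ∃ (M'' : Type u) (_ : AddCommGroup M'') (_ : Module A M'') (_ : Module.Finite A M'')
      (f : M →ₗ[A] M''),
      (∀ p : PrimeSpectrum A, p ∉ T →
        Function.Bijective (LocalizedModule.map p.asIdeal.primeCompl f)) ∧
      ∀ p : PrimeSpectrum A, p ∈ T →
        2 ≤ LocCoh.depth (Localization.AtPrime p.asIdeal)
          (LocalizedModule p.asIdeal.primeCompl M'') := by
  obtain ⟨E0, _, _, hE0, f0, hf0⟩ := LES.exists_injective_embedding (A := A) (M ⧸ gam T M)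
  let E := E0 ⧸ gam T E0
  have hE : gam T E = ⊥ := gam_quotient_gam T E0
  let g : (M ⧸ gam T M) →ₗ[A] E := (gam T E0).mkQ.comp f0
  have hg : Function.Injective g := by
    rw [injective_iff_map_eq_zero]
    intro x hx
    have h1 : f0 x ∈ gam T E0 := (Submodule.Quotient.mk_eq_zero _).1 hx
    have h2 := mem_gam_of_injective f0 hf0 h1
    rwa [gam_quotient_gam T M] at h2
  let N : Submodule A E := LinearMap.range g
  let e : (M ⧸ gam T M) ≃ₗ[A] N := LinearEquiv.ofInjective g hg
  have hN : Module.Finite A (Dual2.HT T 1 N) := by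
    let i := (localCohomology.ofDiagram.{u, u} (Dual2.idealsInDiagram T) 1).mapIso e.toModuleIso
    have : Module.Finite A (Dual2.HT T 1 (M ⧸ gam T M)) := hfin
    exact Module.Finite.equiv (i.toLinearEquiv)
  have hGf := finite_gam_quotient T hE N hN
  let M'' : Submodule A E := (gam T (E ⧸ N)).comap N.mkQ
  have hNle : N ≤ M'' := by
    intro x hx
    have : N.mkQ x = 0 := (Submodule.Quotient.mk_eq_zero _).2 hx
    change N.mkQ x ∈ gam T (E ⧸ N)
    rw [this]
    exact zero_mem _
  have hM''fg : M''.FG := by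
    refine Submodule.fg_of_fg_map_of_fg_inf_ker N.mkQ ?_ ?_
    · rw [Submodule.map_comap_eq_of_surjective (Submodule.mkQ_surjective N)]
      exact Module.Finite.iff_fg.1 hGf
    · rw [Submodule.ker_mkQ, inf_eq_right.2 hNle]
      exact Module.Finite.iff_fg.1 (Module.Finite.equiv e)
  have hM'' : Module.Finite A M'' := Module.Finite.iff_fg.2 hM''fg
  let f : M →ₗ[A] M'' := (g.comp (gam T M).mkQ).codRestrict M'' (fun x => hNle ⟨_, rfl⟩)
  refine ⟨M'', inferInstance, inferInstance, hM'', f, ?_, ?_⟩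
  · refine bijective_map T f (fun x hx => ?_) (fun y => ?_)
    · have h2 : g ((gam T M).mkQ x) = 0 := congrArg Subtype.val hx
      have h3 : (gam T M).mkQ x = 0 := hg (h2.trans (map_zero g).symm)
      exact (Submodule.Quotient.mk_eq_zero _).1 h3
    · obtain ⟨m, hm⟩ := y
      have hm' : N.mkQ m ∈ gam T (E ⧸ N) := hm
      obtain ⟨J, hJ, hJx⟩ := (mem_gam_iff_exists (N.mkQ m)).1 hm'
      refine ⟨J, hJ, fun j hj => ?_⟩
      have h1 : j • m ∈ N := by
        have := hJx j hj
        rw [← map_smul] at this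
        exact (Submodule.Quotient.mk_eq_zero _).1 this
      obtain ⟨y, hy⟩ := h1
      obtain ⟨y, rfl⟩ := Submodule.mkQ_surjective _ y
      exact ⟨y, Subtype.ext hy⟩
  · intro p hp
    have hpT : PrimeSpectrum.zeroLocus (p.asIdeal : Set A) ⊆ T := by
      intro q hq
      exact hT ((PrimeSpectrum.le_iff_specializes p q).1 hq) hp
    have hgM : gam T (E ⧸ M'') = ⊥ := by
      rw [eq_bot_iff]
      intro x hx
      obtain ⟨x, rfl⟩ := Submodule.Quotient.mk_surjective _ x
      let h : (E ⧸ M'') →ₗ[A] ((E ⧸ N) ⧸ gam T (E ⧸ N)) :=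
        M''.liftQ ((gam T (E ⧸ N)).mkQ.comp N.mkQ) (fun y hy => (Submodule.Quotient.mk_eq_zero _).2 hy)
      have h1 := map_mem_gam h hx
      rw [gam_quotient_gam] at h1
      have h2 : N.mkQ x ∈ gam T (E ⧸ N) := (Submodule.Quotient.mk_eq_zero _).1 h1
      exact (Submodule.Quotient.mk_eq_zero _).2 h2
    refine le_trans ?_ (Groth.Agent.Localalg.Depth3.idealDepth_le_depth_localization p.asIdeal M''
      p.asIdeal le_rfl)
    have h0 := subsingleton_ext_zero T hE p.asIdeal hpT
    have h1 := subsingleton_ext_zero T hgM p.asIdeal hpT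
    have hS := shortExact_quotient M''
    refine (Groth.Agent.Localalg.Depth.natCast_le_idealDepth_iff_ext p.asIdeal M'' 2).2 ?_
    intro i hi
    have hi' : i = 0 ∨ i = 1 := by omega
    rcases hi' with rfl | rfl
    · exact Groth.Agent.Localalg.Depth.ext_X₁_zero_subsingleton hS _ h0
    · refine Groth.Agent.Localalg.Depth.ext_X₁_succ_subsingleton hS _ h1 ?_
      have hS0 := shortExact_quotient (gam T E0)
      have : Module.Injective A (gam T E0) := gam_injective T
      have : Injective (ModuleCat.of A (gam T E0)) :=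
        Module.injective_object_of_injective_module A (gam T E0)
      have : Injective (ModuleCat.of A E0) := Module.injective_object_of_injective_module A E0
      refine Groth.Agent.Localalg.Depth.ext_X₃_subsingleton hS0 _ ?_ ?_
      · exact subsingleton_of_forall_eq 0 fun x => Abelian.Ext.eq_zero_of_injective x
      · exact subsingleton_of_forall_eq 0 fun x => Abelian.Ext.eq_zero_of_injective x

end Groth.Agent.LoccohA.ExtendT
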