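import Groth.Agent.S1727
import Groth.Agent.S1725
import Groth.Agent.S0376
import Groth.Agent.S0330
import Groth.Agent.S0543
import Groth.Agent.LoccohA.HTV
import Groth.Agent.LoccohA.CutoffLoc
import Groth.Agent.LoccohA.EquidimS2
import Groth.Agent.CalgA.UnivCat
import Mathlib.RingTheory.Flat.FaithfullyFlat.Algebra
import Mathlib.RingTheory.AdicCompletion.LocalRing
import Mathlib.RingTheory.AdicCompletion.AsTensorProduct
import Mathlib.RingTheory.Finiteness.Descent

set_option autoImplicit false
universe u
open CategoryTheory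
attribute [local instance] HasDerivedCategory.standard

/-!
# Faltings' finiteness theorem (Stacks 0BJV): assembly
-/

namespace Groth.Agent.LoccohA.FaltFin

open Groth.Agent.LoccohA.CutoffLoc Groth.Agent.Ega4B.CatHeight
open scoped TensorProduct

/-- With a dualizing complex: `H^i_I(M)` is finite for `i ≤ s` iff `s < s_{A,I}(M)`. -/
theorem finite_H_iff_of_dualizing (A : Type u) [CommRing A] [IsNoetherianRing A]
    (hA : ∃ ω : Dual.D A, Dual.IsDualizing A ω) (I : Ideal A) (M : Type u) [AddCommGroup M]
    [Module A M] [Module.Finite A M] (s : ℕ) :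
    (∀ i : ℕ, i ≤ s → Module.Finite A (LocCoh.H I i M)) ↔ (s : ℕ∞) < Dual2.cutoff A I M := by
  have h := Groth.Agent.S1727.result A hA (PrimeSpectrum.zeroLocus (I : Set A))
    (PrimeSpectrum.isClosed_zeroLocus _).stableUnderSpecialization s M
  have h1 : (∀ i : ℕ, i ≤ s → Module.Finite A (LocCoh.H I i M)) ↔
      ∀ i : ℕ, i ≤ s → Module.Finite A (Dual2.HT (PrimeSpectrum.zeroLocus (I : Set A)) i M) := by
    refine forall₂_congr fun i _ => ?_
    exact ⟨fun _ => Module.Finite.equiv (HTV.equivH I i M).symm,
      fun _ => Module.Finite.equiv (HTV.equivH I i M)⟩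
  rw [h1, h, natCast_lt_cutoff_iff]
  constructor
  · intro h p q hpq hp hq
    have := h p q hp hq hpq
    rw [krullDim_Icc hpq, ← WithBot.coe_add] at this
    exact WithBot.coe_lt_coe.1 this
  · intro h p q hp hq hpq
    have := h p q hpq hp hq
    rw [krullDim_Icc hpq, ← WithBot.coe_add]
    exact WithBot.coe_lt_coe.2 this

/-- A Cohen–Macaulay ring satisfies all Serre conditions. -/
theorem hasSk_of_isCohenMacaulayRing (n : ℕ) (R : Type u) [CommRing R]
    (h : LocCoh.IsCohenMacaulayRing R) : LocCoh.HasSk n R R := by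
  intro p hp
  have h1 := (h.isCohenMacaulayLocalRing_localization p).supportDim_eq_depth
  have e := Groth.Agent.LoccohA.EquidimS2.localizedModuleSelfEquiv p.primeCompl
  have h2 : LocCoh.depth (Localization.AtPrime p) (LocalizedModule p.primeCompl R) =
      LocCoh.depth (Localization.AtPrime p) (Localization.AtPrime p) :=
    Groth.Agent.Ega4B.DepthBasic.depth_congr e
  rw [Module.supportDim_eq_of_equiv e, h2]
  exact (min_le_right _ _).trans h1.le

/-- The cutoff invariant of the completion, for Cohen–Macaulay formal fibres. -/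
theorem cutoff_completion_eq (A : Type u) [CommRing A] [IsLocalRing A] [IsNoetherianRing A]
    (hA : CAlg.IsUniversallyCatenary A) (hF : EGA4.HasCMFormalFibres A) (I : Ideal A)
    (M : Type u) [AddCommGroup M] [Module A M] [Module.Finite A M] :
    Dual2.cutoff (AdicCompletion (IsLocalRing.maximalIdeal A) A)
      (I.map (algebraMap A (AdicCompletion (IsLocalRing.maximalIdeal A) A)))
      (AdicCompletion (IsLocalRing.maximalIdeal A) M) = Dual2.cutoff A I M := by
  apply le_antisymm (Groth.Agent.S1725.result A hA I M 0).1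
  have hSn : ∀ n, EGA4.HasSnFormalFibres n A := fun n p hp =>
    hasSk_of_isCohenMacaulayRing n _ (hF p)
  have h := fun n => (Groth.Agent.S1725.result A hA I M n).2 (hSn n)
  refine ENat.forall_natCast_le_iff_le.mp fun n hn => ?_
  refine le_trans ?_ (h n)
  refine le_min ?_ hn
  exact le_self_add

/-- The flat base change isomorphism for local cohomology, as a hypothesis. -/
def FlatBC : Prop :=
  ∀ (A B : Type u) [CommRing A] [CommRing B] [Algebra A B] [IsNoetherianRing A]
    [IsNoetherianRing B] [Module.Flat A B] (I : Ideal A) (M : Type u) [AddCommGroup M]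
    [Module A M] (i : ℕ),
    Nonempty (LocCoh.H (I.map (algebraMap A B)) i (B ⊗[A] M) ≃ₗ[B] B ⊗[A] LocCoh.H I i M)

/-- `H^i` of isomorphic modules. -/
noncomputable def equivOfEquiv {A : Type u} [CommRing A] (I : Ideal A) (i : ℕ) {M N : Type u}
    [AddCommGroup M] [Module A M] [AddCommGroup N] [Module A N] (e : M ≃ₗ[A] N) :
    LocCoh.H I i M ≃ₗ[A] LocCoh.H I i N :=
  ((localCohomology I i).mapIso e.toModuleIso).toLinearEquiv

/-- The local case. -/
theorem finite_H_iff_of_local (hBC : FlatBC.{u}) (A : Type u) [CommRing A] [IsLocalRing A]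
    [IsNoetherianRing A] (hA : CAlg.IsUniversallyCatenary A) (hF : EGA4.HasCMFormalFibres A)
    (I : Ideal A) (M : Type u) [AddCommGroup M] [Module A M] [Module.Finite A M] (s : ℕ) :
    (∀ i : ℕ, i ≤ s → Module.Finite A (LocCoh.H I i M)) ↔ (s : ℕ∞) < Dual2.cutoff A I M := by
  let m := IsLocalRing.maximalIdeal A
  let B := AdicCompletion m A
  have hB : IsNoetherianRing B := Groth.Agent.S0543.result A m
  have hBloc : IsLocalRing B := inferInstance
  have hflat : Module.Flat A B := inferInstance
  have hcompl : IsAdicComplete (IsLocalRing.maximalIdeal B) B := inferInstance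
  have hff : Module.FaithfullyFlat A B := Module.FaithfullyFlat.of_flat_of_isLocalHom
  have hfin : Module.Finite B (B ⊗[A] M) := inferInstance
  let e : (B ⊗[A] M) ≃ₗ[B] AdicCompletion m M :=
    AdicCompletion.ofTensorProductEquivOfFiniteNoetherian m M
  have h1 := finite_H_iff_of_dualizing B (Groth.Agent.S0376.result B) (I.map (algebraMap A B))
    (B ⊗[A] M) s
  rw [cutoff_congr _ e, cutoff_completion_eq A hA hF I M] at h1
  rw [← h1]
  refine forall₂_congr fun i _ => ?_
  obtain ⟨f⟩ := hBC A B I M i
  constructor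
  · intro h
    have : Module.Finite B (B ⊗[A] LocCoh.H I i M) := inferInstance
    exact Module.Finite.equiv f.symm
  · intro h
    have : Module.Finite B (B ⊗[A] LocCoh.H I i M) := Module.Finite.equiv f
    exact Module.Finite.of_finite_tensorProduct_of_faithfullyFlat B

/-- The general case. -/
theorem finite_H_iff (hBC : FlatBC.{u}) (A : Type u) [CommRing A]
    [IsNoetherianRing A] (hA : CAlg.IsUniversallyCatenary A)
    (hF : ∀ q : PrimeSpectrum A, EGA4.HasCMFormalFibres (Localization.AtPrime q.asIdeal))
    (I : Ideal A) (M : Type u) [AddCommGroup M] [Module A M] [Module.Finite A M] (s : ℕ) :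
    (∀ i : ℕ, i ≤ s → Module.Finite A (LocCoh.H I i M)) ↔ (s : ℕ∞) < Dual2.cutoff A I M := by
  rw [Groth.Agent.S0330.result, natCast_lt_cutoff_iff_forall_localization]
  have hkey : ∀ (q : PrimeSpectrum A),
      (∀ i : ℕ, i ≤ s → Module.Finite (Localization.AtPrime q.asIdeal)
        (LocalizedModule q.asIdeal.primeCompl (LocCoh.H I i M))) ↔
      (s : ℕ∞) < Dual2.cutoff (Localization.AtPrime q.asIdeal)
        (I.map (algebraMap A (Localization.AtPrime q.asIdeal)))
        (LocalizedModule q.asIdeal.primeCompl M) := by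
    intro q
    rw [← finite_H_iff_of_local hBC (Localization.AtPrime q.asIdeal)
      (Groth.Agent.CalgA.UnivCat.isUniversallyCatenary_of_isLocalization q.asIdeal.primeCompl hA)
      (hF q)]
    refine forall₂_congr fun i _ => ?_
    have hflat : Module.Flat A (Localization.AtPrime q.asIdeal) :=
      IsLocalization.flat _ q.asIdeal.primeCompl
    obtain ⟨f⟩ := hBC A (Localization.AtPrime q.asIdeal) I M i
    let g : LocCoh.H (I.map (algebraMap A (Localization.AtPrime q.asIdeal))) i
        (LocalizedModule q.asIdeal.primeCompl M) ≃ₗ[Localization.AtPrime q.asIdeal]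
        LocalizedModule q.asIdeal.primeCompl (LocCoh.H I i M) :=
      (equivOfEquiv _ i (LocalizedModule.equivTensorProduct q.asIdeal.primeCompl M)) ≪≫ₗ f ≪≫ₗ
        (LocalizedModule.equivTensorProduct q.asIdeal.primeCompl (LocCoh.H I i M)).symm
    exact ⟨fun _ => Module.Finite.equiv g.symm, fun _ => Module.Finite.equiv g⟩
  constructor
  · intro h q
    exact (hkey q).1 fun i hi => h q.asIdeal i hi
  · intro h p hp i hi
    exact (hkey ⟨p, hp⟩).2 (h ⟨p, hp⟩) i hi

/-- Stacks 0BJV. -/
theorem finite_localCohomology_below_cutoff (hBC : FlatBC.{u}) (A : Type u) [CommRing A]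
    [IsNoetherianRing A] (hA : CAlg.IsUniversallyCatenary A)
    (hF : ∀ q : PrimeSpectrum A, EGA4.HasCMFormalFibres (Localization.AtPrime q.asIdeal))
    (I : Ideal A) (M : Type u) [AddCommGroup M] [Module A M] [Module.Finite A M] :
    (∀ i : ℕ, (i : ℕ∞) < Dual2.cutoff A I M → Module.Finite A (LocCoh.H I i M)) ∧
      ∀ s : ℕ, Dual2.cutoff A I M = s → ¬ Module.Finite A (LocCoh.H I s M) := by
  refine ⟨fun i hi => (finite_H_iff hBC A hA hF I M i).2 hi i le_rfl, fun s hs hfin => ?_⟩
  have h : ¬ (∀ i : ℕ, i ≤ s → Module.Finite A (LocCoh.H I i M)) := by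
    rw [finite_H_iff hBC A hA hF I M s, hs]
    exact lt_irrefl _
  apply h
  intro i hi
  rcases hi.eq_or_lt with rfl | hlt
  · exact hfin
  · refine (finite_H_iff hBC A hA hF I M i).2 ?_ i le_rfl
    rw [hs]
    exact_mod_cast hlt

end Groth.Agent.LoccohA.FaltFin
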