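import Groth.Agent.LoccohA.CplCutoff
import Groth.Agent.LoccohA.RatliffD
import Groth.Agent.Localalg.Depth2
import Groth.Agent.Ega4A.StrictlyEquidim
import Groth.Agent.Ega4A.CplQuot
import Groth.Agent.CalgA.UnivCat

/-!
# Associated primes of completions and `(S_1)` formal fibres

* `mem_minimalPrimes_of_ass`: `B → B'` flat with `(S_1)` fibre over `p`; then every associated prime of
  `B'/pB'` is minimal over `pB'`.
* `ringKrullDim_cpl_quotient`: `B` a universally catenary Noetherian local ring with `(S_1)` formal fibre at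
  `p`; then for every associated prime `P` of the completion `C` of `B/p`, `dim C/P = dim B/p`.
-/

set_option autoImplicit false

namespace Groth.Agent.LoccohA.FibAss

open TensorProduct IsLocalRing Groth.Agent.Ega4A.ChainOrder Groth.Agent.Ega4A.CatenaryDim
open Groth.Agent.LoccohA.CplDepth

universe u

section Flat

variable (B B' : Type u) [CommRing B] [CommRing B'] [Algebra B B'] [IsNoetherianRing B]
  [IsNoetherianRing B'] [Module.Flat B B']

omit [IsNoetherianRing B] [IsNoetherianRing B'] in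
theorem comap_eq_of_ass (p : Ideal B) [p.IsPrime] (r : Ideal B')
    (hr : r ∈ associatedPrimes B' (B' ⧸ p.map (algebraMap B B'))) :
    r.comap (algebraMap B B') = p := by
  have hrp : r.IsPrime := hr.isPrime
  have hflat : Module.Flat (B ⧸ p) (B' ⧸ p.map (algebraMap B B')) :=
    Groth.Agent.LoccohA.RatliffC.flat_quotient B B' p
  have hle : p.map (algebraMap B B') ≤ r := by
    obtain ⟨_, x, hx⟩ := hr
    rw [hx]
    refine le_trans ?_ Ideal.le_radical
    intro a ha
    rw [Submodule.mem_colon_singleton, Submodule.mem_bot]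
    obtain ⟨x, rfl⟩ := Ideal.Quotient.mk_surjective x
    rw [← Ideal.Quotient.mk_eq_mk, ← Submodule.Quotient.mk_smul, Submodule.Quotient.mk_eq_zero]
    exact Ideal.mul_mem_right _ _ ha
  refine le_antisymm ?_ (Ideal.map_le_iff_le_comap.mp hle)
  intro b hb
  by_contra hb0
  obtain ⟨_, x, hx⟩ := hr
  rw [Ideal.mem_comap, hx, Ideal.mem_radical_iff] at hb
  obtain ⟨n, hn⟩ := hb
  rw [Submodule.mem_colon_singleton, Submodule.mem_bot, ← map_pow] at hn
  have hne : (Ideal.Quotient.mk p (b ^ n)) ≠ 0 := by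
    rw [map_pow]
    exact pow_ne_zero n (fun h => hb0 (Ideal.Quotient.eq_zero_iff_mem.mp h))
  have hreg : IsSMulRegular (B ⧸ p) (Ideal.Quotient.mk p (b ^ n)) := fun u v huv =>
    mul_left_cancel₀ hne huv
  have hreg' : IsSMulRegular (B' ⧸ p.map (algebraMap B B'))
      (algebraMap (B ⧸ p) (B' ⧸ p.map (algebraMap B B')) (Ideal.Quotient.mk p (b ^ n))) :=
    IsSMulRegular.of_flat hreg
  have hx0 : x = 0 := by
    apply hreg'
    change _ • x = _ • (0 : B' ⧸ p.map (algebraMap B B'))
    rw [smul_zero]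
    exact hn
  apply hrp.ne_top
  rw [hx, hx0]
  simp

/-- If `B → B'` is flat with `(S_1)` fibre over `p` then every associated prime of
`B'/pB'` is minimal over `pB'`. -/
theorem mem_minimalPrimes_of_ass (p : Ideal B) [p.IsPrime]
    (hS : LocCoh.HasSk 1 (p.Fiber B') (p.Fiber B')) (r : Ideal B')
    (hr : r ∈ associatedPrimes B' (B' ⧸ p.map (algebraMap B B'))) :
    r ∈ (p.map (algebraMap B B')).minimalPrimes := by
  have hrp : r.IsPrime := hr.isPrime
  have hc := comap_eq_of_ass B B' p r hr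
  have hle : p.map (algebraMap B B') ≤ r := Ideal.map_le_iff_le_comap.mpr hc.ge
  -- depth zero
  have hass : r ∈ associatedPrimes B' (B' ⊗[B] (B ⧸ p)) := by
    rw [← LinearEquiv.AssociatedPrimes.eq
      (Algebra.TensorProduct.quotIdealMapEquivTensorQuot B' p).toLinearEquiv]
    exact hr
  have hd0 : LocCoh.depth (Localization.AtPrime r) (LocalizedModule r.primeCompl (B' ⊗[B] (B ⧸ p))) = 0 := by
    have h1 := Module.associatedPrimes.mem_associatedPrimes_atPrime_of_mem_associatedPrimes hass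
    exact Groth.Agent.Localalg.Depth2.idealDepth_eq_zero_iff.mpr ⟨_, h1, le_rfl⟩
  rw [depth_localized_tensor B B' (B ⧸ p) r] at hd0
  have hd1 : LocCoh.depth (EGA4.FibLocRing B B' r) (EGA4.FibLocRing B B' r) = 0 :=
    (add_eq_zero.mp hd0).2
  have hS' : LocCoh.HasSk 1 ((r.comap (algebraMap B B')).Fiber B') ((r.comap (algebraMap B B')).Fiber B') := by
    clear hd0 hd1
    have h2 : (r.comap (algebraMap B B')) = p := hc
    have h3 : ∀ (p₁ : Ideal B) (hp₁ : p₁.IsPrime), p₁ = p →
        LocCoh.HasSk 1 (p₁.Fiber B') (p₁.Fiber B') := by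
      intro p₁ hp₁ h; subst h; exact hS
    exact h3 _ _ h2
  have h4 := min_le_depth_fibLocRing 1 B B' r hS'
  rw [hd1] at h4
  obtain ⟨k, hk⟩ := exists_dim_fib B B' r
  have hk0 : k = 0 := by
    rw [hk] at h4
    rcases min_le_iff.mp h4 with h | h
    · exact absurd h (by norm_num)
    · exact_mod_cast Nat.le_zero.mp (by exact_mod_cast h)
  subst hk0
  have h5 := height_eq_add_fib B B' r
  rw [hk] at h5
  obtain ⟨r₁, hr₁, hr₁r⟩ := Ideal.exists_minimalPrimes_le hle
  have hr₁p : r₁.IsPrime := hr₁.1.1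
  have hc₁ : r₁.comap (algebraMap B B') = p :=
    le_antisymm ((Ideal.comap_mono hr₁r).trans hc.le) (Ideal.map_le_iff_le_comap.mp hr₁.1.2)
  have h6 := height_eq_of_minimal B B' r₁ (by rw [hc₁]; exact hr₁)
  rw [hc₁] at h6
  rw [hc] at h5
  have h7 : r.height ≤ r₁.height := by
    rw [h6]
    have : ((r.height : ℕ∞) : WithBot ℕ∞) = ((p.height : ℕ∞) : WithBot ℕ∞) := by
      rw [h5]; simp
    exact (by exact_mod_cast this : r.height = p.height).le
  have h8 : r₁ = r := by
    by_contra hne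
    exact absurd (Ideal.height_strict_mono_of_isPrime_of_isPrime (lt_of_le_of_ne hr₁r hne)) (not_lt.mpr h7)
  rw [← h8]
  exact hr₁

end Flat

/-- `B` a universally catenary Noetherian local ring with `(S_1)` formal fibre at
`p`; then for every associated prime `P` of the completion `C` of `B/p`, `dim C/P = dim B/p`. -/
theorem ringKrullDim_cpl_quotient (B : Type u) [CommRing B] [IsLocalRing B] [IsNoetherianRing B]
    (hB : CAlg.IsUniversallyCatenary B) (p : Ideal B) [p.IsPrime]
    (hS : LocCoh.HasSk 1 (EGA4.formalFibre B p) (EGA4.formalFibre B p)) (J : Ideal (B ⧸ p))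
    (hJ : J = (maximalIdeal B).map (Ideal.Quotient.mk p)) (P : Ideal (AdicCompletion J (B ⧸ p)))
    (hP : P ∈ associatedPrimes (AdicCompletion J (B ⧸ p)) (AdicCompletion J (B ⧸ p))) :
    ringKrullDim (AdicCompletion J (B ⧸ p) ⧸ P) = ringKrullDim (B ⧸ p) := by
  have hm : (maximalIdeal B).map (Ideal.Quotient.mk p) = maximalIdeal (B ⧸ p) := by
    have hc : (maximalIdeal (B ⧸ p)).comap (Ideal.Quotient.mk p) = maximalIdeal B :=
      ((IsLocalRing.local_hom_TFAE (Ideal.Quotient.mk p)).out 0 4 rfl rfl).mp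
        (IsLocalHom.of_surjective _ Ideal.Quotient.mk_surjective)
    rw [← hc, Ideal.map_comap_of_surjective _ Ideal.Quotient.mk_surjective]
  rw [hm] at hJ
  subst hJ
  have hflat : Module.Flat B (EGA4.Cpl B) := Groth.Agent.Ega4A.CplQuot.flat_cpl B
  have hN : IsNoetherianRing (EGA4.Cpl B) := Groth.Agent.Ega4A.CplQuot.isNoetherianRing_cpl B
  have hN' : IsNoetherianRing (EGA4.Cpl (B ⧸ p)) := Groth.Agent.Ega4A.CplQuot.isNoetherianRing_cpl (B ⧸ p)
  let e := Groth.Agent.Ega4A.CplQuot.equivQuot B p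
  have h1 := Groth.Agent.Ega4A.StrictlyEquidim.comap_mem_associatedPrimes_of_ringEquiv e.symm hP
  set Q := P.comap (e.symm : (EGA4.Cpl B ⧸ p.map (algebraMap B (EGA4.Cpl B))) →+* EGA4.Cpl (B ⧸ p)) with hQ
  have h2 := (Groth.Agent.Ega4A.StrictlyEquidim.comap_mem_associatedPrimes_iff _ Q).mpr h1
  have h3 := mem_minimalPrimes_of_ass B (EGA4.Cpl B) p hS _ h2
  have h4 := Groth.Agent.LoccohA.RatliffD.ratliff_cpl B hB p _ h3
  rw [← h4]
  have e1 : (EGA4.Cpl B ⧸ Q.comap (Ideal.Quotient.mk (p.map (algebraMap B (EGA4.Cpl B))))) ≃+*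
      ((EGA4.Cpl B ⧸ p.map (algebraMap B (EGA4.Cpl B))) ⧸ Q) :=
    RingEquiv.ofBijective (Ideal.quotientMap Q (Ideal.Quotient.mk _) le_rfl)
      ⟨Ideal.quotientMap_injective, Ideal.quotientMap_surjective Ideal.Quotient.mk_surjective⟩
  have e2 : ((EGA4.Cpl B ⧸ p.map (algebraMap B (EGA4.Cpl B))) ⧸ Q) ≃+* (EGA4.Cpl (B ⧸ p) ⧸ P) :=
    Ideal.quotientEquiv Q P e.symm (by
      rw [hQ]
      exact (Ideal.map_comap_of_surjective _ e.symm.surjective P).symm)
  exact (ringKrullDim_eq_of_ringEquiv (e1.trans e2)).symm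

end Groth.Agent.LoccohA.FibAss
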