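import Groth.Prelude.Def_Wider
import Mathlib.RingTheory.Flat.Basic
import Mathlib.LinearAlgebra.TensorProduct.RightExactness

/-!
# Power torsion modules and flat base change which is an isomorphism modulo the ideal

Let `P` be a flat `A`-module with an element `e` such that `A → P`, `a ↦ a • e`, induces a bijection
`A/I → P/IP`.  Then for every `I`-power torsion module `N` the map `N → P ⊗ N`, `n ↦ e ⊗ n` is bijective.
-/

set_option autoImplicit false

universe u

open scoped TensorProduct

namespace Groth.Agent.LoccohA.TorsUnit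

variable {A P : Type u} [CommRing A] [AddCommGroup P] [Module A P] (e : P) (I : Ideal A)

section

variable (hsurj : ∀ p : P, ∃ a : A, p - a • e ∈ I • (⊤ : Submodule A P))
  (hinj : ∀ a : A, a • e ∈ I • (⊤ : Submodule A P) → a ∈ I)

theorem tmul_eq_zero_of_mem (N : Type u) [AddCommGroup N] [Module A N]
    (hN : ∀ a ∈ I, ∀ n : N, a • n = 0) (p : P) (hp : p ∈ I • (⊤ : Submodule A P)) (n : N) :
    p ⊗ₜ[A] n = 0 := by
  induction hp using Submodule.smul_induction_on' with
  | smul a ha q _ => rw [TensorProduct.smul_tmul, hN a ha, TensorProduct.tmul_zero]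
  | add x _ y _ hx hy => rw [TensorProduct.add_tmul, hx, hy, add_zero]

include hsurj hinj in
theorem bijective_of_killed (N : Type u) [AddCommGroup N] [Module A N]
    (hN : ∀ a ∈ I, ∀ n : N, a • n = 0) : Function.Bijective (TensorProduct.mk A P N e) := by
  constructor
  · -- the inverse
    let φ : A →ₗ[A] P ⧸ (I • (⊤ : Submodule A P)) :=
      (Submodule.mkQ _).comp (LinearMap.toSpanSingleton A P e)
    have hφs : Function.Surjective φ := by
      intro x
      obtain ⟨p, rfl⟩ := Submodule.mkQ_surjective _ x
      obtain ⟨a, ha⟩ := hsurj p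
      refine ⟨a, ?_⟩
      simp only [φ, LinearMap.comp_apply, LinearMap.toSpanSingleton_apply]
      rw [← sub_eq_zero, ← map_sub, Submodule.mkQ_apply, Submodule.Quotient.mk_eq_zero,
        ← neg_sub]
      exact neg_mem ha
    have hφk : LinearMap.ker φ ≤ LinearMap.ker (LinearMap.lsmul A N) := by
      intro a ha
      rw [LinearMap.mem_ker] at ha ⊢
      simp only [φ, LinearMap.comp_apply, LinearMap.toSpanSingleton_apply, Submodule.mkQ_apply,
        Submodule.Quotient.mk_eq_zero] at ha
      ext n
      exact hN a (hinj a ha) n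
    let ψ : P ⧸ (I • (⊤ : Submodule A P)) →ₗ[A] (N →ₗ[A] N) :=
      ((LinearMap.ker φ).liftQ (LinearMap.lsmul A N) hφk).comp
        (φ.quotKerEquivOfSurjective hφs).symm.toLinearMap
    let χ : P ⊗[A] N →ₗ[A] N := TensorProduct.lift (ψ.comp (Submodule.mkQ _))
    have hχ : ∀ n : N, χ (e ⊗ₜ n) = n := by
      intro n
      have h1 : φ 1 = Submodule.mkQ _ e := by simp [φ]
      have h2 : (φ.quotKerEquivOfSurjective hφs).symm (Submodule.mkQ _ e) =
          Submodule.Quotient.mk 1 := by
        rw [← h1, LinearEquiv.symm_apply_eq]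
        rfl
      simp only [χ, ψ, TensorProduct.lift.tmul, LinearMap.comp_apply, LinearEquiv.coe_coe]
      rw [h2, Submodule.liftQ_apply]
      simp
    intro x y hxy
    have := congrArg χ hxy
    simpa only [TensorProduct.mk_apply, hχ] using this
  · intro x
    induction x with
    | zero => exact ⟨0, by simp⟩
    | tmul p n =>
      obtain ⟨a, ha⟩ := hsurj p
      refine ⟨a • n, ?_⟩
      have h1 := tmul_eq_zero_of_mem I N hN _ ha n
      rw [TensorProduct.sub_tmul, sub_eq_zero] at h1
      rw [h1, TensorProduct.mk_apply, TensorProduct.smul_tmul]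
    | add x y hx hy =>
      obtain ⟨x', rfl⟩ := hx
      obtain ⟨y', rfl⟩ := hy
      exact ⟨x' + y', map_add _ _ _⟩

variable [Module.Flat A P]

include hsurj hinj in
theorem bijective_of_killed_pow (k : ℕ) : ∀ (N : Type u) [AddCommGroup N] [Module A N]
    (_ : ∀ a ∈ I ^ k, ∀ n : N, a • n = 0), Function.Bijective (TensorProduct.mk A P N e) := by
  induction k with
  | zero =>
    intro N _ _ hN
    have h0 : ∀ n : N, n = 0 := fun n => by simpa using hN 1 (by simp) n
    have h1 : ∀ x : P ⊗[A] N, x = 0 := by
      intro x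
      induction x with
      | zero => rfl
      | tmul p n => rw [h0 n, TensorProduct.tmul_zero]
      | add x y hx hy => rw [hx, hy, add_zero]
    exact ⟨fun x y _ => by rw [h0 x, h0 y], fun x => ⟨0, by rw [h1 x, map_zero]⟩⟩
  | succ k ih =>
    intro N _ _ hN
    let N₁ : Submodule A N := I • ⊤
    have hN₁ : ∀ a ∈ I ^ k, ∀ n : N₁, a • n = 0 := by
      rintro a ha ⟨n, hn⟩
      apply Subtype.ext
      change a • n = 0
      induction hn using Submodule.smul_induction_on' with
      | smul b hb q _ =>
        rw [← mul_smul]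
        exact hN _ (by rw [pow_succ]; exact Ideal.mul_mem_mul ha hb) q
      | add x _ y _ hx hy => rw [smul_add, hx, hy, add_zero]
    have hN₂ : ∀ a ∈ I, ∀ n : N ⧸ N₁, a • n = 0 := by
      intro a ha n
      obtain ⟨n, rfl⟩ := N₁.mkQ_surjective n
      rw [← map_smul, Submodule.mkQ_apply, Submodule.Quotient.mk_eq_zero]
      exact Submodule.smul_mem_smul ha trivial
    have b₁ := ih N₁ hN₁
    have b₂ := bijective_of_killed e I hsurj hinj (N ⧸ N₁) hN₂
    have hinj' : Function.Injective (N₁.subtype.lTensor P) :=
      Module.Flat.lTensor_preserves_injective_linearMap _ N₁.injective_subtype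
    have hex : Function.Exact (N₁.subtype.lTensor P) (N₁.mkQ.lTensor P) :=
      lTensor_exact P (LinearMap.exact_subtype_mkQ N₁) N₁.mkQ_surjective
    constructor
    · rw [injective_iff_map_eq_zero]
      intro n hn
      rw [TensorProduct.mk_apply] at hn
      have h1 : N₁.mkQ n = 0 := by
        apply (injective_iff_map_eq_zero _).mp b₂.1
        rw [TensorProduct.mk_apply, ← LinearMap.lTensor_tmul, hn, map_zero]
      have h2 : n ∈ N₁ := by simpa using h1
      have h3 : (⟨n, h2⟩ : N₁) = 0 := by
        apply (injective_iff_map_eq_zero _).mp b₁.1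
        apply hinj'
        rw [TensorProduct.mk_apply, LinearMap.lTensor_tmul, map_zero]
        exact hn
      exact congrArg Subtype.val h3
    · intro x
      obtain ⟨m, hm⟩ := b₂.2 (N₁.mkQ.lTensor P x)
      obtain ⟨n, rfl⟩ := N₁.mkQ_surjective m
      have h1 : N₁.mkQ.lTensor P (x - e ⊗ₜ n) = 0 := by
        rw [map_sub, ← hm, LinearMap.lTensor_tmul, TensorProduct.mk_apply, sub_self]
      obtain ⟨y, hy⟩ := (hex _).mp h1
      obtain ⟨z, rfl⟩ := b₁.2 y
      refine ⟨z + n, ?_⟩
      rw [TensorProduct.mk_apply, LinearMap.lTensor_tmul] at hy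
      rw [TensorProduct.mk_apply, TensorProduct.tmul_add]
      rw [eq_sub_iff_add_eq] at hy
      exact hy

include hsurj hinj in
theorem bijective_of_powerTorsion (N : Type u) [AddCommGroup N] [Module A N]
    (hN : LocCoh.IsPowerTorsion I N) : Function.Bijective (TensorProduct.mk A P N e) := by
  have key : ∀ n : N, Function.Bijective
      (TensorProduct.mk A P (Submodule.span A {n}) e) := by
    intro n
    obtain ⟨k, hk⟩ := hN n
    apply bijective_of_killed_pow e I hsurj hinj k
    rintro a ha ⟨m, hm⟩
    obtain ⟨c, rfl⟩ := Submodule.mem_span_singleton.mp hm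
    apply Subtype.ext
    change a • c • n = 0
    rw [smul_comm, hk a ha, smul_zero]
  have hinj' : ∀ n : N, Function.Injective ((Submodule.span A {n}).subtype.lTensor P) :=
    fun n => Module.Flat.lTensor_preserves_injective_linearMap _ (Submodule.injective_subtype _)
  constructor
  · rw [injective_iff_map_eq_zero]
    intro n hn
    have hmem : n ∈ Submodule.span A {n} := Submodule.mem_span_singleton_self n
    have h3 : (⟨n, hmem⟩ : Submodule.span A {n}) = 0 := by
      apply (injective_iff_map_eq_zero _).mp (key n).1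
      apply hinj' n
      rw [TensorProduct.mk_apply, LinearMap.lTensor_tmul, map_zero]
      exact hn
    exact congrArg Subtype.val h3
  · intro x
    induction x with
    | zero => exact ⟨0, by simp⟩
    | tmul p n =>
      have hmem : n ∈ Submodule.span A {n} := Submodule.mem_span_singleton_self n
      obtain ⟨z, hz⟩ := (key n).2 (p ⊗ₜ[A] (⟨n, hmem⟩ : Submodule.span A {n}))
      refine ⟨z, ?_⟩
      have h1 := congrArg ((Submodule.span A {n}).subtype.lTensor P) hz
      simpa using h1
    | add x y hx hy =>
      obtain ⟨x', rfl⟩ := hx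
      obtain ⟨y', rfl⟩ := hy
      exact ⟨x' + y', map_add _ _ _⟩

end

end Groth.Agent.LoccohA.TorsUnit
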