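import Groth.Agent.LoccohA.ExtUnit
import Groth.Agent.LoccohA.TorsUnit
import Groth.Agent.Etcore.ExtAdj
import Mathlib.Algebra.Category.ModuleCat.Descent
import Mathlib.RingTheory.Localization.Away.Basic
import Mathlib.RingTheory.Flat.Localization
import Mathlib.CategoryTheory.Adjunction.Additive
import Mathlib.Algebra.Category.ModuleCat.EnoughInjectives

/-!
# Ext out of a power torsion module and flat base change

For a flat ring map `φ : A → B` and an ideal `I` with `A/I ≅ B/IB` (`I` finitely generated), the map
`Ext_A^n(T, N) → Ext_A^n(T, B ⊗ N)` is bijective for every `I`-power torsion module `T` and every `N`.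
-/

set_option autoImplicit false

universe u

open CategoryTheory CategoryTheory.Limits CategoryTheory.Abelian
open scoped TensorProduct

namespace Groth.Agent.LoccohA.FlatExt

section SES

variable {A : Type u} [CommRing A]

/-- A short exact sequence of modules from linear maps. -/
theorem shortExact_mk {X Y Z : Type u} [AddCommGroup X] [Module A X] [AddCommGroup Y] [Module A Y]
    [AddCommGroup Z] [Module A Z] (f : X →ₗ[A] Y) (g : Y →ₗ[A] Z) (hf : Function.Injective f)
    (hfg : Function.Exact f g) (hg : Function.Surjective g) :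
    (ShortComplex.moduleCatMk f g hfg.linearMap_comp_eq_zero).ShortExact where
  exact := (ShortComplex.ShortExact.moduleCat_exact_iff_function_exact _).mpr hfg
  mono_f := (ModuleCat.mono_iff_injective _).mpr hf
  epi_g := (ModuleCat.epi_iff_surjective _).mpr hg

end SES

section Functors

variable {A B : Type u} [CommRing A] [CommRing B] (φ : A →+* B)

/-- `B` as an `A`-module. -/
noncomputable abbrev BA : ModuleCat.{u} A := (ModuleCat.restrictScalars φ).obj (ModuleCat.of B B)

/-- Extension of scalars. -/
noncomputable abbrev L : ModuleCat.{u} A ⥤ ModuleCat.{u} B := ModuleCat.extendScalars φ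

/-- Restriction of scalars. -/
noncomputable abbrev R : ModuleCat.{u} B ⥤ ModuleCat.{u} A := ModuleCat.restrictScalars φ

/-- The adjunction. -/
noncomputable abbrev adj : L φ ⊣ R φ := ModuleCat.extendRestrictScalarsAdj φ

instance : PreservesFiniteColimits (L φ) :=
  have := (adj φ).leftAdjoint_preservesColimits
  inferInstance

instance : PreservesFiniteColimits (R φ) := inferInstance

instance : PreservesFiniteLimits (R φ) := inferInstance

instance : (L φ).Additive := (adj φ).left_adjoint_additive

/-- The unit of the adjunction on a module. -/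
noncomputable abbrev unit (N : ModuleCat.{u} A) : N ⟶ (R φ).obj ((L φ).obj N) := (adj φ).unit.app N

theorem unit_apply (N : ModuleCat.{u} A) (n : N) :
    unit φ N n = TensorProduct.mk A (BA φ) N (1 : B) n := rfl

theorem isIso_unit (N : ModuleCat.{u} A)
    (h : Function.Bijective (TensorProduct.mk A (BA φ) N (1 : B))) : IsIso (unit φ N) :=
  (ConcreteCategory.isIso_iff_bijective _).mpr h

end Functors

section Vanish

variable {A : Type u} [CommRing A] (f : A)

/-- Elementwise power torsion. -/
def PT (N : Type u) [AddCommGroup N] [Module A N] : Prop := ∀ n : N, ∃ k : ℕ, f ^ k • n = 0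

theorem isZero_away (T : ModuleCat.{u} A) (hT : PT f T) :
    IsZero ((L (algebraMap A (Localization.Away f))).obj T) := by
  have h1 : ∀ x : TensorProduct A (BA (algebraMap A (Localization.Away f))) T, x = 0 := by
    intro x
    induction x with
    | zero => rfl
    | tmul p t =>
      obtain ⟨k, hk⟩ := hT t
      let p' : Localization.Away f := p
      have h2 : p = f ^ k • (show (BA (algebraMap A (Localization.Away f)) : Type u) from
          (IsLocalization.Away.invSelf f : Localization.Away f) ^ k * p') := by
        change p' = algebraMap A (Localization.Away f) (f ^ k) * (_ * p')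
        rw [map_pow, ← mul_assoc, ← mul_pow, IsLocalization.Away.mul_invSelf, one_pow, one_mul]
      rw [h2, TensorProduct.smul_tmul, hk, TensorProduct.tmul_zero]
    | add x y hx hy => rw [hx, hy, add_zero]
  have : Subsingleton ((L (algebraMap A (Localization.Away f))).obj T) :=
    ⟨fun x y => (h1 x).trans (h1 y).symm⟩
  exact ModuleCat.isZero_of_subsingleton _

theorem flat_away : (algebraMap A (Localization.Away f)).Flat := by
  rw [RingHom.flat_algebraMap_iff]
  infer_instance

instance : PreservesFiniteLimits (L (algebraMap A (Localization.Away f))) :=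
  ModuleCat.preservesFiniteLimits_extendScalars_of_flat (flat_away f)


/-- If `f` is invertible on `N` then `N` is a module over the localization. -/
theorem isIso_unit_away (N : ModuleCat.{u} A) (hN : Function.Bijective (fun n : N => f • n)) :
    IsIso (unit (algebraMap A (Localization.Away f)) N) := by
  apply isIso_unit
  have hinj : ∀ k : ℕ, ∀ n : N, f ^ k • n = 0 → n = 0 := by
    intro k
    induction k with
    | zero => intro n hn; simpa using hn
    | succ k ih =>
      intro n hn
      rw [pow_succ, mul_smul] at hn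
      have h1 : f • n = f • (0 : N) := by rw [ih _ hn, smul_zero]
      exact hN.1 h1
  have hsurj : ∀ k : ℕ, ∀ n : N, ∃ m, f ^ k • m = n := by
    intro k
    induction k with
    | zero => intro n; exact ⟨n, by simp⟩
    | succ k ih =>
      intro n
      obtain ⟨m, rfl⟩ := ih n
      obtain ⟨m', hm'⟩ := hN.2 m
      exact ⟨m', by rw [pow_succ, mul_smul]; exact congrArg _ hm'⟩
  -- as a localized module
  let Af := Localization.Away f
  have hloc : IsLocalizedModule (Submonoid.powers f) (TensorProduct.mk A Af N 1) :=
    (isLocalizedModule_iff_isBaseChange (Submonoid.powers f) Af _).mpr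
      (TensorProduct.isBaseChange A N Af)
  have key : Function.Bijective (TensorProduct.mk A Af N 1) := by
    constructor
    · rw [injective_iff_map_eq_zero]
      intro n hn
      obtain ⟨⟨_, k, rfl⟩, hc⟩ := (IsLocalizedModule.eq_zero_iff (Submonoid.powers f) _).mp hn
      exact hinj k n hc
    · intro y
      obtain ⟨⟨n, ⟨_, k, rfl⟩⟩, hs⟩ := IsLocalizedModule.surj (Submonoid.powers f)
        (TensorProduct.mk A Af N 1) y
      obtain ⟨m, rfl⟩ := hsurj k n
      refine ⟨m, ?_⟩
      have h1 := IsLocalizedModule.smul_injective (S := Submonoid.powers f)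
        (TensorProduct.mk A Af N 1) ⟨f ^ k, k, rfl⟩
      apply h1
      change f ^ k • TensorProduct.mk A Af N 1 m = f ^ k • y
      rw [← map_smul]
      exact hs.symm
  let e₁ : BA (algebraMap A Af) ≃ₗ[A] Af :=
    { AddEquiv.refl Af with
      map_smul' := fun r x ↦ (Algebra.smul_def r (show Af from x)).symm }
  let e : (BA (algebraMap A Af)) ⊗[A] N ≃ₗ[A] Af ⊗[A] N :=
    TensorProduct.congr e₁ (LinearEquiv.refl A N)
  have h2 : (TensorProduct.mk A Af N 1 : N → Af ⊗[A] N) =
      e ∘ (TensorProduct.mk A (BA (algebraMap A Af)) N (1 : Af)) := by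
    ext n
    rfl
  rw [h2] at key
  exact (Function.Bijective.of_comp_iff' e.bijective _).mp key

/-- Ext from an `f`-power torsion module to a module on which `f` is invertible vanishes. -/
theorem ext_eq_zero (T N : ModuleCat.{u} A) (hT : PT f T)
    (hN : Function.Bijective (fun n : N => f • n)) (n : ℕ) (x : Ext.{u} T N n) : x = 0 := by
  have hiso := isIso_unit_away f N hN
  have h0 := isZero_away f T hT
  let u := unit (algebraMap A (Localization.Away f)) N
  have h1 : ExtUnit.α T u n x = 0 := by
    have h2 := (Etcore.ExtAdj.extAdj (adj (algebraMap A (Localization.Away f))) T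
      ((L (algebraMap A (Localization.Away f))).obj N) n).surjective (ExtUnit.α T u n x)
    obtain ⟨y, hy⟩ := h2
    rw [← hy]
    have hy0 : y = 0 := by
      have h3 : y = (Ext.mk₀ (𝟙 _)).comp y (zero_add n) := (Ext.mk₀_id_comp y).symm
      rw [h3, h0.eq_of_src (𝟙 _) 0, Ext.mk₀_zero, Ext.zero_comp]
    rw [hy0, map_zero]
  exact (injective_iff_map_eq_zero _).mp (ExtUnit.bijective_of_isIso T u n).1 x h1

end Vanish

section Good

variable {A B : Type u} [CommRing A] [CommRing B] (φ : A →+* B) (I : Ideal A)

/-- The comparison map on Ext out of all `I`-power torsion modules is bijective. -/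
def Good (N : ModuleCat.{u} A) : Prop :=
  ∀ T : ModuleCat.{u} A, LocCoh.IsPowerTorsion I T → ∀ n : ℕ,
    Function.Bijective (ExtUnit.α.{u} T (unit φ N) n)

/-- The unit as a morphism of short complexes. -/
noncomputable def unitHom (S : ShortComplex (ModuleCat.{u} A)) : S ⟶ S.map (L φ ⋙ R φ) where
  τ₁ := unit φ S.X₁
  τ₂ := unit φ S.X₂
  τ₃ := unit φ S.X₃
  comm₁₂ := ((adj φ).unit.naturality S.f).symm
  comm₂₃ := ((adj φ).unit.naturality S.g).symm

variable (hφ : φ.Flat)

include hφ in
theorem map_shortExact {S : ShortComplex (ModuleCat.{u} A)} (hS : S.ShortExact) :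
    (S.map (L φ ⋙ R φ)).ShortExact := by
  have h1 : PreservesFiniteLimits (L φ) := ModuleCat.preservesFiniteLimits_extendScalars_of_flat hφ
  have h2 : PreservesFiniteLimits (L φ ⋙ R φ) := comp_preservesFiniteLimits _ _
  have h3 : PreservesFiniteColimits (L φ ⋙ R φ) := comp_preservesFiniteColimits _ _
  exact hS.map_of_exact (L φ ⋙ R φ)

include hφ in
theorem good_X₂ {S : ShortComplex (ModuleCat.{u} A)} (hS : S.ShortExact) (h₁ : Good φ I S.X₁)
    (h₃ : Good φ I S.X₃) : Good φ I S.X₂ := fun T hT n =>
  ExtUnit.bijective_X₂ hS (map_shortExact φ hφ hS) (unitHom φ S) (h₁ T hT) (h₃ T hT) n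

include hφ in
theorem good_X₁ {S : ShortComplex (ModuleCat.{u} A)} (hS : S.ShortExact) (h₂ : Good φ I S.X₂)
    (h₃ : Good φ I S.X₃) : Good φ I S.X₁ := fun T hT n =>
  ExtUnit.bijective_X₁ hS (map_shortExact φ hφ hS) (unitHom φ S) (h₂ T hT) (h₃ T hT) n

theorem smul_bijective (f : A) (N : ModuleCat.{u} A) (hN : Function.Bijective (fun n : N => f • n)) :
    Function.Bijective (fun n : (R φ).obj ((L φ).obj N) => f • n) := by
  let ε : N ⟶ N := ModuleCat.ofHom (LinearMap.lsmul A N f)
  have hε : IsIso ε := (ConcreteCategory.isIso_iff_bijective _).mpr hN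
  have h1 : Function.Bijective ((L φ ⋙ R φ).map ε) :=
    (ConcreteCategory.isIso_iff_bijective _).mp inferInstance
  have h2 : (fun n : (R φ).obj ((L φ).obj N) => f • n) = ((L φ ⋙ R φ).map ε) := ?_
  · rw [h2]
    exact h1
  funext x
  change f • x = (L φ).map ε x
  induction x using TensorProduct.induction_on with
  | zero => exact (smul_zero (A := TensorProduct A (BA φ) N) f).trans (map_zero _).symm
  | tmul p t =>
    change (f • (p : BA φ)) ⊗ₜ[A] t = p ⊗ₜ[A] (f • t)
    rw [TensorProduct.smul_tmul]
  | add x y hx hy =>
    exact (smul_add (A := TensorProduct A (BA φ) N) f _ _).trans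
      ((congrArg₂ (· + ·) hx hy).trans (map_add _ _ _).symm)

theorem pt_of_powerTorsion {f : A} (hf : f ∈ I) (T : Type u) [AddCommGroup T] [Module A T]
    (hT : LocCoh.IsPowerTorsion I T) : PT f T := by
  intro t
  obtain ⟨k, hk⟩ := hT t
  exact ⟨k, hk _ (Ideal.pow_mem_pow hf k)⟩

theorem good_of_bijective (f : A) (hf : f ∈ I) (N : ModuleCat.{u} A)
    (hN : Function.Bijective (fun n : N => f • n)) : Good φ I N := by
  intro T hT n
  have hT' := pt_of_powerTorsion I hf T hT
  constructor
  · intro x y _
    rw [ext_eq_zero f T N hT' hN n x, ext_eq_zero f T N hT' hN n y]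
  · intro y
    exact ⟨0, (ext_eq_zero f T _ hT' (smul_bijective φ f N hN) n _).trans
      (ext_eq_zero f T _ hT' (smul_bijective φ f N hN) n _).symm⟩

include hφ in
theorem good_ses₂ {X Y Z : Type u} [AddCommGroup X] [Module A X] [AddCommGroup Y] [Module A Y]
    [AddCommGroup Z] [Module A Z] (f : X →ₗ[A] Y) (g : Y →ₗ[A] Z) (hf : Function.Injective f)
    (hfg : Function.Exact f g) (hg : Function.Surjective g) (h₁ : Good φ I (ModuleCat.of A X))
    (h₃ : Good φ I (ModuleCat.of A Z)) : Good φ I (ModuleCat.of A Y) :=
  good_X₂ φ I hφ (S := ShortComplex.moduleCatMk f g hfg.linearMap_comp_eq_zero)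
    (shortExact_mk f g hf hfg hg) h₁ h₃

include hφ in
theorem good_ses₁ {X Y Z : Type u} [AddCommGroup X] [Module A X] [AddCommGroup Y] [Module A Y]
    [AddCommGroup Z] [Module A Z] (f : X →ₗ[A] Y) (g : Y →ₗ[A] Z) (hf : Function.Injective f)
    (hfg : Function.Exact f g) (hg : Function.Surjective g) (h₂ : Good φ I (ModuleCat.of A Y))
    (h₃ : Good φ I (ModuleCat.of A Z)) : Good φ I (ModuleCat.of A X) :=
  good_X₁ φ I hφ (S := ShortComplex.moduleCatMk f g hfg.linearMap_comp_eq_zero)
    (shortExact_mk f g hf hfg hg) h₂ h₃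

include hφ in
/-- The step of the devissage: if `Good` holds for all modules which are `f`-power torsion and have
a property `P` stable under submodules of, localization at `f` and quotients, then it holds for
all modules with `P`. -/
theorem good_step (f : A) (hf : f ∈ I) (s : Finset A)
    (H : ∀ (N : Type u) [AddCommGroup N] [Module A N], PT f N → (∀ g ∈ s, PT g N) →
      Good φ I (ModuleCat.of A N))
    (N : Type u) [AddCommGroup N] [Module A N] (hN : ∀ g ∈ s, PT g N) :
    Good φ I (ModuleCat.of A N) := by
  let Sf := Submonoid.powers f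
  let g : N →ₗ[A] LocalizedModule Sf N := LocalizedModule.mkLinearMap Sf N
  have hunit : ∀ c : Sf, Function.Bijective (fun x : LocalizedModule Sf N => (c : A) • x) :=
    fun c => (Module.End.isUnit_iff _).mp (IsLocalizedModule.map_units g c)
  have hloc : Good φ I (ModuleCat.of A (LocalizedModule Sf N)) :=
    good_of_bijective φ I f hf _ (hunit ⟨f, 1, pow_one f⟩)
  have hK : Good φ I (ModuleCat.of A (LinearMap.ker g)) := by
    apply H
    · rintro ⟨n, hn⟩
      obtain ⟨⟨_, k, rfl⟩, hc⟩ := (IsLocalizedModule.eq_zero_iff Sf g).mp hn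
      exact ⟨k, Subtype.ext hc⟩
    · rintro h hh ⟨n, hn⟩
      obtain ⟨k, hk⟩ := hN h hh n
      exact ⟨k, Subtype.ext hk⟩
  have hC : Good φ I (ModuleCat.of A (LocalizedModule Sf N ⧸ LinearMap.range g)) := by
    apply H
    · intro x
      obtain ⟨x, rfl⟩ := Submodule.mkQ_surjective _ x
      obtain ⟨⟨n, ⟨_, k, rfl⟩⟩, hs⟩ := IsLocalizedModule.surj Sf g x
      refine ⟨k, ?_⟩
      rw [← map_smul, Submodule.mkQ_apply, Submodule.Quotient.mk_eq_zero]
      exact ⟨n, hs.symm⟩
    · intro h hh x
      obtain ⟨x, rfl⟩ := Submodule.mkQ_surjective _ x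
      obtain ⟨⟨n, c⟩, hs⟩ := IsLocalizedModule.surj Sf g x
      obtain ⟨k, hk⟩ := hN h hh n
      refine ⟨k, ?_⟩
      rw [← map_smul]
      have h1 : h ^ k • x = 0 := by
        apply (hunit c).1
        change (c : A) • h ^ k • x = (c : A) • (0 : LocalizedModule Sf N)
        rw [smul_comm]
        have h2 : (c : A) • x = g n := hs
        rw [h2, ← map_smul, hk, map_zero, smul_zero]
      rw [h1, map_zero]
  have hIm : Good φ I (ModuleCat.of A (LinearMap.range g)) :=
    good_ses₁ φ I hφ (LinearMap.range g).subtype (LinearMap.range g).mkQ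
      (LinearMap.range g).injective_subtype (LinearMap.exact_subtype_mkQ _)
      (LinearMap.range g).mkQ_surjective hloc hC
  have hex : Function.Exact (LinearMap.ker g).subtype g.rangeRestrict := by
    intro n
    constructor
    · intro hn
      have h1 : g n = 0 := congrArg Subtype.val hn
      exact ⟨⟨n, h1⟩, rfl⟩
    · rintro ⟨⟨n, hn⟩, rfl⟩
      exact Subtype.ext hn
  exact good_ses₂ φ I hφ (LinearMap.ker g).subtype g.rangeRestrict
    (LinearMap.ker g).injective_subtype hex g.surjective_rangeRestrict hK hIm

include hφ in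
/-- The base case: `I`-power torsion modules. -/
theorem good_of_powerTorsion
    (hs : Function.Surjective ((Ideal.Quotient.mk (I.map φ)).comp φ))
    (hk : RingHom.ker ((Ideal.Quotient.mk (I.map φ)).comp φ) = I)
    (N : Type u) [AddCommGroup N] [Module A N] (hN : LocCoh.IsPowerTorsion I N) :
    Good φ I (ModuleCat.of A N) := by
  have hfl : Module.Flat A (BA φ) := hφ
  have hmem : ∀ b : BA φ, b ∈ I • (⊤ : Submodule A (BA φ)) ↔ (show B from b) ∈ I.map φ := by
    intro b
    algebraize [φ]
    have h1 : (I • (⊤ : Submodule A B)) = (I.map (algebraMap A B)).restrictScalars A :=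
      Ideal.smul_top_eq_map I
    have h2 : (show B from b) ∈ (I • (⊤ : Submodule A B)) ↔
        (show B from b) ∈ (I.map (algebraMap A B)).restrictScalars A := by rw [h1]
    exact h2
  have hbij : Function.Bijective (TensorProduct.mk A (BA φ) N (1 : B)) := by
    refine TorsUnit.bijective_of_powerTorsion (P := BA φ) (1 : B) I ?_ ?_ N hN
    · intro p
      obtain ⟨a, ha⟩ := hs (Ideal.Quotient.mk _ (show B from p))
      refine ⟨a, ?_⟩
      rw [hmem]
      rw [RingHom.comp_apply, Ideal.Quotient.eq] at ha
      have h2 : (show B from p) - φ a * 1 ∈ I.map φ := by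
        rw [mul_one, ← neg_sub]
        exact neg_mem ha
      exact h2
    · intro a ha
      rw [hmem] at ha
      have h2 : φ a * 1 ∈ I.map φ := ha
      rw [← hk, RingHom.mem_ker, RingHom.comp_apply, Ideal.Quotient.eq_zero_iff_mem]
      rwa [mul_one] at h2
  have hiso := isIso_unit φ (ModuleCat.of A N) hbij
  intro T _ n
  exact ExtUnit.bijective_of_isIso T _ n

include hφ in
theorem good_all (hI : I.FG)
    (hs : Function.Surjective ((Ideal.Quotient.mk (I.map φ)).comp φ))
    (hk : RingHom.ker ((Ideal.Quotient.mk (I.map φ)).comp φ) = I)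
    (N : Type u) [AddCommGroup N] [Module A N] : Good φ I (ModuleCat.of A N) := by
  classical
  obtain ⟨S, hS⟩ := hI
  have key : ∀ t : Finset A, (t : Set A) ⊆ I → ∀ s : Finset A, S ⊆ s ∪ t →
      ∀ (N : Type u) [AddCommGroup N] [Module A N], (∀ g ∈ s, PT g N) →
      Good φ I (ModuleCat.of A N) := by
    intro t
    induction t using Finset.induction_on with
    | empty =>
      intro _ s hst N _ _ hN
      apply good_of_powerTorsion φ I hφ hs hk
      intro n
      have h1 : I ≤ (Submodule.annihilator (Submodule.span A {n})).radical := by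
        rw [← hS, Ideal.span_le]
        intro g hg
        obtain ⟨k, hk⟩ := hN g (by simpa using hst hg) n
        refine ⟨k, ?_⟩
        rw [Submodule.mem_annihilator_span_singleton]
        exact hk
      obtain ⟨m, hm⟩ := Ideal.exists_pow_le_of_le_radical_of_fg h1 ⟨S, hS⟩
      refine ⟨m, fun a ha => ?_⟩
      have := hm ha
      rwa [Submodule.mem_annihilator_span_singleton] at this
    | insert f t _ ih =>
      intro ht s hst N _ _ hN
      have hf : f ∈ I := ht (by simp)
      apply good_step φ I hφ f hf s ?_ N hN
      intro N' _ _ hN'f hN's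
      apply ih (fun x hx => ht (by simp [hx])) (insert f s)
      · intro x hx
        have := hst hx
        simp only [Finset.mem_union, Finset.mem_insert] at this ⊢
        tauto
      · intro g hg
        rcases Finset.mem_insert.mp hg with rfl | hg
        · exact hN'f
        · exact hN's g hg
  refine key S ?_ ∅ (by simp) N (by simp)
  intro x hx
  rw [← hS]
  exact Submodule.subset_span hx

end Good

end Groth.Agent.LoccohA.FlatExt
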