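import Groth.Prelude.Def_CAlg
import Groth.Prelude.Def_EGA4b
import Groth.Agent.S0343
import Groth.Agent.S0344
import Groth.Agent.Ega4C.FibreTower
import Mathlib.Algebra.Category.ModuleCat.InjectiveDimension
import Mathlib.RingTheory.LocalProperties.InjectiveDimension
import Mathlib.RingTheory.Localization.AtPrime.Basic
import Mathlib.RingTheory.Flat.Localization

/-!
# Gorenstein rings: ring isomorphisms, localizations, polynomial rings, quotients by a
nonzerodivisor, base change along finitely generated field extensions
-/

set_option autoImplicit false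

universe u

open CategoryTheory

namespace Groth.Agent.LoccohA.GorBC

attribute [local instance] RingHomInvPair.of_ringEquiv

theorem isGorensteinLocalRing_of_ringEquiv {A B : Type u} [CommRing A] [CommRing B] (e : A ≃+* B)
    (h : LocCoh.IsGorensteinLocalRing A) : LocCoh.IsGorensteinLocalRing B := by
  have hN : IsNoetherianRing B := isNoetherianRing_of_ringEquiv A e
  have hL : IsLocalRing B := e.isLocalRing
  refine { exists_hasInjectiveDimensionLT := ?_ }
  obtain ⟨n, hn⟩ := h.exists_hasInjectiveDimensionLT
  have hn' : HasInjectiveDimensionLE (ModuleCat.of A A) n :=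
    hasInjectiveDimensionLT_of_ge _ n (n + 1) (by lia)
  refine ⟨n + 1, ?_⟩
  let eM : ModuleCat.of A A ≃ₛₗ[RingHomClass.toRingHom e] ModuleCat.of B B :=
    { (e : A ≃+ B) with
      map_smul' := fun r x => by simp }
  exact (ModuleCat.hasInjectiveDimensionLE_iff_of_semiLinearEquiv e eM n).1 hn'

theorem isGorensteinLocalRing_iff_of_ringEquiv {A B : Type u} [CommRing A] [CommRing B]
    (e : A ≃+* B) : LocCoh.IsGorensteinLocalRing A ↔ LocCoh.IsGorensteinLocalRing B :=
  ⟨isGorensteinLocalRing_of_ringEquiv e, isGorensteinLocalRing_of_ringEquiv e.symm⟩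

/-- A localization of a Gorenstein ring is Gorenstein. -/
theorem isGorensteinRing_of_isLocalization {R S : Type u} [CommRing R] [CommRing S] [Algebra R S]
    (M : Submonoid R) [IsLocalization M S] (h : LocCoh.IsGorensteinRing R) :
    LocCoh.IsGorensteinRing S := by
  have hN : IsNoetherianRing S := IsLocalization.isNoetherianRing M S inferInstance
  refine { isGorensteinLocalRing_localization := fun p hp => ?_ }
  have hp' : (p.comap (algebraMap R S)).IsPrime := inferInstance
  have h1 := h.isGorensteinLocalRing_localization (p.comap (algebraMap R S))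
  have h2 : IsLocalization.AtPrime (Localization.AtPrime p) (p.comap (algebraMap R S)) :=
    IsLocalization.isLocalization_isLocalization_atPrime_isLocalization M
      (Localization.AtPrime p) p
  exact isGorensteinLocalRing_of_ringEquiv
    (IsLocalization.algEquiv (p.comap (algebraMap R S)).primeCompl
      (Localization.AtPrime (p.comap (algebraMap R S))) (Localization.AtPrime p)).toRingEquiv h1

theorem isGorensteinRing_of_ringEquiv {A B : Type u} [CommRing A] [CommRing B] (e : A ≃+* B)
    (h : LocCoh.IsGorensteinRing A) : LocCoh.IsGorensteinRing B := by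
  let : Algebra A B := e.toRingHom.toAlgebra
  have : IsLocalization (⊥ : Submonoid A) A := IsLocalization.self (by simp)
  have : IsLocalization (⊥ : Submonoid A) B :=
    IsLocalization.isLocalization_of_algEquiv ⊥
      (AlgEquiv.ofRingEquiv (f := e) (fun _ => rfl) : A ≃ₐ[A] B)
  exact isGorensteinRing_of_isLocalization (⊥ : Submonoid A) h

/-- A field is Gorenstein. -/
theorem isGorensteinLocalRing_of_field (K : Type u) [Field K] :
    LocCoh.IsGorensteinLocalRing K := by
  refine { exists_hasInjectiveDimensionLT := ⟨1, ?_⟩ }
  have : Module.Injective K K := by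
    refine Module.Baer.injective fun I g => ?_
    obtain ⟨g', hg'⟩ := LinearMap.exists_extend g
    exact ⟨g', fun x hx => by rw [← hg']; rfl⟩
  have : Injective (ModuleCat.of K K) := (Module.injective_iff_injective_object K K).1 this
  infer_instance

/-- Local version of the flat criterion. -/
theorem isGorensteinLocalRing_localization_iff {A B : Type u} [CommRing A] [CommRing B]
    [Algebra A B] [Module.Flat A B] [IsNoetherianRing A] [IsNoetherianRing B]
    (p : Ideal A) [p.IsPrime] (Q : Ideal (p.Fiber B)) [Q.IsPrime] :
    LocCoh.IsGorensteinLocalRing (Localization.AtPrime (Ega4C.FibreTower.ctr p Q)) ↔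
      LocCoh.IsGorensteinLocalRing (Localization.AtPrime p) ∧
        LocCoh.IsGorensteinLocalRing (Localization.AtPrime Q) := by
  set q := Ega4C.FibreTower.ctr p Q with hq
  have hover : q.LiesOver p := ⟨(Ega4C.FibreTower.ctr_comap p Q).symm⟩
  let := Localization.AtPrime.algebraOfLiesOver p q
  have hloc : IsLocalHom (algebraMap (Localization.AtPrime p) (Localization.AtPrime q)) :=
    Localization.isLocalHom_localRingHom p q (algebraMap A B) Ideal.LiesOver.over
  rw [S0344.result (Localization.AtPrime p) (Localization.AtPrime q)]
  refine and_congr Iff.rfl ?_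
  refine isGorensteinLocalRing_iff_of_ringEquiv ?_
  refine (Ideal.quotEquivOfEq ?_).trans (Ega4C.FibreTower.locFibreEquiv p Q).symm
  rw [← Localization.AtPrime.map_eq_maximalIdeal, Ideal.map_map,
    ← IsScalarTower.algebraMap_eq]
  congr 1
  exact (Ega4C.FibreTower.ctr_comap p Q).symm

/-- Flat algebra with Gorenstein fibres over a Gorenstein ring. -/
theorem isGorensteinRing_of_flat_of_fibres {A B : Type u} [CommRing A] [CommRing B]
    [Algebra A B] [Module.Flat A B] [IsNoetherianRing B] (hA : LocCoh.IsGorensteinRing A)
    (hF : ∀ (p : Ideal A) [p.IsPrime], LocCoh.IsGorensteinRing (p.Fiber B)) :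
    LocCoh.IsGorensteinRing B := by
  refine { isGorensteinLocalRing_localization := fun q hq => ?_ }
  obtain ⟨p, hp, hpq⟩ : ∃ (p : Ideal A), p.IsPrime ∧ q.comap (algebraMap A B) = p :=
    ⟨_, inferInstance, rfl⟩
  obtain ⟨Q, hQ, rfl⟩ := Ega4C.FibreTower.exists_prime_fibre p q hpq
  exact (isGorensteinLocalRing_localization_iff _ Q).2
    ⟨hA.isGorensteinLocalRing_localization _,
      (hF _).isGorensteinLocalRing_localization Q⟩

/-- Quotient of a Gorenstein ring by a nonzerodivisor. -/
theorem isGorensteinRing_quotient_span_singleton {R : Type u} [CommRing R]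
    (h : LocCoh.IsGorensteinRing R) (f : R) (hf : IsSMulRegular R f) :
    LocCoh.IsGorensteinRing (R ⧸ Ideal.span {f}) := by
  refine { isGorensteinLocalRing_localization := fun q' hq' => ?_ }
  set q := q'.comap (Ideal.Quotient.mk (Ideal.span {f})) with hq
  have hqp : q.IsPrime := inferInstance
  have h1 : Algebra.algebraMapSubmonoid (R ⧸ Ideal.span {f}) q.primeCompl = q'.primeCompl := by
    ext x
    constructor
    · rintro ⟨y, hy, rfl⟩
      exact hy
    · intro hx
      obtain ⟨y, rfl⟩ := Ideal.Quotient.mk_surjective x
      exact ⟨y, hx, rfl⟩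
  have h2 : IsLocalization (Algebra.algebraMapSubmonoid (R ⧸ Ideal.span {f}) q.primeCompl)
      (Localization.AtPrime q ⧸ (Ideal.span {f}).map (algebraMap R (Localization.AtPrime q))) :=
    inferInstance
  rw [h1] at h2
  have hfq : f ∈ q := by
    rw [hq, Ideal.mem_comap, Ideal.Quotient.eq_zero_iff_mem.2 (Ideal.mem_span_singleton_self f)]
    exact Ideal.zero_mem _
  have hreg : IsSMulRegular (Localization.AtPrime q) (algebraMap R (Localization.AtPrime q) f) :=
    IsSMulRegular.of_isLocalization (Localization.AtPrime q) q.primeCompl hf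
  have h3 := (S0343.result (Localization.AtPrime q) (algebraMap R (Localization.AtPrime q) f)
    ((IsLocalization.AtPrime.to_map_mem_maximal_iff _ q f).2 hfq) hreg).1
      (h.isGorensteinLocalRing_localization q)
  refine isGorensteinLocalRing_of_ringEquiv ?_ h3
  refine (Ideal.quotEquivOfEq (by rw [Ideal.map_span, Set.image_singleton])).trans
    (IsLocalization.algEquiv q'.primeCompl
      (Localization.AtPrime q ⧸ (Ideal.span {f}).map (algebraMap R (Localization.AtPrime q)))
      (Localization.AtPrime q')).toRingEquiv

/-- A PID is Gorenstein. -/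
theorem isGorensteinRing_of_isPrincipalIdealRing (R : Type u) [CommRing R] [IsDomain R]
    [IsPrincipalIdealRing R] : LocCoh.IsGorensteinRing R := by
  refine { isGorensteinLocalRing_localization := fun p hp => ?_ }
  by_cases hp0 : p = ⊥
  · subst hp0
    have : IsFractionRing R (Localization.AtPrime (⊥ : Ideal R)) := by
      have : (⊥ : Ideal R).primeCompl = nonZeroDivisors R := by
        ext x
        simp [Ideal.primeCompl]
      rw [IsFractionRing, ← this]
      infer_instance
    let := IsFractionRing.toField R (K := Localization.AtPrime (⊥ : Ideal R))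
    exact isGorensteinLocalRing_of_field (Localization.AtPrime (⊥ : Ideal R))
  · obtain ⟨f, hf⟩ := IsPrincipalIdealRing.principal p
    change p = Ideal.span {f} at hf
    have hf0 : f ≠ 0 := by
      rintro rfl
      simp at hf
      exact hp0 hf
    have hmax : (IsLocalRing.maximalIdeal (Localization.AtPrime p)) =
        Ideal.span {algebraMap R (Localization.AtPrime p) f} := by
      rw [← Localization.AtPrime.map_eq_maximalIdeal,
        show Ideal.map (algebraMap R (Localization.AtPrime p)) p =
          Ideal.map (algebraMap R (Localization.AtPrime p)) (Ideal.span {f}) from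
            congrArg _ hf, Ideal.map_span, Set.image_singleton]
    have hreg : IsSMulRegular (Localization.AtPrime p) (algebraMap R (Localization.AtPrime p) f) := by
      refine IsSMulRegular.of_isLocalization (Localization.AtPrime p) p.primeCompl ?_
      exact fun a b h => mul_left_cancel₀ hf0 h
    rw [S0343.result (Localization.AtPrime p) (algebraMap R (Localization.AtPrime p) f)
      (by rw [hmax]; exact Ideal.mem_span_singleton_self _) hreg, ← hmax]
    exact isGorensteinLocalRing_of_field (IsLocalRing.ResidueField (Localization.AtPrime p))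

section FieldExt

open TensorProduct Polynomial

/-- The polynomial ring over a Gorenstein ring is Gorenstein. -/
theorem isGorensteinRing_polynomial {R : Type u} [CommRing R] (h : LocCoh.IsGorensteinRing R) :
    LocCoh.IsGorensteinRing R[X] := by
  refine isGorensteinRing_of_flat_of_fibres h fun p hp => ?_
  exact isGorensteinRing_of_ringEquiv (polyEquivTensor' R p.ResidueField).toRingEquiv
    (isGorensteinRing_of_isPrincipalIdealRing p.ResidueField[X])

variable (k : Type u) [Field k] (R : Type u) [CommRing R] [Algebra k R]

theorem isGorensteinRing_tensor_of_isLocalization {C L : Type u} [CommRing C] [CommRing L]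
    [Algebra k C] [Algebra k L] [Algebra C L] [IsScalarTower k C L] (M : Submonoid C)
    [IsLocalization M L] (h : LocCoh.IsGorensteinRing (R ⊗[k] C)) :
    LocCoh.IsGorensteinRing (R ⊗[k] L) := by
  let φ : R ⊗[k] C →ₐ[R] R ⊗[k] L :=
    Algebra.TensorProduct.map (AlgHom.id R R) (IsScalarTower.toAlgHom k C L)
  let : Algebra (R ⊗[k] C) (R ⊗[k] L) := φ.toRingHom.toAlgebra
  have : IsScalarTower R (R ⊗[k] C) (R ⊗[k] L) := IsScalarTower.of_algebraMap_eq fun r => by
    rw [RingHom.algebraMap_toAlgebra]
    exact (φ.commutes r).symm
  have := IsLocalization.tensorProduct_tensorProduct_right k R M L (by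
    ext c
    simp [RingHom.algebraMap_toAlgebra, φ])
  exact isGorensteinRing_of_isLocalization
    (M.map (Algebra.TensorProduct.includeRight (R := k) (A := R))) h

theorem isGorensteinRing_tensor_quotient (h : LocCoh.IsGorensteinRing R) (P : Ideal k[X]) :
    LocCoh.IsGorensteinRing (R ⊗[k] (k[X] ⧸ P)) := by
  have h1 : LocCoh.IsGorensteinRing (R ⊗[k] k[X]) :=
    isGorensteinRing_of_ringEquiv (polyEquivTensor' k R).toRingEquiv
      (isGorensteinRing_polynomial h)
  obtain ⟨f, hf⟩ := IsPrincipalIdealRing.principal P
  change P = Ideal.span {f} at hf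
  refine isGorensteinRing_of_ringEquiv
    (Algebra.TensorProduct.tensorQuotientEquiv (R := k) R k[X] R P).symm.toRingEquiv ?_
  have h2 : P.map (Algebra.TensorProduct.includeRight (A := R) (R := k)) =
      Ideal.span {(1 : R) ⊗ₜ[k] f} := by
    rw [hf, Ideal.map_span, Set.image_singleton]
    rfl
  by_cases hf0 : f = 0
  · rw [h2, hf0, tmul_zero, Ideal.span_singleton_eq_bot.2 rfl]
    exact isGorensteinRing_of_ringEquiv (RingEquiv.quotientBot _).symm h1
  · rw [h2]
    refine isGorensteinRing_quotient_span_singleton h1 _ ?_
    have h3 : Function.Injective (LinearMap.lTensor R (LinearMap.mulLeft k f)) :=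
      Module.Flat.lTensor_preserves_injective_linearMap _ fun a b hab =>
        mul_left_cancel₀ hf0 hab
    have h4 : ∀ x : R ⊗[k] k[X], (1 : R) ⊗ₜ[k] f * x =
        LinearMap.lTensor R (LinearMap.mulLeft k f) x := by
      intro x
      induction x with
      | zero => simp
      | add x y hx hy => rw [mul_add, hx, hy, map_add]
      | tmul x y => simp
    intro x y hxy
    simp only [smul_eq_mul, h4] at hxy
    exact h3 hxy

open scoped IntermediateField.algebraAdjoinAdjoin in
theorem isGorensteinRing_tensor_adjoin_simple {E : Type u} [Field E] [Algebra k E] (t : E)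
    (h : LocCoh.IsGorensteinRing R) :
    LocCoh.IsGorensteinRing (R ⊗[k] (IntermediateField.adjoin k {t})) := by
  let f : k[X] →ₐ[k] Algebra.adjoin k {t} :=
    aeval (⟨t, Algebra.self_mem_adjoin_singleton k t⟩ : Algebra.adjoin k {t})
  have hf : Function.Surjective f := by
    rintro ⟨x, hx⟩
    obtain ⟨g, rfl⟩ := (Algebra.adjoin_singleton_eq_range_aeval k t ▸ hx : x ∈ (aeval t).range)
    refine ⟨g, Subtype.ext ?_⟩
    simp [f]
  have h1 : LocCoh.IsGorensteinRing (R ⊗[k] (Algebra.adjoin k {t})) := by
    refine isGorensteinRing_of_ringEquiv ?_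
      (isGorensteinRing_tensor_quotient k R h (RingHom.ker f))
    exact (Algebra.TensorProduct.congr (AlgEquiv.refl : R ≃ₐ[k] R)
      (Ideal.quotientKerAlgEquivOfSurjective hf)).toRingEquiv
  exact isGorensteinRing_tensor_of_isLocalization k R
    (nonZeroDivisors (Algebra.adjoin k {t})) h1

/-- Base change of a Gorenstein `k`-algebra along a finitely generated field extension. -/
theorem isGorensteinRing_tensor_of_fg {k E : Type u} [Field k] [Field E] [Algebra k E]
    (s : Finset E) (hs : IntermediateField.adjoin k (s : Set E) = ⊤)
    (R : Type u) [CommRing R] [Algebra k R] (h : LocCoh.IsGorensteinRing R) :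
    LocCoh.IsGorensteinRing (R ⊗[k] E) := by
  classical
  induction s using Finset.induction_on generalizing k R with
  | empty =>
    rw [Finset.coe_empty, IntermediateField.adjoin_empty] at hs
    let e : k ≃ₐ[k] E := AlgEquiv.ofBijective (Algebra.ofId k E)
      ⟨(algebraMap k E).injective, fun x => by
        have : x ∈ (⊥ : IntermediateField k E) := hs ▸ IntermediateField.mem_top
        exact IntermediateField.mem_bot.1 this⟩
    exact isGorensteinRing_of_ringEquiv
      ((Algebra.TensorProduct.rid k k R).symm.trans
        (Algebra.TensorProduct.congr (AlgEquiv.refl : R ≃ₐ[k] R) e)).toRingEquiv h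
  | insert t s hts ih =>
    let L := IntermediateField.adjoin k {t}
    have h1 : LocCoh.IsGorensteinRing (L ⊗[k] R) :=
      isGorensteinRing_of_ringEquiv (Algebra.TensorProduct.comm k R L).toRingEquiv
        (isGorensteinRing_tensor_adjoin_simple k R t h)
    have h2 : IntermediateField.adjoin L (s : Set E) = ⊤ := by
      have h3 := IntermediateField.adjoin_adjoin_left k {t} (s : Set E)
      rw [← IntermediateField.restrictScalars_eq_top_iff (K := k), h3, ← hs]
      simp
    have h3 := ih h2 (L ⊗[k] R) h1
    refine isGorensteinRing_of_ringEquiv ?_ h3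
    exact (Algebra.TensorProduct.comm L (L ⊗[k] R) E).toRingEquiv.trans
      ((Algebra.TensorProduct.cancelBaseChange k L L E R).toRingEquiv.trans
        (Algebra.TensorProduct.comm k E R).toRingEquiv)

end FieldExt

end Groth.Agent.LoccohA.GorBC
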