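import Groth.Agent.LoccohB.HomBC2
import Groth.Agent.LoccohB.RAdj
import Groth.Agent.LoccohB.DCalc
import Groth.Agent.LoccohB.DualShift
import Groth.Agent.LoccohB.LBC2
import Groth.Agent.LoccohB.FlatLBC
import Groth.Agent.Localalg.DGor

/-!
# Fibres of a flat map carrying a dualizing complex to a complex of finite injective dimension are Gorenstein
-/

set_option autoImplicit false
universe u

open CategoryTheory CategoryTheory.Limits
open scoped TensorProduct

attribute [local instance] HasDerivedCategory.standard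

namespace Groth.Agent.LoccohA.GorFibre

open DerivedCategory Groth.Agent.LoccohB Groth.Agent.LoccohB.HomBC

section Restrict

variable {B C : Type u} [CommRing B] [CommRing C] [Algebra B C]

/-- Restriction of scalars of `ModuleCat.of`. -/
noncomputable def restrictOf (M : Type u) [AddCommGroup M] [Module C M] [Module B M]
    [IsScalarTower B C M] :
    (ModuleCat.restrictScalars.{u} (algebraMap B C)).obj (ModuleCat.of C M) ≅ ModuleCat.of B M :=
  let e : ((ModuleCat.restrictScalars.{u} (algebraMap B C)).obj (ModuleCat.of C M)) ≃ₗ[B] M :=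
    { AddEquiv.refl M with
      map_smul' := fun b x => algebraMap_smul C b (show M from x) }
  e.toModuleIso

/-- Restriction of scalars of a module in degree zero. -/
noncomputable def restrictInD (M : Type u) [AddCommGroup M] [Module C M] [Module B M]
    [IsScalarTower B C M] :
    (DRing.restrictD (algebraMap B C)).obj (Dual.inD C M) ≅ Dual.inD B M :=
  ((ModuleCat.restrictScalars.{u} (algebraMap B C)).mapDerivedCategorySingleFunctor 0).app
    (ModuleCat.of C M) ≪≫ (singleFunctor (ModuleCat.{u} B) 0).mapIso (restrictOf M)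

end Restrict

section RHom

variable {B C : Type u} [CommRing B] [CommRing C] [Algebra B C]
  {R : Dual.D B ⥤ Dual.D C} (adj : DRing.restrictD (algebraMap B C) ⊣ R)

include adj

/-- `Hom_{D(C)}(M, R(K)[i]) = Hom_{D(B)}(M, K[i])`. -/
theorem exists_homEquiv (M : Type u) [AddCommGroup M] [Module C M] [Module B M]
    [IsScalarTower B C M] (K : Dual.D B) (i : ℤ) :
    ∃ e : (Dual.inD B M ⟶ K⟦i⟧) ≃+ (Dual.inD C M ⟶ (R.obj K)⟦i⟧),
      ∀ (b : B) (f : Dual.inD B M ⟶ K⟦i⟧), e (b • f) = algebraMap B C b • e f := by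
  obtain ⟨s⟩ := LBC.radj_shift (algebraMap B C) adj K i
  have : R.Additive := adj.right_adjoint_additive
  let e1 : (Dual.inD B M ⟶ K⟦i⟧) ≃+
      ((DRing.restrictD (algebraMap B C)).obj (Dual.inD C M) ⟶ K⟦i⟧) :=
    (Linear.homCongr B (restrictInD (B := B) (C := C) M).symm (Iso.refl _)).toAddEquiv
  let e2 := adj.homAddEquiv (Dual.inD C M) (K⟦i⟧)
  let e3 : (Dual.inD C M ⟶ R.obj (K⟦i⟧)) ≃+ (Dual.inD C M ⟶ (R.obj K)⟦i⟧) :=
    (Linear.homCongr C (Iso.refl _) s).toAddEquiv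
  refine ⟨(e1.trans e2).trans e3, fun b f => ?_⟩
  have h1 : e1 (b • f) = b • e1 f := map_smul (Linear.homCongr B (restrictInD (B := B) (C := C) M).symm (Iso.refl (K⟦i⟧))) b f
  have h2 : ∀ g, e2 (b • g) = algebraMap B C b • e2 g := fun g =>
    LBC.radj_homEquiv_smul (algebraMap B C) adj b g
  have h3 : ∀ g, e3 (algebraMap B C b • g) = algebraMap B C b • e3 g := fun g =>
    map_smul (Linear.homCongr C (Iso.refl (Dual.inD C M)) s) _ g
  change e3 (e2 (e1 (b • f))) = algebraMap B C b • e3 (e2 (e1 f))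
  rw [h1, h2, h3]

end RHom

section Main

/-- `B ⊗ (A/m) = C` for `B → C` surjective with kernel `mB`. -/
noncomputable def fibreEquiv {A B C : Type u} [CommRing A] [CommRing B] [CommRing C] [Algebra A B]
    [Algebra B C] (m : Ideal A) (hsurj : Function.Surjective (algebraMap B C))
    (hker : RingHom.ker (algebraMap B C) = m.map (algebraMap A B)) :
    (B ⊗[A] (A ⧸ m)) ≃ₗ[B] C :=
  let e1 : (B ⧸ m.map (algebraMap A B)) ≃ₐ[B] B ⊗[A] (A ⧸ m) :=
    Algebra.TensorProduct.quotIdealMapEquivTensorQuot B m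
  let e2 : (B ⧸ m.map (algebraMap A B)) ≃ₐ[B] (B ⧸ RingHom.ker (Algebra.ofId B C)) :=
    Ideal.quotientEquivAlgOfEq B hker.symm
  let e3 : (B ⧸ RingHom.ker (Algebra.ofId B C)) ≃ₐ[B] C :=
    Ideal.quotientKerAlgEquivOfSurjective (f := Algebra.ofId B C) hsurj
  e1.symm.toLinearEquiv ≪≫ₗ e2.toLinearEquiv ≪≫ₗ e3.toLinearEquiv

theorem exists_hasInjectiveDimensionLT {A B C : Type u} [CommRing A] [CommRing B] [CommRing C]
    [IsNoetherianRing A] [Algebra A B] [Algebra B C] (h : (algebraMap A B).Flat)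
    (m : Ideal A) (hsurj : Function.Surjective (algebraMap B C))
    (hker : RingHom.ker (algebraMap B C) = m.map (algebraMap A B))
    (ω : Dual.D A) (k : ℤ) [ω.IsGE k] (n : ℤ)
    (h0 : ∀ i, i ≠ n → Subsingleton (Dual.inD A (A ⧸ m) ⟶ ω⟦i⟧))
    (h1 : Nonempty ((Dual.inD A (A ⧸ m) ⟶ ω⟦n⟧) ≃ₗ[A] (A ⧸ m)))
    (N : ℤ) (hB : ∀ (M : Type u) [AddCommGroup M] [Module B M] (i : ℤ), N < i →
      Subsingleton (Dual.inD B M ⟶ ((FlatLBC.flatBC (algebraMap A B) h).obj ω)⟦i⟧)) :
    ∃ n : ℕ, HasInjectiveDimensionLT (ModuleCat.of C C) n := by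
  set K := (FlatLBC.flatBC (algebraMap A B) h).obj ω with hK
  let adj := RAdj.coextAdj (algebraMap B C)
  set W := (RAdj.RCoext (algebraMap B C)).obj K with hW
  -- Hom(C, K[i]) = B ⊗ Hom(A/m, ω[i])
  have e1 : ∀ i : ℤ, Nonempty (B ⊗[A] (Dual.inD A (A ⧸ m) ⟶ ω⟦i⟧) ≃ₗ[B] (Dual.inD B C ⟶ K⟦i⟧)) := by
    intro i
    let e := homBCModuleEquiv B h (ModuleCat.of A (A ⧸ m)) ω k i
    let g : (ModuleCat.extendScalars.{u, u, u} (algebraMap A B)).obj (ModuleCat.of A (A ⧸ m)) ≅
        ModuleCat.of B C :=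
      ((FlatLBC.extEquiv A B (ModuleCat.of A (A ⧸ m))).symm ≪≫ₗ
        fibreEquiv m hsurj hker).toModuleIso
    exact ⟨e ≪≫ₗ Linear.homCongr B ((singleFunctor (ModuleCat.{u} B) 0).mapIso g) (Iso.refl _)⟩
  have e2 : ∀ i : ℤ, i ≠ n → Subsingleton (Dual.inD C C ⟶ W⟦i⟧) := by
    intro i hi
    obtain ⟨f1⟩ := e1 i
    obtain ⟨f2, -⟩ := exists_homEquiv adj C K i
    have := h0 i hi
    have h3 : Subsingleton (B ⊗[A] (Dual.inD A (A ⧸ m) ⟶ ω⟦i⟧)) := inferInstance
    have := f1.toEquiv.subsingleton_congr.1 h3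
    exact f2.toEquiv.subsingleton_congr.1 this
  have e3 : Nonempty ((Dual.inD C C ⟶ W⟦n⟧) ≃ₗ[C] C) := by
    obtain ⟨f1⟩ := e1 n
    obtain ⟨f2, hf2⟩ := exists_homEquiv adj C K n
    obtain ⟨f3⟩ := h1
    let f4 : (Dual.inD B C ⟶ K⟦n⟧) ≃ₗ[B] C :=
      f1.symm ≪≫ₗ (LinearEquiv.baseChange A B _ _ f3) ≪≫ₗ fibreEquiv m hsurj hker
    exact ⟨{ f2.symm.trans f4.toAddEquiv with
      map_smul' := by
        intro c x
        obtain ⟨b, rfl⟩ := hsurj c
        obtain ⟨y, rfl⟩ := f2.surjective x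
        change f4 (f2.symm (algebraMap B C b • f2 y)) = algebraMap B C b • f4 (f2.symm (f2 y))
        rw [← hf2, AddEquiv.symm_apply_apply, AddEquiv.symm_apply_apply, map_smul,
          algebraMap_smul] }⟩
  have hGE : W.IsGE n := isGE_of_subsingleton W n (fun i hi => e2 i hi.ne)
  have hLE : W.IsLE n := isLE_of_subsingleton W n (fun i hi => e2 i hi.ne')
  obtain ⟨f⟩ := DCalc.exists_iso_single W n
  obtain ⟨e4⟩ := e3
  let g : (homologyFunctor (ModuleCat.{u} C) n).obj W ≅ ModuleCat.of C C :=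
    ((homShiftEquivHD n W).symm ≪≫ₗ e4).toModuleIso
  let f' : W⟦n⟧ ≅ Dual.inD C C :=
    (shiftFunctor _ n).mapIso (f ≪≫ (singleFunctor (ModuleCat.{u} C) n).mapIso g) ≪≫
      ((singleFunctors (ModuleCat.{u} C)).shiftIso n 0 n (by simp)).app (ModuleCat.of C C)
  refine ⟨(N - n + 1).toNat, HasInjectiveDimensionLT.mk fun i hi Y e => ?_⟩
  let M : Type u := Y
  let _ : Module B M := Module.compHom M (algebraMap B C)
  have : IsScalarTower B C M := ⟨fun b c x => by
    change (b • c) • x = algebraMap B C b • (c • x)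
    rw [Algebra.smul_def, mul_smul]⟩
  have h5 := hB M (n + i) (by omega)
  obtain ⟨f2, -⟩ := exists_homEquiv adj M K (n + i)
  have h6 : Subsingleton (Dual.inD C M ⟶ W⟦n + (i : ℤ)⟧) := f2.toEquiv.subsingleton_congr.1 h5
  have h7 : Subsingleton (Dual.inD C M ⟶ (W⟦n⟧)⟦(i : ℤ)⟧) :=
    (DualShift.homShift (Dual.inD C M) W n i (n + i) rfl).toEquiv.subsingleton_congr.2 h6
  have h8 : Subsingleton (Dual.inD C M ⟶ (Dual.inD C C)⟦(i : ℤ)⟧) :=
    ((Iso.refl _).homCongr ((shiftFunctor _ (i : ℤ)).mapIso f')).symm.subsingleton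
  have h9 := (Localalg.DGor.subsingleton_hom_iff C M C i).1 h8
  exact Subsingleton.elim _ _

end Main

end Groth.Agent.LoccohA.GorFibre
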