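import Groth.Agent.LoccohA.GorFibre
import Groth.Agent.LoccohB.GorBasic
import Groth.Agent.S0364
import Groth.Agent.S1775

/-!
# Fibres of a flat map compatible with dualizing complexes are Gorenstein
-/

set_option autoImplicit false
universe u

open CategoryTheory CategoryTheory.Limits
open scoped TensorProduct

attribute [local instance] HasDerivedCategory.standard

namespace Groth.Agent.LoccohA.GorFibre2

open DerivedCategory Groth.Agent.LoccohB Groth.Agent.LoccohB.HomBC
open Algebra.TensorProduct (includeRight)

theorem isNoetherianRing_fiber {A B : Type u} [CommRing A] [CommRing B]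
    [IsNoetherianRing B] [Algebra A B] (p : Ideal A) [p.IsPrime] :
    IsNoetherianRing (p.Fiber B) := by
  have hEss : Algebra.EssFiniteType B (B ⊗[A] p.ResidueField) := inferInstance
  have : IsNoetherianRing (B ⊗[A] p.ResidueField) := Algebra.EssFiniteType.isNoetherianRing B _
  exact isNoetherianRing_of_ringEquiv (B ⊗[A] p.ResidueField)
    (Algebra.TensorProduct.comm A B p.ResidueField).toRingEquiv

/-- A flat homomorphism `A → B` of Noetherian rings such that some dualizing complex `ω` of `A` has
dualizing base change to `B` has Gorenstein fibre rings. -/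
theorem isGorensteinRing_fiber {A B : Type u} [CommRing A] [CommRing B] [IsNoetherianRing A]
    [IsNoetherianRing B] [Algebra A B] [Module.Flat A B] (ω : Dual.D A)
    (hω : Dual.IsDualizing A ω) [DRing.HasLBaseChange (algebraMap A B)]
    (hB : Dual.IsDualizing B ((DRing.LBaseChange (algebraMap A B)).obj ω))
    (p : Ideal A) [p.IsPrime] : LocCoh.IsGorensteinRing (p.Fiber B) := by
  have hN : IsNoetherianRing (p.Fiber B) := isNoetherianRing_fiber p
  rw [GorBasic.isGorensteinRing_iff]
  refine ⟨hN, fun Q hQ => ?_⟩
  let q : Ideal B := Q.comap includeRight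
  have hq : q.IsPrime := Ideal.IsPrime.comap _
  have hqp : q.LiesOver p := inferInstance
  let _ := Localization.AtPrime.algebraOfLiesOver p q
  have : Localization.AtPrime.IsLiesOverAlgebra p q := inferInstance
  have e := Ideal.Fiber.localizationAlgEquivQuotient p Q
  have hflat : Module.Flat (Localization.AtPrime p) (Localization.AtPrime q) := inferInstance
  have h : (algebraMap (Localization.AtPrime p) (Localization.AtPrime q)).Flat :=
    (RingHom.flat_algebraMap_iff).2 hflat
  have i1 : DRing.HasLBaseChange (algebraMap A (Localization p.primeCompl)) :=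
    LBC.hasLBaseChange _
  have i2 : DRing.HasLBaseChange (algebraMap B (Localization q.primeCompl)) :=
    LBC.hasLBaseChange _
  have i3 : DRing.HasLBaseChange (algebraMap (Localization.AtPrime p) (Localization.AtPrime q)) :=
    LBC.hasLBaseChange _
  have i4 : DRing.HasLBaseChange (algebraMap A (Localization.AtPrime q)) :=
    LBC.hasLBaseChange _
  have d1 := Groth.Agent.S1775.result A p.primeCompl ω hω
  have d2 := Groth.Agent.S1775.result B q.primeCompl _ hB
  set ω' := (DRing.LBaseChange (algebraMap A (Localization p.primeCompl))).obj ω with hω'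
  have c1 : algebraMap A (Localization.AtPrime q) =
      (algebraMap B (Localization.AtPrime q)).comp (algebraMap A B) :=
    IsScalarTower.algebraMap_eq _ _ _
  have c2 : algebraMap A (Localization.AtPrime q) =
      (algebraMap (Localization.AtPrime p) (Localization.AtPrime q)).comp
        (algebraMap A (Localization.AtPrime p)) :=
    IsScalarTower.algebraMap_eq _ _ _
  let f1 := (LBC.lbcComp _ _ _ c1).app ω
  let f2 := (LBC.lbcComp _ _ _ c2).app ω
  let f3 := (FlatLBC.LBaseChangeIso _ h).app ω'
  have d3 : Dual.IsDualizing (Localization.AtPrime q)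
      ((FlatLBC.flatBC (algebraMap (Localization.AtPrime p) (Localization.AtPrime q)) h).obj ω') :=
    DualShift.isDualizing_of_iso (f1 ≪≫ f2.symm ≪≫ f3) d2
  obtain ⟨n, h0, h1⟩ := Groth.Agent.S0364.result (Localization.AtPrime p) ω' d1
    (IsLocalRing.maximalIdeal (Localization.AtPrime p))
  obtain ⟨a, b, _, _, -⟩ := exists_bounds_of_isDualizing d1
  obtain ⟨a', b', hab⟩ := d3.finite_injective_dimension
  have key := GorFibre.exists_hasInjectiveDimensionLT
    (C := Localization.AtPrime q ⧸ p.map (algebraMap A (Localization.AtPrime q))) h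
    (IsLocalRing.maximalIdeal (Localization.AtPrime p))
    Ideal.Quotient.mk_surjective (by
      rw [Ideal.Quotient.algebraMap_eq, Ideal.mk_ker, ← Localization.AtPrime.map_eq_maximalIdeal,
        Ideal.map_map, c2])
    ω' a n h0 h1 b' (fun M _ _ i hi => hab M i (Or.inr hi))
  exact GorBasic.FID.of_ringEquiv e.symm.toRingEquiv key

end Groth.Agent.LoccohA.GorFibre2
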