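import Groth.Agent.Localalg.GrCompl
import Groth.Agent.CalgC.DimFT
import Mathlib.RingTheory.MvPolynomial.Homogeneous
import Mathlib.RingTheory.Flat.FaithfullyFlat.Algebra
import Mathlib.RingTheory.AdicCompletion.LocalRing

/-!
# The homogeneous coordinate ring of an integral projective variety, at the vertex

`t : ι → K` a family of elements of a field extension `K` of `k`, `psi : k[x_a] → K[X]`,
`x_a ↦ t_a X`; the graded domain `S = k[x_a] / ker psi`, `m` its irrelevant ideal and
`R = S_m`: `R` has dimension `≤ trdeg K + 1`, its completion is a domain, and for a homogeneous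
ideal `J` not containing a power of `m` the Hartshorne-Lichtenbaum hypothesis holds for `J R`.
-/

set_option autoImplicit false
universe v u

open MvPolynomial

namespace Groth.Agent.LoccohA.GradDom

variable (k K : Type u) [Field k] [Field K] [Algebra k K] {ι : Type v} (t : ι → K)

/-- `x_a ↦ t_a X`. -/
noncomputable def psi : MvPolynomial ι k →ₐ[k] Polynomial K :=
  aeval (fun a => Polynomial.C (t a) * Polynomial.X)

/-- the ideal of the cone. -/
noncomputable def pp : Ideal (MvPolynomial ι k) := RingHom.ker (psi k K t)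

instance pp_isPrime : (pp k K t).IsPrime := RingHom.ker_isPrime _

variable {k K}

lemma psi_monomial (d : ι →₀ ℕ) (c : k) :
    psi k K t (monomial d c) = Polynomial.C (aeval t (monomial d c)) * Polynomial.X ^ d.degree := by
  classical
  rw [psi, aeval_monomial, aeval_monomial, Finsupp.prod]
  simp only [mul_pow]
  rw [Finset.prod_mul_distrib, Finset.prod_pow_eq_pow_sum, map_mul, Finsupp.prod, map_prod]
  simp only [map_pow]
  rw [Polynomial.algebraMap_apply, mul_assoc]
  rfl

lemma psi_of_isHomogeneous {f : MvPolynomial ι k} {n : ℕ} (hf : f.IsHomogeneous n) :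
    psi k K t f = Polynomial.C (aeval t f) * Polynomial.X ^ n := by
  classical
  conv_lhs => rw [f.as_sum]
  conv_rhs => rw [f.as_sum]
  rw [map_sum, map_sum, map_sum, Finset.sum_mul]
  refine Finset.sum_congr rfl fun d hd => ?_
  rw [psi_monomial]
  have : d.degree = n := by
    rw [Finsupp.degree_eq_weight_one]
    exact hf (mem_support_iff.1 hd)
  rw [this]

lemma coeff_psi (f : MvPolynomial ι k) (i : ℕ) :
    (psi k K t f).coeff i = aeval t (homogeneousComponent i f) := by
  classical
  conv_lhs => rw [← sum_homogeneousComponent f]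
  rw [map_sum, Polynomial.finsetSum_coeff]
  rw [Finset.sum_eq_single i]
  · rw [psi_of_isHomogeneous t (homogeneousComponent_isHomogeneous i f), Polynomial.coeff_C_mul_X_pow,
      if_pos rfl]
  · intro j _ hj
    rw [psi_of_isHomogeneous t (homogeneousComponent_isHomogeneous j f), Polynomial.coeff_C_mul_X_pow,
      if_neg hj.symm]
  · intro h
    rw [Finset.mem_range, not_lt] at h
    rw [homogeneousComponent_eq_zero _ _ (by omega), map_zero]
    exact Polynomial.coeff_zero i

lemma mem_pp_iff {f : MvPolynomial ι k} :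
    f ∈ pp k K t ↔ ∀ i, aeval t (homogeneousComponent i f) = 0 := by
  rw [pp, RingHom.mem_ker]
  constructor
  · intro h i
    rw [← coeff_psi t, h, Polynomial.coeff_zero]
  · intro h
    ext i
    rw [coeff_psi t, h, Polynomial.coeff_zero]

lemma homogeneousComponent_mem_pp {f : MvPolynomial ι k} (hf : f ∈ pp k K t) (i : ℕ) :
    homogeneousComponent i f ∈ pp k K t := by
  rw [pp, RingHom.mem_ker, psi_of_isHomogeneous t (homogeneousComponent_isHomogeneous i f),
    (mem_pp_iff t).1 hf i, map_zero, zero_mul]

open Groth.Agent.Localalg.GrCompl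

lemma mem_idealOfVars_iff {f : MvPolynomial ι k} : f ∈ idealOfVars ι k ↔ coeff 0 f = 0 := by
  rw [← pow_one (idealOfVars ι k), mem_pow_idealOfVars_iff']
  constructor
  · intro h
    exact h 0 (by simp)
  · intro h x hx
    have : x = 0 := by
      rw [← Finsupp.degree_eq_zero_iff]
      omega
    rw [this, h]

lemma idealOfVars_eq_ker : idealOfVars ι k = RingHom.ker (constantCoeff (R := k) (σ := ι)) := by
  ext f
  rw [mem_idealOfVars_iff, RingHom.mem_ker]
  rfl

lemma pp_le : pp k K t ≤ idealOfVars ι k := by
  intro f hf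
  rw [mem_idealOfVars_iff]
  have h := (mem_pp_iff t).1 hf 0
  rw [homogeneousComponent_zero, aeval_C] at h
  exact (map_eq_zero_iff _ (algebraMap k K).injective).1 h

instance idealOfVars_isMaximal : (idealOfVars ι k).IsMaximal := by
  rw [idealOfVars_eq_ker]
  exact RingHom.ker_isMaximal_of_surjective _ (fun c => ⟨C c, constantCoeff_C _ c⟩)

lemma comap_vertex : (vertex (pp k K t)).comap (Ideal.Quotient.mk (pp k K t)) = idealOfVars ι k := by
  rw [vertex, Ideal.comap_map_of_surjective _ Ideal.Quotient.mk_surjective,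
    ← RingHom.ker_eq_comap_bot, Ideal.mk_ker, sup_eq_left]
  exact pp_le t

instance vertex_isMaximal : (vertex (pp k K t)).IsMaximal := by
  have h : ((vertex (pp k K t)).comap (Ideal.Quotient.mk (pp k K t))).IsMaximal := by
    rw [comap_vertex]
    infer_instance
  have h2 := Ideal.map_eq_top_or_isMaximal_of_surjective (Ideal.Quotient.mk (pp k K t))
    Ideal.Quotient.mk_surjective h
  rw [Ideal.map_comap_of_surjective _ Ideal.Quotient.mk_surjective] at h2
  rcases h2 with h2 | h2
  · exfalso
    rw [h2, Ideal.comap_top] at h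
    exact h.ne_top rfl
  · exact h2

instance isDomain_quotient : IsDomain (MvPolynomial ι k ⧸ pp k K t) := inferInstance

theorem grDomain_pp : GrDomain (vertex (pp k K t)) :=
  grDomain_vertex _ (fun _ hf i => homogeneousComponent_mem_pp t hf i)

section Hom

attribute [local instance] MvPolynomial.gradedAlgebra

lemma homogeneousComponent_mul (u : MvPolynomial ι k) {f : MvPolynomial ι k} {n : ℕ}
    (hf : f.IsHomogeneous n) (i : ℕ) :
    homogeneousComponent (i + n) (u * f) = homogeneousComponent i u * f := by
  classical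
  have h := DirectSum.coe_decompose_mul_add_of_right_mem (homogeneousSubmodule ι k) (i := i)
    (j := n) (a := u) (b := f) hf
  rwa [← decomposition.decompose'_apply, ← decomposition.decompose'_apply]

lemma pp_isHomogeneous : (pp k K t).IsHomogeneous (homogeneousSubmodule ι k) := by
  classical
  intro i r hr
  have h := homogeneousComponent_mem_pp t hr i
  rwa [← decomposition.decompose'_apply] at h

end Hom

/-- homogeneous ideals of the coordinate ring of the cone. -/
def IsHom {P : Ideal (MvPolynomial ι k)} (J : Ideal (MvPolynomial ι k ⧸ P)) : Prop :=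
  ∀ f : MvPolynomial ι k, Ideal.Quotient.mk P f ∈ J →
    ∀ i, Ideal.Quotient.mk P (homogeneousComponent i f) ∈ J

lemma mem_of_mul_mem {J : Ideal (MvPolynomial ι k ⧸ pp k K t)} (hJ : IsHom J)
    {u f : MvPolynomial ι k} (hu : coeff 0 u ≠ 0) {n : ℕ} (hf : f.IsHomogeneous n)
    (h : Ideal.Quotient.mk (pp k K t) (u * f) ∈ J) : Ideal.Quotient.mk (pp k K t) f ∈ J := by
  have h1 := hJ _ h (0 + n)
  rw [homogeneousComponent_mul u hf 0, homogeneousComponent_zero, map_mul] at h1
  have h2 := J.mul_mem_left (Ideal.Quotient.mk (pp k K t) (C (coeff 0 u)⁻¹)) h1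
  rwa [← map_mul, ← map_mul, ← mul_assoc, ← C_mul, inv_mul_cancel₀ hu, C_1, one_mul] at h2

section Hom

attribute [local instance] MvPolynomial.gradedAlgebra

lemma isHom_span (H : Set (MvPolynomial ι k)) (hH : ∀ f ∈ H, ∃ n, f.IsHomogeneous n) :
    IsHom (P := pp k K t) (Ideal.span (Ideal.Quotient.mk (pp k K t) '' H)) := by
  classical
  have h1 : (Ideal.span (Ideal.Quotient.mk (pp k K t) '' H)).comap (Ideal.Quotient.mk (pp k K t)) =
      Ideal.span H ⊔ pp k K t := by
    rw [← Ideal.map_span, Ideal.comap_map_of_surjective _ Ideal.Quotient.mk_surjective,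
      ← RingHom.ker_eq_comap_bot, Ideal.mk_ker]
  have h2 : (Ideal.span H ⊔ pp k K t).IsHomogeneous (homogeneousSubmodule ι k) :=
    (Ideal.homogeneous_span (homogeneousSubmodule ι k) _
      (fun f hf => (hH f hf : ∃ n, f ∈ homogeneousSubmodule ι k n))).sup (pp_isHomogeneous t)
  intro f hf i
  rw [← Ideal.mem_comap, h1] at hf ⊢
  exact homogeneousComponent_mem_of_mem h2 hf i

end Hom

/-! ### Dimension -/

section Dim

variable (k K)

theorem trdeg_polynomial : Algebra.trdeg k (Polynomial K) = Algebra.trdeg k K + 1 := by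
  have := _root_.trdeg_add_eq k K (A := Polynomial K)
  rw [Polynomial.trdeg_of_isDomain] at this
  exact this.symm

variable {k K}

theorem exists_dim [Finite ι] (d : ℕ) (hd : Algebra.trdeg k K ≤ d) :
    ∃ e : ℕ, e ≤ d + 1 ∧ ringKrullDim (MvPolynomial ι k ⧸ pp k K t) = e ∧
      ∀ m : Ideal (MvPolynomial ι k ⧸ pp k K t), m.IsMaximal → m.height = e := by
  obtain ⟨e, h1, h2, h3⟩ := Groth.Agent.CalgC.DimFT.exists_dim k (MvPolynomial ι k ⧸ pp k K t)
  refine ⟨e, ?_, h1, h3⟩
  have h4 := lift_trdeg_le_of_injective (Ideal.kerLiftAlg (psi k K t))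
    (Ideal.kerLiftAlg_injective (psi k K t))
  have h5 : Algebra.trdeg k (MvPolynomial ι k ⧸ RingHom.ker (psi k K t)) = e := h2
  rw [h5, trdeg_polynomial, Cardinal.lift_natCast] at h4
  have h6 : (Cardinal.lift.{max v u} (Algebra.trdeg k K + 1) : Cardinal) ≤
      ((d + 1 : ℕ) : Cardinal) := by
    rw [← Cardinal.lift_natCast.{max v u, u}, Cardinal.lift_le]
    push_cast
    gcongr
  exact_mod_cast h4.trans h6

end Dim

end Groth.Agent.LoccohA.GradDom
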