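import Groth.Prelude.Def_Wider
import Groth.Agent.LoccohA.AssDevissage
import Groth.Agent.LoccohA.LES2
import Mathlib.RingTheory.Noetherian.Basic

/-!
# Finiteness of `H^1_I`
-/

set_option autoImplicit false

universe u

open CategoryTheory

namespace Groth.Agent.LoccohA.H1Fin

open Groth.Agent.LoccohA.LES Groth.Agent.Localalg.Gam

variable {A : Type u} [CommRing A] (I : Ideal A)

section

variable [IsNoetherianRing A]

theorem finite_H0 (M : Type u) [AddCommGroup M] [Module A M] [Module.Finite A M] :
    Module.Finite A (LocCoh.H I 0 M) := by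
  exact Module.Finite.equiv (equivGam I M).symm

theorem finite_H1_of_injective (M N : Type u) [AddCommGroup M] [Module A M] [AddCommGroup N]
    [Module A N] [Module.Finite A N] (f : M →ₗ[A] N) (hf : Function.Injective f)
    (h : Module.Finite A (LocCoh.H I 1 N)) : Module.Finite A (LocCoh.H I 1 M) := by
  obtain ⟨δ, -, h2, -⟩ := exists_exact I 0 f (LinearMap.range f).mkQ hf
    (LinearMap.exact_iff.mpr (by simp)) (Submodule.mkQ_surjective _)
  have := finite_H0 I (N ⧸ LinearMap.range f)
  have : IsNoetherian A (LocCoh.H I 0 (N ⧸ LinearMap.range f)) := isNoetherian_of_isNoetherianRing_of_finite _ _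
  have : IsNoetherian A (LocCoh.H I 1 N) := isNoetherian_of_isNoetherianRing_of_finite _ _
  have : IsNoetherian A (LocCoh.H I 1 M) := isNoetherian_of_range_eq_ker δ (hmap I 1 f)
    (LinearMap.exact_iff.mp h2).symm
  infer_instance

theorem finite_H1_of_exact (M₁ M₂ M₃ : Type u) [AddCommGroup M₁] [Module A M₁]
    [AddCommGroup M₂] [Module A M₂] [AddCommGroup M₃] [Module A M₃] (f : M₁ →ₗ[A] M₂)
    (g : M₂ →ₗ[A] M₃) (hf : Function.Injective f) (hfg : Function.Exact f g)
    (hg : Function.Surjective g) (h₁ : Module.Finite A (LocCoh.H I 1 M₁))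
    (h₃ : Module.Finite A (LocCoh.H I 1 M₃)) : Module.Finite A (LocCoh.H I 1 M₂) := by
  obtain ⟨δ, -, -, h2⟩ := exists_exact I 1 f g hf hfg hg
  have : IsNoetherian A (LocCoh.H I 1 M₁) := isNoetherian_of_isNoetherianRing_of_finite _ _
  have : IsNoetherian A (LocCoh.H I 1 M₃) := isNoetherian_of_isNoetherianRing_of_finite _ _
  have : IsNoetherian A (LocCoh.H I 1 M₂) := isNoetherian_of_range_eq_ker (hmap I 1 f)
    (hmap I 1 g) (LinearMap.exact_iff.mp h2).symm
  infer_instance

/-- Stacks 0BJZ (affine form) -/
theorem finite_H1_iff (M : Type u) [AddCommGroup M] [Module A M] [Module.Finite A M] :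
    Module.Finite A (LocCoh.H I 1 M) ↔ ∀ p : Ideal A, p ∈ associatedPrimes A M → ¬ I ≤ p →
      Module.Finite A (LocCoh.H I 1 (A ⧸ p)) := by
  constructor
  · intro h p hp _
    rw [AssociatedPrimes.mem_iff, isAssociatedPrime_iff_exists_injective_linearMap] at hp
    obtain ⟨-, f, hf⟩ := hp
    exact finite_H1_of_injective I _ M f hf h
  · intro h
    refine AssDevissage.devissage (fun (M : Type u) [AddCommGroup M] [Module A M] =>
      Module.Finite A (LocCoh.H I 1 M)) ?_ ?_ ?_ M ?_
    · intro M _ _ _
      have := subsingleton_of_subsingleton I 1 M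
      infer_instance
    · intro M N _ _ _ _ _ f hf hN
      exact finite_H1_of_injective I M N f hf hN
    · intro M₁ M₂ M₃ _ _ _ _ _ _ _ f g hf hfg hg h₁ h₃
      exact finite_H1_of_exact I M₁ M₂ M₃ f g hf hfg hg h₁ h₃
    · intro p hp
      by_cases hIp : I ≤ p
      · have : Subsingleton (LocCoh.H I 1 (A ⧸ p)) := by
          refine subsingleton_of_torsion I 0 (A ⧸ p) fun x => ⟨1, fun a ha => ?_⟩
          obtain ⟨x, rfl⟩ := Ideal.Quotient.mk_surjective x
          rw [pow_one] at ha
          have : a • Ideal.Quotient.mk p x = Ideal.Quotient.mk p (a * x) := rfl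
          rw [this]
          exact Ideal.Quotient.eq_zero_iff_mem.mpr (Ideal.mul_mem_right _ _ (hIp ha))
        infer_instance
      · exact h p hp hIp

omit [IsNoetherianRing A] in
theorem subsingleton_of_bijective (i : ℕ) (E : Type u) [AddCommGroup E] [Module A E] (f : A)
    (hfI : f ∈ I) (hf : Function.Bijective (fun x : E => f • x)) :
    Subsingleton (LocCoh.H I i E) := by
  let e : E ≃ₗ[A] E := LinearEquiv.ofBijective (f • LinearMap.id) hf
  have h1 : ∀ x : LocCoh.H I i E, f • x = hmap I i e.toLinearMap x := by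
    intro x
    have h2 : e.toLinearMap = f • (LinearMap.id : E →ₗ[A] E) := rfl
    rw [h2, hmap_smul, hmap_id]
  have h3 : Function.Injective (hmap I i e.toLinearMap) := by
    intro x y hxy
    have := congrArg (hmap I i e.symm.toLinearMap) hxy
    rw [← hmap_comp, ← hmap_comp, e.symm_comp, hmap_id, hmap_id] at this
    exact this
  refine subsingleton_of_forall_eq 0 fun x => ?_
  obtain ⟨n, hn⟩ := power_torsion I i E x
  have h5 := hn (f ^ n) (Ideal.pow_mem_pow hfI n)
  clear hn
  induction n with
  | zero => simpa using h5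
  | succ n ih =>
    apply ih
    apply h3
    rw [map_zero, ← h1, ← mul_smul, ← pow_succ', h5]

theorem finite_gam_of_J (M : Type u) [AddCommGroup M] [Module A M] [Module.Finite A M] (f : A)
    (hf : ∀ x : M, f • x = 0 → x = 0) (n : ℕ)
    (hJ : ∀ x : M, (∃ k : ℕ, ∀ a ∈ I ^ k, ∃ y : M, a • x = f ^ (n + 1) • y) →
      ∃ y : M, x = f • y) (E : Type u) [AddCommGroup E] [Module A E] (g : M →ₗ[A] E)
    [IsLocalizedModule (Submonoid.powers f) g] :
    Module.Finite A (gam I (E ⧸ LinearMap.range g)) := by
  let pw : ℕ → Submonoid.powers f := fun m => ⟨f ^ m, m, rfl⟩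
  have hfn : ∀ (m : ℕ) (x : M), f ^ m • x = 0 → x = 0 := by
    intro m
    induction m with
    | zero => intro x hx; simpa using hx
    | succ m ih =>
      intro x hx
      rw [pow_succ, mul_smul] at hx
      exact hf _ (ih _ hx)
  have hinj : Function.Injective g := by
    rw [injective_iff_map_eq_zero]
    intro x hx
    obtain ⟨⟨_, m, rfl⟩, hm⟩ := (IsLocalizedModule.eq_zero_iff (Submonoid.powers f) g).mp hx
    exact hfn m x hm
  let h : M →ₗ[A] E ⧸ LinearMap.range g :=
    { toFun := fun x => (LinearMap.range g).mkQ (IsLocalizedModule.mk' g x (pw n))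
      map_add' := fun x y => by rw [IsLocalizedModule.mk'_add, map_add]
      map_smul' := fun a x => by rw [IsLocalizedModule.mk'_smul, map_smul]; rfl }
  have key : ∀ (m : ℕ) (y : M), (∃ k : ℕ, ∀ a ∈ I ^ k,
      a • IsLocalizedModule.mk' g y (pw m) ∈ LinearMap.range g) →
      (LinearMap.range g).mkQ (IsLocalizedModule.mk' g y (pw m)) ∈ LinearMap.range h := by
    intro m
    induction m with
    | zero =>
      intro y _
      refine ⟨f ^ n • y, ?_⟩
      change (LinearMap.range g).mkQ (IsLocalizedModule.mk' g (f ^ n • y) (pw n)) = _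
      congr 1
      have h1 : pw n = pw n * pw 0 := by
        apply Subtype.ext
        change f ^ n = f ^ n * f ^ 0
        simp
      have h2 : IsLocalizedModule.mk' g (f ^ n • y) (pw n) =
          IsLocalizedModule.mk' g ((pw n) • y) (pw n * pw 0) := by rw [← h1]; rfl
      rw [h2]
      exact IsLocalizedModule.mk'_cancel_left g y (pw n) (pw 0)
    | succ m ih =>
      intro y hy
      by_cases hmn : m + 1 ≤ n
      · refine ⟨f ^ (n - (m + 1)) • y, ?_⟩
        change (LinearMap.range g).mkQ
          (IsLocalizedModule.mk' g (f ^ (n - (m + 1)) • y) (pw n)) = _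
        congr 1
        have h1 : pw n = pw (n - (m + 1)) * pw (m + 1) := by
          apply Subtype.ext
          change f ^ n = f ^ (n - (m + 1)) * f ^ (m + 1)
          rw [← pow_add]
          congr 1
          omega
        rw [h1]
        exact IsLocalizedModule.mk'_cancel_left g y (pw (n - (m + 1))) (pw (m + 1))
      · obtain ⟨k, hk⟩ := hy
        obtain ⟨y', rfl⟩ := hJ y ⟨k, fun a ha => by
          obtain ⟨w, hw⟩ := hk a ha
          refine ⟨f ^ (m - n) • w, ?_⟩
          rw [← mul_smul, ← pow_add]
          have h2 : n + 1 + (m - n) = m + 1 := by omega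
          rw [h2]
          apply hinj
          rw [map_smul, map_smul, hw, ← smul_comm a (f ^ (m + 1))]
          congr 1
          exact (IsLocalizedModule.mk'_cancel' g y (pw (m + 1))).symm⟩
        have h3 : IsLocalizedModule.mk' g (f • y') (pw (m + 1)) =
            IsLocalizedModule.mk' g y' (pw m) := by
          have h4 : pw (m + 1) = pw 1 * pw m := by
            apply Subtype.ext
            change f ^ (m + 1) = f ^ 1 * f ^ m
            rw [← pow_add, add_comm]
          have h5 : f • y' = (pw 1) • y' := by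
            change _ = f ^ 1 • y'
            rw [pow_one]
          rw [h4, h5]
          exact IsLocalizedModule.mk'_cancel_left g y' (pw 1) (pw m)
        rw [h3]
        apply ih
        rw [h3] at hk
        exact ⟨k, hk⟩
  have hle : gam I (E ⧸ LinearMap.range g) ≤ LinearMap.range h := by
    intro z hz
    obtain ⟨e, rfl⟩ := (LinearMap.range g).mkQ_surjective z
    obtain ⟨⟨y, ⟨_, m, rfl⟩⟩, rfl⟩ := IsLocalizedModule.mk'_surjective (Submonoid.powers f) g e
    obtain ⟨k, hk⟩ := hz
    apply key m y
    refine ⟨k, fun a ha => ?_⟩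
    have := hk a ha
    rw [← map_smul, Submodule.mkQ_apply, Submodule.Quotient.mk_eq_zero] at this
    exact this
  have : IsNoetherian A (LinearMap.range h) := inferInstance
  have : IsNoetherian A (gam I (E ⧸ LinearMap.range g)) := isNoetherian_of_le hle
  infer_instance

theorem finite_H1_of_J (M : Type u) [AddCommGroup M] [Module A M] [Module.Finite A M] (f : A)
    (hfI : f ∈ I) (hf : ∀ x : M, f • x = 0 → x = 0) (n : ℕ)
    (hJ : ∀ x : M, (∃ k : ℕ, ∀ a ∈ I ^ k, ∃ y : M, a • x = f ^ (n + 1) • y) →
      ∃ y : M, x = f • y) : Module.Finite A (LocCoh.H I 1 M) := by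
  let E := LocalizedModule (Submonoid.powers f) M
  let g : M →ₗ[A] E := LocalizedModule.mkLinearMap (Submonoid.powers f) M
  have hg : Function.Injective g := by
    rw [injective_iff_map_eq_zero]
    intro x hx
    obtain ⟨⟨_, m, rfl⟩, hm⟩ := (IsLocalizedModule.eq_zero_iff (Submonoid.powers f) g).mp hx
    have hm' : f ^ m • x = 0 := hm
    clear hm
    induction m with
    | zero => simpa using hm'
    | succ m ih =>
      rw [pow_succ', mul_smul] at hm'
      exact ih (hf _ hm')
  have hfin := finite_gam_of_J I M f hf n hJ E g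
  have hfin0 : Module.Finite A (LocCoh.H I 0 (E ⧸ LinearMap.range g)) :=
    Module.Finite.equiv (equivGam I (E ⧸ LinearMap.range g)).symm
  have hbij : Function.Bijective (fun x : E => f • x) := by
    have h1 := IsLocalizedModule.map_units g (⟨f, 1, pow_one f⟩ : Submonoid.powers f)
    rw [Module.End.isUnit_iff] at h1
    exact h1
  have hE : Subsingleton (LocCoh.H I 1 E) := subsingleton_of_bijective I 1 E f hfI hbij
  obtain ⟨δ, -, h2, -⟩ := exists_exact I 0 g (LinearMap.range g).mkQ hg
    (LinearMap.exact_iff.mpr (by simp)) (Submodule.mkQ_surjective _)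
  have hsurj : Function.Surjective δ := by
    intro x
    exact (h2 x).mp (Subsingleton.elim _ _)
  exact Module.Finite.of_surjective δ hsurj

end

end Groth.Agent.LoccohA.H1Fin
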