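import Groth.Agent.CohqB.FinHom
import Groth.Agent.LoccohB.GlueHom
import Groth.Agent.Ega1.QCohLoc
import Groth.Agent.FormalB.ModPowAff2

/-!
# Extending morphisms of quasi-coherent modules from a common basic open

`exists_hom_of_dense`: let `U i` be an affine open cover of `X` with affine pairwise intersections, and
`T` an open which is a basic open of each `U i`.  If `G` is quasi-coherent, `N` is any module with
`Γ(N, U i ∩ U j) → Γ(N, T)` injective, then every `Γ(X, T)`-linear map `Γ(G, T) → Γ(N, T)` which maps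
sections extending to `U i` to sections extending to `U i` is induced by a (unique) morphism `G ⟶ N`.
-/

set_option autoImplicit false
universe u

open CategoryTheory AlgebraicGeometry TopologicalSpace Opposite CategoryTheory.Limits

namespace Groth.Agent.LoccohA.HomDense

open Groth.Agent.Ega1.QCohLoc
open Groth.Agent.LoccohB.GlueHom (LHom exists_glue)

variable {X : Scheme.{u}}

/-- The restriction of a function to its basic open is a unit. -/
theorem isUnit_resO {U : X.Opens} (f : Γ(X, U)) : IsUnit (resO (X.basicOpen_le f) f) :=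
  RingedSpace.isUnit_res_basicOpen X.toRingedSpace f

theorem isUnit_resO' {U W : X.Opens} (f : Γ(X, U)) (hW : W = X.basicOpen f) (h : W ≤ U) :
    IsUnit (resO h f) := by
  subst hW
  exact isUnit_resO f

/-- Two local morphisms agreeing on the sections of an affine open agree on every smaller open. -/
theorem lhom_ext {G N : X.Modules} (hG : Coh.IsQCoh G) {A W W' : X.Opens} (hA : IsAffineOpen A)
    (hW : A ≤ W) (hW' : A ≤ W') (φ : LHom G N W) (ψ : LHom G N W')
    (h : ∀ s : Γ(G, A), φ.app A hW s = ψ.app A hW' s) {V : X.Opens} (hV : V ≤ A) (s : Γ(G, V)) :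
    φ.app V (hV.trans hW) s = ψ.app V (hV.trans hW') s := by
  have key : ∀ x : V, ∃ D : X.Opens, ∃ hD : D ≤ V, (x : X) ∈ D ∧ ∀ t : Γ(G, D),
      φ.app D ((hD.trans hV).trans hW) t = ψ.app D ((hD.trans hV).trans hW') t := by
    intro x
    obtain ⟨f, hf, hxf⟩ := hA.exists_basicOpen_le ⟨x.1, x.2⟩ (hV x.2)
    refine ⟨X.basicOpen f, hf, hxf, fun t => ?_⟩
    obtain ⟨n, t', ht'⟩ := (isLocAt_of_isQCoh hG hA f).surj t
    have e1 := φ.nat A (X.basicOpen f) (X.basicOpen_le f) hW t'
    have e2 := ψ.nat A (X.basicOpen f) (X.basicOpen_le f) hW' t'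
    rw [h] at e1
    have e3 := e1.trans e2.symm
    change (φ.app (X.basicOpen f) _ (res G _ t')) = ψ.app (X.basicOpen f) _ (res G _ t') at e3
    rw [ht', _root_.map_smul, _root_.map_smul] at e3
    exact ((isUnit_resO f).pow n).smul_left_cancel.mp e3
  choose D hD hxD hDe using key
  refine eq_of_locally_eq N D V hD (fun x hx => Opens.mem_iSup.mpr ⟨⟨x, hx⟩, hxD _⟩) _ _ fun x => ?_
  have e1 := φ.nat V (D x) (hD x) (hV.trans hW) s
  have e2 := ψ.nat V (D x) (hD x) (hV.trans hW') s
  exact e1.symm.trans ((hDe x _).trans e2)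

theorem le_image_preimage {W V : X.Opens} (hV : V ≤ W) : V ≤ W.ι ''ᵁ (W.ι ⁻¹ᵁ V) := by
  intro x hx
  exact ⟨⟨x, hV hx⟩, hx, rfl⟩

theorem image_preimage_le (W V : X.Opens) : W.ι ''ᵁ (W.ι ⁻¹ᵁ V) ≤ V := by
  rintro _ ⟨⟨x, hx⟩, hx', rfl⟩
  exact hx'

/-- A morphism of restrictions as a local morphism. -/
noncomputable def lhomOf {G N : X.Modules} {W : X.Opens} (φ : G.restrict W.ι ⟶ N.restrict W.ι) :
    LHom G N W where
  app V hV :=
    { toFun := fun s => res N (le_image_preimage hV)
        ((φ.app (W.ι ⁻¹ᵁ V)) (show Γ(G.restrict W.ι, W.ι ⁻¹ᵁ V) from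
          (res G (image_preimage_le W V) s)))
      map_add' := fun s t => by
        rw [map_add]
        refine (congrArg _ (map_add (φ.app (W.ι ⁻¹ᵁ V)).hom _ _)).trans ?_
        exact map_add _ _ _
      map_smul' := fun r s => by
        have e1 : (show Γ(G.restrict W.ι, W.ι ⁻¹ᵁ V) from (res G (image_preimage_le W V) (r • s))) =
            ((W.ι.appIso (W.ι ⁻¹ᵁ V)).hom (resO (image_preimage_le W V) r)) •
              (show Γ(G.restrict W.ι, W.ι ⁻¹ᵁ V) from (res G (image_preimage_le W V) s)) := by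
          have := Scheme.Modules.smul_restrictAppIso_inv_apply W.ι G (W.ι ⁻¹ᵁ V)
            (resO (image_preimage_le W V) r) (res G (image_preimage_le W V) s)
          refine Eq.trans ?_ this
          exact res_smul G (image_preimage_le W V) r s
        rw [e1]
        have e2 := Scheme.Modules.Hom.app_smul φ
          ((W.ι.appIso (W.ι ⁻¹ᵁ V)).hom (resO (image_preimage_le W V) r))
          (show Γ(G.restrict W.ι, W.ι ⁻¹ᵁ V) from (res G (image_preimage_le W V) s))
        have e3 := Scheme.Modules.smul_restrictAppIso_inv_apply W.ι N (W.ι ⁻¹ᵁ V)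
            (resO (image_preimage_le W V) r) (φ.app (W.ι ⁻¹ᵁ V)
              (show Γ(G.restrict W.ι, W.ι ⁻¹ᵁ V) from (res G (image_preimage_le W V) s)))
        refine (congrArg (res N (le_image_preimage hV)) (e2.trans e3.symm)).trans ?_
        refine (res_smul N (le_image_preimage hV) _ _).trans ?_
        rw [resO_resO, resO_rfl]
        rfl }
  nat V V' h hV s := by
    change res N (le_image_preimage (h.trans hV)) (φ.app (W.ι ⁻¹ᵁ V') (show Γ(G.restrict W.ι, W.ι ⁻¹ᵁ V') from
          (res G (image_preimage_le W V') (res G h s)))) =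
      res N h (res N (le_image_preimage hV)
        ((φ.app (W.ι ⁻¹ᵁ V)) (show Γ(G.restrict W.ι, W.ι ⁻¹ᵁ V) from
          (res G (image_preimage_le W V) s))))
    have hpre : W.ι ⁻¹ᵁ V' ≤ W.ι ⁻¹ᵁ V := fun x hx => h hx
    have e1 := res_app φ hpre (show Γ(G.restrict W.ι, W.ι ⁻¹ᵁ V) from
          (res G (image_preimage_le W V) s))
    have e2 : (show Γ(G.restrict W.ι, W.ι ⁻¹ᵁ V') from
          (res G (image_preimage_le W V') (res G h s))) =
        res (G.restrict W.ι) hpre (show Γ(G.restrict W.ι, W.ι ⁻¹ᵁ V) from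
          (res G (image_preimage_le W V) s)) := by
      rw [res_res]
      exact (res_res G _ (W.ι.image_mono hpre) s).symm
    rw [e2, e1, res_res]
    exact res_res N (W.ι.image_mono hpre) _ _

theorem lhomOf_app {G N : X.Modules} {W : X.Opens} (φ : G.restrict W.ι ⟶ N.restrict W.ι)
    (V : X.Opens) (hV : V ≤ W) (s : Γ(G, V)) :
    (lhomOf φ).app V hV s = res N (le_image_preimage hV)
        ((φ.app (W.ι ⁻¹ᵁ V)) (show Γ(G.restrict W.ι, W.ι ⁻¹ᵁ V) from
          (res G (image_preimage_le W V) s))) := rfl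

/-- A linear map on the sections over an affine open extends to a local morphism. -/
theorem exists_lhom {G N : X.Modules} (hG : Coh.IsQCoh G) {W : X.Opens} (hW : IsAffineOpen W)
    (l : Γ(G, W) →ₗ[Γ(X, W)] Γ(N, W)) :
    ∃ φ : LHom G N W, ∀ s : Γ(G, W), φ.app W le_rfl s = l s := by
  obtain ⟨φ, hφ⟩ := Groth.Agent.CohqB.FinHom.exists_hom_restrict G N hW l
  refine ⟨lhomOf φ, fun s => ?_⟩
  rw [lhomOf_app]
  have hpre : W.ι ⁻¹ᵁ W = ⊤ := by
    ext x
    simp
  have key : ∀ (Z : (W : Scheme.{u}).Opens) (_ : Z = ⊤) (h1 : W ≤ W.ι ''ᵁ Z) (h2 : W.ι ''ᵁ Z ≤ W),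
      res N h1 ((φ.app Z) (show Γ(G.restrict W.ι, Z) from (res G h2 s))) = l s := by
    rintro _ rfl h1 h2
    have := hφ s
    refine (congrArg (res N h1) this).trans ?_
    exact (res_res N _ _ _).trans (res_rfl N _)
  exact key _ hpre _ _

/-- Uniqueness of extensions. -/
theorem hom_ext_of_dense {G N : X.Modules} (hG : Coh.IsQCoh G) {ι : Type u} (U : ι → X.Opens)
    (hU : iSup U = ⊤) (haff : ∀ i, IsAffineOpen (U i)) (T : X.Opens) (hT : ∀ i, T ≤ U i)
    (hinj : ∀ i, Function.Injective (res N (hT i))) (φ ψ : G ⟶ N)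
    (h : ∀ s : Γ(G, T), φ.app T s = ψ.app T s) : φ = ψ := by
  refine Groth.Agent.FormalB.ModPowAff2.hom_ext_of_affine_cover hG φ ψ fun x => ?_
  have hx : x ∈ iSup U := hU ▸ (trivial : x ∈ (⊤ : X.Opens))
  obtain ⟨i, hi⟩ := Opens.mem_iSup.mp hx
  refine ⟨U i, hi, haff i, fun s => hinj i ?_⟩
  rw [← res_app, ← res_app, h]

theorem exists_hom_of_dense {G N : X.Modules} (hG : Coh.IsQCoh G) {ι : Type u} (U : ι → X.Opens)
    (hU : iSup U = ⊤) (haff : ∀ i, IsAffineOpen (U i)) (haff2 : ∀ i j, IsAffineOpen (U i ⊓ U j))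
    (T : X.Opens) (hT : ∀ i, T ≤ U i) (hTf : ∀ i, ∃ f : Γ(X, U i), T = X.basicOpen f)
    (hinj : ∀ i j, Function.Injective (res N (le_inf (hT i) (hT j))))
    (l : Γ(G, T) →ₗ[Γ(X, T)] Γ(N, T))
    (hl : ∀ i (s : Γ(G, U i)), ∃ t : Γ(N, U i), res N (hT i) t = l (res G (hT i) s)) :
    ∃ φ : G ⟶ N, ∀ s : Γ(G, T), φ.app T s = l s := by
  classical
  have hinj' : ∀ i, Function.Injective (res N (hT i)) := by
    intro i s t hst
    have h1 : res N (inf_le_left : U i ⊓ U i ≤ U i) s = res N inf_le_left t := by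
      apply hinj i i
      rw [res_res, res_res]
      exact hst
    have h2 := congrArg (res N (le_inf le_rfl le_rfl : U i ≤ U i ⊓ U i)) h1
    rw [res_res, res_res, res_rfl, res_rfl] at h2
    exact h2
  choose t ht using hl
  let li : ∀ i, Γ(G, U i) →ₗ[Γ(X, U i)] Γ(N, U i) := fun i =>
    { toFun := t i
      map_add' := fun a b => by
        apply hinj' i
        rw [map_add (res N (hT i)), ht, ht, ht, map_add, map_add]
      map_smul' := fun r a => by
        apply hinj' i
        rw [RingHom.id_apply, ht, res_smul, res_smul, ht, _root_.map_smul] }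
  choose φi hφi using fun i => exists_lhom hG (haff i) (li i)
  -- on `T` all the `φi` are `l`
  have hTi : ∀ i (s : Γ(G, T)), (φi i).app T (hT i) s = l s := by
    intro i s
    obtain ⟨f, hf⟩ := hTf i
    obtain ⟨n, s', hs'⟩ := (isLocAt_of_isQCoh hG (haff i) f).surj' hf (hT i) s
    have e1 := (φi i).nat (U i) T (hT i) le_rfl s'
    have e2 : (φi i).app T (hT i) (res G (hT i) s') = l (res G (hT i) s') := by
      refine e1.trans ?_
      rw [hφi i]
      exact ht i s'
    rw [hs', _root_.map_smul, _root_.map_smul] at e2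
    exact ((isUnit_resO' f hf (hT i)).pow n).smul_left_cancel.mp e2
  obtain ⟨φ, hφ⟩ := exists_glue G N U hU φi (by
    intro i j V hi hj s
    refine lhom_ext hG (haff2 i j) inf_le_left inf_le_right (φi i) (φi j) ?_ (le_inf hi hj) s
    intro s
    apply hinj i j
    have e1 := (φi i).nat (U i ⊓ U j) T (le_inf (hT i) (hT j)) inf_le_left s
    have e2 := (φi j).nat (U i ⊓ U j) T (le_inf (hT i) (hT j)) inf_le_right s
    refine e1.symm.trans (Eq.trans ?_ e2)
    rw [hTi, hTi])
  obtain ⟨⟨i⟩⟩ | hι : Nonempty ι ∨ IsEmpty ι := (isEmpty_or_nonempty ι).symm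
  · exact ⟨φ, fun s => (hφ i T (hT i) s).trans (hTi i s)⟩
  · refine ⟨φ, fun s => ?_⟩
    have hbot : (⊤ : X.Opens) = ⊥ := by
      rw [← hU]
      exact iSup_of_empty U
    have hsub : Subsingleton Γ(N, T) := by
      refine ⟨fun a b => eq_of_locally_eq N (fun i : PEmpty.{1} => (⊥ : X.Opens)) T
        (fun i => i.elim) ?_ a b fun i => i.elim⟩
      intro x _
      have hx : x ∈ (⊤ : X.Opens) := trivial
      rw [hbot] at hx
      exact absurd hx (by simp)
    exact Subsingleton.elim _ _

end Groth.Agent.LoccohA.HomDense
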