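import Mathlib.CategoryTheory.Triangulated.HomologicalFunctor
import Mathlib.CategoryTheory.Triangulated.Yoneda
import Mathlib.Algebra.Homology.ShortComplex.Ab

/-!
# Four lemmas for a natural transformation between homological functors to abelian groups

For `τ : H₀ ⟶ H` between homological functors `C ⥤ Ab` on a pretriangulated category and a
distinguished triangle `T₁ → T₂ → T₃ → T₁⟦1⟧`, injectivity / surjectivity of `τ` at `T₁⟦1⟧`
from the neighbouring terms of `T₂ → T₃ → T₁⟦1⟧ → T₂⟦1⟧ → T₃⟦1⟧`.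
-/

set_option autoImplicit false

universe w v u

open CategoryTheory CategoryTheory.Limits CategoryTheory.Pretriangulated

namespace Groth.Agent.LoccohA.HomolFive

section

variable {C : Type u} [Category.{v} C] {H₀ H : C ⥤ AddCommGrpCat.{w}} (τ : H₀ ⟶ H)

lemma naturality_elem {X Y : C} (f : X ⟶ Y) (x : H₀.obj X) :
    τ.app Y (H₀.map f x) = H.map f (τ.app X x) :=
  NatTrans.naturality_apply τ f x

lemma bijective_of_iso {X Y : C} (e : X ≅ Y) (h : Function.Bijective (τ.app X)) :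
    Function.Bijective (τ.app Y) := by
  have h1 : (τ.app Y : H₀.obj Y → H.obj Y) = (H.map e.hom) ∘ (τ.app X) ∘ (H₀.map e.inv) := by
    funext y
    simp only [Function.comp_apply]
    rw [← naturality_elem, ← ConcreteCategory.comp_apply (H₀.map e.inv), ← Functor.map_comp,
      e.inv_hom_id, CategoryTheory.Functor.map_id]
    rfl
  rw [h1]
  refine Function.Bijective.comp ?_ (h.comp ?_)
  · exact (ConcreteCategory.isIso_iff_bijective (H.map e.hom)).1 inferInstance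
  · exact (ConcreteCategory.isIso_iff_bijective (H₀.map e.inv)).1 inferInstance

lemma injective_of_iso {X Y : C} (e : X ≅ Y) (h : Function.Injective (τ.app X)) :
    Function.Injective (τ.app Y) := by
  rw [injective_iff_map_eq_zero] at h ⊢
  intro y hy
  have h1 : H₀.map e.inv y = 0 := by
    apply h
    rw [naturality_elem, hy, map_zero]
  have h2 : H₀.map e.hom (H₀.map e.inv y) = y := by
    rw [← ConcreteCategory.comp_apply, ← Functor.map_comp, e.inv_hom_id,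
      CategoryTheory.Functor.map_id]
    rfl
  rw [← h2, h1, map_zero]

end

variable {C : Type u} [Category.{v} C] [Preadditive C] [HasZeroObject C] [HasShift C ℤ]
  [∀ n : ℤ, (shiftFunctor C n).Additive] [Pretriangulated C]
  (H : C ⥤ AddCommGrpCat.{w}) [H.IsHomological]

/-- Elementwise exactness of a homological functor. -/
lemma exact_elem (T : Triangle C) (hT : T ∈ distTriang C) (x : H.obj T.obj₂)
    (hx : H.map T.mor₂ x = 0) : ∃ y : H.obj T.obj₁, H.map T.mor₁ y = x :=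
  (ShortComplex.ab_exact_iff _).1 (H.map_distinguished_exact T hT) x hx

lemma comp_zero_elem (T : Triangle C) (hT : T ∈ distTriang C) (x : H.obj T.obj₁) :
    H.map T.mor₂ (H.map T.mor₁ x) = 0 := by
  rw [← ConcreteCategory.comp_apply, ← Functor.map_comp, comp_distTriang_mor_zero₁₂ T hT,
    Functor.map_zero]
  rfl

/-- Exactness at `T₃`. -/
lemma exact_elem₃ (T : Triangle C) (hT : T ∈ distTriang C) (x : H.obj T.obj₃)
    (hx : H.map T.mor₃ x = 0) : ∃ y : H.obj T.obj₂, H.map T.mor₂ y = x :=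
  exact_elem H T.rotate (rot_of_distTriang _ hT) x hx

/-- Exactness at `T₁⟦1⟧`. -/
lemma exact_elem₁ (T : Triangle C) (hT : T ∈ distTriang C) (x : H.obj (T.obj₁⟦(1 : ℤ)⟧))
    (hx : H.map (T.mor₁⟦(1 : ℤ)⟧') x = 0) : ∃ y : H.obj T.obj₃, H.map T.mor₃ y = x := by
  refine exact_elem H T.rotate.rotate (rot_of_distTriang _ (rot_of_distTriang _ hT)) x ?_
  change H.map (-T.mor₁⟦(1 : ℤ)⟧') x = 0
  rw [Functor.map_neg]
  change -(H.map (T.mor₁⟦(1 : ℤ)⟧') x) = 0
  rw [hx, neg_zero]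

/-- Exactness at `T₂⟦1⟧`. -/
lemma exact_elem₂ (T : Triangle C) (hT : T ∈ distTriang C) (x : H.obj (T.obj₂⟦(1 : ℤ)⟧))
    (hx : H.map (T.mor₂⟦(1 : ℤ)⟧') x = 0) :
    ∃ y : H.obj (T.obj₁⟦(1 : ℤ)⟧), H.map (T.mor₁⟦(1 : ℤ)⟧') y = x := by
  obtain ⟨y, hy⟩ := exact_elem₁ H T.rotate (rot_of_distTriang _ hT) x hx
  change H.map (-T.mor₁⟦(1 : ℤ)⟧') y = x at hy
  rw [Functor.map_neg] at hy
  let y' : H.obj (T.obj₁⟦(1 : ℤ)⟧) := y
  refine ⟨-y', ?_⟩
  rw [map_neg]
  exact hy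

variable {H} {H₀ : C ⥤ AddCommGrpCat.{w}} [H₀.IsHomological] (τ : H₀ ⟶ H)

/-- Injectivity at `T₁⟦1⟧`. -/
lemma injective_of_triangle (T : Triangle C) (hT : T ∈ distTriang C)
    (h₂ : Function.Surjective (τ.app T.obj₂)) (h₃ : Function.Injective (τ.app T.obj₃))
    (h₂' : Function.Injective (τ.app (T.obj₂⟦(1 : ℤ)⟧))) :
    Function.Injective (τ.app (T.obj₁⟦(1 : ℤ)⟧)) := by
  rw [injective_iff_map_eq_zero]
  intro x hx
  have h1 : H₀.map (T.mor₁⟦(1 : ℤ)⟧') x = 0 := by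
    apply h₂'
    rw [naturality_elem, hx, map_zero, map_zero]
  obtain ⟨y, rfl⟩ := exact_elem₁ H₀ T hT x h1
  rw [naturality_elem] at hx
  obtain ⟨z, hz⟩ := exact_elem₃ H T hT _ hx
  obtain ⟨z', rfl⟩ := h₂ z
  rw [← naturality_elem] at hz
  rw [← h₃ hz]
  exact comp_zero_elem H₀ T.rotate (rot_of_distTriang _ hT) z'

/-- Surjectivity at `T₁⟦1⟧`. -/
lemma surjective_of_triangle (T : Triangle C) (hT : T ∈ distTriang C)
    (h₃ : Function.Surjective (τ.app T.obj₃)) (h₂' : Function.Surjective (τ.app (T.obj₂⟦(1 : ℤ)⟧)))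
    (h₃' : Function.Injective (τ.app (T.obj₃⟦(1 : ℤ)⟧))) :
    Function.Surjective (τ.app (T.obj₁⟦(1 : ℤ)⟧)) := by
  intro x
  obtain ⟨y, hy⟩ := h₂' (H.map (T.mor₁⟦(1 : ℤ)⟧') x)
  have h1 : H₀.map (T.mor₂⟦(1 : ℤ)⟧') y = 0 := by
    apply h₃'
    rw [naturality_elem, hy, map_zero, ← ConcreteCategory.comp_apply, ← Functor.map_comp,
      ← Functor.map_comp, comp_distTriang_mor_zero₁₂ T hT, Functor.map_zero, Functor.map_zero]
    rfl
  obtain ⟨z, rfl⟩ := exact_elem₂ H₀ T hT y h1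
  rw [naturality_elem] at hy
  have h2 : H.map (T.mor₁⟦(1 : ℤ)⟧') (x - τ.app _ z) = 0 := by
    rw [map_sub, hy, sub_self]
  obtain ⟨y', hy'⟩ := exact_elem₁ H T hT _ h2
  obtain ⟨y'', rfl⟩ := h₃ y'
  refine ⟨z + H₀.map T.mor₃ y'', ?_⟩
  rw [map_add, naturality_elem, hy']
  abel

/-- Bijectivity at `T₁⟦1⟧`. -/
lemma bijective_of_triangle (T : Triangle C) (hT : T ∈ distTriang C)
    (h₂ : Function.Surjective (τ.app T.obj₂)) (h₃ : Function.Bijective (τ.app T.obj₃))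
    (h₂' : Function.Bijective (τ.app (T.obj₂⟦(1 : ℤ)⟧)))
    (h₃' : Function.Injective (τ.app (T.obj₃⟦(1 : ℤ)⟧))) :
    Function.Bijective (τ.app (T.obj₁⟦(1 : ℤ)⟧)) :=
  ⟨injective_of_triangle τ T hT h₂ h₃.1 h₂'.1, surjective_of_triangle τ T hT h₃.2 h₂'.2 h₃'⟩

end Groth.Agent.LoccohA.HomolFive
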