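import Groth.Prelude.Def_DRing2
import Mathlib.Algebra.Homology.DerivedCategory.SingleTriangle
import Mathlib.Algebra.Homology.HomotopyCategory.MappingCone
import Mathlib.CategoryTheory.Triangulated.Pretriangulated
import Mathlib.Algebra.Category.ModuleCat.Injective

/-!
# A module with a two-term injective resolution has injective amplitude in `[0, 1]`
-/

set_option autoImplicit false

universe u

open CategoryTheory CategoryTheory.Limits CategoryTheory.Pretriangulated

attribute [local instance] HasDerivedCategory.standard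

namespace Groth.Agent.LoccohA.InjAmpTriangle

section

variable {C : Type*} [Category C] [Abelian C] [HasDerivedCategory C]

/-- For a short exact sequence `0 → X₁ → X₂ → X₃ → 0`, the object `X₁` of the derived category is
isomorphic to the shifted mapping cone of `X₂[0] → X₃[0]`. -/
theorem nonempty_iso_cone_shift (S : ShortComplex C) (hS : S.ShortExact) :
    Nonempty (DerivedCategory.Q.obj ((CochainComplex.mappingCone
      ((CochainComplex.singleFunctor C 0).map S.g))⟦(-1 : ℤ)⟧) ≅
        (DerivedCategory.singleFunctor C 0).obj S.X₁) := by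
  let φ := (CochainComplex.singleFunctor C 0).map S.g
  let e := (SingleFunctors.evaluation _ _ 0).mapIso
    (DerivedCategory.singleFunctorsPostcompQIso C)
  have h₁ := rot_of_distTriang _ hS.singleTriangle_distinguished
  have h₂ := DerivedCategory.mappingCone_triangle_distinguished φ
  obtain ⟨e', -⟩ := exists_iso_of_arrow_iso _ _ h₁ h₂
    (Arrow.isoMk (e.app S.X₂) (e.app S.X₃) (e.hom.naturality S.g).symm)
  have e₃ : ((DerivedCategory.singleFunctor C 0).obj S.X₁)⟦(1 : ℤ)⟧ ≅
      DerivedCategory.Q.obj (CochainComplex.mappingCone φ) := Triangle.π₃.mapIso e'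
  exact ⟨(DerivedCategory.Q.commShiftIso (-1 : ℤ)).app _ ≪≫
    (shiftFunctor (DerivedCategory C) (-1 : ℤ)).mapIso e₃.symm ≪≫
    (shiftFunctorCompIsoId (DerivedCategory C) (1 : ℤ) (-1 : ℤ) (by simp)).app _⟩

end

/-- A module with a two-term injective resolution has injective amplitude in `[0, 1]`. -/
theorem hasInjAmplitudeIn_of_shortExact (B : Type u) [CommRing B]
    (S : ShortComplex (ModuleCat.{u} B)) (hS : S.ShortExact) [Injective S.X₂] [Injective S.X₃] :
    DRing.HasInjAmplitudeIn B 0 1 ((DerivedCategory.singleFunctor (ModuleCat.{u} B) 0).obj S.X₁) := by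
  let φ := (CochainComplex.singleFunctor (ModuleCat.{u} B) 0).map S.g
  have key : ∀ i : ℤ, ((CochainComplex.mappingCone φ)⟦(-1 : ℤ)⟧).X i ≅
      (((CochainComplex.singleFunctor (ModuleCat.{u} B) 0).obj S.X₂).X (i + -1 + 1)) ⊞
      (((CochainComplex.singleFunctor (ModuleCat.{u} B) 0).obj S.X₃).X (i + -1)) := fun i =>
    HomologicalComplex.homotopyCofiber.XIsoBiprod φ (i + -1) (i + -1 + 1) (by simp)
  have hz : ∀ (M : ModuleCat.{u} B) (j : ℤ), j ≠ 0 →
      IsZero (((CochainComplex.singleFunctor (ModuleCat.{u} B) 0).obj M).X j) := fun M j hj =>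
    HomologicalComplex.isZero_single_obj_X (ComplexShape.up ℤ) 0 M j hj
  have hinj : ∀ (M : ModuleCat.{u} B) [Injective M] (j : ℤ),
      Injective (((CochainComplex.singleFunctor (ModuleCat.{u} B) 0).obj M).X j) := fun M _ j => by
    by_cases hj : j = 0
    · subst hj
      exact Injective.of_iso (HomologicalComplex.singleObjXSelf (ComplexShape.up ℤ) 0 M).symm
        inferInstance
    · exact IsZero.injective (hz M j hj)
  refine ⟨(CochainComplex.mappingCone φ)⟦(-1 : ℤ)⟧, ?_, ?_, nonempty_iso_cone_shift S hS⟩
  · intro i hi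
    refine IsZero.of_iso ?_ (key i)
    rw [biprod_isZero_iff]
    exact ⟨hz _ _ (by omega), hz _ _ (by omega)⟩
  · intro i
    have h1 := hinj S.X₂ (i + -1 + 1)
    have h2 := hinj S.X₃ (i + -1)
    have h3 : Injective (((CochainComplex.mappingCone φ)⟦(-1 : ℤ)⟧).X i) :=
      Injective.of_iso (key i).symm inferInstance
    exact Module.injective_module_of_injective_object B _

end Groth.Agent.LoccohA.InjAmpTriangle
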