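import Mathlib.Algebra.Module.Injective
import Mathlib.RingTheory.Noetherian.Basic
import Mathlib.RingTheory.Ideal.Prime
import Mathlib.LinearAlgebra.LinearPMap

/-!
# A criterion for injectivity over a Noetherian ring, checked at primes

`good_of_forall_prime`: over a Noetherian ring `B`, a module `X` is injective (Baer) as soon as for every prime
`q` there is an ideal `J ≤ q` with `f q ⊆ J` for some `f ∉ q`, such that all linear maps `J → X` extend to `B`.
-/

set_option autoImplicit false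
universe u v

namespace Groth.Agent.LoccohA.InjCrit

variable {B : Type u} [CommRing B] {X : Type v} [AddCommGroup X] [Module B X]

/-- Every linear map `J → X` extends to `B`. -/
def Good (X : Type v) [AddCommGroup X] [Module B X] (J : Ideal B) : Prop :=
  ∀ φ : J →ₗ[B] X, ∃ ψ : B →ₗ[B] X, ∀ (x : B) (hx : x ∈ J), ψ x = φ ⟨x, hx⟩

/-- Extending a map from an ideal `J` to `J ⊔ (a)`. -/
theorem exists_extend_sup (J : Ideal B) (a : B) (φ : J →ₗ[B] X) (xa : X)
    (h : ∀ (c : B) (hc : c * a ∈ J), φ ⟨c * a, hc⟩ = c • xa) :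
    ∃ φ' : (J ⊔ Ideal.span {a} : Ideal B) →ₗ[B] X,
      ∀ (x : B) (hx : x ∈ J), φ' ⟨x, (le_sup_left : J ≤ J ⊔ Ideal.span {a}) hx⟩ = φ ⟨x, hx⟩ := by
  have H : ∀ c : B, c • a = 0 → (RingHom.id B) c • xa = 0 := by
    intro c hc
    rw [smul_eq_mul] at hc
    rw [RingHom.id_apply, ← h c (by rw [hc]; exact J.zero_mem)]
    have : (⟨c * a, by rw [hc]; exact J.zero_mem⟩ : J) = 0 := Subtype.ext hc
    rw [this, map_zero]
  let f : B →ₗ.[B] X := ⟨J, φ⟩
  let g : B →ₗ.[B] X := LinearPMap.mkSpanSingleton' a xa H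
  have hfg : ∀ (x : f.domain) (y : g.domain), (x : B) = y → f x = g y := by
    rintro ⟨x, hx⟩ ⟨y, hy⟩ hxy
    obtain ⟨c, rfl⟩ := Submodule.mem_span_singleton.mp hy
    have hx' : c * a ∈ J := by
      have : x = c • a := hxy
      rw [smul_eq_mul] at this
      rw [← this]; exact hx
    have h1 : g ⟨c • a, hy⟩ = c • xa := LinearPMap.mkSpanSingleton'_apply a xa H c hy
    rw [h1, ← h c hx']
    have : x = c * a := hxy
    subst this
    rfl
  refine ⟨(f.sup g hfg).toFun, fun x hx => ?_⟩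
  have := (LinearPMap.left_le_sup f g hfg).2 (x := ⟨x, hx⟩)
    (y := ⟨x, (le_sup_left : J ≤ J ⊔ Ideal.span {a}) hx⟩) rfl
  exact this.symm

theorem good_of_good_sup (J : Ideal B) (a : B) (hJ : Good X (J ⊔ Ideal.span {a}))
    (φ : J →ₗ[B] X) (xa : X) (h : ∀ (c : B) (hc : c * a ∈ J), φ ⟨c * a, hc⟩ = c • xa) :
    ∃ ψ : B →ₗ[B] X, ∀ (x : B) (hx : x ∈ J), ψ x = φ ⟨x, hx⟩ := by
  obtain ⟨φ', hφ'⟩ := exists_extend_sup J a φ xa h
  obtain ⟨ψ, hψ⟩ := hJ φ'
  exact ⟨ψ, fun x hx => by rw [hψ x ((le_sup_left : J ≤ J ⊔ Ideal.span {a}) hx), hφ']⟩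

theorem good_top : Good X (⊤ : Ideal B) := by
  intro φ
  refine ⟨LinearMap.toSpanSingleton B X (φ ⟨1, trivial⟩), fun x hx => ?_⟩
  rw [LinearMap.toSpanSingleton_apply, ← map_smul]
  congr 1
  apply Subtype.ext
  simp

/-- The prime criterion for injectivity. -/
theorem good_of_forall_prime [IsNoetherianRing B]
    (h : ∀ q : Ideal B, q.IsPrime → ∃ J : Ideal B, J ≤ q ∧
      (∃ f, f ∉ q ∧ ∀ x ∈ q, f * x ∈ J) ∧ Good X J) (J : Ideal B) : Good X J := by
  induction J using WellFoundedGT.induction with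
  | ind J ih =>
    by_cases htop : J = ⊤
    · rw [htop]; exact good_top
    by_cases hprime : J.IsPrime
    · intro φ
      obtain ⟨J', hJ', ⟨f, hf, hfJ'⟩, hgood⟩ := h J hprime
      obtain ⟨ψ, hψ⟩ := hgood (φ.comp (Submodule.inclusion hJ'))
      let φ₁ : J →ₗ[B] X := φ - ψ.comp J.subtype
      have hφ₁ : ∀ (x : B) (hx : x ∈ J), f • φ₁ ⟨x, hx⟩ = 0 := by
        intro x hx
        rw [← map_smul]
        have : f • (⟨x, hx⟩ : J) = Submodule.inclusion hJ' ⟨f * x, hfJ' x hx⟩ := Subtype.ext rfl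
        rw [this]
        simp only [φ₁, LinearMap.sub_apply, LinearMap.comp_apply]
        rw [← LinearMap.comp_apply, ← hψ (f * x) (hfJ' x hx), sub_eq_zero]
        rfl
      have hlt : J < J ⊔ Ideal.span {f} := by
        refine lt_of_le_of_ne le_sup_left fun heq => hf ?_
        rw [heq]
        exact Ideal.mem_sup_right (Ideal.mem_span_singleton_self f)
      obtain ⟨ψ₁, hψ₁⟩ := good_of_good_sup J f (ih _ hlt) φ₁ 0 (by
        intro c hc
        have hcJ : c ∈ J := (hprime.mem_or_mem hc).resolve_right hf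
        have : (⟨c * f, hc⟩ : J) = f • ⟨c, hcJ⟩ := Subtype.ext (mul_comm c f)
        rw [this, map_smul, hφ₁ c hcJ, smul_zero])
      refine ⟨ψ₁ + ψ, fun x hx => ?_⟩
      rw [LinearMap.add_apply, hψ₁ x hx]
      simp [φ₁]
    · obtain ⟨a, ha, b, hb, hab⟩ : ∃ a, a ∉ J ∧ ∃ b, b ∉ J ∧ a * b ∈ J := by
        rw [Ideal.isPrime_iff] at hprime
        push Not at hprime
        obtain ⟨a, b, hab, ha, hb⟩ := hprime htop
        exact ⟨a, ha, b, hb, hab⟩
      intro φ
      -- the colon ideal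
      let K : Ideal B := Submodule.comap (LinearMap.lsmul B B a) J
      have hK : ∀ c, c ∈ K ↔ c * a ∈ J := fun c => by
        simp [K, mul_comm]
      have hJK : J < K := by
        refine lt_of_le_of_ne (fun x hx => (hK x).mpr (J.mul_mem_right a hx)) fun heq => hb ?_
        rw [heq, hK, mul_comm]
        exact hab
      let mulA : K →ₗ[B] J :=
        { toFun := fun c => ⟨c * a, (hK c).mp c.2⟩
          map_add' := fun x y => Subtype.ext (add_mul _ _ _)
          map_smul' := fun r x => Subtype.ext (mul_assoc _ _ _) }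
      obtain ⟨χ, hχ⟩ := ih K hJK (φ.comp mulA)
      have hlt : J < J ⊔ Ideal.span {a} := by
        refine lt_of_le_of_ne le_sup_left fun heq => ha ?_
        rw [heq]
        exact Ideal.mem_sup_right (Ideal.mem_span_singleton_self a)
      exact good_of_good_sup J a (ih _ hlt) φ (χ 1) fun c hc => by
        have h1 := hχ c ((hK c).mpr hc)
        rw [← map_smul, smul_eq_mul, mul_one, h1]
        rfl

/-- The prime criterion for injectivity, in terms of `Module.Injective`. -/
theorem injective_of_forall_prime [IsNoetherianRing B] [Small.{v} B]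
    (h : ∀ q : Ideal B, q.IsPrime → ∃ J : Ideal B, J ≤ q ∧
      (∃ f, f ∉ q ∧ ∀ x ∈ q, f * x ∈ J) ∧ Good X J) : Module.Injective B X :=
  Module.Baer.injective fun J φ => good_of_forall_prime h J φ

/-- Baer's criterion in terms of `Good`. -/
theorem good_of_injective [Small.{v} B] (hX : Module.Injective B X) (J : Ideal B) : Good X J :=
  fun φ => Module.Baer.of_injective hX J φ

end Groth.Agent.LoccohA.InjCrit
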