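import Mathlib.Algebra.Module.Injective
import Mathlib.Algebra.Polynomial.Module.AEval
import Mathlib.RingTheory.Noetherian.Basic
import Mathlib.LinearAlgebra.DirectSum.Finsupp
import Mathlib.LinearAlgebra.FreeModule.Basic
import Mathlib.RingTheory.TensorProduct.Basic

/-!
# Injective modules: direct sums over Noetherian rings, coinduction along `A → A[X]`

* `injective_finsupp`: over a Noetherian ring, `ι →₀ E` is injective when `E` is.
* `injective_dfinsupp`: the same for direct sums of arbitrary families.
* `Seq M`: the `A[X]`-module of sequences in `M` with `X` acting by the shift (`= Hom_A(A[X], M)`).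
* `seq_injective`: `Seq M` is an injective `A[X]`-module if `M` is an injective `A`-module.
* `seqι`, `seqδ`: for an `A[X]`-module `M` the exact sequence `0 → M → Seq M → Seq M → 0`.
-/

set_option autoImplicit false

universe u

namespace Groth.Agent.LoccohA.InjPoly

open Polynomial

section BassPapp

variable {A : Type u} [CommRing A] [IsNoetherianRing A]

/-- Over a Noetherian ring a direct sum of injective modules is injective (**Bass–Papp**). -/
theorem injective_dfinsupp {ι : Type u} (E : ι → Type u) [∀ i, AddCommGroup (E i)]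
    [∀ i, Module A (E i)] [∀ i, Module.Injective A (E i)] : Module.Injective A (Π₀ i, E i) := by
  classical
  refine Module.Baer.injective fun I g => ?_
  have hE : ∀ i, Module.Baer A (E i) := fun i => Module.Baer.of_injective inferInstance
  -- components
  choose h hh using fun i => hE i I ((DFinsupp.lapply i) ∘ₗ g)
  -- finite support
  obtain ⟨T, hT⟩ := (isNoetherian_def.mp (inferInstance : IsNoetherian A I) ⊤ :
    (⊤ : Submodule A I).FG)
  let F : Finset ι := T.biUnion fun t => (g t).support
  have hF : ∀ (x : I) (i : ι), i ∉ F → g x i = 0 := by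
    intro x i hi
    have hx : x ∈ (⊤ : Submodule A I) := trivial
    rw [← hT] at hx
    induction hx using Submodule.span_induction with
    | mem t ht =>
      by_contra hne
      exact hi (Finset.mem_biUnion.mpr ⟨t, ht, (DFinsupp.mem_support_iff).mpr hne⟩)
    | zero => simp
    | add x y _ _ hx hy => simp [hx, hy]
    | smul a x _ hx => simp [hx]
  refine ⟨∑ i ∈ F, (DFinsupp.lsingle i) ∘ₗ h i, fun x mem => ?_⟩
  ext i
  rw [LinearMap.sum_apply, DFinsupp.finsetSum_apply]
  simp only [LinearMap.comp_apply, DFinsupp.lsingle_apply, DFinsupp.single_apply]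
  by_cases hi : i ∈ F
  · rw [Finset.sum_eq_single i]
    · simp only [dif_pos]
      exact hh i x mem
    · intro j _ hj
      rw [dif_neg hj]
    · intro h
      exact absurd hi h
  · rw [Finset.sum_eq_zero]
    · exact (hF ⟨x, mem⟩ i hi).symm
    · intro j hj
      rw [dif_neg]
      rintro rfl
      exact hi hj

theorem injective_of_equiv {R : Type u} [CommRing R] {M N : Type u} [AddCommGroup M] [Module R M]
    [AddCommGroup N] [Module R N] (e : M ≃ₗ[R] N) (h : Module.Injective R M) :
    Module.Injective R N :=
  ((Module.Baer.of_injective h).of_equiv e).injective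

/-- Over a Noetherian ring `ι →₀ E` is injective when `E` is. -/
theorem injective_finsupp (ι : Type u) (E : Type u) [AddCommGroup E]
    [Module A E] [Module.Injective A E] : Module.Injective A (ι →₀ E) := by
  classical
  exact injective_of_equiv (finsuppLequivDFinsupp A (M := E) (ι := ι)).symm
    (injective_dfinsupp fun _ : ι => E)

open TensorProduct in
/-- Over a Noetherian ring `F ⊗ E` is injective when `F` is free and `E` is injective. -/
theorem injective_tensorProduct_free (F : Type u) [AddCommGroup F] [Module A F] [Module.Free A F]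
    (E : Type u) [AddCommGroup E] [Module A E] [Module.Injective A E] :
    Module.Injective A (F ⊗[A] E) := by
  classical
  let b := Module.Free.chooseBasis A F
  let e : F ⊗[A] E ≃ₗ[A] (Module.Free.ChooseBasisIndex A F →₀ E) :=
    (TensorProduct.congr b.repr (LinearEquiv.refl A E)) ≪≫ₗ
      TensorProduct.finsuppScalarLeft A E _
  exact injective_of_equiv e.symm (injective_finsupp _ E)

end BassPapp

section Seq

variable {A : Type u} [CommRing A]

/-- An additive map between `A[X]`-modules commuting with `A` and `X` is `A[X]`-linear. -/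
noncomputable def mkLinear {N P : Type*} [AddCommGroup N] [Module A N] [Module A[X] N] [IsScalarTower A A[X] N]
    [AddCommGroup P] [Module A P] [Module A[X] P] [IsScalarTower A A[X] P] (f : N →ₗ[A] P)
    (hf : ∀ n, f ((X : A[X]) • n) = (X : A[X]) • f n) : N →ₗ[A[X]] P where
  toFun := f
  map_add' := f.map_add
  map_smul' p n := by
    simp only [RingHom.id_apply]
    induction p using Polynomial.induction_on' with
    | add p q hp hq => rw [add_smul, map_add, hp, hq, add_smul]
    | monomial k a =>
      have h1 : ∀ m, f ((X : A[X]) ^ k • m) = (X : A[X]) ^ k • f m := by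
        induction k with
        | zero => simp
        | succ k ih => intro m; rw [pow_succ, mul_smul, mul_smul, ih, hf]
      rw [← C_mul_X_pow_eq_monomial, mul_smul, mul_smul]
      rw [← Polynomial.algebraMap_eq, algebraMap_smul, algebraMap_smul, map_smul, h1]

@[simp] theorem mkLinear_apply {N P : Type*} [AddCommGroup N] [Module A N] [Module A[X] N]
    [IsScalarTower A A[X] N]
    [AddCommGroup P] [Module A P] [Module A[X] P] [IsScalarTower A A[X] P] (f : N →ₗ[A] P)
    (hf : ∀ n, f ((X : A[X]) • n) = (X : A[X]) • f n) (n : N) : mkLinear f hf n = f n := rfl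

/-- The shift on sequences. -/
noncomputable def shift (A : Type u) [CommRing A] (M : Type*) [AddCommGroup M] [Module A M] :
    (ℕ → M) →ₗ[A] (ℕ → M) where
  toFun s n := s (n + 1)
  map_add' _ _ := rfl
  map_smul' _ _ := rfl

/-- The `A[X]`-module of sequences in `M`, where `X` acts as the shift. -/
abbrev Seq (A : Type u) [CommRing A] (M : Type*) [AddCommGroup M] [Module A M] :=
  Module.AEval' (shift A M)

/-- the elements of `Seq A M` are sequences. -/
noncomputable abbrev ofSeq (A : Type u) [CommRing A] (M : Type*) [AddCommGroup M] [Module A M] :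
    (ℕ → M) ≃ₗ[A] Seq A M := Module.AEval'.of (shift A M)

theorem X_smul_ofSeq (M : Type*) [AddCommGroup M] [Module A M] (s : ℕ → M) :
    (X : A[X]) • ofSeq A M s = ofSeq A M (fun n => s (n + 1)) :=
  Module.AEval'.X_smul_of _ _

/-- `Seq A M` is an injective `A[X]`-module if `M` is an injective `A`-module. -/
theorem seq_injective (M : Type u) [AddCommGroup M] [Module A M] [Module.Injective A M] :
    Module.Injective A[X] (Seq A M) where
  out N P _ _ _ _ i hi g := by
    let _ : Module A N := Module.compHom N (algebraMap A A[X])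
    let _ : Module A P := Module.compHom P (algebraMap A A[X])
    have : IsScalarTower A A[X] N := ⟨fun a p n => by
      change (a • p) • n = (algebraMap A A[X] a) • (p • n)
      rw [← mul_smul, Algebra.smul_def]⟩
    have : IsScalarTower A A[X] P := ⟨fun a p n => by
      change (a • p) • n = (algebraMap A A[X] a) • (p • n)
      rw [← mul_smul, Algebra.smul_def]⟩
    let g₀ : N →ₗ[A] M := (LinearMap.proj 0 ∘ₗ (ofSeq A M).symm.toLinearMap) ∘ₗ
      (g.restrictScalars A)
    have h1 : Module.Injective A M := inferInstance
    obtain ⟨h₀, hh₀⟩ := h1.out (i.restrictScalars A) hi g₀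
    let h' : P →ₗ[A] Seq A M := (ofSeq A M).toLinearMap ∘ₗ
      (LinearMap.pi fun n => h₀ ∘ₗ (Algebra.lsmul A A P ((X : A[X]) ^ n)))
    have h'X : ∀ n, h' ((X : A[X]) • n) = (X : A[X]) • h' n := by
      intro n
      have h2 : h' n = ofSeq A M (fun k => h₀ ((X : A[X]) ^ k • n)) := rfl
      have h3 : h' ((X : A[X]) • n) = ofSeq A M (fun k => h₀ ((X : A[X]) ^ k • (X : A[X]) • n)) := rfl
      rw [h2, h3, X_smul_ofSeq]
      congr 1
      funext k
      rw [pow_succ, mul_smul]
    refine ⟨mkLinear h' h'X, fun x => ?_⟩
    rw [mkLinear_apply]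
    apply (ofSeq A M).symm.injective
    funext k
    have h2 : (ofSeq A M).symm (h' (i x)) k = h₀ ((X : A[X]) ^ k • i x) := rfl
    rw [h2, ← map_smul]
    have h3 : h₀ (i ((X : A[X]) ^ k • x)) = g₀ ((X : A[X]) ^ k • x) := hh₀ _
    rw [h3]
    have h4 : ∀ (k : ℕ) (y : N), g₀ ((X : A[X]) ^ k • y) = (ofSeq A M).symm (g y) k := by
      intro k
      induction k with
      | zero => intro y; simp [g₀]
      | succ k ih =>
        intro y
        rw [pow_succ, mul_smul, ih, map_smul]
        obtain ⟨s, hs⟩ := (ofSeq A M).surjective (g y)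
        rw [← hs, X_smul_ofSeq]
        simp
    exact h4 k x

variable (M : Type u) [AddCommGroup M] [Module A M] [Module A[X] M] [IsScalarTower A A[X] M]

/-- The map `M → Seq M`, `m ↦ (X^k m)_k`. -/
noncomputable def seqι : M →ₗ[A[X]] Seq A M :=
  mkLinear ((ofSeq A M).toLinearMap ∘ₗ
      (LinearMap.pi fun n => (Algebra.lsmul A A M ((X : A[X]) ^ n)))) fun m => by
    change ofSeq A M (fun k => (X : A[X]) ^ k • (X : A[X]) • m) =
      (X : A[X]) • ofSeq A M (fun k => (X : A[X]) ^ k • m)
    rw [X_smul_ofSeq]
    congr 1
    funext k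
    rw [pow_succ, mul_smul]

theorem seqι_apply (m : M) : seqι (A := A) M m = ofSeq A M (fun k => (X : A[X]) ^ k • m) := rfl

/-- The map `Seq M → Seq M`, `(e_k)_k ↦ (e_{k+1} - X e_k)_k`. -/
noncomputable def seqδ : Seq A M →ₗ[A[X]] Seq A M :=
  mkLinear ((ofSeq A M).toLinearMap ∘ₗ
      (LinearMap.pi fun n => (LinearMap.proj (n + 1) : (ℕ → M) →ₗ[A] M) -
        (Algebra.lsmul A A M (X : A[X])) ∘ₗ (LinearMap.proj n : (ℕ → M) →ₗ[A] M)) ∘ₗ
      (ofSeq A M).symm.toLinearMap) fun m => by
    obtain ⟨s, rfl⟩ := (ofSeq A M).surjective m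
    rw [X_smul_ofSeq]
    simp only [LinearMap.comp_apply, LinearEquiv.coe_coe, LinearEquiv.symm_apply_apply]
    rw [X_smul_ofSeq]
    rfl

theorem seqδ_apply (s : ℕ → M) : seqδ (A := A) M (ofSeq A M s) =
    ofSeq A M (fun k => s (k + 1) - (X : A[X]) • s k) := rfl

theorem seqι_injective : Function.Injective (seqι (A := A) M) := by
  intro x y h
  rw [seqι_apply, seqι_apply] at h
  have := congrFun ((ofSeq A M).injective h) 0
  simpa using this

theorem seqδ_surjective : Function.Surjective (seqδ (A := A) M) := by
  intro y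
  obtain ⟨t, rfl⟩ := (ofSeq A M).surjective y
  let s : ℕ → M := fun n => Nat.rec 0 (fun k e => t k + (X : A[X]) • e) n
  refine ⟨ofSeq A M s, ?_⟩
  rw [seqδ_apply]
  congr 1
  funext k
  have : s (k + 1) = t k + (X : A[X]) • s k := rfl
  rw [this]
  abel

theorem seq_exact : Function.Exact (seqι (A := A) M) (seqδ (A := A) M) := by
  intro y
  obtain ⟨s, rfl⟩ := (ofSeq A M).surjective y
  constructor
  · intro h
    rw [seqδ_apply] at h
    have h1 : ∀ k, s (k + 1) = (X : A[X]) • s k := by
      intro k
      have := congrFun ((ofSeq A M).injective (h.trans (map_zero (ofSeq A M)).symm)) k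
      exact sub_eq_zero.mp this
    refine ⟨s 0, ?_⟩
    rw [seqι_apply]
    congr 1
    funext k
    induction k with
    | zero => simp
    | succ k ih => rw [h1, ← ih, pow_succ', mul_smul]
  · rintro ⟨m, hm⟩
    rw [← hm, seqι_apply, seqδ_apply]
    have : (fun k => (X : A[X]) ^ (k + 1) • m - (X : A[X]) • (X : A[X]) ^ k • m) = 0 := by
      funext k
      rw [pow_succ', mul_smul, sub_self]
      rfl
    rw [this, map_zero]

end Seq

end Groth.Agent.LoccohA.InjPoly
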