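import Groth.Agent.LoccohA.ChevalleyAdic
import Mathlib.RingTheory.Ideal.KrullsHeightTheorem
import Mathlib.RingTheory.Ideal.AssociatedPrime.Basic
import Mathlib.RingTheory.Ideal.MinimalPrime.Localization

/-!
# The algebraic core of Kollár's finiteness criterion

`core`: `D` Noetherian domain, `I` an ideal, `0 ≠ f ∈ I`.  If at every prime `q ⊇ I` there is a
complete local ring `B` over `D_q` ("completion datum") all of whose associated primes have
dimension at least two, then for some `n` every `x` with `I^k x ⊆ f^(n+1) D` lies in `f D`.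
-/

set_option autoImplicit false

namespace Groth.Agent.LoccohA.KollarCore

open IsLocalRing

/-- The ideal of all `x` with `I^k x ⊆ f^n D` for some `k`. -/
def J {D : Type*} [CommRing D] (I : Ideal D) (f : D) (n : ℕ) : Ideal D where
  carrier := {x | ∃ k : ℕ, ∀ a ∈ I ^ k, f ^ n ∣ a * x}
  zero_mem' := ⟨0, fun a _ => by simp⟩
  add_mem' := by
    rintro x y ⟨k, hk⟩ ⟨l, hl⟩
    refine ⟨k + l, fun a ha => ?_⟩
    rw [mul_add]
    exact dvd_add (hk a (Ideal.pow_le_pow_right (Nat.le_add_right k l) ha))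
      (hl a (Ideal.pow_le_pow_right (Nat.le_add_left l k) ha))
  smul_mem' := by
    rintro c x ⟨k, hk⟩
    refine ⟨k, fun a ha => ?_⟩
    have : a * (c • x) = c * (a * x) := by simp only [smul_eq_mul]; ring
    rw [this]
    exact Dvd.dvd.mul_left (hk a ha) c

theorem mem_J {D : Type*} [CommRing D] (I : Ideal D) (f : D) (n : ℕ) (x : D) :
    x ∈ J I f n ↔ ∃ k : ℕ, ∀ a ∈ I ^ k, f ^ n ∣ a * x := Iff.rfl

theorem J_antitone {D : Type*} [CommRing D] (I : Ideal D) (f : D) : Antitone (J I f) := by
  intro m n hmn x hx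
  obtain ⟨k, hk⟩ := hx
  exact ⟨k, fun a ha => (pow_dvd_pow f hmn).trans (hk a ha)⟩

/-- `B` is a completion of `D` at the prime `q` (in a weak sense). -/
structure Cpl {D : Type*} [CommRing D] (q : Ideal D) (B : Type*) [CommRing B]
    [IsLocalRing B] [Algebra D B] : Prop where
  noeth : IsNoetherianRing B
  precomplete : IsPrecomplete (maximalIdeal B) B
  map_eq : q.map (algebraMap D B) = maximalIdeal B
  pow : ∀ (k : ℕ) (x : D), algebraMap D B x ∈ maximalIdeal B ^ k → ∃ s ∉ q, s * x ∈ q ^ k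

theorem Cpl.mem_iff {D : Type*} [CommRing D] {q : Ideal D} [hq : q.IsPrime] {B : Type*}
    [CommRing B] [IsLocalRing B] [Algebra D B] (h : Cpl q B) (x : D) :
    algebraMap D B x ∈ maximalIdeal B ↔ x ∈ q := by
  constructor
  · intro hx
    obtain ⟨s, hs, hsx⟩ := h.pow 1 x (by simpa using hx)
    rw [pow_one] at hsx
    exact (hq.mem_or_mem hsx).resolve_left hs
  · intro hx
    rw [← h.map_eq]
    exact Ideal.mem_map_of_mem _ hx

/-- in a Noetherian local ring, between `P + (f)` and the maximal ideal there is a prime different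
from the maximal ideal when `dim B/P ≥ 2`. -/
theorem exists_prime {B : Type*} [CommRing B] [IsNoetherianRing B] [IsLocalRing B] (P : Ideal B)
    [hP : P.IsPrime] (hdim : 2 ≤ ringKrullDim (B ⧸ P)) (f : B) (hf : f ∈ maximalIdeal B) :
    ∃ Q : Ideal B, Q.IsPrime ∧ P ≤ Q ∧ f ∈ Q ∧ Q ≠ maximalIdeal B := by
  by_contra hcon
  push Not at hcon
  have hPm : P ≤ maximalIdeal B := IsLocalRing.le_maximalIdeal hP.ne_top
  have hnt : Nontrivial (B ⧸ P) := Ideal.Quotient.nontrivial_iff.mpr hP.ne_top
  have : IsLocalRing (B ⧸ P) :=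
    IsLocalRing.of_surjective' (Ideal.Quotient.mk P) Ideal.Quotient.mk_surjective
  have hmax : (maximalIdeal (B ⧸ P)) ∈
      (Ideal.span {Ideal.Quotient.mk P f}).minimalPrimes := by
    constructor
    · refine ⟨inferInstance, ?_⟩
      rw [Ideal.span_singleton_le_iff_mem]
      by_contra hu
      have hu' : IsUnit (Ideal.Quotient.mk P f) := by simpa using hu
      obtain ⟨g, hg⟩ := Ideal.Quotient.mk_surjective (I := P) ((hu'.unit⁻¹ : (B ⧸ P)ˣ) : B ⧸ P)
      have h1 : Ideal.Quotient.mk P (f * g - 1) = 0 := by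
        rw [map_sub, map_mul, hg, map_one, IsUnit.mul_val_inv, sub_self]
      have h2 := Ideal.Quotient.eq_zero_iff_mem.mp h1
      have h3 : (1 : B) ∈ maximalIdeal B := by
        have h4 := Ideal.mul_mem_right g _ hf
        have h5 := (maximalIdeal B).sub_mem h4 (hPm h2)
        rwa [sub_sub_cancel] at h5
      exact (Ideal.ne_top_iff_one _).mp (Ideal.IsPrime.ne_top inferInstance) h3
    · intro Q ⟨hQp, hQ⟩ _
      have hQ' := hcon (Q.comap (Ideal.Quotient.mk P)) inferInstance
        (by
          intro x hx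
          rw [Ideal.mem_comap, Ideal.Quotient.eq_zero_iff_mem.mpr hx]
          exact zero_mem _)
        (hQ (Ideal.mem_span_singleton_self _))
      have h6 : Q = (maximalIdeal B).map (Ideal.Quotient.mk P) := by
        rw [← hQ', Ideal.map_comap_of_surjective _ Ideal.Quotient.mk_surjective]
      have h7 : ((maximalIdeal B).map (Ideal.Quotient.mk P)).IsMaximal := by
        refine (Ideal.map_eq_top_or_isMaximal_of_surjective (Ideal.Quotient.mk P)
          Ideal.Quotient.mk_surjective inferInstance).resolve_left ?_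
        rw [← h6]
        exact hQp.ne_top
      rw [h6, IsLocalRing.eq_maximalIdeal h7]
  have h8 := Ideal.height_le_one_of_isPrincipal_of_mem_minimalPrimes
    (Ideal.span {Ideal.Quotient.mk P f}) (maximalIdeal (B ⧸ P)) hmax
  rw [← IsLocalRing.maximalIdeal_height_eq_ringKrullDim] at hdim
  have h9 : (2 : ℕ∞) ≤ (maximalIdeal (B ⧸ P)).height := WithBot.coe_le_coe.mp hdim
  have h10 := h9.trans h8
  exact absurd h10 (by decide)

/-- uniformity on finitely generated submodules -/
theorem exists_uniform {R M : Type*} [CommRing R] [AddCommGroup M] [Module R M] (S : Submonoid R)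
    (N K : Submodule R M) (hN : N.FG) (h : ∀ x ∈ N, ∃ s ∈ S, s • x ∈ K) :
    ∃ s ∈ S, ∀ x ∈ N, s • x ∈ K := by
  classical
  obtain ⟨F, rfl⟩ := hN
  choose! g hg hgK using h
  refine ⟨∏ x ∈ F, g x, Submonoid.prod_mem S fun x hx => hg x (Submodule.subset_span hx), ?_⟩
  intro x hx
  induction hx using Submodule.span_induction with
  | mem x hx =>
    rw [← Finset.prod_erase_mul F g hx, mul_smul]
    exact K.smul_mem _ (hgK x (Submodule.subset_span hx))
  | zero => simp
  | add x y _ _ hx hy => rw [smul_add]; exact K.add_mem hx hy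
  | smul a x _ hx => rw [smul_comm]; exact K.smul_mem _ hx

section Core

variable {D : Type*} [CommRing D] [IsDomain D] [IsNoetherianRing D] (I : Ideal D) (f : D)

omit [IsNoetherianRing D] in
/-- if `s * x ∈ (f)` for all `x ∈ J_(n0+1)`, then `s^j x ∈ (f^j)` for all `x ∈ J_(n0+j)`. -/
theorem pow_mul_mem (hf0 : f ≠ 0) (n0 : ℕ) (s : D) (hs : ∀ x ∈ J I f (n0 + 1), f ∣ s * x)
    (j : ℕ) : ∀ x ∈ J I f (n0 + j), f ^ j ∣ s ^ j * x := by
  induction j with
  | zero => intro x _; simp
  | succ j ih =>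
    intro x hx
    obtain ⟨z, hz⟩ := hs x (J_antitone I f (by omega) hx)
    have hzJ : z ∈ J I f (n0 + j) := by
      obtain ⟨k, hk⟩ := hx
      refine ⟨k, fun a ha => ?_⟩
      obtain ⟨w, hw⟩ := hk a ha
      refine ⟨s * w, ?_⟩
      have h1 : f * (a * z) = f * (f ^ (n0 + j) * (s * w)) := by
        calc f * (a * z) = a * (f * z) := by ring
          _ = a * (s * x) := by rw [hz]
          _ = s * (a * x) := by ring
          _ = s * (f ^ (n0 + (j + 1)) * w) := by rw [hw]
          _ = f * (f ^ (n0 + j) * (s * w)) := by ring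
      exact mul_left_cancel₀ hf0 h1
    obtain ⟨w, hw⟩ := ih z hzJ
    refine ⟨w, ?_⟩
    calc s ^ (j + 1) * x = s ^ j * (s * x) := by ring
      _ = s ^ j * (f * z) := by rw [hz]
      _ = f * (s ^ j * z) := by ring
      _ = f * (f ^ j * w) := by rw [hw]
      _ = f ^ (j + 1) * w := by ring

omit [IsNoetherianRing D] in
/-- The key vanishing: the intersection of the `J_n B` is zero. -/
theorem iInf_map_eq_bot (hf0 : f ≠ 0) (q : Ideal D) [q.IsPrime] (hfq : f ∈ q)
    {B : Type*} [CommRing B] [IsLocalRing B] [Algebra D B] (hB : Cpl q B)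
    (hdim : ∀ P ∈ associatedPrimes B B, 2 ≤ ringKrullDim (B ⧸ P)) (n0 : ℕ)
    (hq : ∀ q' : Ideal D, q'.IsPrime → q' < q → ∃ s ∉ q', ∀ x ∈ J I f (n0 + 1), f ∣ s * x) :
    ⨅ n, (J I f n).map (algebraMap D B) = ⊥ := by
  have := hB.noeth
  rw [eq_bot_iff]
  intro x hx
  rw [Ideal.mem_bot]
  by_contra hx0
  -- an associated prime of `B` containing the annihilator of `x`
  obtain ⟨P, hP, hxP⟩ := exists_le_isAssociatedPrime_of_isNoetherianRing B x hx0
  have hPp := hP.isPrime
  have hfB : algebraMap D B f ∈ maximalIdeal B := (hB.mem_iff f).mpr hfq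
  obtain ⟨Q, hQp, hPQ, hfQ, hQne⟩ := exists_prime P (hdim P hP) _ hfB
  have hQlt : Q.comap (algebraMap D B) < q := by
    refine lt_of_le_of_ne (fun y hy => ?_) (fun h => hQne ?_)
    · rw [← hB.mem_iff]
      exact IsLocalRing.le_maximalIdeal hQp.ne_top hy
    · refine le_antisymm (IsLocalRing.le_maximalIdeal hQp.ne_top) ?_
      rw [← hB.map_eq, Ideal.map_le_iff_le_comap, h]
  obtain ⟨s, hsQ, hs⟩ := hq _ inferInstance hQlt
  -- `s ^ j * x ∈ (f ^ j)`
  have key : ∀ j : ℕ, (algebraMap D B f) ^ j ∣ (algebraMap D B s) ^ j * x := by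
    intro j
    have h1 : (J I f (n0 + j)).map (algebraMap D B) ≤
        (Ideal.span {(algebraMap D B f) ^ j} : Ideal B).colon {(algebraMap D B s) ^ j} := by
      rw [Ideal.map_le_iff_le_comap]
      intro y hy
      rw [Ideal.mem_comap, Submodule.mem_colon_singleton, smul_eq_mul, Ideal.mem_span_singleton]
      have h2 := map_dvd (algebraMap D B) (pow_mul_mem I f hf0 n0 s hs j y hy)
      rw [mul_comm]
      simpa only [map_mul, map_pow] using h2
    have h3 := h1 ((Submodule.mem_iInf _).mp hx (n0 + j))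
    rw [Submodule.mem_colon_singleton, smul_eq_mul, Ideal.mem_span_singleton, mul_comm] at h3
    exact h3
  have hmem : algebraMap B (Localization.AtPrime Q) x ∈
      ⨅ j : ℕ, (Ideal.span {algebraMap B (Localization.AtPrime Q) (algebraMap D B f)}) ^ j := by
    rw [Submodule.mem_iInf]
    intro j
    rw [Ideal.span_singleton_pow, Ideal.mem_span_singleton]
    have hu : IsUnit (algebraMap B (Localization.AtPrime Q) ((algebraMap D B s) ^ j)) :=
      IsLocalization.map_units (Localization.AtPrime Q)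
        (⟨(algebraMap D B s) ^ j, fun h => hsQ (hQp.mem_of_pow_mem j h)⟩ : Q.primeCompl)
    have h4 := map_dvd (algebraMap B (Localization.AtPrime Q)) (key j)
    rw [map_mul, hu.dvd_mul_left, map_pow] at h4
    exact h4
  rw [Ideal.iInf_pow_eq_bot_of_isLocalRing, Ideal.mem_bot] at hmem
  · have h5 : algebraMap B (Localization.AtPrime Q) x = algebraMap B (Localization.AtPrime Q) 0 := by
      rw [hmem, map_zero]
    obtain ⟨t, ht⟩ := (IsLocalization.eq_iff_exists Q.primeCompl (Localization.AtPrime Q)).mp h5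
    apply t.2
    apply hPQ
    apply hxP
    rw [Submodule.mem_colon_singleton, Submodule.mem_bot, smul_eq_mul, ht, mul_zero]
  · rw [Ne, Ideal.span_singleton_eq_top]
    intro hu
    have h6 := (IsLocalization.AtPrime.isUnit_to_map_iff (Localization.AtPrime Q) Q
      (algebraMap D B f)).mp hu
    exact h6 hfQ

/-- The conductor ideals. -/
def cond {D : Type*} [CommRing D] (I : Ideal D) (f : D) (n : ℕ) : Ideal D where
  carrier := {s | ∀ x ∈ J I f (n + 1), f ∣ s * x}
  zero_mem' := fun x _ => by simp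
  add_mem' := by
    intro s t hs ht x hx
    rw [add_mul]
    exact dvd_add (hs x hx) (ht x hx)
  smul_mem' := by
    intro c s hs x hx
    rw [smul_eq_mul, mul_assoc]
    exact Dvd.dvd.mul_left (hs x hx) c

theorem mem_cond {D : Type*} [CommRing D] (I : Ideal D) (f : D) (n : ℕ) (s : D) :
    s ∈ cond I f n ↔ ∀ x ∈ J I f (n + 1), f ∣ s * x := Iff.rfl

theorem cond_mono {D : Type*} [CommRing D] (I : Ideal D) (f : D) : Monotone (cond I f) :=
  fun _ _ hmn _ hs x hx => hs x (J_antitone I f (Nat.succ_le_succ hmn) hx)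

theorem le_radical_cond {D : Type*} [CommRing D] [IsNoetherianRing D] (I : Ideal D) (f : D)
    (n : ℕ) : I ≤ (cond I f n).radical := by
  intro a ha
  obtain ⟨_, ⟨k, rfl⟩, hk⟩ := exists_uniform (Submonoid.powers a) (J I f (n + 1)) (Ideal.span {f})
    (IsNoetherian.noetherian _) (by
      intro x hx
      obtain ⟨k, hk⟩ := hx
      refine ⟨a ^ k, ⟨k, rfl⟩, ?_⟩
      rw [smul_eq_mul, Ideal.mem_span_singleton]
      exact (dvd_pow_self f (Nat.succ_ne_zero n)).trans (hk _ (Ideal.pow_mem_pow ha k)))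
  refine ⟨k, fun x hx => ?_⟩
  have := hk x hx
  rwa [smul_eq_mul, Ideal.mem_span_singleton] at this

theorem core (hf : f ∈ I) (hf0 : f ≠ 0)
    (h : ∀ q : Ideal D, q.IsPrime → I ≤ q →
      ∃ (B : Type*) (_ : CommRing B) (_ : IsLocalRing B) (_ : Algebra D B), Cpl q B ∧
        ∀ P ∈ associatedPrimes B B, 2 ≤ ringKrullDim (B ⧸ P)) :
    ∃ n, ∀ x ∈ J I f (n + 1), f ∣ x := by
  obtain ⟨n0, hn0⟩ := monotone_stabilizes_iff_noetherian.mpr ‹IsNoetherianRing D›
    ⟨cond I f, cond_mono I f⟩
  replace hn0 : ∀ m, n0 ≤ m → cond I f n0 = cond I f m := hn0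
  refine ⟨n0, ?_⟩
  by_contra hcon
  have hne : cond I f n0 ≠ ⊤ := by
    intro h1
    apply hcon
    intro x hx
    have h2 : (1 : D) ∈ cond I f n0 := by rw [h1]; exact Submodule.mem_top
    simpa using h2 x hx
  obtain ⟨M, hM, hle⟩ := Ideal.exists_le_maximal _ hne
  obtain ⟨q, hq, -⟩ := Ideal.exists_minimalPrimes_le hle
  have hqp : q.IsPrime := hq.1.1
  have hIq : I ≤ q := (le_radical_cond I f n0).trans (hqp.radical_le_iff.mpr hq.1.2)
  have hlt : ∀ q' : Ideal D, q'.IsPrime → q' < q → ∃ s ∉ q', ∀ x ∈ J I f (n0 + 1), f ∣ s * x := by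
    intro q' hq' hlt
    by_contra hcon'
    push Not at hcon'
    have h3 : cond I f n0 ≤ q' := by
      intro s hs
      by_contra hsq
      obtain ⟨x, hx, hx'⟩ := hcon' s hsq
      exact hx' (hs x hx)
    exact absurd (hq.2 ⟨hq', h3⟩ hlt.le) (not_le_of_gt hlt)
  obtain ⟨B, _, _, _, hB, hdim⟩ := h q hqp hIq
  have hiInf := iInf_map_eq_bot I f hf0 q (hIq hf) hB hdim n0 hlt
  have := hB.noeth
  have := hB.precomplete
  -- Artin-Rees
  obtain ⟨c, hc⟩ := Ideal.exists_pow_inf_eq_pow_smul q (M := D) (J I f (n0 + 1))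
  -- a power of `q` is locally in the conductor
  have hrad := IsLocalization.AtPrime.radical_map_of_mem_minimalPrimes
    (A := Localization.AtPrime q) q (cond I f n0) hq
  obtain ⟨l, hl⟩ := Ideal.exists_pow_le_of_le_radical_of_fg (le_of_eq hrad.symm)
    (IsNoetherian.noetherian _)
  obtain ⟨t, ht, htl⟩ := exists_uniform q.primeCompl (q ^ l) (cond I f n0)
    (IsNoetherian.noetherian _) (by
      intro x hx
      have h4 : algebraMap D (Localization.AtPrime q) x ∈
          (cond I f n0).map (algebraMap D (Localization.AtPrime q)) := by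
        apply hl
        rw [← Ideal.map_pow]
        exact Ideal.mem_map_of_mem _ hx
      obtain ⟨s, hs, hs'⟩ := (IsLocalization.algebraMap_mem_map_algebraMap_iff q.primeCompl
        (Localization.AtPrime q) _ _).mp h4
      exact ⟨s, hs, hs'⟩)
  obtain ⟨n, hn⟩ := ChevalleyAdic.chevalley_local
    (fun n => (J I f n).map (algebraMap D B))
    (fun a b hab => Ideal.map_mono (J_antitone I f hab)) hiInf (l + c)
  obtain ⟨u, hu, hu'⟩ := exists_uniform q.primeCompl (J I f (max n n0 + 1)) (Ideal.span {f})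
    (IsNoetherian.noetherian _) (by
      intro x hx
      have h5 : algebraMap D B x ∈ maximalIdeal B ^ (l + c) :=
        hn (Ideal.mem_map_of_mem _ (J_antitone I f (by omega) hx))
      obtain ⟨s, hs, hsx⟩ := hB.pow _ _ h5
      refine ⟨t * s, q.primeCompl.mul_mem ht hs, ?_⟩
      have h6 : s * x ∈ (q ^ (l + c) • (⊤ : Submodule D D)) ⊓ J I f (n0 + 1) := by
        refine ⟨?_, Ideal.mul_mem_left _ _ (J_antitone I f (by omega) hx)⟩
        simpa using hsx
      rw [hc (l + c) (by omega), Nat.add_sub_cancel] at h6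
      have h7 : s * x ∈ q ^ l • J I f (n0 + 1) :=
        Submodule.smul_mono le_rfl inf_le_right h6
      rw [mul_smul, smul_eq_mul, smul_eq_mul, Ideal.mem_span_singleton]
      refine Submodule.smul_induction_on h7 ?_ ?_
      · intro r hr y hy
        have h8 := htl r hr y hy
        rw [smul_eq_mul] at h8 ⊢
        rwa [← mul_assoc]
      · intro y z hy hz
        rw [mul_add]
        exact dvd_add hy hz)
  have h9 : u ∈ cond I f (max n n0) := by
    intro x hx
    have := hu' x hx
    rwa [smul_eq_mul, Ideal.mem_span_singleton] at this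
  rw [← hn0 _ (le_max_right _ _)] at h9
  exact hu (hq.1.2 h9)

end Core

end Groth.Agent.LoccohA.KollarCore
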