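import Groth.Agent.LoccohA.KollarCore
import Groth.Agent.S0543
import Mathlib.RingTheory.AdicCompletion.LocalRing

/-!
# Completion data for Kollár's criterion

`exists_of_localization`: the conclusion of `KollarCore.core` for a Noetherian domain whose
local completions have associated primes of dimension `≥ 2` (S1754 form);
`exists_of_quotient`: the same for `A/p` with the completions of `A_q/pA_q` (S1755 form).
-/

set_option autoImplicit false

universe u

namespace Groth.Agent.LoccohA.KollarCpl

open IsLocalRing KollarCore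

theorem cpl_of {D R : Type u} [CommRing D] [CommRing R] [IsNoetherianRing R] [IsLocalRing R]
    [Algebra D R] (q : Ideal D) (I0 : Ideal R) (hI0 : I0 = maximalIdeal R)
    (hq : q.map (algebraMap D R) = maximalIdeal R)
    (hpow : ∀ (k : ℕ) (x : D), algebraMap D R x ∈ maximalIdeal R ^ k → ∃ s ∉ q, s * x ∈ q ^ k) :
    ∃ (_ : IsLocalRing (AdicCompletion I0 R)), Cpl q (AdicCompletion I0 R) := by
  subst hI0
  refine ⟨inferInstance, ?_, ?_, ?_, ?_⟩
  · exact Groth.Agent.S0543.result R (maximalIdeal R)
  · rw [AdicCompletion.maximalIdeal_eq_map]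
    exact (AdicCompletion.isAdicComplete_self _ (IsNoetherian.noetherian _)).toIsPrecomplete
  · rw [AdicCompletion.maximalIdeal_eq_map, ← hq, Ideal.map_map]
    rfl
  · intro k x hx
    apply hpow k x
    rw [AdicCompletion.maximalIdeal_eq_map, ← Ideal.map_pow] at hx
    have h1 : (maximalIdeal R ^ k).map (algebraMap R (AdicCompletion (maximalIdeal R) R)) ≤
        RingHom.ker (AdicCompletion.evalₐ (maximalIdeal R) k).toRingHom := by
      rw [Ideal.map_le_iff_le_comap]
      intro y hy
      rw [Ideal.mem_comap, RingHom.mem_ker]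
      change AdicCompletion.evalₐ (maximalIdeal R) k (algebraMap R _ y) = 0
      rw [AlgHom.commutes]
      exact Ideal.Quotient.eq_zero_iff_mem.mpr hy
    have h2 : AdicCompletion.evalₐ (maximalIdeal R) k
        (algebraMap R _ (algebraMap D R x)) = 0 := h1 hx
    rw [AlgHom.commutes] at h2
    exact Ideal.Quotient.eq_zero_iff_mem.mp h2

theorem pow_of_isLocalization {D R : Type u} [CommRing D] [CommRing R] [IsLocalRing R]
    [Algebra D R] (q : Ideal D) [q.IsPrime] [IsLocalization.AtPrime R q] (k : ℕ) (x : D)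
    (hx : algebraMap D R x ∈ maximalIdeal R ^ k) : ∃ s ∉ q, s * x ∈ q ^ k := by
  rw [← IsLocalization.AtPrime.map_eq_maximalIdeal q R, ← Ideal.map_pow] at hx
  obtain ⟨s, hs, hs'⟩ := (IsLocalization.algebraMap_mem_map_algebraMap_iff q.primeCompl
        R _ _).mp hx
  exact ⟨s, hs, hs'⟩

theorem exists_of_localization (D : Type u) [CommRing D] [IsDomain D] [IsNoetherianRing D]
    (I : Ideal D) (f : D) (hf : f ∈ I) (hf0 : f ≠ 0)
    (h : ∀ (q : PrimeSpectrum D), I ≤ q.asIdeal →
      ∀ P ∈ associatedPrimes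
        (AdicCompletion (maximalIdeal (Localization.AtPrime q.asIdeal))
          (Localization.AtPrime q.asIdeal))
        (AdicCompletion (maximalIdeal (Localization.AtPrime q.asIdeal))
          (Localization.AtPrime q.asIdeal)),
      (2 : WithBot ℕ∞) ≤ ringKrullDim (AdicCompletion
        (maximalIdeal (Localization.AtPrime q.asIdeal)) (Localization.AtPrime q.asIdeal) ⧸ P)) :
    ∃ n, ∀ x ∈ J I f (n + 1), f ∣ x := by
  refine core I f hf hf0 fun q hq hIq => ?_
  have := hq
  obtain ⟨_, hB⟩ := cpl_of q (maximalIdeal (Localization.AtPrime q)) rfl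
    (IsLocalization.AtPrime.map_eq_maximalIdeal q _)
    (fun k x hx => pow_of_isLocalization q k x hx)
  exact ⟨_, _, _, _, hB, h ⟨q, hq⟩ hIq⟩

theorem exists_of_quotient (A : Type u) [CommRing A] [IsNoetherianRing A]
    (I p : Ideal A) [p.IsPrime] (f : A ⧸ p) (hf : f ∈ I.map (Ideal.Quotient.mk p)) (hf0 : f ≠ 0)
    (h : ∀ (q : PrimeSpectrum A), p ≤ q.asIdeal → I ≤ q.asIdeal →
      ∀ P ∈ associatedPrimes (AdicCompletion
        ((IsLocalRing.maximalIdeal (Localization.AtPrime q.asIdeal)).map
          (Ideal.Quotient.mk (p.map (algebraMap A (Localization.AtPrime q.asIdeal)))))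
        (Localization.AtPrime q.asIdeal ⧸
          p.map (algebraMap A (Localization.AtPrime q.asIdeal))))
        (AdicCompletion
        ((IsLocalRing.maximalIdeal (Localization.AtPrime q.asIdeal)).map
          (Ideal.Quotient.mk (p.map (algebraMap A (Localization.AtPrime q.asIdeal)))))
        (Localization.AtPrime q.asIdeal ⧸
          p.map (algebraMap A (Localization.AtPrime q.asIdeal)))),
      (2 : WithBot ℕ∞) ≤ ringKrullDim (AdicCompletion
        ((IsLocalRing.maximalIdeal (Localization.AtPrime q.asIdeal)).map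
          (Ideal.Quotient.mk (p.map (algebraMap A (Localization.AtPrime q.asIdeal)))))
        (Localization.AtPrime q.asIdeal ⧸
          p.map (algebraMap A (Localization.AtPrime q.asIdeal))) ⧸ P)) :
    ∃ n, ∀ x ∈ J (I.map (Ideal.Quotient.mk p)) f (n + 1), f ∣ x := by
  have hD : IsNoetherianRing (A ⧸ p) :=
    isNoetherianRing_of_surjective _ _ (Ideal.Quotient.mk p) Ideal.Quotient.mk_surjective
  refine core (I.map (Ideal.Quotient.mk p)) f hf hf0 fun q hq hIq => ?_
  -- the prime of `A` below
  have hq'' : (q.comap (Ideal.Quotient.mk p)).IsPrime := inferInstance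
  let q' : PrimeSpectrum A := ⟨q.comap (Ideal.Quotient.mk p), hq''⟩
  have hpq' : p ≤ q'.asIdeal := by
    intro x hx
    change Ideal.Quotient.mk p x ∈ q
    rw [Ideal.Quotient.eq_zero_iff_mem.mpr hx]
    exact zero_mem _
  have hIq' : I ≤ q'.asIdeal := Ideal.map_le_iff_le_comap.mp hIq
  have hqmap : q'.asIdeal.map (Ideal.Quotient.mk p) = q :=
    Ideal.map_comap_of_surjective _ Ideal.Quotient.mk_surjective _
  let L := Localization.AtPrime q'.asIdeal
  have hpL : p.map (algebraMap A L) ≤ maximalIdeal L := by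
    rw [← IsLocalization.AtPrime.map_eq_maximalIdeal q'.asIdeal L]
    exact Ideal.map_mono hpq'
  have hpLne : p.map (algebraMap A L) ≠ ⊤ := fun hcon =>
    (Ideal.IsPrime.ne_top (I := maximalIdeal L) inferInstance) (top_le_iff.mp (hcon ▸ hpL))
  have hnt : Nontrivial (L ⧸ p.map (algebraMap A L)) := Ideal.Quotient.nontrivial_iff.mpr hpLne
  have hloc : IsLocalRing (L ⧸ p.map (algebraMap A L)) :=
    IsLocalRing.of_surjective' (Ideal.Quotient.mk _) Ideal.Quotient.mk_surjective
  have hnoeth : IsNoetherianRing (L ⧸ p.map (algebraMap A L)) :=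
    isNoetherianRing_of_surjective _ _ (Ideal.Quotient.mk _) Ideal.Quotient.mk_surjective
  have hI0 : (maximalIdeal L).map (Ideal.Quotient.mk (p.map (algebraMap A L))) =
      maximalIdeal (L ⧸ p.map (algebraMap A L)) := by
    apply IsLocalRing.eq_maximalIdeal
    refine (Ideal.map_eq_top_or_isMaximal_of_surjective _ Ideal.Quotient.mk_surjective
      inferInstance).resolve_left ?_
    intro hcon
    have h1 := congrArg (Ideal.comap (Ideal.Quotient.mk (p.map (algebraMap A L)))) hcon
    rw [Ideal.comap_map_of_surjective' _ Ideal.Quotient.mk_surjective, Ideal.mk_ker,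
      sup_eq_left.mpr hpL, Ideal.comap_top] at h1
    exact (Ideal.IsPrime.ne_top (I := maximalIdeal L) inferInstance) h1
  let φ : A ⧸ p →+* L ⧸ p.map (algebraMap A L) :=
    Ideal.quotientMap _ (algebraMap A L) Ideal.le_comap_map
  let _ : Algebra (A ⧸ p) (L ⧸ p.map (algebraMap A L)) := φ.toAlgebra
  have hφ : ∀ a : A, algebraMap (A ⧸ p) (L ⧸ p.map (algebraMap A L)) (Ideal.Quotient.mk p a) =
      Ideal.Quotient.mk _ (algebraMap A L a) := fun a => Ideal.quotientMap_mk
  have hmapmap : ∀ 𝔞 : Ideal A, (𝔞.map (Ideal.Quotient.mk p)).map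
      (algebraMap (A ⧸ p) (L ⧸ p.map (algebraMap A L))) =
      (𝔞.map (algebraMap A L)).map (Ideal.Quotient.mk (p.map (algebraMap A L))) := by
    intro 𝔞
    rw [Ideal.map_map, Ideal.map_map]
    congr 1
  obtain ⟨_, hB⟩ := cpl_of q ((maximalIdeal L).map (Ideal.Quotient.mk (p.map (algebraMap A L))))
    hI0 (by
      rw [← hqmap, hmapmap, IsLocalization.AtPrime.map_eq_maximalIdeal q'.asIdeal L, hI0])
    (by
      intro k x hx
      obtain ⟨a, rfl⟩ := Ideal.Quotient.mk_surjective x
      rw [hφ, ← hI0, ← Ideal.map_pow, ← Ideal.mem_comap,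
        Ideal.comap_map_of_surjective' _ Ideal.Quotient.mk_surjective, Ideal.mk_ker,
        ← IsLocalization.AtPrime.map_eq_maximalIdeal q'.asIdeal L, ← Ideal.map_pow,
        ← Ideal.map_sup] at hx
      obtain ⟨s, hs, hs'⟩ := (IsLocalization.algebraMap_mem_map_algebraMap_iff
        q'.asIdeal.primeCompl L _ _).mp hx
      refine ⟨Ideal.Quotient.mk p s, fun h => hs h, ?_⟩
      have h2 := Ideal.mem_map_of_mem (Ideal.Quotient.mk p) hs'
      rw [Ideal.map_sup, Ideal.map_pow, hqmap, Ideal.map_quotient_self, sup_bot_eq, map_mul] at h2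
      exact h2)
  exact ⟨_, _, _, _, hB, h q' hpq' hIq'⟩

end Groth.Agent.LoccohA.KollarCpl
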