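import Groth.Agent.LoccohA.LCTLes
import Groth.Agent.LoccohA.LCTIso
import Groth.Agent.LoccohA.DzTrunc
import Mathlib.Algebra.Category.ModuleCat.Ext.HasExt
import Mathlib.Algebra.Homology.DerivedCategory.Ext.EnoughInjectives

/-!
# `HDT` of modules: degree zero, vanishing for torsion modules

* `HDT0equiv : HDT A T (inD A N) 0 ≃ₗ gam T N`;
* `HDT_neg`: vanishing in negative degrees (more generally below the bound of a complex);
* `HDT_pos_of_torsion`: vanishing of `HDT A T (inD A N) i`, `i ≥ 1` for `N` `T`-torsion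
  (Noetherian ring);
* `HDT_single`: `HDT A T (single_a N) i ≃ HDT A T (inD A N) (i - a)`.
-/

set_option autoImplicit false
set_option linter.unusedVariables false
set_option linter.unusedSectionVars false

universe u

open CategoryTheory Limits Opposite Pretriangulated
open Groth.Agent.LoccohA.LCTColim Groth.Agent.LoccohA.LCTBase Groth.Agent.LoccohA.LCTLes
  Groth.Agent.LoccohA.LCTGam Groth.Agent.LoccohA.LCTIso

attribute [local instance] HasDerivedCategory.standard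

namespace Groth.Agent.LoccohA.LCTDev

variable {A : Type u} [CommRing A] (T : Set (PrimeSpectrum A))

section Zero

/-- `Hom_D(X[0], Y[0][0]) = Hom(X, Y)`. -/
noncomputable def hom0 (X Y : ModuleCat.{u} A) :
    ((DerivedCategory.singleFunctor (ModuleCat.{u} A) 0).obj X ⟶
      ((DerivedCategory.singleFunctor (ModuleCat.{u} A) 0).obj Y)⟦((0 : ℕ) : ℤ)⟧) ≃ₗ[A] (X ⟶ Y) :=
  (Abelian.Ext.homLinearEquiv (R := A) (X := X) (Y := Y) (n := 0)).symm.trans
    Abelian.Ext.linearEquiv₀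

theorem hom0_symm_precomp {X X' Y : ModuleCat.{u} A} (f : X' ⟶ X) (g : X ⟶ Y) :
    (hom0 X' Y).symm (f ≫ g) =
      (DerivedCategory.singleFunctor (ModuleCat.{u} A) 0).map f ≫ (hom0 X Y).symm g := by
  have h1 : Abelian.Ext.mk₀ (f ≫ g) =
    (Abelian.Ext.mk₀ f).comp (Abelian.Ext.mk₀ g) (zero_add 0) := by
    rw [Abelian.Ext.mk₀_comp_mk₀]
  change (Abelian.Ext.mk₀ (f ≫ g)).hom = _ ≫ (Abelian.Ext.mk₀ g).hom
  rw [h1, Abelian.Ext.singleFunctor_map_comp_hom]

theorem hom0_precomp {X X' Y : ModuleCat.{u} A} (f : X' ⟶ X)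
    (x : (DerivedCategory.singleFunctor (ModuleCat.{u} A) 0).obj X ⟶
      ((DerivedCategory.singleFunctor (ModuleCat.{u} A) 0).obj Y)⟦((0 : ℕ) : ℤ)⟧) :
    hom0 X' Y ((DerivedCategory.singleFunctor (ModuleCat.{u} A) 0).map f ≫ x) =
      f ≫ hom0 X Y x := by
  apply (hom0 X' Y).symm.injective
  rw [LinearEquiv.symm_apply_apply, hom0_symm_precomp, LinearEquiv.symm_apply_apply]

theorem hom0_postcomp {X Y Y' : ModuleCat.{u} A} (g : Y ⟶ Y')
    (x : (DerivedCategory.singleFunctor (ModuleCat.{u} A) 0).obj X ⟶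
      ((DerivedCategory.singleFunctor (ModuleCat.{u} A) 0).obj Y)⟦((0 : ℕ) : ℤ)⟧) :
    hom0 X Y' (x ≫ ((DerivedCategory.singleFunctor (ModuleCat.{u} A) 0).map g)⟦((0 : ℕ) : ℤ)⟧') =
      hom0 X Y x ≫ g := by
  obtain ⟨f, rfl⟩ := (hom0 X Y).symm.surjective x
  apply (hom0 X Y').symm.injective
  rw [LinearEquiv.symm_apply_apply, LinearEquiv.apply_symm_apply]
  have h1 : Abelian.Ext.mk₀ (f ≫ g) =
    (Abelian.Ext.mk₀ f).comp (Abelian.Ext.mk₀ g) (zero_add 0) := by
    rw [Abelian.Ext.mk₀_comp_mk₀]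
  change (Abelian.Ext.mk₀ f).hom ≫ _ = (Abelian.Ext.mk₀ (f ≫ g)).hom
  rw [h1, Abelian.Ext.hom_comp_singleFunctor_map_shift]

variable (N : Type u) [AddCommGroup N] [Module A N]

/-- evaluation at 1 -/
noncomputable def ev0 (J : Ideal A) (hJ : PrimeSpectrum.zeroLocus (J : Set A) ⊆ T) :
    (Dual.inD A (A ⧸ J) ⟶ (Dual.inD A N)⟦((0 : ℕ) : ℤ)⟧) →ₗ[A] gam T N where
  toFun x := ⟨(hom0 (ModuleCat.of A (A ⧸ J)) (ModuleCat.of A N) x).hom
    (Submodule.Quotient.mk (1 : A)), apply_mk_one_mem_gam hJ _⟩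
  map_add' x y := by
    apply Subtype.ext
    rw [map_add]
    rfl
  map_smul' a x := by
    apply Subtype.ext
    rw [map_smul]
    rfl

theorem ev0_compat {J J' : Ideal A} (hJ : PrimeSpectrum.zeroLocus (J : Set A) ⊆ T)
    (hJ' : PrimeSpectrum.zeroLocus (J' : Set A) ⊆ T) (h : J' ≤ J)
    (x : Dual.inD A (A ⧸ J) ⟶ (Dual.inD A N)⟦((0 : ℕ) : ℤ)⟧) :
    ev0 T N J' hJ' ((DerivedCategory.singleFunctor (ModuleCat.{u} A) 0).map (pr h) ≫ x) =
      ev0 T N J hJ x := by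
  apply Subtype.ext
  change (hom0 _ _ (_ ≫ x)).hom _ = _
  rw [hom0_precomp]
  rfl

theorem ev0_injective (J : Ideal A) (hJ : PrimeSpectrum.zeroLocus (J : Set A) ⊆ T)
    (x : Dual.inD A (A ⧸ J) ⟶ (Dual.inD A N)⟦((0 : ℕ) : ℤ)⟧) (h : ev0 T N J hJ x = 0) : x = 0 := by
  apply (hom0 (ModuleCat.of A (A ⧸ J)) (ModuleCat.of A N)).injective
  rw [map_zero]
  exact quot_hom_ext (congrArg Subtype.val h)

theorem isColim_gam :
    IsColim (HDTdiag T ((0 : ℕ) : ℤ) (Dual.inD A N)) (gam T N)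
      (fun J => ev0 T N (toI J.unop) (toI_prop J.unop)) where
  compat {J J'} f x := ev0_compat T N _ _ (le_of_hom f.unop) x
  surj y := by
    refine ⟨op (mkI T (Ideal.torsionOf A N y.1) y.2),
      (hom0 (ModuleCat.of A (A ⧸ Ideal.torsionOf A N y.1)) (ModuleCat.of A N)).symm
        (ofElt _ y.1 (fun a ha => ha)), ?_⟩
    apply Subtype.ext
    change (hom0 (ModuleCat.of A (A ⧸ Ideal.torsionOf A N y.1)) (ModuleCat.of A N)
      ((hom0 (ModuleCat.of A (A ⧸ Ideal.torsionOf A N y.1)) (ModuleCat.of A N)).symm _)).hom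
        (Submodule.Quotient.mk (1 : A)) = y.1
    rw [LinearEquiv.apply_symm_apply, ofElt_apply, one_smul]
  inj J x hx := by
    refine ⟨J, 𝟙 _, ?_⟩
    have : x = 0 := ev0_injective T N (toI J.unop) (toI_prop J.unop) x hx
    rw [this]
    exact map_zero _

/-- `HDT A T N[0] 0 = Γ_T N`. -/
noncomputable def HDT0equiv : Dual2.HDT A T (Dual.inD A N) ((0 : ℕ) : ℤ) ≃ₗ[A] gam T N :=
  (HDT_isColim T ((0 : ℕ) : ℤ) (Dual.inD A N)).equiv (isColim_gam T N)

end Zero

section Vanishing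

/-- Vanishing of morphisms into shifts by `t`-structure reasons. -/
theorem hom_eq_zero_of_lt {K : Dual.D A} {a i : ℤ} [K.IsGE a] (hi : i < a)
    {X : ModuleCat.{u} A} (x : (DerivedCategory.singleFunctor (ModuleCat.{u} A) 0).obj X ⟶ K⟦i⟧) :
    x = 0 := by
  have h1 : DerivedCategory.TStructure.t.IsGE (K⟦i⟧) (a - i) :=
    DerivedCategory.TStructure.t.isGE_shift K a i (a - i) (by omega)
  exact DerivedCategory.TStructure.t.zero x 0 (a - i) (by omega)

theorem HDT_of_lt {K : Dual.D A} {a i : ℤ} [K.IsGE a] (hi : i < a) :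
    Subsingleton (Dual2.HDT A T K i) :=
  HDT_subsingleton_of T (fun _ x => hom_eq_zero_of_lt hi x)

theorem hom_injective_eq_zero {X E : ModuleCat.{u} A} [Injective E] (n : ℕ) (hn : 0 < n)
    (x : (DerivedCategory.singleFunctor (ModuleCat.{u} A) 0).obj X ⟶
      ((DerivedCategory.singleFunctor (ModuleCat.{u} A) 0).obj E)⟦(n : ℤ)⟧) : x = 0 := by
  obtain ⟨n, rfl⟩ : ∃ m, n = m + 1 := ⟨n - 1, by omega⟩
  obtain ⟨y, rfl⟩ := (Abelian.Ext.homLinearEquiv (R := A) (X := X) (Y := E)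
    (n := n + 1)).surjective x
  rw [Abelian.Ext.eq_zero_of_injective y, map_zero]

/-- Embedding of a `T`-torsion module in an injective `T`-torsion module. -/
theorem exists_torsion_injective [IsNoetherianRing A] (N : ModuleCat.{u} A)
    (hN : ∀ x : N, x ∈ gam T N) :
    ∃ (E : ModuleCat.{u} A) (f : N ⟶ E), Injective E ∧ Mono f ∧ ∀ x : E, x ∈ gam T E := by
  obtain ⟨E₀, ι, hE₀, hι⟩ : ∃ (E₀ : ModuleCat.{u} A) (ι : N ⟶ E₀), Injective E₀ ∧ Mono ι :=
    ⟨Injective.under N, Injective.ι N, inferInstance, inferInstance⟩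
  refine ⟨(gamF T).obj E₀, ModuleCat.ofHom
    (ι.hom.codRestrict (gam T E₀) (fun x => map_mem_gam _ (hN x))),
    inferInstance, ?_, ?_⟩
  · rw [ModuleCat.mono_iff_injective]
    have h : Function.Injective ι.hom := (ModuleCat.mono_iff_injective _).1 inferInstance
    intro x y hxy
    exact h (congrArg Subtype.val hxy)
  · intro x
    exact mem_gam_of_injective (gam T E₀).subtype Subtype.val_injective x.2

section SES

variable {X Y Z : ModuleCat.{u} A} {f : X ⟶ Y} {g : Y ⟶ Z} {w : f ≫ g = 0}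
  (hS : (ShortComplex.mk f g w).ShortExact)

/-- The connecting map of a short exact sequence of modules. -/
noncomputable def sconn (n₀ n₁ : ℤ) (h : n₀ + 1 = n₁) :
    ((DerivedCategory.singleFunctor (ModuleCat.{u} A) 0).obj Z)⟦n₀⟧ ⟶
      ((DerivedCategory.singleFunctor (ModuleCat.{u} A) 0).obj X)⟦n₁⟧ :=
  conn hS.singleTriangle n₀ n₁ h

theorem sexact₁ {W : Dual.D A} (n₀ n₁ : ℤ) (h : n₀ + 1 = n₁)
    (x : W ⟶ ((DerivedCategory.singleFunctor (ModuleCat.{u} A) 0).obj X)⟦n₁⟧)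
    (hx : x ≫ ((DerivedCategory.singleFunctor (ModuleCat.{u} A) 0).map f)⟦n₁⟧' = 0) :
    ∃ y : W ⟶ ((DerivedCategory.singleFunctor (ModuleCat.{u} A) 0).obj Z)⟦n₀⟧,
      y ≫ sconn hS n₀ n₁ h = x :=
  yexact₁ _ hS.singleTriangle_distinguished n₀ n₁ h x hx

include hS in
theorem sexact₂ {W : Dual.D A} (n : ℤ)
    (x : W ⟶ ((DerivedCategory.singleFunctor (ModuleCat.{u} A) 0).obj Y)⟦n⟧)
    (hx : x ≫ ((DerivedCategory.singleFunctor (ModuleCat.{u} A) 0).map g)⟦n⟧' = 0) :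
    ∃ y : W ⟶ ((DerivedCategory.singleFunctor (ModuleCat.{u} A) 0).obj X)⟦n⟧,
      y ≫ ((DerivedCategory.singleFunctor (ModuleCat.{u} A) 0).map f)⟦n⟧' = x :=
  yexact₂ _ hS.singleTriangle_distinguished n x hx

theorem sexact₃ {W : Dual.D A} (n₀ n₁ : ℤ) (h : n₀ + 1 = n₁)
    (x : W ⟶ ((DerivedCategory.singleFunctor (ModuleCat.{u} A) 0).obj Z)⟦n₀⟧)
    (hx : x ≫ sconn hS n₀ n₁ h = 0) :
    ∃ y : W ⟶ ((DerivedCategory.singleFunctor (ModuleCat.{u} A) 0).obj Y)⟦n₀⟧,
      y ≫ ((DerivedCategory.singleFunctor (ModuleCat.{u} A) 0).map g)⟦n₀⟧' = x :=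
  yexact₃ _ hS.singleTriangle_distinguished n₀ n₁ h x hx

include hS in
theorem scomp₁₂ (n : ℤ) :
    ((DerivedCategory.singleFunctor (ModuleCat.{u} A) 0).map f)⟦n⟧' ≫
      ((DerivedCategory.singleFunctor (ModuleCat.{u} A) 0).map g)⟦n⟧' = 0 :=
  comp₁₂ _ hS.singleTriangle_distinguished n

theorem scomp₂₃ (n₀ n₁ : ℤ) (h : n₀ + 1 = n₁) :
    ((DerivedCategory.singleFunctor (ModuleCat.{u} A) 0).map g)⟦n₀⟧' ≫ sconn hS n₀ n₁ h = 0 :=
  comp₂₃ _ hS.singleTriangle_distinguished n₀ n₁ h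

theorem scomp₃₁ (n₀ n₁ : ℤ) (h : n₀ + 1 = n₁) :
    sconn hS n₀ n₁ h ≫ ((DerivedCategory.singleFunctor (ModuleCat.{u} A) 0).map f)⟦n₁⟧' = 0 :=
  comp₃₁ _ hS.singleTriangle_distinguished n₀ n₁ h

end SES

/-- Elementwise vanishing for torsion modules. -/
theorem torsion_vanishing [IsNoetherianRing A] (n : ℕ) :
    ∀ (N : ModuleCat.{u} A) (_ : ∀ x : N, x ∈ gam T N) (J : Ideal A)
      (_ : PrimeSpectrum.zeroLocus (J : Set A) ⊆ T)
      (x : (DerivedCategory.singleFunctor (ModuleCat.{u} A) 0).obj (ModuleCat.of A (A ⧸ J)) ⟶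
        ((DerivedCategory.singleFunctor (ModuleCat.{u} A) 0).obj N)⟦(n : ℤ) + 1⟧),
      ∃ (J' : Ideal A) (_ : PrimeSpectrum.zeroLocus (J' : Set A) ⊆ T) (h : J' ≤ J),
        (DerivedCategory.singleFunctor (ModuleCat.{u} A) 0).map (pr h) ≫ x = 0 := by
  induction n with
  | zero =>
    intro N hN J hJ x
    obtain ⟨E, f, hE, hf, hET⟩ := exists_torsion_injective T N hN
    have hS : (ShortComplex.mk f (cokernel.π f) (cokernel.condition f)).ShortExact :=
      { exact := ShortComplex.exact_of_g_is_cokernel _ (cokernelIsCokernel f) }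
    obtain ⟨y, hy⟩ := sexact₁ hS ((0 : ℕ) : ℤ) (((0 : ℕ) : ℤ) + 1) rfl x
      (hom_injective_eq_zero 1 one_pos _)
    obtain ⟨g, rfl⟩ := (hom0 _ _).symm.surjective y
    have hsurj : Function.Surjective (cokernel.π f).hom :=
      (ModuleCat.epi_iff_surjective _).1 inferInstance
    obtain ⟨e, he⟩ := hsurj (g.hom (Submodule.Quotient.mk (1 : A)))
    refine ⟨J ⊓ Ideal.torsionOf A E e, zeroLocus_inf_subset hJ (hET e), inf_le_left, ?_⟩
    have h1 : pr (inf_le_left (a := J) (b := Ideal.torsionOf A E e)) ≫ g =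
        ofElt (J ⊓ Ideal.torsionOf A E e) e (fun a ha => ha.2) ≫ cokernel.π f := by
      apply quot_hom_ext
      change g.hom (Submodule.Quotient.mk (1 : A)) =
        (cokernel.π f).hom ((ofElt _ e _).hom (Submodule.Quotient.mk (1 : A)))
      rw [ofElt_apply, one_smul, he]
    have h2 : (DerivedCategory.singleFunctor (ModuleCat.{u} A) 0).map
        (pr (inf_le_left (a := J) (b := Ideal.torsionOf A E e))) ≫ (hom0 _ _).symm g =
        (hom0 _ _).symm (ofElt (J ⊓ Ideal.torsionOf A E e) e (fun a ha => ha.2)) ≫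
          ((DerivedCategory.singleFunctor (ModuleCat.{u} A) 0).map
            (cokernel.π f))⟦((0 : ℕ) : ℤ)⟧' := by
      rw [← hom0_symm_precomp, h1]
      apply (hom0 _ _).injective
      rw [LinearEquiv.apply_symm_apply, hom0_postcomp, LinearEquiv.apply_symm_apply]
    rw [← hy, ← Category.assoc, h2, Category.assoc, scomp₂₃, comp_zero]
  | succ n ih =>
    intro N hN J hJ x
    obtain ⟨E, f, hE, hf, hET⟩ := exists_torsion_injective T N hN
    have hS : (ShortComplex.mk f (cokernel.π f) (cokernel.condition f)).ShortExact :=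
      { exact := ShortComplex.exact_of_g_is_cokernel _ (cokernelIsCokernel f) }
    obtain ⟨y, hy⟩ := sexact₁ hS ((n : ℤ) + 1) (((n + 1 : ℕ) : ℤ) + 1) (by push_cast; rfl) x
      (hom_injective_eq_zero (n + 2) (Nat.succ_pos _) _)
    have hsurj : Function.Surjective (cokernel.π f).hom :=
      (ModuleCat.epi_iff_surjective _).1 inferInstance
    obtain ⟨J', hJ', hle, h⟩ := ih (cokernel f) (fun c => by
      obtain ⟨e, rfl⟩ := hsurj c
      exact map_mem_gam (cokernel.π f).hom (hET e)) J hJ y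
    refine ⟨J', hJ', hle, ?_⟩
    rw [← hy, ← Category.assoc, h, zero_comp]

/-- `HDT A T N[0] i = 0` for `i ≥ 1` and `N` a `T`-torsion module. -/
theorem HDT_pos_of_torsion [IsNoetherianRing A] (N : ModuleCat.{u} A)
    (hN : ∀ x : N, x ∈ gam T N) (i : ℤ) (hi : 0 < i) :
    Subsingleton (Dual2.HDT A T
      ((DerivedCategory.singleFunctor (ModuleCat.{u} A) 0).obj N) i) := by
  obtain ⟨n, rfl⟩ : ∃ n : ℕ, i = (n : ℤ) + 1 := ⟨(i - 1).toNat, by omega⟩
  have key : ∀ y : Dual2.HDT A T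
      ((DerivedCategory.singleFunctor (ModuleCat.{u} A) 0).obj N) ((n : ℤ) + 1), y = 0 := by
    intro y
    obtain ⟨J, hJ, x, rfl⟩ := exists_rep T y
    obtain ⟨J', hJ', hle, h⟩ := torsion_vanishing T n N hN J hJ x
    rw [← dι_pr T hJ hJ' hle]
    exact (congrArg _ h).trans (map_zero _)
  exact ⟨fun y z => by rw [key y, key z]⟩

end Vanishing

section Single

/-- `(single_a N)[i] ≅ (single_0 N)[i - a]`. -/
noncomputable def singleShiftIso (N : ModuleCat.{u} A) (a i j : ℤ) (h : a + j = i) :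
    ((DerivedCategory.singleFunctor (ModuleCat.{u} A) a).obj N)⟦i⟧ ≅
      ((DerivedCategory.singleFunctor (ModuleCat.{u} A) 0).obj N)⟦j⟧ :=
  (shiftFunctorAdd' (Dual.D A) a j i h).app _ ≪≫
    (shiftFunctor (Dual.D A) j).mapIso
      (((DerivedCategory.singleFunctors (ModuleCat.{u} A)).shiftIso a 0 a (add_zero a)).app N)

/-- `HDT` of a module placed in degree `a`. -/
noncomputable def HDTsingle (N : ModuleCat.{u} A) (a i j : ℤ) (h : a + j = i) :
    Dual2.HDT A T ((DerivedCategory.singleFunctor (ModuleCat.{u} A) a).obj N) i ≃ₗ[A]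
      Dual2.HDT A T ((DerivedCategory.singleFunctor (ModuleCat.{u} A) 0).obj N) j :=
  hequiv T (singleShiftIso N a i j h)

end Single

end Groth.Agent.LoccohA.LCTDev
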