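import Groth.Agent.LoccohA.LCTBase
import Mathlib.Algebra.Homology.DerivedCategory.Ext.ExactSequences
import Mathlib.Algebra.Homology.DerivedCategory.Ext.Linear
import Mathlib.Algebra.Homology.DerivedCategory.TStructure

/-!
# Functoriality and long exact sequences for `Dual2.HDT`

For a morphism `u : K⟦i⟧ ⟶ K'⟦j⟧` in `D(A)` there is `hmap T u : HDT A T K i →ₗ HDT A T K' j`.
It is exact whenever `u` is (on `Hom(X, -)`), in particular for distinguished triangles.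
-/

set_option autoImplicit false
set_option linter.unusedVariables false
set_option linter.unusedSectionVars false

universe v w u

open CategoryTheory Limits Opposite Pretriangulated
open Groth.Agent.LoccohA.LCTColim Groth.Agent.LoccohA.LCTBase

attribute [local instance] HasDerivedCategory.standard

namespace Groth.Agent.LoccohA.LCTLes

section Triangulated

variable {C : Type u} [Category.{v} C] [Preadditive C] [HasShift C ℤ] [HasZeroObject C]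
  [∀ n : ℤ, (shiftFunctor C n).Additive] [Pretriangulated C]

/-- The connecting morphism `T₃⟦n₀⟧ ⟶ T₁⟦n₁⟧` for `n₀ + 1 = n₁`. -/
noncomputable def conn (Tr : Triangle C) (n₀ n₁ : ℤ) (h : n₀ + 1 = n₁) :
    Tr.obj₃⟦n₀⟧ ⟶ Tr.obj₁⟦n₁⟧ :=
  Tr.mor₃⟦n₀⟧' ≫ (shiftFunctorAdd' C 1 n₀ n₁ (by omega)).inv.app Tr.obj₁

variable (Tr : Triangle C) (hT : Tr ∈ distTriang C)

include hT

theorem yexact₂ {X : C} (n : ℤ) (x : X ⟶ Tr.obj₂⟦n⟧) (hx : x ≫ Tr.mor₂⟦n⟧' = 0) :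
    ∃ y : X ⟶ Tr.obj₁⟦n⟧, y ≫ Tr.mor₁⟦n⟧' = x := by
  have h := (preadditiveCoyoneda.obj (op X)).homologySequence_exact₂ Tr hT n
  rw [ShortComplex.ab_exact_iff] at h
  exact h x hx

theorem yexact₃ {X : C} (n₀ n₁ : ℤ) (h : n₀ + 1 = n₁) (x : X ⟶ Tr.obj₃⟦n₀⟧)
    (hx : x ≫ conn Tr n₀ n₁ h = 0) :
    ∃ y : X ⟶ Tr.obj₂⟦n₀⟧, y ≫ Tr.mor₂⟦n₀⟧' = x := by
  have h' := (preadditiveCoyoneda.obj (op X)).homologySequence_exact₃ Tr hT n₀ n₁ h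
  rw [ShortComplex.ab_exact_iff] at h'
  exact h' x ((preadditiveCoyoneda_homologySequenceδ_apply Tr n₀ n₁ h x).trans hx)

theorem yexact₁ {X : C} (n₀ n₁ : ℤ) (h : n₀ + 1 = n₁) (x : X ⟶ Tr.obj₁⟦n₁⟧)
    (hx : x ≫ Tr.mor₁⟦n₁⟧' = 0) :
    ∃ y : X ⟶ Tr.obj₃⟦n₀⟧, y ≫ conn Tr n₀ n₁ h = x := by
  have h' := (preadditiveCoyoneda.obj (op X)).homologySequence_exact₁ Tr hT n₀ n₁ h
  rw [ShortComplex.ab_exact_iff] at h'
  obtain ⟨y, hy⟩ := h' x hx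
  exact ⟨y, (preadditiveCoyoneda_homologySequenceδ_apply Tr n₀ n₁ h y).symm.trans hy⟩

theorem comp₁₂ (n : ℤ) : Tr.mor₁⟦n⟧' ≫ Tr.mor₂⟦n⟧' = 0 := by
  rw [← Functor.map_comp, comp_distTriang_mor_zero₁₂ _ hT, Functor.map_zero]

theorem comp₂₃ (n₀ n₁ : ℤ) (h : n₀ + 1 = n₁) : Tr.mor₂⟦n₀⟧' ≫ conn Tr n₀ n₁ h = 0 := by
  rw [conn, ← Category.assoc, ← Functor.map_comp, comp_distTriang_mor_zero₂₃ _ hT,
    Functor.map_zero, Limits.zero_comp]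

theorem comp₃₁ (n₀ n₁ : ℤ) (h : n₀ + 1 = n₁) : conn Tr n₀ n₁ h ≫ Tr.mor₁⟦n₁⟧' = 0 := by
  rw [conn, Category.assoc]
  have h1 : (shiftFunctorAdd' C 1 n₀ n₁ (by omega)).inv.app Tr.obj₁ ≫ Tr.mor₁⟦n₁⟧' =
    (Tr.mor₁⟦(1 : ℤ)⟧')⟦n₀⟧' ≫ (shiftFunctorAdd' C 1 n₀ n₁ (by omega)).inv.app Tr.obj₂ :=
    ((shiftFunctorAdd' C 1 n₀ n₁ (by omega)).inv.naturality Tr.mor₁).symm
  rw [h1, ← Category.assoc, ← Functor.map_comp, comp_distTriang_mor_zero₃₁ _ hT,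
    Functor.map_zero, Limits.zero_comp]

end Triangulated

variable {A : Type u} [CommRing A] (T : Set (PrimeSpectrum A))

variable {K K' K'' : Dual.D A} {i j k : ℤ}

section Rep

variable (i K)

/-- The structure map from `Hom_D(A/J, K[i])` to `HDT A T K i`. -/
noncomputable def dι (J : Ideal A) (hJ : PrimeSpectrum.zeroLocus (J : Set A) ⊆ T) :
    (Dual.inD A (A ⧸ J) ⟶ K⟦i⟧) →ₗ[A] Dual2.HDT A T K i :=
  HDTι T i K (op (mkI T J hJ))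

theorem dι_eq (J : (Dual2.IdealsIn T)ᵒᵖ) (x : Dual.inD A (A ⧸ toI J.unop) ⟶ K⟦i⟧) :
    dι T K i (toI J.unop) (toI_prop J.unop) x = HDTι T i K J x := rfl

variable {i K}

/-- Every element of `HDT` comes from some `J`. -/
theorem exists_rep (y : Dual2.HDT A T K i) :
    ∃ (J : Ideal A) (hJ : PrimeSpectrum.zeroLocus (J : Set A) ⊆ T)
      (x : Dual.inD A (A ⧸ J) ⟶ K⟦i⟧), dι T K i J hJ x = y := by
  obtain ⟨J, x, h⟩ := (HDT_isColim T i K).surj y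
  exact ⟨toI J.unop, toI_prop J.unop, x, h⟩

theorem dι_pr {J J' : Ideal A} (hJ : PrimeSpectrum.zeroLocus (J : Set A) ⊆ T)
    (hJ' : PrimeSpectrum.zeroLocus (J' : Set A) ⊆ T) (h : J' ≤ J)
    (x : Dual.inD A (A ⧸ J) ⟶ K⟦i⟧) :
    dι T K i J' hJ' ((DerivedCategory.singleFunctor (ModuleCat.{u} A) 0).map (pr h) ≫ x) =
      dι T K i J hJ x :=
  (HDT_isColim T i K).compat (d := op (mkI T J hJ)) (d' := op (mkI T J' hJ')) (homI h).op x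

theorem dι_eq_zero {J : Ideal A} {hJ : PrimeSpectrum.zeroLocus (J : Set A) ⊆ T}
    {x : Dual.inD A (A ⧸ J) ⟶ K⟦i⟧} (h : dι T K i J hJ x = 0) :
    ∃ (J' : Ideal A) (hJ' : PrimeSpectrum.zeroLocus (J' : Set A) ⊆ T) (h : J' ≤ J),
      (DerivedCategory.singleFunctor (ModuleCat.{u} A) 0).map (pr h) ≫ x = 0 := by
  obtain ⟨J', f, hf⟩ := (HDT_isColim T i K).inj (op (mkI T J hJ)) x h
  exact ⟨toI J'.unop, toI_prop J'.unop, le_of_hom f.unop, hf⟩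

theorem exists_rep₂ (y z : Dual2.HDT A T K i) :
    ∃ (J : Ideal A) (hJ : PrimeSpectrum.zeroLocus (J : Set A) ⊆ T)
      (x x' : Dual.inD A (A ⧸ J) ⟶ K⟦i⟧), dι T K i J hJ x = y ∧ dι T K i J hJ x' = z := by
  obtain ⟨J, hJ, x, rfl⟩ := exists_rep T y
  obtain ⟨J', hJ', x', rfl⟩ := exists_rep T z
  exact ⟨J ⊓ J', zeroLocus_inf_subset hJ hJ', _, _, dι_pr T hJ _ inf_le_left x,
    dι_pr T hJ' _ inf_le_right x'⟩

end Rep

theorem hmap_compat (u : K⟦i⟧ ⟶ K'⟦j⟧) {J J' : (Dual2.IdealsIn T)ᵒᵖ} (f : J ⟶ J')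
    (x : Dual.inD A (A ⧸ toI J.unop) ⟶ K⟦i⟧) :
    dι T K' j (toI J'.unop) (toI_prop J'.unop)
      (((DerivedCategory.singleFunctor (ModuleCat.{u} A) 0).map (pr (le_of_hom f.unop)) ≫ x) ≫ u) =
    dι T K' j (toI J.unop) (toI_prop J.unop) (x ≫ u) := by
  rw [Category.assoc]
  exact dι_pr T (toI_prop J.unop) (toI_prop J'.unop) (le_of_hom f.unop) (x ≫ u)

/-- Functoriality of `HDT`. -/
noncomputable def hmap (u : K⟦i⟧ ⟶ K'⟦j⟧) : Dual2.HDT A T K i →ₗ[A] Dual2.HDT A T K' j :=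
  (HDT_isColim T i K).desc
    (fun J => (dι T K' j (toI J.unop) (toI_prop J.unop)).comp
      (Linear.rightComp A (Dual.inD A (A ⧸ toI J.unop)) u)) (fun f x => hmap_compat T u f x)

theorem hmap_ι (u : K⟦i⟧ ⟶ K'⟦j⟧) (J : Ideal A) (hJ : PrimeSpectrum.zeroLocus (J : Set A) ⊆ T)
    (x : Dual.inD A (A ⧸ J) ⟶ K⟦i⟧) :
    hmap T u (dι T K i J hJ x) = dι T K' j J hJ (x ≫ u) :=
  IsColim.desc_apply (HDT_isColim T i K) _ (fun f x => hmap_compat T u f x) (op (mkI T J hJ)) x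

theorem hmap_id (y : Dual2.HDT A T K i) : hmap T (𝟙 (K⟦i⟧)) y = y := by
  obtain ⟨J, hJ, x, rfl⟩ := exists_rep T y
  rw [hmap_ι, Category.comp_id]

theorem hmap_comp (u : K⟦i⟧ ⟶ K'⟦j⟧) (v : K'⟦j⟧ ⟶ K''⟦k⟧) (y : Dual2.HDT A T K i) :
    hmap T (u ≫ v) y = hmap T v (hmap T u y) := by
  obtain ⟨J, hJ, x, rfl⟩ := exists_rep T y
  rw [hmap_ι, hmap_ι, hmap_ι, Category.assoc]

theorem hmap_zero (y : Dual2.HDT A T K i) : hmap T (0 : K⟦i⟧ ⟶ K'⟦j⟧) y = 0 := by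
  obtain ⟨J, hJ, x, rfl⟩ := exists_rep T y
  rw [hmap_ι, Limits.comp_zero, map_zero]

theorem hmap_add (u v : K⟦i⟧ ⟶ K'⟦j⟧) (y : Dual2.HDT A T K i) :
    hmap T (u + v) y = hmap T u y + hmap T v y := by
  obtain ⟨J, hJ, x, rfl⟩ := exists_rep T y
  rw [hmap_ι, hmap_ι, hmap_ι, Preadditive.comp_add, map_add]

theorem hmap_smul (a : A) (u : K⟦i⟧ ⟶ K'⟦j⟧) (y : Dual2.HDT A T K i) :
    hmap T (a • u) y = a • hmap T u y := by
  obtain ⟨J, hJ, x, rfl⟩ := exists_rep T y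
  rw [hmap_ι, hmap_ι, Linear.comp_smul, map_smul]

theorem hmap_exact (u : K⟦i⟧ ⟶ K'⟦j⟧) (v : K'⟦j⟧ ⟶ K''⟦k⟧) (h0 : u ≫ v = 0)
    (h : ∀ (X : Dual.D A) (x : X ⟶ K'⟦j⟧), x ≫ v = 0 → ∃ y : X ⟶ K⟦i⟧, y ≫ u = x) :
    Function.Exact (hmap T u) (hmap T v) := by
  intro y
  constructor
  · intro hy
    obtain ⟨J, hJ, x, rfl⟩ := exists_rep T y
    rw [hmap_ι] at hy
    obtain ⟨J', hJ', hle, hx⟩ := dι_eq_zero T hy
    rw [← Category.assoc] at hx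
    obtain ⟨z, hz⟩ := h _ _ hx
    refine ⟨dι T K i J' hJ' z, ?_⟩
    rw [hmap_ι, hz, dι_pr T hJ hJ']
  · rintro ⟨z, rfl⟩
    rw [← hmap_comp, h0, hmap_zero]

/-- An isomorphism induces an equivalence. -/
noncomputable def hequiv (e : K⟦i⟧ ≅ K'⟦j⟧) : Dual2.HDT A T K i ≃ₗ[A] Dual2.HDT A T K' j :=
  { hmap T e.hom with
    invFun := hmap T e.inv
    left_inv := fun y => by
      change hmap T e.inv (hmap T e.hom y) = y
      rw [← hmap_comp, e.hom_inv_id, hmap_id]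
    right_inv := fun y => by
      change hmap T e.hom (hmap T e.inv y) = y
      rw [← hmap_comp, e.inv_hom_id, hmap_id] }

theorem hequiv_apply (e : K⟦i⟧ ≅ K'⟦j⟧) (y : Dual2.HDT A T K i) :
    hequiv T e y = hmap T e.hom y := rfl

/-- `HDT` only depends on the isomorphism class of the object. -/
noncomputable def hequivOfIso (e : K ≅ K') (i : ℤ) :
    Dual2.HDT A T K i ≃ₗ[A] Dual2.HDT A T K' i :=
  hequiv T ((shiftFunctor (Dual.D A) i).mapIso e)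

section LES

variable (Tr : Triangle (Dual.D A)) (hT : Tr ∈ distTriang (Dual.D A))

include hT

theorem HDT_exact₂ (n : ℤ) : Function.Exact (hmap T (Tr.mor₁⟦n⟧')) (hmap T (Tr.mor₂⟦n⟧')) :=
  hmap_exact T _ _ (comp₁₂ Tr hT n) (fun X x hx => yexact₂ Tr hT n x hx)

theorem HDT_exact₃ (n₀ n₁ : ℤ) (h : n₀ + 1 = n₁) :
    Function.Exact (hmap T (Tr.mor₂⟦n₀⟧')) (hmap T (conn Tr n₀ n₁ h)) :=
  hmap_exact T _ _ (comp₂₃ Tr hT n₀ n₁ h) (fun X x hx => yexact₃ Tr hT n₀ n₁ h x hx)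

theorem HDT_exact₁ (n₀ n₁ : ℤ) (h : n₀ + 1 = n₁) :
    Function.Exact (hmap T (conn Tr n₀ n₁ h)) (hmap T (Tr.mor₁⟦n₁⟧')) :=
  hmap_exact T _ _ (comp₃₁ Tr hT n₀ n₁ h) (fun X x hx => yexact₁ Tr hT n₀ n₁ h x hx)

end LES

theorem smul_id_quotient (J : Ideal A) (a : A) (ha : a ∈ J) :
    a • 𝟙 (ModuleCat.of A (A ⧸ J)) = 0 := by
  apply ModuleCat.hom_ext
  apply LinearMap.ext
  intro z
  obtain ⟨z, rfl⟩ := Submodule.Quotient.mk_surjective _ z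
  change a • (Submodule.Quotient.mk z : A ⧸ J) = 0
  rw [← Submodule.Quotient.mk_smul, Submodule.Quotient.mk_eq_zero]
  exact Ideal.mul_mem_right z _ ha

theorem smul_inD_hom {Y : Dual.D A} (J : Ideal A) (a : A) (ha : a ∈ J)
    (x : Dual.inD A (A ⧸ J) ⟶ Y) : a • x = 0 := by
  have : x = 𝟙 _ ≫ x := (Category.id_comp x).symm
  rw [this, ← Linear.smul_comp, ← CategoryTheory.Functor.map_id, ← Functor.map_smul,
    smul_id_quotient J a ha, Functor.map_zero, Limits.zero_comp]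

/-- Every element of `HDT` is killed by some ideal `J` with `V(J) ⊆ T`. -/
theorem exists_killing (y : Dual2.HDT A T K i) :
    ∃ J : Ideal A, PrimeSpectrum.zeroLocus (J : Set A) ⊆ T ∧ ∀ a ∈ J, a • y = 0 := by
  obtain ⟨J, hJ, x, rfl⟩ := exists_rep T y
  refine ⟨J, hJ, fun a ha => ?_⟩
  rw [← map_smul, smul_inD_hom J a ha x, map_zero]

/-- Vanishing of `HDT` from vanishing of the Hom groups. -/
theorem HDT_subsingleton_of (h : ∀ (J : Ideal A) (x : Dual.inD A (A ⧸ J) ⟶ K⟦i⟧), x = 0) :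
    Subsingleton (Dual2.HDT A T K i) := by
  refine ⟨fun y z => ?_⟩
  obtain ⟨J, hJ, x, rfl⟩ := exists_rep T y
  obtain ⟨J', hJ', x', rfl⟩ := exists_rep T z
  rw [h _ x, h _ x', map_zero, map_zero]

end Groth.Agent.LoccohA.LCTLes
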