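import Groth.Agent.LoccohA.LCTBase
import Groth.Agent.LoccohA.LCLinear
import Groth.Agent.Localalg.OldExt
import Mathlib.Algebra.Homology.DerivedCategory.Ext.Linear
import Mathlib.Algebra.Homology.DerivedCategory.Ext.ExactSequences
import Mathlib.Algebra.Category.ModuleCat.Ext.HasExt

/-!
# The long exact sequence of local cohomology (elementwise form)
-/

set_option autoImplicit false

universe u

open CategoryTheory Opposite CategoryTheory.Limits

namespace Groth.Agent.LoccohA.LES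

open LCTColim LCTBase

variable {A : Type u} [CommRing A] (I : Ideal A)

/-- the module `A / I^k`. -/
abbrev qm (k : ℕᵒᵖᵒᵖ) : ModuleCat.{u} A := ModuleCat.of A (A ⧸ I ^ k.unop.unop)

/-- the projection `A / I^k' → A / I^k`. -/
noncomputable def prk {k k' : ℕᵒᵖᵒᵖ} (f : k ⟶ k') : qm I k' ⟶ qm I k :=
  pr (Ideal.pow_le_pow_right (leOfHom f.unop.unop))

/-- The map `Ext^i(A/I^k, M) → H^i_I(M)`. -/
noncomputable def toH (i : ℕ) (M : Type u) [AddCommGroup M] [Module A M] (k : ℕᵒᵖᵒᵖ) :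
    Abelian.Ext.{u} (qm I k) (ModuleCat.of A M) i →ₗ[A] LocCoh.H I i M :=
  Hι I i M k ∘ₗ (Localalg.OldExt.extEquiv (R := A) (qm I k) (ModuleCat.of A M) i).symm.toLinearMap

theorem toH_surj (i : ℕ) (M : Type u) [AddCommGroup M] [Module A M] (h : LocCoh.H I i M) :
    ∃ (k : ℕᵒᵖᵒᵖ) (x : Abelian.Ext.{u} (qm I k) (ModuleCat.of A M) i), toH I i M k x = h := by
  obtain ⟨k, y, rfl⟩ := (H_isColim I i M).surj h
  refine ⟨k, Localalg.OldExt.extEquiv (R := A) (qm I k) (ModuleCat.of A M) i y, ?_⟩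
  change Hι I i M k ((Localalg.OldExt.extEquiv (R := A) (qm I k) (ModuleCat.of A M) i).symm
    (Localalg.OldExt.extEquiv (R := A) (qm I k) (ModuleCat.of A M) i y)) = _
  rw [LinearEquiv.symm_apply_apply]

theorem toH_compat (i : ℕ) (M : Type u) [AddCommGroup M] [Module A M] {k k' : ℕᵒᵖᵒᵖ} (f : k ⟶ k')
    (x : Abelian.Ext.{u} (qm I k) (ModuleCat.of A M) i) :
    toH I i M k' ((Abelian.Ext.mk₀ (prk I f)).comp x (zero_add i)) = toH I i M k x := by
  obtain ⟨y, rfl⟩ := (Localalg.OldExt.extEquiv (R := A) (qm I k) (ModuleCat.of A M) i).surjective x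
  have h1 := Localalg.OldExt.extEquiv_naturality_left (R := A) (prk I f) (ModuleCat.of A M) i y
  rw [← h1]
  change Hι I i M k' ((Localalg.OldExt.extEquiv (R := A) (qm I k') (ModuleCat.of A M) i).symm
    (Localalg.OldExt.extEquiv (R := A) (qm I k') (ModuleCat.of A M) i _)) =
    Hι I i M k ((Localalg.OldExt.extEquiv (R := A) (qm I k) (ModuleCat.of A M) i).symm
    (Localalg.OldExt.extEquiv (R := A) (qm I k) (ModuleCat.of A M) i y))
  rw [LinearEquiv.symm_apply_apply, LinearEquiv.symm_apply_apply]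
  exact (H_isColim I i M).compat f y

theorem toH_eq_zero (i : ℕ) (M : Type u) [AddCommGroup M] [Module A M] (k : ℕᵒᵖᵒᵖ)
    (x : Abelian.Ext.{u} (qm I k) (ModuleCat.of A M) i) (hx : toH I i M k x = 0) :
    ∃ (k' : ℕᵒᵖᵒᵖ) (f : k ⟶ k'), (Abelian.Ext.mk₀ (prk I f)).comp x (zero_add i) = 0 := by
  obtain ⟨y, rfl⟩ := (Localalg.OldExt.extEquiv (R := A) (qm I k) (ModuleCat.of A M) i).surjective x
  have h2 : Hι I i M k y = 0 := by
    rw [← hx]
    change _ = Hι I i M k ((Localalg.OldExt.extEquiv (R := A) (qm I k) (ModuleCat.of A M) i).symm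
      (Localalg.OldExt.extEquiv (R := A) (qm I k) (ModuleCat.of A M) i y))
    rw [LinearEquiv.symm_apply_apply]
  obtain ⟨k', f, hf⟩ := (H_isColim I i M).inj k y h2
  refine ⟨k', f, ?_⟩
  rw [← Localalg.OldExt.extEquiv_naturality_left (R := A) (prk I f) (ModuleCat.of A M) i y]
  have h3 : (((_root_.Ext A (ModuleCat.{u} A) i).map (prk I f).op).app (ModuleCat.of A M)).hom y
      = 0 := hf
  rw [h3, map_zero]

/-- the universal property -/
theorem exists_desc (i : ℕ) (M : Type u) [AddCommGroup M] [Module A M] {P : Type u}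
    [AddCommGroup P] [Module A P]
    (p : ∀ k : ℕᵒᵖᵒᵖ, Abelian.Ext.{u} (qm I k) (ModuleCat.of A M) i →ₗ[A] P)
    (hp : ∀ {k k' : ℕᵒᵖᵒᵖ} (f : k ⟶ k') (x : Abelian.Ext.{u} (qm I k) (ModuleCat.of A M) i),
      p k' ((Abelian.Ext.mk₀ (prk I f)).comp x (zero_add i)) = p k x) :
    ∃ φ : LocCoh.H I i M →ₗ[A] P, ∀ k x, φ (toH I i M k x) = p k x := by
  have h := H_isColim I i M
  refine ⟨h.desc (fun k => p k ∘ₗ
    (Localalg.OldExt.extEquiv (R := A) (qm I k) (ModuleCat.of A M) i).toLinearMap) ?_, ?_⟩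
  · intro k k' f y
    have h1 := Localalg.OldExt.extEquiv_naturality_left (R := A) (prk I f) (ModuleCat.of A M) i y
    have h2 := hp f (Localalg.OldExt.extEquiv (R := A) (qm I k) (ModuleCat.of A M) i y)
    rw [← h1] at h2
    exact h2
  · intro k x
    rw [toH, LinearMap.comp_apply, IsColim.desc_apply]
    change p k (Localalg.OldExt.extEquiv (R := A) (qm I k) (ModuleCat.of A M) i
      ((Localalg.OldExt.extEquiv (R := A) (qm I k) (ModuleCat.of A M) i).symm x)) = _
    rw [LinearEquiv.apply_symm_apply]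

/-- the map induced on local cohomology. -/
noncomputable def hmap (i : ℕ) {M N : Type u} [AddCommGroup M] [Module A M] [AddCommGroup N]
    [Module A N] (f : M →ₗ[A] N) : LocCoh.H I i M →ₗ[A] LocCoh.H I i N :=
  ((localCohomology I i).map (ModuleCat.ofHom f)).hom

theorem hmap_toH (i : ℕ) {M N : Type u} [AddCommGroup M] [Module A M] [AddCommGroup N]
    [Module A N] (f : M →ₗ[A] N) (k : ℕᵒᵖᵒᵖ)
    (x : Abelian.Ext.{u} (qm I k) (ModuleCat.of A M) i) :
    hmap I i f (toH I i M k x) =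
      toH I i N k (x.comp (Abelian.Ext.mk₀ (ModuleCat.ofHom f)) (add_zero i)) := by
  obtain ⟨y, rfl⟩ := (Localalg.OldExt.extEquiv (R := A) (qm I k) (ModuleCat.of A M) i).surjective x
  have h1 := Localalg.OldExt.extEquiv_naturality_right (R := A) (qm I k) (ModuleCat.ofHom f) i y
  rw [← h1]
  change hmap I i f (Hι I i M k
    ((Localalg.OldExt.extEquiv (R := A) (qm I k) (ModuleCat.of A M) i).symm
    (Localalg.OldExt.extEquiv (R := A) (qm I k) (ModuleCat.of A M) i y))) =
    Hι I i N k ((Localalg.OldExt.extEquiv (R := A) (qm I k) (ModuleCat.of A N) i).symm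
    (Localalg.OldExt.extEquiv (R := A) (qm I k) (ModuleCat.of A N) i _))
  rw [LinearEquiv.symm_apply_apply, LinearEquiv.symm_apply_apply]
  have h2 := (colimit.ι (localCohomology.diagram (localCohomology.idealPowersDiagram I) i)
    k).naturality (ModuleCat.ofHom f)
  exact (congrArg (fun t => t.hom y) h2).symm

theorem hmap_comp (i : ℕ) {M N P : Type u} [AddCommGroup M] [Module A M] [AddCommGroup N]
    [Module A N] [AddCommGroup P] [Module A P] (f : M →ₗ[A] N) (g : N →ₗ[A] P)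
    (x : LocCoh.H I i M) : hmap I i (g ∘ₗ f) x = hmap I i g (hmap I i f x) := by
  rw [hmap, ModuleCat.ofHom_comp, Functor.map_comp]
  rfl

theorem hmap_zero (i : ℕ) {M N : Type u} [AddCommGroup M] [Module A M] [AddCommGroup N]
    [Module A N] (x : LocCoh.H I i M) : hmap I i (0 : M →ₗ[A] N) x = 0 := by
  rw [hmap, ModuleCat.ofHom_zero, Functor.map_zero]
  rfl

theorem hmap_id (i : ℕ) {M : Type u} [AddCommGroup M] [Module A M]
    (x : LocCoh.H I i M) : hmap I i (LinearMap.id : M →ₗ[A] M) x = x := by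
  rw [hmap, ModuleCat.ofHom_id, CategoryTheory.Functor.map_id]
  rfl

theorem hmap_smul (i : ℕ) {M N : Type u} [AddCommGroup M] [Module A M] [AddCommGroup N]
    [Module A N] (a : A) (f : M →ₗ[A] N) (x : LocCoh.H I i M) :
    hmap I i (a • f) x = a • hmap I i f x := by
  have h : ModuleCat.ofHom (a • f) = a • ModuleCat.ofHom f := rfl
  rw [hmap, h, LCLinear.localCohomology_map_smul]
  rfl

/-- The long exact sequence of local cohomology. -/
theorem exists_exact (i : ℕ) {M₁ M₂ M₃ : Type u} [AddCommGroup M₁] [Module A M₁]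
    [AddCommGroup M₂] [Module A M₂] [AddCommGroup M₃] [Module A M₃] (f : M₁ →ₗ[A] M₂)
    (g : M₂ →ₗ[A] M₃) (hf : Function.Injective f) (hfg : Function.Exact f g)
    (hg : Function.Surjective g) :
    ∃ δ : LocCoh.H I i M₃ →ₗ[A] LocCoh.H I (i + 1) M₁,
      Function.Exact (hmap I i g) δ ∧ Function.Exact δ (hmap I (i + 1) f) ∧
      Function.Exact (hmap I i f) (hmap I i g) := by
  have hzero : ModuleCat.ofHom f ≫ ModuleCat.ofHom g = 0 := by
    rw [← ModuleCat.ofHom_comp, hfg.linearMap_comp_eq_zero]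
    rfl
  let S : ShortComplex (ModuleCat.{u} A) := ShortComplex.mk (ModuleCat.ofHom f)
    (ModuleCat.ofHom g) hzero
  have hS : S.ShortExact :=
    { exact := (ShortComplex.ShortExact.moduleCat_exact_iff_function_exact S).mpr hfg
      mono_f := (ModuleCat.mono_iff_injective _).mpr hf
      epi_g := (ModuleCat.epi_iff_surjective _).mpr hg }
  obtain ⟨δ, hδ⟩ := exists_desc I i M₃ (P := LocCoh.H I (i + 1) M₁)
    (fun k => toH I (i + 1) M₁ k ∘ₗ
      ((Abelian.Ext.bilinearCompOfLinear A (qm I k) (ModuleCat.of A M₃) (ModuleCat.of A M₁)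
        i 1 (i + 1) rfl).flip hS.extClass)) (by
      intro k k' φ x
      change toH I (i + 1) M₁ k' (((Abelian.Ext.mk₀ (prk I φ)).comp x (zero_add i)).comp
        hS.extClass rfl) = toH I (i + 1) M₁ k (x.comp hS.extClass rfl)
      rw [Abelian.Ext.comp_assoc (Abelian.Ext.mk₀ (prk I φ)) x hS.extClass (zero_add i) rfl
        (by omega), toH_compat])
  replace hδ : ∀ k (x : Abelian.Ext.{u} (qm I k) (ModuleCat.of A M₃) i),
      δ (toH I i M₃ k x) = toH I (i + 1) M₁ k (x.comp hS.extClass rfl) := hδ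
  refine ⟨δ, ?_, ?_, ?_⟩
  · intro h
    constructor
    · intro h0
      obtain ⟨k, x, rfl⟩ := toH_surj I i M₃ h
      rw [hδ] at h0
      obtain ⟨k', φ, hφ⟩ := toH_eq_zero I (i + 1) M₁ k _ h0
      rw [← Abelian.Ext.comp_assoc (Abelian.Ext.mk₀ (prk I φ)) x hS.extClass (zero_add i) rfl
        (by omega)] at hφ
      obtain ⟨y, hy⟩ := Abelian.Ext.covariant_sequence_exact₃ _ hS _ rfl hφ
      refine ⟨toH I i M₂ k' y, ?_⟩
      rw [hmap_toH, ← toH_compat I i M₃ φ x, ← hy]
    · rintro ⟨h', rfl⟩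
      obtain ⟨k, x, rfl⟩ := toH_surj I i M₂ h'
      rw [hmap_toH, hδ, Abelian.Ext.comp_assoc x (Abelian.Ext.mk₀ (ModuleCat.ofHom g)) hS.extClass
        (add_zero i) (zero_add 1) (by omega)]
      have h1 : (Abelian.Ext.mk₀ (ModuleCat.ofHom g)).comp hS.extClass (zero_add 1) = 0 :=
        hS.comp_extClass
      rw [h1, Abelian.Ext.comp_zero, map_zero]
  · intro h
    constructor
    · intro h0
      obtain ⟨k, x, rfl⟩ := toH_surj I (i + 1) M₁ h
      rw [hmap_toH] at h0
      obtain ⟨k', φ, hφ⟩ := toH_eq_zero I (i + 1) M₂ k _ h0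
      rw [← Abelian.Ext.comp_assoc (Abelian.Ext.mk₀ (prk I φ)) x
        (Abelian.Ext.mk₀ (ModuleCat.ofHom f)) (zero_add _) (add_zero _) (by omega)] at hφ
      obtain ⟨y, hy⟩ := Abelian.Ext.covariant_sequence_exact₁ _ hS _ hφ rfl
      refine ⟨toH I i M₃ k' y, ?_⟩
      rw [hδ, ← toH_compat I (i + 1) M₁ φ x, ← hy]
    · rintro ⟨h', rfl⟩
      obtain ⟨k, x, rfl⟩ := toH_surj I i M₃ h'
      rw [hδ, hmap_toH, Abelian.Ext.comp_assoc x hS.extClass (Abelian.Ext.mk₀ (ModuleCat.ofHom f))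
        rfl (add_zero 1) (by omega)]
      have h1 : hS.extClass.comp (Abelian.Ext.mk₀ (ModuleCat.ofHom f)) (add_zero 1) = 0 :=
        hS.extClass_comp
      rw [h1, Abelian.Ext.comp_zero, map_zero]
  · intro h
    constructor
    · intro h0
      obtain ⟨k, x, rfl⟩ := toH_surj I i M₂ h
      rw [hmap_toH] at h0
      obtain ⟨k', φ, hφ⟩ := toH_eq_zero I i M₃ k _ h0
      rw [← Abelian.Ext.comp_assoc (Abelian.Ext.mk₀ (prk I φ)) x
        (Abelian.Ext.mk₀ (ModuleCat.ofHom g)) (zero_add _) (add_zero _) (by omega)] at hφ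
      obtain ⟨y, hy⟩ := Abelian.Ext.covariant_sequence_exact₂ _ hS _ hφ
      refine ⟨toH I i M₁ k' y, ?_⟩
      rw [hmap_toH, ← toH_compat I i M₂ φ x, ← hy]
    · rintro ⟨h', rfl⟩
      rw [← hmap_comp, hfg.linearMap_comp_eq_zero, hmap_zero]

end Groth.Agent.LoccohA.LES
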