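import Groth.Prelude.Def_DualLC
import Mathlib.RingTheory.Length

set_option autoImplicit false
universe u

/-!
# Lech independence

General-index versions of the first lemmas on independent families in the sense of Lech
(Stacks 0EBW, 0EBX, 0EBY).
-/

namespace Groth.Agent.LoccohA.LechIndependent

open Dual2

variable {A : Type u} [CommRing A] {r : ℕ}

/-- Sum over a family updated at one place. -/
lemma sum_mul_update (j : Fin r) (a f : Fin r → A) (y : A) :
    ∑ i, a i * Function.update f j y i
      = (∑ i ∈ Finset.univ.erase j, a i * f i) + a j * y := by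
  rw [← Finset.sum_erase_add _ _ (Finset.mem_univ j)]
  congr 1
  · refine Finset.sum_congr rfl fun i hi => ?_
    rw [Function.update_of_ne (Finset.ne_of_mem_erase hi)]
  · simp

lemma sum_mul_erase (j : Fin r) (a f : Fin r → A) :
    ∑ i, a i * f i = (∑ i ∈ Finset.univ.erase j, a i * f i) + a j * f j :=
  (Finset.sum_erase_add _ _ (Finset.mem_univ j)).symm

/-- Ideal generated by an updated family, where the new value is a multiple of the old one, is
contained in the original ideal. -/
lemma span_update_mul_le (j : Fin r) (f : Fin r → A) (g : A) :
    Ideal.span (Set.range (Function.update f j (f j * g))) ≤ Ideal.span (Set.range f) := by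
  rw [Ideal.span_le]
  rintro _ ⟨i, rfl⟩
  by_cases h : i = j
  · subst h
    simp only [Function.update_self]
    exact Ideal.mul_mem_right _ _ (Ideal.subset_span ⟨i, rfl⟩)
  · rw [Function.update_of_ne h]
    exact Ideal.subset_span ⟨i, rfl⟩

lemma span_update_mul_le' (j : Fin r) (f : Fin r → A) (g : A) :
    Ideal.span (Set.range (Function.update f j (f j * g))) ≤
      Ideal.span (Set.range (Function.update f j g)) := by
  rw [Ideal.span_le]
  rintro _ ⟨i, rfl⟩
  by_cases h : i = j
  · subst h
    simp only [Function.update_self]
    refine Ideal.mul_mem_left _ _ (Ideal.subset_span ⟨i, ?_⟩)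
    simp
  · rw [Function.update_of_ne h]
    exact Ideal.subset_span ⟨i, by simp [Function.update_of_ne h]⟩

/-- Stacks 0EBW at an arbitrary index. -/
theorem independent_of_update_mul (j : Fin r) (f : Fin r → A) (g : A)
    (h : Independent (Function.update f j (f j * g))) : Independent f := by
  intro a ha
  rw [sum_mul_erase j] at ha
  -- first: `a j` lies in the ideal of the updated family
  have h1 : a j ∈ Ideal.span (Set.range (Function.update f j (f j * g))) := by
    have := h (Function.update (fun i => g * a i) j (a j)) ?_ j
    · simpa using this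
    · rw [sum_mul_update]
      have : ∑ i ∈ Finset.univ.erase j,
          Function.update (fun i => g * a i) j (a j) i * f i
          = g * ∑ i ∈ Finset.univ.erase j, a i * f i := by
        rw [Finset.mul_sum]
        refine Finset.sum_congr rfl fun i hi => ?_
        rw [Function.update_of_ne (Finset.ne_of_mem_erase hi)]
        ring
      rw [this, Function.update_self]
      linear_combination g * ha
  obtain ⟨c, hc⟩ := (Ideal.mem_span_range_iff_exists_fun).1 h1
  rw [sum_mul_update] at hc
  have h2 : ∀ i, i ≠ j → a i ∈ Ideal.span (Set.range f) := by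
    intro i hi
    have := h (Function.update (fun i => a i + c i * f j) j (c j * f j)) ?_ i
    · rw [Function.update_of_ne hi] at this
      have h3 := span_update_mul_le j f g this
      have h4 : c i * f j ∈ Ideal.span (Set.range f) :=
        Ideal.mul_mem_left _ _ (Ideal.subset_span ⟨j, rfl⟩)
      simpa using sub_mem h3 h4
    · rw [sum_mul_update]
      have : ∑ i ∈ Finset.univ.erase j,
          Function.update (fun i => a i + c i * f j) j (c j * f j) i * f i
          = (∑ i ∈ Finset.univ.erase j, a i * f i)
            + f j * ∑ i ∈ Finset.univ.erase j, c i * f i := by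
        rw [Finset.mul_sum, ← Finset.sum_add_distrib]
        refine Finset.sum_congr rfl fun i hi => ?_
        rw [Function.update_of_ne (Finset.ne_of_mem_erase hi)]
        ring
      rw [this, Function.update_self]
      linear_combination ha + f j * hc
  intro i
  by_cases hij : i = j
  · subst hij
    exact span_update_mul_le i f g h1
  · exact h2 i hij

/-- Multiplication by `f j` maps `(f_1, …, g, …, f_r)` into `(f_1, …, f_j g, …, f_r)`. -/
lemma mul_mem_of_mem (j : Fin r) (f : Fin r → A) (g : A) {x : A}
    (hx : x ∈ Ideal.span (Set.range (Function.update f j g))) :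
    f j * x ∈ Ideal.span (Set.range (Function.update f j (f j * g))) := by
  have hle : Ideal.span (Set.range (Function.update f j g)) ≤
      Submodule.comap (LinearMap.mulLeft A (f j))
        (Ideal.span (Set.range (Function.update f j (f j * g)))) := by
    rw [Ideal.span_le]
    rintro _ ⟨i, rfl⟩
    by_cases h : i = j
    · subst h
      simp only [Function.update_self, SetLike.mem_coe, Submodule.mem_comap,
        LinearMap.mulLeft_apply]
      exact Ideal.subset_span ⟨i, by simp⟩
    · rw [Function.update_of_ne h]
      simp only [SetLike.mem_coe, Submodule.mem_comap, LinearMap.mulLeft_apply]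
      refine Ideal.mul_mem_left _ _ (Ideal.subset_span ⟨i, by simp [Function.update_of_ne h]⟩)
  exact hle hx

/-- The injectivity in the exact sequence of Stacks 0EBX. -/
lemma mem_of_mul_mem (j : Fin r) (f : Fin r → A) (g : A)
    (h : Independent (Function.update f j (f j * g))) {x : A}
    (hx : f j * x ∈ Ideal.span (Set.range (Function.update f j (f j * g)))) :
    x ∈ Ideal.span (Set.range (Function.update f j g)) := by
  obtain ⟨c, hc⟩ := (Ideal.mem_span_range_iff_exists_fun).1 hx
  rw [sum_mul_update] at hc
  have := h (Function.update (fun i => -(g * c i)) j (x - c j * g)) ?_ j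
  · rw [Function.update_self] at this
    have h1 := span_update_mul_le' j f g this
    have h2 : c j * g ∈ Ideal.span (Set.range (Function.update f j g)) :=
      Ideal.mul_mem_left _ _ (Ideal.subset_span ⟨j, by simp⟩)
    simpa using add_mem h1 h2
  · rw [sum_mul_update]
    have : ∑ i ∈ Finset.univ.erase j,
        Function.update (fun i => -(g * c i)) j (x - c j * g) i * f i
        = - g * ∑ i ∈ Finset.univ.erase j, c i * f i := by
      rw [Finset.mul_sum]
      refine Finset.sum_congr rfl fun i hi => ?_
      rw [Function.update_of_ne (Finset.ne_of_mem_erase hi)]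
      ring
    rw [this, Function.update_self]
    linear_combination - g * hc

/-- Stacks 0EBX at an arbitrary index (no finiteness needed since lengths are in `ℕ∞`). -/
theorem length_quotient_update_mul (j : Fin r) (f : Fin r → A) (g : A)
    (h : Independent (Function.update f j (f j * g))) :
    Module.length A (A ⧸ Ideal.span (Set.range (Function.update f j (f j * g)))) =
      Module.length A (A ⧸ Ideal.span (Set.range f)) +
        Module.length A (A ⧸ Ideal.span (Set.range (Function.update f j g))) := by
  set I₁ := Ideal.span (Set.range (Function.update f j (f j * g))) with hI₁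
  set I₂ := Ideal.span (Set.range f) with hI₂
  set I₃ := Ideal.span (Set.range (Function.update f j g)) with hI₃
  let φ : (A ⧸ I₃) →ₗ[A] (A ⧸ I₁) :=
    Submodule.mapQ I₃ I₁ (LinearMap.mulLeft A (f j)) (fun x hx => mul_mem_of_mem j f g hx)
  let ψ : (A ⧸ I₁) →ₗ[A] (A ⧸ I₂) :=
    Submodule.mapQ I₁ I₂ LinearMap.id (fun x hx => span_update_mul_le j f g hx)
  have hφm : ∀ x : A, φ (Submodule.Quotient.mk x) = Submodule.Quotient.mk (f j * x) := fun _ => rfl
  have hψm : ∀ x : A, ψ (Submodule.Quotient.mk x) = Submodule.Quotient.mk x := fun _ => rfl
  have hφ : Function.Injective φ := by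
    rw [← LinearMap.ker_eq_bot, LinearMap.ker_eq_bot']
    intro y hy
    obtain ⟨x, rfl⟩ := Submodule.Quotient.mk_surjective _ y
    rw [hφm, Submodule.Quotient.mk_eq_zero] at hy
    rw [Submodule.Quotient.mk_eq_zero]
    exact mem_of_mul_mem j f g h hy
  have hψ : Function.Surjective ψ := by
    intro y
    obtain ⟨x, rfl⟩ := Submodule.Quotient.mk_surjective _ y
    exact ⟨Submodule.Quotient.mk x, by simp [ψ]⟩
  have hex : Function.Exact φ ψ := by
    intro y
    obtain ⟨x, rfl⟩ := Submodule.Quotient.mk_surjective _ y
    constructor
    · intro hx
      rw [hψm, Submodule.Quotient.mk_eq_zero] at hx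
      obtain ⟨c, hc⟩ := (Ideal.mem_span_range_iff_exists_fun).1 hx
      rw [sum_mul_erase j] at hc
      refine ⟨Submodule.Quotient.mk (c j), ?_⟩
      rw [hφm, Submodule.Quotient.eq]
      have : f j * (c j) - x = - ∑ i ∈ Finset.univ.erase j, c i * f i := by
        linear_combination hc
      rw [this]
      refine neg_mem (sum_mem fun i hi => ?_)
      refine Ideal.mul_mem_left _ _ (Ideal.subset_span ⟨i, ?_⟩)
      rw [Function.update_of_ne (Finset.ne_of_mem_erase hi)]
    · rintro ⟨z, hz⟩
      obtain ⟨w, rfl⟩ := Submodule.Quotient.mk_surjective _ z
      rw [← hz, hφm, hψm, Submodule.Quotient.mk_eq_zero]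
      exact Ideal.mul_mem_right _ _ (Ideal.subset_span ⟨j, rfl⟩)
  rw [Module.length_eq_add_of_exact φ ψ hφ hψ hex, add_comm]

/-- Stacks 0EBY. -/
theorem length_quotient_pow [IsLocalRing A] (x : Fin r → A)
    (hx : Ideal.span (Set.range x) = IsLocalRing.maximalIdeal A) :
    ∀ (n : ℕ) (e : Fin r → ℕ), ∑ i, e i = n → (∀ i, 0 < e i) →
      Independent (fun i => x i ^ e i) →
      Module.length A (A ⧸ Ideal.span (Set.range (fun i => x i ^ e i))) = ∏ i, (e i : ℕ∞) := by
  intro n
  induction n using Nat.strong_induction_on with
  | _ n ih =>
    intro e hn he hind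
    by_cases hall : ∀ i, e i = 1
    · have h1 : (fun i => x i ^ e i) = x := by
        funext i; rw [hall i, pow_one]
      rw [h1, hx]
      have : IsSimpleModule A (A ⧸ IsLocalRing.maximalIdeal A) :=
        isSimpleModule_iff_isCoatom.2 (IsLocalRing.maximalIdeal.isMaximal A).1
      rw [Module.length_eq_one_iff.2 this]
      simp [hall]
    · push Not at hall
      obtain ⟨j, hj⟩ := hall
      obtain ⟨m, hm⟩ : ∃ m, e j = m + 1 := ⟨e j - 1, by have := he j; omega⟩
      have hmpos : 0 < m := by have := he j; omega
      -- family with exponent `m` at `j`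
      have hfam : (fun i => x i ^ e i)
          = Function.update (fun i => x i ^ (Function.update e j m i)) j
              ((fun i => x i ^ (Function.update e j m i)) j * x j) := by
        funext i
        by_cases hij : i = j
        · subst hij; simp [hm, pow_succ]
        · simp [Function.update_of_ne hij]
      have hfam' : (fun i => x i ^ e i)
          = Function.update (fun i => x i ^ (Function.update e j 1 i)) j
              ((fun i => x i ^ (Function.update e j 1 i)) j * x j ^ m) := by
        funext i
        by_cases hij : i = j
        · subst hij; simp [hm, pow_succ, mul_comm]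
        · simp [Function.update_of_ne hij]
      have hup : Function.update (fun i => x i ^ (Function.update e j m i)) j (x j)
          = fun i => x i ^ (Function.update e j 1 i) := by
        funext i
        by_cases hij : i = j
        · subst hij; simp
        · simp [Function.update_of_ne hij]
      have hind1 : Independent (fun i => x i ^ (Function.update e j m i)) :=
        independent_of_update_mul j _ (x j) (hfam ▸ hind)
      have hind2 : Independent (fun i => x i ^ (Function.update e j 1 i)) :=
        independent_of_update_mul j _ (x j ^ m) (hfam' ▸ hind)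
      have hlen := length_quotient_update_mul j (fun i => x i ^ (Function.update e j m i)) (x j)
        (hfam ▸ hind)
      rw [← hfam, hup] at hlen
      rw [hlen]
      have hsum : ∀ k, ∑ i, Function.update e j k i = (∑ i ∈ Finset.univ.erase j, e i) + k := by
        intro k
        rw [← Finset.sum_erase_add _ _ (Finset.mem_univ j)]
        congr 1
        · refine Finset.sum_congr rfl fun i hi => ?_
          rw [Function.update_of_ne (Finset.ne_of_mem_erase hi)]
        · simp
      have hsum' : ∑ i, e i = (∑ i ∈ Finset.univ.erase j, e i) + (m + 1) := by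
        rw [← Finset.sum_erase_add _ _ (Finset.mem_univ j), hm]
      have hprod : ∀ k : ℕ, ∏ i, ((Function.update e j k i : ℕ) : ℕ∞)
          = (∏ i ∈ Finset.univ.erase j, (e i : ℕ∞)) * k := by
        intro k
        rw [← Finset.prod_erase_mul _ _ (Finset.mem_univ j)]
        congr 1
        · refine Finset.prod_congr rfl fun i hi => ?_
          rw [Function.update_of_ne (Finset.ne_of_mem_erase hi)]
        · simp
      have hprod' : ∏ i, (e i : ℕ∞) = (∏ i ∈ Finset.univ.erase j, (e i : ℕ∞)) * (m + 1 : ℕ) := by
        rw [← Finset.prod_erase_mul _ _ (Finset.mem_univ j), hm]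
      have hpos : ∀ k, 0 < k → ∀ i, 0 < Function.update e j k i := by
        intro k hk i
        by_cases hij : i = j
        · subst hij; simpa using hk
        · rw [Function.update_of_ne hij]; exact he i
      rw [ih _ (by rw [hsum, ← hn, hsum']; omega) _ rfl (hpos m hmpos) hind1,
        ih _ (by rw [hsum, ← hn, hsum']; omega) _ rfl (hpos 1 one_pos) hind2,
        hprod, hprod, hprod']
      push_cast
      ring

end Groth.Agent.LoccohA.LechIndependent
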