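import Mathlib.RingTheory.Valuation.LocalSubring
import Mathlib.RingTheory.Localization.Away.Basic
import Mathlib.RingTheory.Localization.FractionRing
import Mathlib.RingTheory.FiniteType
import Mathlib.RingTheory.Localization.Finiteness
import Mathlib.RingTheory.RingHom.FiniteType
import Mathlib.RingTheory.Ideal.KrullsHeightTheorem

/-!
# A chart of the blowing up of an ideal in a noetherian domain

For a nonzero proper ideal `I` of a noetherian domain `C` and `c₀ ≠ 0` in `C`, we construct a `C`-algebra `B` of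
finite type (a chart of the blowing up of `I`, shrunk around a point of the exceptional divisor) such that `I B = π B`
with `π` a nonzero nonunit, `B_π` is a localization `C_h` of `C` and `c₀` is invertible in `B_π`.
-/

set_option autoImplicit false
universe u

namespace Groth.Agent.LoccohA.LichtAlg

open nonZeroDivisors

/-- criterion for being a localization away from an element, for domains. -/
theorem isLocalization_away_of {C L : Type u} [CommRing C] [CommRing L] [Algebra C L]
    (hinj : Function.Injective (algebraMap C L)) (h : C) (hu : IsUnit (algebraMap C L h))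
    (hs : ∀ x : L, ∃ (n : ℕ) (a : C), x * algebraMap C L h ^ n = algebraMap C L a) : IsLocalization.Away h L := by
  refine ⟨?_, ?_, ?_⟩
  · rintro ⟨_, n, rfl⟩
    simpa using hu.pow n
  · intro x
    obtain ⟨n, a, ha⟩ := hs x
    exact ⟨(a, ⟨h ^ n, n, rfl⟩), by simpa using ha⟩
  · intro a b hab
    exact ⟨1, by rw [hinj hab]⟩

/-- the elements of `L` of the form `a / h ^ n`. -/
def frac {C L : Type u} [CommRing C] [CommRing L] [Algebra C L] (h : C) : Subalgebra C L where
  carrier := {x | ∃ (n : ℕ) (a : C), x * algebraMap C L h ^ n = algebraMap C L a}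
  mul_mem' := by
    rintro x y ⟨n, a, ha⟩ ⟨m, b, hb⟩
    exact ⟨n + m, a * b, by rw [map_mul, ← ha, ← hb]; ring⟩
  add_mem' := by
    rintro x y ⟨n, a, ha⟩ ⟨m, b, hb⟩
    refine ⟨n + m, a * h ^ m + b * h ^ n, ?_⟩
    rw [map_add, map_mul, map_mul, map_pow, map_pow, ← ha, ← hb]
    ring
  algebraMap_mem' := fun a => ⟨0, a, by simp⟩

theorem mem_frac {C L : Type u} [CommRing C] [CommRing L] [Algebra C L] (h : C) (x : L) :
    x ∈ frac (L := L) h ↔ ∃ (n : ℕ) (a : C), x * algebraMap C L h ^ n = algebraMap C L a := Iff.rfl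

/-- one of the generators of a proper ideal has minimal valuation for some valuation ring dominating. -/
theorem exists_chart {C : Type u} [CommRing C] [IsDomain C] (K : Type u) [Field K] [Algebra C K] [IsFractionRing C K]
    (I : Ideal C) (hI0 : I ≠ ⊥) (hI1 : I ≠ ⊤) (hfg : I.FG) :
    ∃ (c : C) (B₁ : Subalgebra C K), c ≠ 0 ∧ c ∈ I ∧ B₁.FG ∧
      ¬ IsUnit (algebraMap C B₁ c) ∧ I.map (algebraMap C B₁) = Ideal.span {algebraMap C B₁ c} ∧
      (∀ b : K, b ∈ B₁ → ∃ (n : ℕ) (a : C), b * algebraMap C K c ^ n = algebraMap C K a) := by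
  classical
  obtain ⟨S, hS⟩ := hfg
  have hinj : Function.Injective (algebraMap C K) := IsFractionRing.injective C K
  -- the valuation ring
  let A₀ : Subring K := (algebraMap C K).range
  let e : C ≃+* A₀ := RingEquiv.ofBijective (algebraMap C K).rangeRestrict
    ⟨fun a b h => hinj (congrArg Subtype.val h), (algebraMap C K).rangeRestrict_surjective⟩
  have hI' : I.map (e : C →+* A₀) ≠ ⊤ := by
    intro h
    apply hI1
    have h1 : (I.map (e : C →+* A₀)).comap (e : C →+* A₀) = ⊤ := by rw [h, Ideal.comap_top]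
    have h2 : (I.map (e : C →+* A₀)).comap (e : C →+* A₀) = I :=
      Ideal.comap_map_of_bijective (e : C →+* A₀) e.bijective
    rw [← h2, h1]
  obtain ⟨V, hV, hVI⟩ := Ideal.image_subset_nonunits_valuationSubring _ hI'
  have hCV : ∀ a : C, algebraMap C K a ∈ V := fun a => hV ⟨a, rfl⟩
  have hIV : ∀ a ∈ I, algebraMap C K a ∈ V.nonunits := by
    intro a ha
    exact hVI ⟨e a, Ideal.mem_map_of_mem _ ha, rfl⟩
  -- the generator with the largest valuation
  have hne : S.Nonempty := by
    rw [Finset.nonempty_iff_ne_empty]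
    rintro rfl
    apply hI0
    rw [← hS]
    simp
  obtain ⟨c, hcS, hcmax⟩ := S.exists_max_image (fun a => V.valuation (algebraMap C K a)) hne
  have hcI : c ∈ I := by
    rw [← hS]
    exact Ideal.subset_span hcS
  have hc0 : c ≠ 0 := by
    rintro rfl
    apply hI0
    rw [← hS, Ideal.span_eq_bot]
    intro a ha
    have h1 := hcmax a ha
    rw [map_zero, map_zero, le_zero_iff, map_eq_zero, map_eq_zero_iff _ hinj] at h1
    exact h1
  have hcK : algebraMap C K c ≠ 0 := fun h => hc0 (hinj (by rw [h, map_zero]))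
  let G : Finset K := S.image (fun a => algebraMap C K a / algebraMap C K c)
  let B₁ : Subalgebra C K := Algebra.adjoin C (G : Set K)
  have hB₁V : ∀ b ∈ B₁, b ∈ V := by
    intro b hb
    induction hb using Algebra.adjoin_induction with
    | mem x hx =>
      obtain ⟨a, ha, rfl⟩ := Finset.mem_image.mp (Finset.mem_coe.mp hx)
      rw [← V.valuation_le_one_iff, map_div₀]
      exact div_le_one_of_le₀ (hcmax a ha) zero_le
    | algebraMap r => exact hCV r
    | add x y _ _ hx hy => exact add_mem hx hy
    | mul x y _ _ hx hy => exact mul_mem hx hy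
  refine ⟨c, B₁, hc0, hcI, ⟨G, rfl⟩, ?_, ?_, ?_⟩
  · intro hu
    obtain ⟨b, hb⟩ := hu.exists_right_inv
    have hb' : algebraMap C K c * (b : K) = 1 := congrArg Subtype.val hb
    have h1 := hIV c hcI
    rw [ValuationSubring.mem_nonunits_iff] at h1
    have h2 := congrArg V.valuation hb'
    rw [map_mul, map_one] at h2
    have h3 : V.valuation (b : K) ≤ 1 := (V.valuation_le_one_iff _).mpr (hB₁V _ b.2)
    have h4 : V.valuation (algebraMap C K c) * V.valuation (b : K) < 1 :=
      mul_lt_one_of_lt_of_le h1 h3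
    exact absurd h2 h4.ne
  · apply le_antisymm
    · rw [← hS, Ideal.map_span, Ideal.span_le]
      rintro _ ⟨a, ha, rfl⟩
      rw [SetLike.mem_coe, Ideal.mem_span_singleton']
      refine ⟨⟨algebraMap C K a / algebraMap C K c, Algebra.subset_adjoin (Finset.mem_coe.mpr
        (Finset.mem_image.mpr ⟨a, ha, rfl⟩))⟩, Subtype.ext ?_⟩
      exact div_mul_cancel₀ _ hcK
    · rw [Ideal.span_singleton_le_iff_mem]
      exact Ideal.mem_map_of_mem _ hcI
  · intro b hb
    induction hb using Algebra.adjoin_induction with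
    | mem x hx =>
      obtain ⟨a, ha, rfl⟩ := Finset.mem_image.mp (Finset.mem_coe.mp hx)
      exact ⟨1, a, by rw [pow_one, div_mul_cancel₀ _ hcK]⟩
    | algebraMap r => exact ⟨0, r, by simp⟩
    | add x y _ _ hx hy => exact (frac (C := C) (L := K) c).add_mem hx hy
    | mul x y _ _ hx hy => exact (frac (C := C) (L := K) c).mul_mem hx hy

/-- in a noetherian domain, for a minimal prime `q` over `π ≠ 0` and `c ≠ 0`, some `s π ^ n`, `s ∉ q`, is divisible by
`c`. -/
theorem exists_dvd {B : Type u} [CommRing B] [IsDomain B] [IsNoetherianRing B] (π c : B) (hc : c ≠ 0)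
    (q : Ideal B) (hq : q ∈ (Ideal.span {π}).minimalPrimes) :
    ∃ (s : B) (n : ℕ), s ∉ q ∧ c ∣ s * π ^ n := by
  have hqp : q.IsPrime := hq.1.1
  have hπq : π ∈ q := hq.1.2 (Ideal.mem_span_singleton_self π)
  have hht : q.height ≤ 1 := Ideal.height_le_one_of_isPrincipal_of_mem_minimalPrimes _ _ hq
  by_contra hcon
  push Not at hcon
  let M : Submonoid B := q.primeCompl ⊔ Submonoid.powers π
  have hdisj : Disjoint (Ideal.span {c} : Set B) (M : Set B) := by
    rw [Set.disjoint_left]
    intro x hx hxM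
    obtain ⟨s, hs, y, ⟨n, rfl⟩, rfl⟩ := Submonoid.mem_sup.mp hxM
    exact hcon s n hs (Ideal.mem_span_singleton.mp hx)
  obtain ⟨P, hP, hcP, hPM⟩ := Ideal.exists_le_prime_disjoint (Ideal.span {c}) M hdisj
  have hPq : P ≤ q := by
    intro x hx
    by_contra hxq
    exact Set.disjoint_left.mp hPM hx ((le_sup_left : q.primeCompl ≤ M) hxq)
  have hπP : π ∉ P := fun h => Set.disjoint_left.mp hPM h ((le_sup_right : Submonoid.powers π ≤ M) ⟨1, pow_one π⟩)
  have hPq' : P < q := lt_of_le_of_ne hPq (fun h => hπP (h ▸ hπq))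
  have hP0 : (⊥ : Ideal B) < P := by
    rw [bot_lt_iff_ne_bot]
    rintro rfl
    exact hc (by simpa using hcP)
  have h1 : P.height < q.height := Ideal.height_strict_mono_of_isPrime hPq'
  have hbp : (⊥ : Ideal B).IsPrime := Ideal.isPrime_bot
  have h2 : (⊥ : Ideal B).height < P.height := Ideal.height_strict_mono_of_isPrime hP0
  have h3 : (1 : ℕ∞) ≤ P.height := Order.one_le_iff_pos.mpr (lt_of_le_of_lt bot_le h2)
  exact absurd (lt_of_lt_of_le (lt_of_le_of_lt h3 h1) hht) (lt_irrefl _)

/-- **a chart of the blowing up** of a nonzero proper ideal `I` in a noetherian domain, shrunk such that the complement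
of the exceptional divisor is a basic open of `C` on which `c₀` is invertible. -/
theorem exists_chart_away {C : Type u} [CommRing C] [IsDomain C] [IsNoetherianRing C] (I : Ideal C) (hI0 : I ≠ ⊥)
    (hI1 : I ≠ ⊤) (c₀ : C) (hc₀ : c₀ ≠ 0) :
    ∃ (B : Type u) (_ : CommRing B) (_ : IsDomain B) (_ : Algebra C B) (π : B) (h : C),
      Function.Injective (algebraMap C B) ∧ Algebra.FiniteType C B ∧ π ≠ 0 ∧ ¬ IsUnit π ∧
      I.map (algebraMap C B) = Ideal.span {π} ∧ IsLocalization.Away h (Localization.Away π) ∧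
      IsUnit (algebraMap C (Localization.Away π) c₀) := by
  let K := FractionRing C
  obtain ⟨c, B₁, hc0, hcI, hfg, hcu, hIc, hB₁⟩ := exists_chart K I hI0 hI1 (IsNoetherian.noetherian I)
  have hinj : Function.Injective (algebraMap C K) := IsFractionRing.injective C K
  have hinj₁ : Function.Injective (algebraMap C B₁) := fun a b hab => hinj (congrArg Subtype.val hab)
  have hft₁ : Algebra.FiniteType C B₁ := B₁.fg_iff_finiteType.mp hfg
  have hnoeth : IsNoetherianRing B₁ := Algebra.FiniteType.isNoetherianRing C B₁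
  set π₁ : B₁ := algebraMap C B₁ c with hπ₁
  have hπ₁0 : π₁ ≠ 0 := fun h => hc0 (hinj₁ (by rw [← hπ₁, h, map_zero]))
  -- a minimal prime over `π₁`
  obtain ⟨q, hq⟩ : Nonempty (Ideal.span {π₁}).minimalPrimes := by
    apply Ideal.nonempty_minimalPrimes
    rw [Ne, Ideal.span_singleton_eq_top]
    exact hcu
  have hqp : q.IsPrime := hq.1.1
  have hπq : π₁ ∈ q := hq.1.2 (Ideal.mem_span_singleton_self π₁)
  obtain ⟨s, n, hsq, hdvd⟩ := exists_dvd π₁ (algebraMap C B₁ c₀)
    (fun h => hc₀ (hinj₁ (by rw [h, map_zero]))) q hq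
  have hs0 : s ≠ 0 := fun h => hsq (h ▸ zero_mem q)
  obtain ⟨m, h₁, hh₁⟩ := hB₁ s s.2
  have hh₁' : s * π₁ ^ m = algebraMap C B₁ h₁ := Subtype.ext hh₁
  let B := Localization.Away s
  have hBdom : IsDomain B := IsLocalization.isDomain_localization (powers_le_nonZeroDivisors_of_noZeroDivisors hs0)
  have hinjB : Function.Injective (algebraMap B₁ B) :=
    IsLocalization.injective B (powers_le_nonZeroDivisors_of_noZeroDivisors hs0)
  set π : B := algebraMap B₁ B π₁ with hπ
  have hπC : π = algebraMap C B c := by rw [hπ, hπ₁, ← IsScalarTower.algebraMap_apply]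
  have hπ0 : π ≠ 0 := fun h => hπ₁0 (hinjB (by rw [← hπ, h, map_zero]))
  have hinjCB : Function.Injective (algebraMap C B) := by
    rw [IsScalarTower.algebraMap_eq C B₁ B]
    exact hinjB.comp hinj₁
  let L := Localization.Away π
  have hLdom : IsDomain L := IsLocalization.isDomain_localization (powers_le_nonZeroDivisors_of_noZeroDivisors hπ0)
  have hinjL : Function.Injective (algebraMap B L) :=
    IsLocalization.injective L (powers_le_nonZeroDivisors_of_noZeroDivisors hπ0)
  have hinjCL : Function.Injective (algebraMap C L) := by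
    rw [IsScalarTower.algebraMap_eq C B L]
    exact hinjL.comp hinjCB
  have hft : Algebra.FiniteType C B :=
    hft₁.trans (IsLocalization.finiteType_of_monoid_fg (Submonoid.powers s) B)
  have huπ : IsUnit (algebraMap B L π) := IsLocalization.Away.algebraMap_isUnit π
  have hus : IsUnit (algebraMap B L (algebraMap B₁ B s)) := (IsLocalization.Away.algebraMap_isUnit s).map _
  have hcL : algebraMap C L c = algebraMap B L π :=
    (IsScalarTower.algebraMap_apply C B L c).trans (congrArg (algebraMap B L) hπC.symm)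
  have hh₁L : algebraMap C L h₁ = algebraMap B L (algebraMap B₁ B s) * algebraMap B L π ^ m := by
    rw [IsScalarTower.algebraMap_apply C B L, IsScalarTower.algebraMap_apply C B₁ B, ← hh₁', map_mul, map_mul,
      map_pow, map_pow]
  have huh : IsUnit (algebraMap C L (h₁ * c)) := by
    rw [map_mul, hh₁L, hcL]
    exact (hus.mul (huπ.pow m)).mul huπ
  refine ⟨B, inferInstance, hBdom, inferInstance, π, h₁ * c, hinjCB, hft, hπ0, ?_, ?_, ?_, ?_⟩
  · -- not a unit
    intro hu
    obtain ⟨b, hb⟩ := hu.exists_right_inv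
    obtain ⟨⟨b', ⟨_, e, rfl⟩⟩, hb'⟩ := IsLocalization.surj (Submonoid.powers s) b
    apply hsq
    have h1 : algebraMap B₁ B (π₁ * b') = algebraMap B₁ B (s ^ e) := by
      rw [map_mul, ← hb', ← mul_assoc]
      change π * b * algebraMap B₁ B (s ^ e) = _
      rw [hb, one_mul]
    have h2 : π₁ * b' = s ^ e := hinjB h1
    exact hqp.mem_of_pow_mem e (h2 ▸ Ideal.mul_mem_right _ _ hπq)
  · rw [IsScalarTower.algebraMap_eq C B₁ B, ← Ideal.map_map, hIc, Ideal.map_span, Set.image_singleton]
  · apply isLocalization_away_of hinjCL _ huh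
    intro x
    change x ∈ frac (L := L) (h₁ * c)
    -- generators of `B₁`
    have hB₁L : ∀ b : B₁, algebraMap B L (algebraMap B₁ B b) ∈ frac (C := C) (L := L) (h₁ * c) := by
      intro b
      obtain ⟨e, a, ha⟩ := hB₁ b b.2
      have ha' : b * π₁ ^ e = algebraMap C B₁ a := Subtype.ext ha
      refine ⟨e, a * h₁ ^ e, ?_⟩
      have h1 : algebraMap C L a = algebraMap B L (algebraMap B₁ B b) * algebraMap B L π ^ e := by
        rw [IsScalarTower.algebraMap_apply C B L, IsScalarTower.algebraMap_apply C B₁ B, ← ha', map_mul, map_mul,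
          map_pow, map_pow]
      rw [map_mul, map_mul, h1, hcL, map_pow]
      ring
    have hinvs : ∀ y : L, y * algebraMap B L (algebraMap B₁ B s) = 1 → y ∈ frac (C := C) (L := L) (h₁ * c) := by
      intro y hy
      refine ⟨1, c ^ (m + 1), ?_⟩
      rw [pow_one, map_mul, hh₁L, map_pow, hcL, pow_succ, ← mul_assoc, ← mul_assoc, hy, one_mul]
    have hinvπ : ∀ y : L, y * algebraMap B L π = 1 → y ∈ frac (C := C) (L := L) (h₁ * c) := by
      intro y hy
      refine ⟨1, h₁, ?_⟩
      rw [pow_one, map_mul, hcL, mul_left_comm, hy, mul_one]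
    have hBL : ∀ b : B, algebraMap B L b ∈ frac (C := C) (L := L) (h₁ * c) := by
      intro b
      obtain ⟨⟨b', ⟨_, e, rfl⟩⟩, hb'⟩ := IsLocalization.surj (Submonoid.powers s) b
      obtain ⟨y, hy⟩ := hus.exists_left_inv
      have h1 : algebraMap B L b = algebraMap B L (algebraMap B₁ B b') * y ^ e := by
        rw [← hb', map_mul]
        change _ = algebraMap B L b * algebraMap B L (algebraMap B₁ B (s ^ e)) * y ^ e
        rw [map_pow, map_pow, mul_assoc, ← mul_pow, mul_comm _ y, hy, one_pow, mul_one]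
      rw [h1]
      exact mul_mem (hB₁L _) (pow_mem (hinvs y hy) _)
    obtain ⟨⟨b, ⟨_, e, rfl⟩⟩, hb⟩ := IsLocalization.surj (Submonoid.powers π) x
    obtain ⟨y, hy⟩ := huπ.exists_left_inv
    have h1 : x = algebraMap B L b * y ^ e := by
      rw [← hb]
      change _ = x * algebraMap B L (π ^ e) * y ^ e
      rw [map_pow, mul_assoc, ← mul_pow, mul_comm _ y, hy, one_pow, mul_one]
    rw [h1]
    exact mul_mem (hBL _) (pow_mem (hinvπ y hy) _)
  · obtain ⟨b, hb⟩ := hdvd
    have h1 : algebraMap B L (algebraMap B₁ B (s * π₁ ^ n)) = algebraMap C L c₀ * algebraMap B L (algebraMap B₁ B b) := by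
      rw [hb, map_mul, map_mul, ← IsScalarTower.algebraMap_apply C B₁ B, ← IsScalarTower.algebraMap_apply C B L]
    have h2 : IsUnit (algebraMap B L (algebraMap B₁ B (s * π₁ ^ n))) := by
      rw [map_mul, map_mul, map_pow, map_pow]
      exact hus.mul (huπ.pow n)
    rw [h1] at h2
    exact isUnit_of_mul_isUnit_left h2

end Groth.Agent.LoccohA.LichtAlg
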