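import Groth.Agent.LoccohA.OmClosed
import Mathlib.AlgebraicGeometry.PullbackCarrier

/-!
# Zero loci on an affine open which are closed, the nonproper case

Generalization of `OmClosed.isClosed_zeroLocus`: `V` is an affine open of `Y` over `R`, and `V ⟶ Y ×_R Spec B'` is
universally closed (if `B' = Γ(Y, V)` this is automatic for separated `Y`).
-/

set_option autoImplicit false
universe u
open CategoryTheory AlgebraicGeometry TopologicalSpace Opposite CategoryTheory.Limits

namespace Groth.Agent.LoccohA.LichtClosed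

/-- the ring map `R → Γ(Y, V)` of a scheme over `R`. -/
noncomputable abbrev toSec {Y : Scheme.{u}} {R : Type u} [CommRing R] (q : Y ⟶ Spec (CommRingCat.of R)) (V : Y.Opens) :
    R →+* Γ(Y, V) := (Y.presheaf.map (homOfLE le_top : V ⟶ ⊤).op).hom.comp (Coh.toGlobal q)

/-- the zero locus of sections on an affine open as an image. -/
theorem image_zeroLocus {Y : Scheme.{u}} {V : Y.Opens} (hV : IsAffineOpen V) {ι : Type*} (f : ι → Γ(Y, V)) :
    (hV.fromSpec '' (PrimeSpectrum.zeroLocus (Set.range f) : Set (PrimeSpectrum Γ(Y, V))) : Set Y) =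
      (V : Set Y) \ ⋃ i, (Y.basicOpen (f i) : Set Y) := by
  have h3 : (PrimeSpectrum.zeroLocus (Set.range f) : Set (PrimeSpectrum Γ(Y, V))) = hV.fromSpec ⁻¹'
      ((V : Set Y) \ ⋃ i, (Y.basicOpen (f i) : Set Y)) := by
    ext x
    constructor
    · intro hx
      refine ⟨?_, ?_⟩
      · have : hV.fromSpec x ∈ Set.range hV.fromSpec := ⟨x, rfl⟩
        rwa [hV.range_fromSpec] at this
      · intro hx2
        obtain ⟨i, hi⟩ := Set.mem_iUnion.1 hx2
        have h4 : x ∈ hV.fromSpec ⁻¹ᵁ Y.basicOpen (f i) := hi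
        rw [hV.fromSpec_preimage_basicOpen] at h4
        exact h4 (hx ⟨i, rfl⟩)
    · rintro ⟨_, hx⟩
      rintro _ ⟨i, rfl⟩
      by_contra hi
      apply hx
      refine Set.mem_iUnion.2 ⟨i, ?_⟩
      have h4 : x ∈ hV.fromSpec ⁻¹ᵁ Y.basicOpen (f i) := by
        rw [hV.fromSpec_preimage_basicOpen]
        exact hi
      exact h4
  rw [h3, Set.image_preimage_eq_inter_range, hV.range_fromSpec]
  exact Set.inter_eq_left.2 Set.sdiff_subset

/-- **closedness of zero loci**. -/
theorem isClosed_zeroLocus {Y : Scheme.{u}} {R : Type u} [CommRing R]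
    (q : Y ⟶ Spec (CommRingCat.of R)) {V : Y.Opens} (hV : IsAffineOpen V)
    {B : Type u} [CommRing B] (ρ : R →+* B) (β : B →+* Γ(Y, V)) (hβ : β.comp ρ = toSec q V)
    (hcl : ∀ (h : hV.fromSpec ≫ q = Spec.map (CommRingCat.ofHom β) ≫ Spec.map (CommRingCat.ofHom ρ)),
      UniversallyClosed (pullback.lift hV.fromSpec (Spec.map (CommRingCat.ofHom β)) h))
    {ι : Type*} (F : ι → B) (hint : ((Ideal.Quotient.mk (Ideal.span (Set.range F))).comp ρ).IsIntegral) :
    IsClosed ((V : Set Y) \ ⋃ i, (Y.basicOpen (β (F i)) : Set Y)) := by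
  have h : hV.fromSpec ≫ q = Spec.map (CommRingCat.ofHom β) ≫ Spec.map (CommRingCat.ofHom ρ) := by
    rw [OmClosed.fromSpec_comp, ← Spec.map_comp, ← CommRingCat.ofHom_comp, hβ]
  let I : Ideal B := Ideal.span (Set.range F)
  let Q := pullback q (Spec.map (CommRingCat.ofHom ρ))
  let g : Spec Γ(Y, V) ⟶ Q := pullback.lift hV.fromSpec (Spec.map (CommRingCat.ofHom β)) h
  have hg : UniversallyClosed g := hcl h
  let i : Spec (CommRingCat.of (B ⧸ I)) ⟶ Spec (CommRingCat.of B) := Spec.map (CommRingCat.ofHom (Ideal.Quotient.mk I))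
  let N := pullback (pullback.snd q (Spec.map (CommRingCat.ofHom ρ))) i
  -- `N ⟶ Y` is universally closed
  have hN : IsPullback (pullback.snd (pullback.snd q (Spec.map (CommRingCat.ofHom ρ))) i)
      (pullback.fst (pullback.snd q (Spec.map (CommRingCat.ofHom ρ))) i ≫ pullback.fst q _)
      (i ≫ Spec.map (CommRingCat.ofHom ρ)) q :=
    (IsPullback.of_hasPullback (pullback.snd q (Spec.map (CommRingCat.ofHom ρ))) i).flip.paste_vert
      (IsPullback.of_hasPullback q (Spec.map (CommRingCat.ofHom ρ))).flip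
  have hiρ : UniversallyClosed (i ≫ Spec.map (CommRingCat.ofHom ρ)) := by
    have h1 : i ≫ Spec.map (CommRingCat.ofHom ρ) = Spec.map (CommRingCat.ofHom ((Ideal.Quotient.mk I).comp ρ)) := by
      change Spec.map _ ≫ Spec.map _ = _
      rw [← Spec.map_comp]
      rfl
    have h2 : IsIntegralHom (i ≫ Spec.map (CommRingCat.ofHom ρ)) := by
      rw [h1, IsIntegralHom.SpecMap_iff]
      exact hint
    infer_instance
  have hNY : UniversallyClosed (pullback.fst (pullback.snd q (Spec.map (CommRingCat.ofHom ρ))) i ≫ pullback.fst q _) :=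
    MorphismProperty.of_isPullback hN hiρ
  -- the closed subset
  let S₀ : Set (Spec Γ(Y, V)) := (PrimeSpectrum.zeroLocus (Set.range fun i => β (F i)) : Set (PrimeSpectrum Γ(Y, V)))
  have hS₀ : IsClosed S₀ := PrimeSpectrum.isClosed_zeroLocus _
  have hSig : IsClosed (g '' S₀) := g.isClosedMap _ hS₀
  let m : N ⟶ Q := pullback.fst (pullback.snd q (Spec.map (CommRingCat.ofHom ρ))) i
  have hsub : g '' S₀ ⊆ Set.range m := by
    rintro _ ⟨x, hx, rfl⟩
    rw [Scheme.Pullback.range_fst]
    have h1 : pullback.snd q (Spec.map (CommRingCat.ofHom ρ)) (g x) = Spec.map (CommRingCat.ofHom β) x := by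
      rw [← Scheme.Hom.comp_apply, pullback.lift_snd]
    rw [Set.mem_preimage, h1]
    have h2 : Set.range i = PrimeSpectrum.zeroLocus (I : Set B) := by
      have := range_comap_of_surjective (B ⧸ I) (Ideal.Quotient.mk I) Ideal.Quotient.mk_surjective
      rw [Ideal.mk_ker] at this
      exact this
    rw [h2]
    change (Spec.map (CommRingCat.ofHom β) x) ∈ PrimeSpectrum.zeroLocus (Ideal.span (Set.range F) : Set B)
    rw [PrimeSpectrum.zeroLocus_span]
    rintro _ ⟨l, rfl⟩
    exact hx ⟨l, rfl⟩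
  have himg : (m ≫ pullback.fst q _) '' (m ⁻¹' (g '' S₀)) = hV.fromSpec '' S₀ := by
    have h1 : (m ≫ pullback.fst q _ : N ⟶ Y) '' (m ⁻¹' (g '' S₀)) =
        (pullback.fst q (Spec.map (CommRingCat.ofHom ρ))) '' (m '' (m ⁻¹' (g '' S₀))) := by
      rw [← Set.image_comp]
      rfl
    rw [h1, Set.image_preimage_eq_inter_range, Set.inter_eq_left.mpr hsub, ← Set.image_comp]
    refine Set.image_congr fun x _ => ?_
    rw [Function.comp_apply, ← Scheme.Hom.comp_apply, pullback.lift_fst]
  rw [← image_zeroLocus hV]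
  change IsClosed (hV.fromSpec '' S₀)
  rw [← himg]
  exact (m ≫ pullback.fst q _).isClosedMap _ (hSig.preimage m.continuous)

/-- universal closedness of `V ⟶ X ×ₖ Spec B` passes to base changes, also after enlarging `B`. -/
theorem universallyClosed_lift {k : Type u} [CommRing k] {X Y : Scheme.{u}} (f : X ⟶ Spec (CommRingCat.of k))
    {R : Type u} [CommRing R] (κ : k →+* R) (p : Y ⟶ X) (q : Y ⟶ Spec (CommRingCat.of R))
    (H : IsPullback p q f (Spec.map (CommRingCat.ofHom κ))) {V : X.Opens} (hV : IsAffineOpen V)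
    (hV' : IsAffineOpen (p ⁻¹ᵁ V)) {B : Type u} [CommRing B] (φ : k →+* B) (β : B →+* Γ(X, V))
    (hc : hV.fromSpec ≫ f = Spec.map (CommRingCat.ofHom β) ≫ Spec.map (CommRingCat.ofHom φ))
    (hcl : UniversallyClosed (pullback.lift hV.fromSpec (Spec.map (CommRingCat.ofHom β)) hc))
    {B' : Type u} [CommRing B'] (ρ' : R →+* B') (σ : B →+* B') (hρσ : ρ'.comp κ = σ.comp φ)
    (β' : B' →+* Γ(Y, p ⁻¹ᵁ V)) (hβσ : β'.comp σ = (p.app V).hom.comp β)
    (h : hV'.fromSpec ≫ q = Spec.map (CommRingCat.ofHom β') ≫ Spec.map (CommRingCat.ofHom ρ')) :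
    UniversallyClosed (pullback.lift hV'.fromSpec (Spec.map (CommRingCat.ofHom β')) h) := by
  let g : Spec Γ(X, V) ⟶ pullback f (Spec.map (CommRingCat.ofHom φ)) :=
    pullback.lift hV.fromSpec (Spec.map (CommRingCat.ofHom β)) hc
  let Q' := pullback q (Spec.map (CommRingCat.ofHom ρ'))
  let E := pullback (p ≫ f) (Spec.map (CommRingCat.ofHom φ))
  let u : Spec Γ(Y, p ⁻¹ᵁ V) ⟶ Q' := pullback.lift hV'.fromSpec (Spec.map (CommRingCat.ofHom β')) h
  have hρσ' : Spec.map (CommRingCat.ofHom ρ') ≫ Spec.map (CommRingCat.ofHom κ) =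
      Spec.map (CommRingCat.ofHom σ) ≫ Spec.map (CommRingCat.ofHom φ) := by
    rw [← Spec.map_comp, ← Spec.map_comp, ← CommRingCat.ofHom_comp, ← CommRingCat.ofHom_comp, hρσ]
  let v : Q' ⟶ E := pullback.lift (pullback.fst q (Spec.map (CommRingCat.ofHom ρ')))
    (pullback.snd q (Spec.map (CommRingCat.ofHom ρ')) ≫ Spec.map (CommRingCat.ofHom σ)) (by
      rw [Category.assoc, ← hρσ', H.w, ← pullback.condition_assoc])
  have hv : IsSeparated v := by
    have h1 : IsSeparated (v ≫ pullback.fst (p ≫ f) (Spec.map (CommRingCat.ofHom φ))) := by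
      rw [pullback.lift_fst]
      infer_instance
    exact IsSeparated.of_comp v (pullback.fst (p ≫ f) (Spec.map (CommRingCat.ofHom φ)))
  -- the pullback squares
  let e : E ⟶ pullback f (Spec.map (CommRingCat.ofHom φ)) :=
    pullback.lift (pullback.fst (p ≫ f) (Spec.map (CommRingCat.ofHom φ)) ≫ p)
      (pullback.snd (p ≫ f) (Spec.map (CommRingCat.ofHom φ))) (by
        rw [Category.assoc, pullback.condition])
  have hbot : IsPullback e (pullback.fst (p ≫ f) (Spec.map (CommRingCat.ofHom φ)))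
      (pullback.fst f (Spec.map (CommRingCat.ofHom φ))) p := by
    refine IsPullback.of_right (h₁₂ := pullback.snd f (Spec.map (CommRingCat.ofHom φ))) ?_ ?_
      (IsPullback.of_hasPullback f (Spec.map (CommRingCat.ofHom φ))).flip
    · have h1 : e ≫ pullback.snd f (Spec.map (CommRingCat.ofHom φ)) = pullback.snd (p ≫ f) _ :=
        pullback.lift_snd _ _ _
      rw [h1]
      exact (IsPullback.of_hasPullback (p ≫ f) (Spec.map (CommRingCat.ofHom φ))).flip
    · exact pullback.lift_fst _ _ _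
  have hufst : (u ≫ v) ≫ pullback.fst (p ≫ f) (Spec.map (CommRingCat.ofHom φ)) = hV'.fromSpec := by
    rw [Category.assoc, pullback.lift_fst, pullback.lift_fst]
  have husnd : (u ≫ v) ≫ pullback.snd (p ≫ f) (Spec.map (CommRingCat.ofHom φ)) =
      Spec.map (CommRingCat.ofHom (β'.comp σ)) := by
    rw [Category.assoc, pullback.lift_snd, pullback.lift_snd_assoc, ← Spec.map_comp]
    rfl
  have hsq : Spec.map (p.app V) ≫ hV.fromSpec = hV'.fromSpec ≫ p := by
    rw [← IsAffineOpen.SpecMap_appLE_fromSpec p hV hV' le_rfl, Scheme.Hom.app_eq_appLE]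
  have hbig : IsPullback (Spec.map (p.app V)) ((u ≫ v) ≫ pullback.fst (p ≫ f) (Spec.map (CommRingCat.ofHom φ)))
      (g ≫ pullback.fst f (Spec.map (CommRingCat.ofHom φ))) p := by
    rw [hufst, pullback.lift_fst]
    apply IsOpenImmersion.isPullback _ _ _ _ hsq.symm
    rw [hV.opensRange_fromSpec, hV'.opensRange_fromSpec]
  have htop : IsPullback (Spec.map (p.app V)) (u ≫ v) g e := by
    refine IsPullback.of_bot hbig ?_ hbot
    apply pullback.hom_ext
    · rw [Category.assoc, Category.assoc, pullback.lift_fst, pullback.lift_fst, ← Category.assoc, hufst, hsq]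
    · rw [Category.assoc, Category.assoc, pullback.lift_snd, pullback.lift_snd, husnd, hβσ, ← Spec.map_comp]
      rfl
  have huv : UniversallyClosed (u ≫ v) := MorphismProperty.of_isPullback htop hcl
  exact UniversallyClosed.of_comp_of_isSeparated u v

end Groth.Agent.LoccohA.LichtClosed
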