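import Groth.Agent.LoccohA.OmAlg529
import Mathlib.RingTheory.Algebraic.Integral
import Mathlib.RingTheory.Finiteness.Nakayama
import Mathlib.RingTheory.Nakayama
import Mathlib.RingTheory.IntegralClosure.IsIntegralClosure.Basic
import Mathlib.RingTheory.MvPolynomial.Basic

/-!
# Algebra for Lichtenbaum's theorem
-/

set_option autoImplicit false
universe u

namespace Groth.Agent.LoccohA.LichtTau

open MvPolynomial

/-- a symbol functional on a module on which a nonunit `π` of the domain `B` acts surjectively vanishes. -/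
theorem tau_eq_zero {k : Type u} [Field k] (d : ℕ) {B : Type u} [CommRing B] [IsDomain B] [Algebra k B]
    (b : Fin d → B) (hfin : (aeval (R := k) b).toRingHom.Finite) (π : B) (hπ : ¬ IsUnit π)
    {M : Type u} [AddCommGroup M] [Module B M] [Module k M] [IsScalarTower k B M]
    (hM : ∀ m : M, ∃ m' : M, π • m' = m) (τ : M →ₗ[k] MvPolynomial (Fin d) k)
    (hτ : ∀ i m, τ (b i • m) = X i * τ m) (m : M) : τ m = 0 := by
  let K : Submodule B M :=
    { carrier := {m | ∀ c : B, τ (c • m) = 0}
      add_mem' := fun {x y} hx hy c => by rw [smul_add, map_add, hx, hy, add_zero]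
      zero_mem' := fun c => by rw [smul_zero, map_zero]
      smul_mem' := fun a x hx c => by rw [← mul_smul]; exact hx _ }
  have hK : ∀ x ∈ K, τ x = 0 := fun x hx => by simpa using hx 1
  let τ' : (M ⧸ K) →ₗ[k] MvPolynomial (Fin d) k :=
    Submodule.liftQ (K.restrictScalars k) τ (fun x hx => hK x hx)
  have hτ'mk : ∀ x : M, τ' (Submodule.Quotient.mk x) = τ x := fun x => rfl
  have hfinQ : Module.Finite B (M ⧸ K) := by
    refine OmAlg529.finite_of_tau b hfin τ' ?_ ?_
    · intro i x
      obtain ⟨x, rfl⟩ := Submodule.Quotient.mk_surjective K x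
      rw [← Submodule.Quotient.mk_smul, hτ'mk, hτ'mk, hτ]
    · intro x hx
      obtain ⟨x, rfl⟩ := Submodule.Quotient.mk_surjective K x
      rw [Submodule.Quotient.mk_eq_zero]
      intro c
      have := hx c
      rwa [← Submodule.Quotient.mk_smul, hτ'mk] at this
  obtain ⟨r, hr, hr0⟩ := Submodule.exists_sub_one_mem_and_smul_eq_zero_of_fg_of_le_smul (Ideal.span {π})
    (⊤ : Submodule B (M ⧸ K)) hfinQ.fg_top (by
      intro x _
      obtain ⟨x, rfl⟩ := Submodule.Quotient.mk_surjective K x
      obtain ⟨y, rfl⟩ := hM x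
      rw [Submodule.Quotient.mk_smul]
      exact Submodule.smul_mem_smul (Ideal.mem_span_singleton_self π) trivial)
  have hr1 : r ≠ 0 := by
    rintro rfl
    apply hπ
    rw [zero_sub, neg_mem_iff] at hr
    exact isUnit_of_dvd_one (Ideal.mem_span_singleton.mp hr)
  have hrK : ∀ x : M, r • x ∈ K := by
    intro x
    have := hr0 (Submodule.Quotient.mk x) trivial
    rwa [← Submodule.Quotient.mk_smul, Submodule.Quotient.mk_eq_zero] at this
  let _ : Algebra (MvPolynomial (Fin d) k) B := (aeval (R := k) b).toRingHom.toAlgebra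
  have hint : IsIntegral (MvPolynomial (Fin d) k) r := hfin.to_isIntegral r
  obtain ⟨a, ha, c, hc⟩ := hint.isAlgebraic.exists_nonzero_dvd (mem_nonZeroDivisors_of_ne_zero hr1)
  have h1 : τ ((aeval b a : B) • m) = 0 := by
    have h2 : (aeval b a : B) = r * c := hc
    rw [h2, mul_comm, mul_smul]
    exact hrK m c
  rw [OmAlg529.tau_aeval b τ hτ] at h1
  exact (mul_eq_zero.mp h1).resolve_left ha

/-- the ring `B[s] / (g_i(b_i) - g_i(s_i))` is integral over `k[s]`. -/
theorem isIntegral_quot {k : Type u} [Field k] (d : ℕ) {B : Type u} [CommRing B] [Algebra k B]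
    (b : Fin d → B) (hint : (aeval (R := k) b).toRingHom.IsIntegral) (g : Fin d → Polynomial k)
    (hg : ∀ i, (g i).Monic) (hg1 : ∀ i, g i ≠ 1) :
    ((Ideal.Quotient.mk (Ideal.span (Set.range fun i : Fin d =>
      (C ((g i).aeval (b i)) - (g i).aeval (X i) : MvPolynomial (Fin d) B)))).comp
      (MvPolynomial.map (algebraMap k B))).IsIntegral := by
  set J : Ideal (MvPolynomial (Fin d) B) := Ideal.span (Set.range fun i : Fin d =>
      (C ((g i).aeval (b i)) - (g i).aeval (X i) : MvPolynomial (Fin d) B)) with hJ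
  set ψ : MvPolynomial (Fin d) k →+* MvPolynomial (Fin d) B ⧸ J :=
    (Ideal.Quotient.mk J).comp (MvPolynomial.map (algebraMap k B)) with hψ
  let _ : Algebra (MvPolynomial (Fin d) k) (MvPolynomial (Fin d) B ⧸ J) := ψ.toAlgebra
  have halg : ∀ p, algebraMap (MvPolynomial (Fin d) k) (MvPolynomial (Fin d) B ⧸ J) p = ψ p := fun _ => rfl
  let IC : Subalgebra (MvPolynomial (Fin d) k) (MvPolynomial (Fin d) B ⧸ J) := integralClosure _ _
  -- the elements `b i`
  have hb : ∀ i, Ideal.Quotient.mk J (C (b i)) ∈ IC := by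
    intro i
    have hdeg : 0 < (g i).natDegree := by
      rw [Nat.pos_iff_ne_zero]
      intro h
      exact hg1 i ((hg i).natDegree_eq_zero.mp h)
    refine ⟨(g i).map C - Polynomial.C ((g i).aeval (X i : MvPolynomial (Fin d) k)), ?_, ?_⟩
    · rw [Polynomial.Monic.def, Polynomial.leadingCoeff_sub_of_degree_lt]
      · exact (hg i).map _
      · refine lt_of_le_of_lt Polynomial.degree_C_le ?_
        rw [(hg i).degree_map]
        exact Polynomial.natDegree_pos_iff_degree_pos.mp hdeg
    · rw [Polynomial.eval₂_sub, Polynomial.eval₂_C, Polynomial.eval₂_map, halg, sub_eq_zero]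
      have h1 : (Polynomial.eval₂ ((algebraMap (MvPolynomial (Fin d) k) (MvPolynomial (Fin d) B ⧸ J)).comp C)
          (Ideal.Quotient.mk J (C (b i))) (g i)) = Ideal.Quotient.mk J (C ((g i).aeval (b i))) := by
        rw [Polynomial.aeval_def, Polynomial.hom_eval₂, Polynomial.hom_eval₂]
        congr 1
        ext a
        simp [halg, hψ]
      have h2 : ψ ((g i).aeval (X i : MvPolynomial (Fin d) k)) =
          Ideal.Quotient.mk J ((g i).aeval (X i : MvPolynomial (Fin d) B)) := by
        rw [hψ, RingHom.comp_apply, Polynomial.aeval_def, Polynomial.aeval_def, Polynomial.hom_eval₂]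
        congr 2
        · ext a
          simp
        · simp
      rw [h1, h2, Ideal.Quotient.eq]
      exact Ideal.subset_span ⟨i, rfl⟩
  have hbp : ∀ p : MvPolynomial (Fin d) k, Ideal.Quotient.mk J (C (aeval b p)) ∈ IC := by
    intro p
    induction p using MvPolynomial.induction_on with
    | C a =>
      have h1 : Ideal.Quotient.mk J (C (aeval b (C a : MvPolynomial (Fin d) k))) = ψ (C a) := by
        simp [hψ]
      rw [h1, ← halg]
      exact IC.algebraMap_mem _
    | add p q hp hq =>
      rw [map_add, map_add, map_add]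
      exact add_mem hp hq
    | mul_X p i hp =>
      rw [map_mul, map_mul, map_mul, aeval_X]
      exact mul_mem hp (hb i)
  have hc : ∀ c : B, Ideal.Quotient.mk J (C c) ∈ IC := by
    intro c
    obtain ⟨P, hP, hPc⟩ := hint c
    let α : MvPolynomial (Fin d) k →+* IC :=
      (((Ideal.Quotient.mk J).comp C).comp (aeval (R := k) b).toRingHom).codRestrict IC.toSubring hbp
    have h1 : IsIntegral IC (Ideal.Quotient.mk J (C c)) := by
      refine ⟨P.map α, hP.map _, ?_⟩
      rw [Polynomial.eval₂_map]
      have h2 := congrArg ((Ideal.Quotient.mk J).comp C) hPc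
      rw [map_zero, Polynomial.hom_eval₂] at h2
      exact h2
    exact isIntegral_trans (R := MvPolynomial (Fin d) k) (A := IC) _ h1
  intro x
  obtain ⟨x, rfl⟩ := Ideal.Quotient.mk_surjective x
  change Ideal.Quotient.mk J x ∈ IC
  induction x using MvPolynomial.induction_on with
  | C a => exact hc a
  | add p q hp hq =>
    rw [map_add]
    exact add_mem hp hq
  | mul_X p i hp =>
    rw [map_mul]
    refine mul_mem hp ?_
    have h1 : Ideal.Quotient.mk J (X i) = ψ (X i) := by
      simp [hψ]
    rw [h1, ← halg]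
    exact IC.algebraMap_mem _

/-- the ring `B / (g_i(b_i))` is integral over `k`. -/
theorem isIntegral_quot₀ {k : Type u} [Field k] (d : ℕ) {B : Type u} [CommRing B] [Algebra k B]
    (b : Fin d → B) (hint : (aeval (R := k) b).toRingHom.IsIntegral) (g : Fin d → Polynomial k)
    (hg : ∀ i, (g i).Monic) :
    ((Ideal.Quotient.mk (Ideal.span (Set.range fun i : Fin d => (g i).aeval (b i)))).comp
      (algebraMap k B)).IsIntegral := by
  set J : Ideal B := Ideal.span (Set.range fun i : Fin d => (g i).aeval (b i)) with hJ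
  let IC : Subalgebra k (B ⧸ J) := integralClosure _ _
  have hb : ∀ i, Ideal.Quotient.mk J (b i) ∈ IC := by
    intro i
    refine ⟨g i, hg i, ?_⟩
    have h1 : (Polynomial.eval₂ (algebraMap k (B ⧸ J)) (Ideal.Quotient.mk J (b i)) (g i)) =
        Ideal.Quotient.mk J ((g i).aeval (b i)) := by
      rw [Polynomial.aeval_def, Polynomial.hom_eval₂]
      rfl
    rw [h1, Ideal.Quotient.eq_zero_iff_mem]
    exact Ideal.subset_span ⟨i, rfl⟩
  have hbp : ∀ p : MvPolynomial (Fin d) k, Ideal.Quotient.mk J (aeval b p) ∈ IC := by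
    intro p
    induction p using MvPolynomial.induction_on with
    | C a =>
      have h1 : Ideal.Quotient.mk J (aeval b (C a : MvPolynomial (Fin d) k)) = algebraMap k (B ⧸ J) a := by
        rw [aeval_C]
        rfl
      rw [h1]
      exact IC.algebraMap_mem _
    | add p q hp hq =>
      rw [map_add, map_add]
      exact add_mem hp hq
    | mul_X p i hp =>
      rw [map_mul, map_mul, aeval_X]
      exact mul_mem hp (hb i)
  have hc : ∀ c : B, Ideal.Quotient.mk J c ∈ IC := by
    intro c
    obtain ⟨P, hP, hPc⟩ := hint c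
    let α : MvPolynomial (Fin d) k →+* IC :=
      ((Ideal.Quotient.mk J).comp (aeval (R := k) b).toRingHom).codRestrict IC.toSubring hbp
    have h1 : IsIntegral IC (Ideal.Quotient.mk J c) := by
      refine ⟨P.map α, hP.map _, ?_⟩
      rw [Polynomial.eval₂_map]
      have h2 := congrArg (Ideal.Quotient.mk J) hPc
      rw [map_zero, Polynomial.hom_eval₂] at h2
      exact h2
    exact isIntegral_trans (R := k) (A := IC) _ h1
  intro x
  obtain ⟨x, rfl⟩ := Ideal.Quotient.mk_surjective x
  exact hc x

end Groth.Agent.LoccohA.LichtTau
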