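import Groth.Prelude.Def_Coh
import Groth.Prelude.Def_CohTop
import Groth.Agent.FlatA.DimFin
import Groth.Agent.Fdesc.GenericPts
import Mathlib.RingTheory.KrullDimension.NonZeroDivisors

/-!
Noether normalization of affine opens of a finite dimensional scheme over a field, and functions of
the coordinate ring of affine space which vanish on nowhere dense closed subsets.
-/

set_option autoImplicit false
universe u
open CategoryTheory AlgebraicGeometry TopologicalSpace Opposite

namespace Groth.Agent.LoccohA.OmH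

/-- If an ideal is contained in no minimal prime then the dimension of the quotient is smaller. -/
theorem ringKrullDim_quotient_succ_le {R : Type u} [CommRing R] (J : Ideal R)
    (hJ : ∀ q ∈ minimalPrimes R, ¬ J ≤ q) : ringKrullDim (R ⧸ J) + 1 ≤ ringKrullDim R := by
  by_cases hr' : J = ⊤
  · rw [hr', ringKrullDim_eq_bot_of_subsingleton]
    simp
  have : Nonempty (PrimeSpectrum.zeroLocus (R := R) J) := by
    rwa [Set.nonempty_coe_sort, Set.nonempty_iff_ne_empty, ne_eq,
      PrimeSpectrum.zeroLocus_empty_iff_eq_top]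
  have := Ideal.Quotient.nontrivial_iff.mpr hr'
  have := (Ideal.Quotient.mk J).domain_nontrivial
  rw [ringKrullDim_quotient, Order.krullDim_eq_iSup_length, ringKrullDim,
    Order.krullDim_eq_iSup_length, ← WithBot.coe_one, ← WithBot.coe_add,
    ENat.iSup_add, WithBot.coe_le_coe, iSup_le_iff]
  intro l
  obtain ⟨p, hp, hp'⟩ := Ideal.exists_minimalPrimes_le (J := l.head.1.asIdeal) bot_le
  let p' : PrimeSpectrum R := ⟨p, hp.1.1⟩
  have hp' : p' < l.head := lt_of_le_of_ne hp' fun h ↦ hJ p hp (by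
    have h2 : J ≤ l.head.1.asIdeal := l.head.2
    rw [← h] at h2
    exact h2)
  refine le_trans ?_ (le_iSup _ ((l.map Subtype.val (fun _ _ ↦ id)).cons p' hp'))
  simp

/-- The algebra of `exists_ne_zero`. -/
theorem exists_ne_zero_mem {k : Type u} [Field k] {B : Type u} [CommRing B] (d : ℕ)
    (hd : ringKrullDim B ≤ (d : WithBot ℕ∞)) (φ : MvPolynomial (Fin d) k →+* B) (hφ : φ.Finite)
    (J : Ideal B) (hJ : ∀ q ∈ minimalPrimes B, ¬ J ≤ q) :
    ∃ h : MvPolynomial (Fin d) k, h ≠ 0 ∧ φ h ∈ J := by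
  by_contra hcon
  push Not at hcon
  let ψ : MvPolynomial (Fin d) k →+* B ⧸ J := (Ideal.Quotient.mk J).comp φ
  have hψf : ψ.Finite := (RingHom.Finite.of_surjective _ Ideal.Quotient.mk_surjective).comp hφ
  have hψi : Function.Injective ψ := by
    rw [injective_iff_map_eq_zero]
    intro h hh
    by_contra hne
    exact hcon h hne (Ideal.Quotient.eq_zero_iff_mem.mp hh)
  let _ := ψ.toAlgebra
  have : Module.Finite (MvPolynomial (Fin d) k) (B ⧸ J) := hψf
  have h1 : ringKrullDim (B ⧸ J) = (d : WithBot ℕ∞) := by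
    rw [Groth.Agent.FlatA.DimFin.ringKrullDim_eq_of_isIntegral_of_injective
      (MvPolynomial (Fin d) k) (B ⧸ J) hψi,
      Groth.Agent.FlatA.DimFin.ringKrullDim_mvPolynomial_fin]
  have h2 := (ringKrullDim_quotient_succ_le J hJ).trans hd
  rw [h1] at h2
  have h3 : ((d + 1 : ℕ) : WithBot ℕ∞) ≤ ((d : ℕ) : WithBot ℕ∞) := by
    simpa using h2
  have h4 : d + 1 ≤ d := by exact_mod_cast h3
  omega

theorem ringKrullDim_sections_le {X : Scheme.{u}} (d : ℕ)
    (hd : topologicalKrullDim X ≤ (d : WithBot ℕ∞)) {V : X.Opens} (hV : IsAffineOpen V) :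
    ringKrullDim Γ(X, V) ≤ (d : WithBot ℕ∞) := by
  rw [← PrimeSpectrum.topologicalKrullDim_eq_ringKrullDim]
  exact (hV.fromSpec.isOpenEmbedding.isInducing.topologicalKrullDim_le).trans hd

/-- (d1): a finite morphism from an affine open to affine space of dimension `≥ dim X`: some nonzero
polynomial vanishes outside of a given dense open. -/
theorem exists_ne_zero {k : Type u} [Field k] {X : Scheme.{u}} [IsNoetherian X] (d : ℕ)
    (hd : topologicalKrullDim X ≤ (d : WithBot ℕ∞)) {V : X.Opens} (hV : IsAffineOpen V)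
    (φ : MvPolynomial (Fin d) k →+* Γ(X, V)) (hφ : φ.Finite) (U : X.Opens)
    (hU : Dense (U : Set X)) :
    ∃ h : MvPolynomial (Fin d) k, h ≠ 0 ∧ X.basicOpen (φ h) ≤ U := by
  let J : Ideal Γ(X, V) := ⨅ x : {x : V // x.1 ∉ U}, (hV.primeIdealOf x.1).asIdeal
  have key : ∀ b : Γ(X, V), b ∈ J ↔ X.basicOpen b ≤ U := by
    intro b
    constructor
    · intro hb x hx
      by_contra hxU
      have hxV : x ∈ V := X.basicOpen_le b hx
      have h1 := (Groth.Agent.Fdesc.QCohStalk.mem_basicOpen_iff hV x hxV b).mp hx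
      exact h1 ((Submodule.mem_iInf _).mp hb ⟨⟨x, hxV⟩, hxU⟩)
    · intro hb
      refine (Submodule.mem_iInf _).mpr ?_
      rintro ⟨⟨x, hxV⟩, hxU⟩
      by_contra hxb
      exact hxU (hb ((Groth.Agent.Fdesc.QCohStalk.mem_basicOpen_iff hV x hxV b).mpr hxb))
  obtain ⟨h, hne, hmem⟩ := exists_ne_zero_mem d (ringKrullDim_sections_le d hd hV) φ hφ J (by
    intro q hq hJq
    let Q : PrimeSpectrum Γ(X, V) := ⟨q, hq.1.1⟩
    let y : X := hV.fromSpec Q
    have hyV : y ∈ V := by
      have : y ∈ Set.range hV.fromSpec := ⟨Q, rfl⟩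
      rwa [hV.range_fromSpec] at this
    have hyQ : hV.primeIdealOf ⟨y, hyV⟩ = Q := by
      apply hV.fromSpec.isOpenEmbedding.injective
      exact hV.fromSpec_primeIdealOf ⟨y, hyV⟩
    have hyU : y ∈ U := by
      refine Groth.Agent.Fdesc.GenericPts.mem_of_minimalPrimes hV y hyV ?_ U hU
      rw [hyQ]
      exact hq
    obtain ⟨b, hb, hyb⟩ := hV.exists_basicOpen_le (V := U) ⟨y, hyU⟩ hyV
    have h1 := (Groth.Agent.Fdesc.QCohStalk.mem_basicOpen_iff hV y hyV b).mp hyb
    rw [hyQ] at h1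
    exact h1 (hJq ((key b).mpr hb)))
  exact ⟨h, hne, (key _).mp hmem⟩

/-- (d2): Noether normalization with exactly `d ≥ dim X` variables. -/
theorem exists_normalization {k : Type u} [Field k] {X : Scheme.{u}}
    [X.Over (Spec (CommRingCat.of k))] [LocallyOfFiniteType (X ↘ Spec (CommRingCat.of k))] (d : ℕ)
    (hd : topologicalKrullDim X ≤ (d : WithBot ℕ∞)) {V : X.Opens} (hV : IsAffineOpen V) :
    ∃ T : Fin d → Γ(X, V), (MvPolynomial.eval₂Hom
      ((X.presheaf.map (homOfLE le_top : V ⟶ ⊤).op).hom.comp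
        (Coh.toGlobal (X ↘ Spec (CommRingCat.of k)))) T).Finite := by
  set χ : k →+* Γ(X, V) := (X.presheaf.map (homOfLE le_top : V ⟶ ⊤).op).hom.comp
        (Coh.toGlobal (X ↘ Spec (CommRingCat.of k))) with hχ
  have hft : χ.FiniteType := by
    have h1 := (X ↘ Spec (CommRingCat.of k)).finiteType_appLE (isAffineOpen_top _) hV (by simp)
    have h2 : ((Scheme.ΓSpecIso (CommRingCat.of k)).inv.hom).FiniteType :=
      RingHom.FiniteType.of_surjective _
        (ConcreteCategory.bijective_of_isIso (Scheme.ΓSpecIso (CommRingCat.of k)).inv).2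
    have h3 := h1.comp h2
    have h4 : χ = ((X ↘ Spec (CommRingCat.of k)).appLE ⊤ V (by simp)).hom.comp
        (Scheme.ΓSpecIso (CommRingCat.of k)).inv.hom := by
      ext c
      simp [hχ, Coh.toGlobal, Scheme.Hom.appLE]
    rw [h4]
    exact h3
  let _ := χ.toAlgebra
  have : Algebra.FiniteType k Γ(X, V) := hft
  rcases subsingleton_or_nontrivial Γ(X, V) with hs | hn
  · refine ⟨0, ?_⟩
    exact RingHom.Finite.of_surjective _ (fun x => ⟨0, Subsingleton.elim _ _⟩)
  obtain ⟨n, g, hg, hf, hdim⟩ := Groth.Agent.FlatA.DimFin.exists_noether k Γ(X, V)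
  have hnd : n ≤ d := by
    have h1 := ringKrullDim_sections_le d hd hV
    rw [hdim] at h1
    exact_mod_cast h1
  refine ⟨fun i => if h : i.1 < n then g (MvPolynomial.X ⟨i.1, h⟩) else 0, ?_⟩
  set θ : MvPolynomial (Fin d) k →+* Γ(X, V) := MvPolynomial.eval₂Hom χ
    (fun i => if h : i.1 < n then g (MvPolynomial.X ⟨i.1, h⟩) else 0) with hθ
  have h3 : θ.comp (MvPolynomial.rename (Fin.castLE hnd) :
      MvPolynomial (Fin n) k →ₐ[k] MvPolynomial (Fin d) k).toRingHom = g.toRingHom := by
    apply MvPolynomial.ringHom_ext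
    · intro c
      simp [hθ]
      rfl
    · intro i
      simp [hθ]
  have h4 : (θ.comp (MvPolynomial.rename (Fin.castLE hnd) :
      MvPolynomial (Fin n) k →ₐ[k] MvPolynomial (Fin d) k).toRingHom).Finite := by
    rw [h3]; exact hf
  exact RingHom.Finite.of_comp_finite h4

end Groth.Agent.LoccohA.OmH
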