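import Groth.Agent.LoccohA.LichtGeo
import Groth.Agent.LoccohA.LichtClosed
import Groth.Agent.LoccohA.LichtTau
import Groth.Agent.LoccohA.OmH
import Groth.Agent.CalgC.DimFT

/-!
# The chart at infinity, in the form needed for Lichtenbaum's theorem
-/

set_option autoImplicit false
universe u

open CategoryTheory AlgebraicGeometry CategoryTheory.Limits TopologicalSpace Opposite

namespace Groth.Agent.LoccohA.LichtChart

open LichtClosed

/-- compatibility of `toSec` with morphisms. -/
theorem app_toSec {k R : Type u} [CommRing k] [CommRing R] {X Y : Scheme.{u}} (f : X ⟶ Spec (CommRingCat.of k))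
    (κ : k →+* R) (p : Y ⟶ X) (q : Y ⟶ Spec (CommRingCat.of R))
    (hw : p ≫ f = q ≫ Spec.map (CommRingCat.ofHom κ)) (V : X.Opens) (a : k) :
    p.app V (toSec f V a) = toSec q (p ⁻¹ᵁ V) (κ a) := by
  have h1 : CommRingCat.ofHom (toSec f V) ≫ p.app V = CommRingCat.ofHom κ ≫ CommRingCat.ofHom (toSec q (p ⁻¹ᵁ V)) := by
    have h2 : CommRingCat.ofHom (toSec f V) = (Scheme.ΓSpecIso (CommRingCat.of k)).inv ≫ f.appTop ≫
        X.presheaf.map (homOfLE le_top : V ⟶ ⊤).op := rfl
    have h3 : CommRingCat.ofHom (toSec q (p ⁻¹ᵁ V)) = (Scheme.ΓSpecIso (CommRingCat.of R)).inv ≫ q.appTop ≫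
        Y.presheaf.map (homOfLE le_top : p ⁻¹ᵁ V ⟶ ⊤).op := rfl
    have h4 : f.appTop ≫ p.appTop = (Spec.map (CommRingCat.ofHom κ)).appTop ≫ q.appTop := by
      rw [← Scheme.Hom.comp_appTop, ← Scheme.Hom.comp_appTop, hw]
    have h5 : X.presheaf.map (homOfLE le_top : V ⟶ ⊤).op ≫ p.app V = p.appTop ≫
        Y.presheaf.map (homOfLE le_top : p ⁻¹ᵁ V ⟶ ⊤).op := p.naturality _
    rw [h2, h3, Category.assoc, Category.assoc, h5, reassoc_of% h4, ← Scheme.ΓSpecIso_inv_naturality_assoc]
  exact ConcreteCategory.congr_hom h1 a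

/-- **the chart at infinity** of a nonproper variety. -/
theorem exists_chart (k : Type u) [Field k] (X : Scheme.{u}) (f : X ⟶ Spec (CommRingCat.of k))
    [IsSeparated f] [LocallyOfFiniteType f] [QuasiCompact f] [IsIntegral X] (hf : ¬ IsProper f)
    (d : ℕ) (hd : topologicalKrullDim X ≤ (d : WithBot ℕ∞)) :
    ∃ (V : X.Opens) (hV : IsAffineOpen V) (B : Type u) (_ : CommRing B) (_ : IsDomain B) (φ : k →+* B)
      (β : B →+* Γ(X, V)) (π : B) (b : Fin d → B),
      (V : Set X).Nonempty ∧ β.comp φ = toSec f V ∧ IsUnit (β π) ∧ ¬ IsUnit π ∧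
      (MvPolynomial.eval₂Hom φ b).Finite ∧
      ∀ (h : hV.fromSpec ≫ f = Spec.map (CommRingCat.ofHom β) ≫ Spec.map (CommRingCat.ofHom φ)),
        UniversallyClosed (pullback.lift hV.fromSpec (Spec.map (CommRingCat.ofHom β)) h) := by
  obtain ⟨B, iB, iBd, φ, π, j, hcomm, hj, hφ, hπ0, hπu, hprop⟩ := LichtGeo.exists_chart k X f hf
  let L := Localization.Away π
  let V : X.Opens := j.opensRange
  have hV : IsAffineOpen V := isAffineOpen_opensRange j
  let e : Spec Γ(X, V) ⟶ Spec (CommRingCat.of L) := IsOpenImmersion.lift j hV.fromSpec (by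
    rw [hV.range_fromSpec]
    exact subset_rfl)
  have he : e ≫ j = hV.fromSpec := IsOpenImmersion.lift_fac _ _ _
  have heo : IsOpenImmersion e := by
    have : IsOpenImmersion (e ≫ j) := by
      rw [he]
      infer_instance
    exact IsOpenImmersion.of_comp e j
  have hei : IsIso e := by
    have hs : Function.Surjective e := by
      intro y
      have h1 : j y ∈ Set.range hV.fromSpec := by
        rw [hV.range_fromSpec]
        exact ⟨y, rfl⟩
      obtain ⟨x, hx⟩ := h1
      refine ⟨x, j.isOpenEmbedding.injective ?_⟩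
      rw [← Scheme.Hom.comp_apply, he, hx]
    have h1 : Epi e.base := (TopCat.epi_iff_surjective _).mpr hs
    exact IsOpenImmersion.isIso e
  let ε : CommRingCat.of L ⟶ Γ(X, V) := Spec.preimage e
  have hε : Spec.map ε = e := Spec.map_preimage e
  let β : B →+* Γ(X, V) := ε.hom.comp (algebraMap B L)
  have hβ : Spec.map (CommRingCat.ofHom β) = e ≫ Spec.map (CommRingCat.ofHom (algebraMap B L)) := by
    rw [← hε, ← Spec.map_comp]
    rfl
  have hβφ : β.comp φ = toSec f V := by
    have h1 : Spec.map (CommRingCat.ofHom (β.comp φ)) = Spec.map (CommRingCat.ofHom (toSec f V)) := by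
      rw [← OmClosed.fromSpec_comp f hV, CommRingCat.ofHom_comp, Spec.map_comp, hβ, Category.assoc, ← hcomm,
        ← Category.assoc, he]
    exact congrArg CommRingCat.Hom.hom (Spec.map_injective h1)
  have hinj : Function.Injective β := by
    have hinjL : Function.Injective (algebraMap B L) :=
      IsLocalization.injective L (powers_le_nonZeroDivisors_of_noZeroDivisors hπ0)
    have h1 : IsIso (Spec.map ε) := by
      rw [hε]
      exact hei
    exact (isIso_SpecMap_iff.mp h1).1.comp hinjL
  have hne : (V : Set X).Nonempty := by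
    have h1 : Nontrivial L := by
      have : IsDomain L := IsLocalization.isDomain_localization (powers_le_nonZeroDivisors_of_noZeroDivisors hπ0)
      infer_instance
    obtain ⟨y⟩ : Nonempty (PrimeSpectrum L) := inferInstance
    exact ⟨j y, y, rfl⟩
  -- Noether normalization
  have hdim : ringKrullDim B ≤ (d : WithBot ℕ∞) := by
    have h1 : ringKrullDim Γ(X, V) ≤ (d : WithBot ℕ∞) := OmH.ringKrullDim_sections_le d hd hV
    have hVne : Nonempty V := hne.to_subtype
    have hdom : IsDomain Γ(X, V) := inferInstance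
    have hφ' : (toSec f V).FiniteType := by
      rw [← hβφ]
      refine RingHom.FiniteType.comp ?_ hφ
      have h2 : ε.hom.FiniteType := by
        have h3 : IsIso (Spec.map ε) := by
          rw [hε]
          exact hei
        exact RingHom.FiniteType.of_surjective _ (isIso_SpecMap_iff.mp h3).2
      exact h2.comp (RingHom.finiteType_algebraMap.mpr
        (IsLocalization.finiteType_of_monoid_fg (Submonoid.powers π) L))
    let _ : Algebra k B := φ.toAlgebra
    let _ : Algebra k Γ(X, V) := (toSec f V).toAlgebra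
    have : Algebra.FiniteType k B := hφ
    have : Algebra.FiniteType k Γ(X, V) := hφ'
    let βa : B →ₐ[k] Γ(X, V) := { β with commutes' := fun a => RingHom.congr_fun hβφ a }
    obtain ⟨e₁, h1e, h2e, -⟩ := Groth.Agent.CalgC.DimFT.exists_dim k B
    obtain ⟨e₂, h1f, h2f, -⟩ := Groth.Agent.CalgC.DimFT.exists_dim k Γ(X, V)
    have h4 := trdeg_le_of_injective βa hinj
    rw [h2e, h2f] at h4
    rw [h1f] at h1
    rw [h1e]
    have h5 : e₁ ≤ e₂ := by exact_mod_cast h4
    exact le_trans (by exact_mod_cast h5) h1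
  obtain ⟨b, hb⟩ : ∃ b : Fin d → B, (MvPolynomial.eval₂Hom φ b).Finite := by
    let _ := φ.toAlgebra
    have : Algebra.FiniteType k B := hφ
    obtain ⟨n, g, hg, hf', hdim'⟩ := Groth.Agent.FlatA.DimFin.exists_noether k B
    have hnd : n ≤ d := by
      rw [hdim'] at hdim
      exact_mod_cast hdim
    refine ⟨fun i => if h : i.1 < n then g (MvPolynomial.X ⟨i.1, h⟩) else 0, ?_⟩
    set θ : MvPolynomial (Fin d) k →+* B := MvPolynomial.eval₂Hom φ
      (fun i => if h : i.1 < n then g (MvPolynomial.X ⟨i.1, h⟩) else 0) with hθ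
    have h3 : θ.comp (MvPolynomial.rename (Fin.castLE hnd) :
        MvPolynomial (Fin n) k →ₐ[k] MvPolynomial (Fin d) k).toRingHom = g.toRingHom := by
      apply MvPolynomial.ringHom_ext
      · intro c
        simp [hθ]
        rfl
      · intro i
        simp [hθ]
    have h4 : (θ.comp (MvPolynomial.rename (Fin.castLE hnd) :
        MvPolynomial (Fin n) k →ₐ[k] MvPolynomial (Fin d) k).toRingHom).Finite := by
      rw [h3]; exact hf'
    exact RingHom.Finite.of_comp_finite h4
  refine ⟨V, hV, B, iB, iBd, φ, β, π, b, hne, hβφ, ?_, hπu, hb, ?_⟩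
  · exact (IsLocalization.Away.algebraMap_isUnit (S := L) π).map ε.hom
  · intro h
    have h1 : pullback.lift hV.fromSpec (Spec.map (CommRingCat.ofHom β)) h =
        e ≫ pullback.lift j (Spec.map (CommRingCat.ofHom (algebraMap B L))) hcomm := by
      apply pullback.hom_ext
      · rw [pullback.lift_fst, Category.assoc, pullback.lift_fst, he]
      · rw [pullback.lift_snd, Category.assoc, pullback.lift_snd, hβ]
    rw [h1]
    have h2 : UniversallyClosed (pullback.lift j (Spec.map (CommRingCat.ofHom (algebraMap B L))) hcomm) :=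
      inferInstance
    infer_instance

/-- closedness of the zero loci used for the symbol functional. -/
theorem isClosed_zeroLocus {k : Type u} [Field k] {X Y : Scheme.{u}} (f : X ⟶ Spec (CommRingCat.of k)) (d : ℕ)
    (p : Y ⟶ X) (q : Y ⟶ Spec (CommRingCat.of (MvPolynomial (Fin d) k)))
    (H : IsPullback p q f (Spec.map (CommRingCat.ofHom (algebraMap k (MvPolynomial (Fin d) k)))))
    {V : X.Opens} (hV : IsAffineOpen V) {B : Type u} [CommRing B] (φ : k →+* B) (β : B →+* Γ(X, V))
    (hβ : β.comp φ = toSec f V) (b : Fin d → B) (hb : (MvPolynomial.eval₂Hom φ b).Finite)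
    (hcl : ∀ (h : hV.fromSpec ≫ f = Spec.map (CommRingCat.ofHom β) ≫ Spec.map (CommRingCat.ofHom φ)),
        UniversallyClosed (pullback.lift hV.fromSpec (Spec.map (CommRingCat.ofHom β)) h))
    (g : Fin d → Polynomial k) (hg : ∀ i, (g i).Monic) (hg1 : ∀ i, g i ≠ 1) :
    IsClosed (((p ⁻¹ᵁ V : Y.Opens) : Set Y) \ ⋃ i, (Y.basicOpen
      (p.app V ((g i).eval₂ (toSec f V) (β (b i))) -
        toSec q (p ⁻¹ᵁ V) ((g i).aeval (MvPolynomial.X i : MvPolynomial (Fin d) k))) : Set Y)) := by
  have hpaff : IsAffineHom p := MorphismProperty.of_isPullback H.flip inferInstance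
  have hV' : IsAffineOpen (p ⁻¹ᵁ V) := hV.preimage p
  let _ : Algebra k B := φ.toAlgebra
  have hφalg : algebraMap k B = φ := rfl
  let ρ' : MvPolynomial (Fin d) k →+* MvPolynomial (Fin d) B := MvPolynomial.map (algebraMap k B)
  let σ : B →+* MvPolynomial (Fin d) B := MvPolynomial.C
  let β' : MvPolynomial (Fin d) B →+* Γ(Y, p ⁻¹ᵁ V) :=
    MvPolynomial.eval₂Hom ((p.app V).hom.comp β) (fun i => toSec q (p ⁻¹ᵁ V) (MvPolynomial.X i))
  have hβσ : β'.comp σ = (p.app V).hom.comp β := by
    ext x
    simp [β', σ]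
  have hc : hV.fromSpec ≫ f = Spec.map (CommRingCat.ofHom β) ≫ Spec.map (CommRingCat.ofHom φ) := by
    rw [OmClosed.fromSpec_comp, ← Spec.map_comp, ← CommRingCat.ofHom_comp, hβ]
  have hρσ : ρ'.comp (algebraMap k (MvPolynomial (Fin d) k)) = σ.comp φ := by
    ext x
    simp [ρ', σ, hφalg]
  have hβρ : β'.comp ρ' = toSec q (p ⁻¹ᵁ V) := by
    apply MvPolynomial.ringHom_ext
    · intro a
      have h1 : (β'.comp ρ') (MvPolynomial.C a) = p.app V (β (φ a)) := by
        simp [β', ρ', hφalg]
      rw [h1]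
      have h2 : β (φ a) = toSec f V a := RingHom.congr_fun hβ a
      rw [h2, app_toSec f _ p q H.w]
      rfl
    · intro i
      simp [β', ρ']
  have hu := universallyClosed_lift f (algebraMap k (MvPolynomial (Fin d) k)) p q H hV hV' φ β hc (hcl hc)
    ρ' σ hρσ β' hβσ
  have hint := LichtTau.isIntegral_quot d b (fun x => hb.to_isIntegral x) g hg hg1
  have key := LichtClosed.isClosed_zeroLocus q hV' ρ' β' hβρ (fun h => hu h)
    (fun i : Fin d => (MvPolynomial.C ((g i).aeval (b i)) - (g i).aeval (MvPolynomial.X i) : MvPolynomial (Fin d) B)) hint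
  convert key using 5 with i
  have h1 : β' (MvPolynomial.C ((g i).aeval (b i))) = p.app V (β ((g i).aeval (b i))) := by
    simp [β']
  have h2 : β ((g i).aeval (b i)) = (g i).eval₂ (toSec f V) (β (b i)) := by
    rw [Polynomial.aeval_def, Polynomial.hom_eval₂, ← hβ, hφalg]
  have h4 : β'.comp (algebraMap k (MvPolynomial (Fin d) B)) =
      (β'.comp ρ').comp (algebraMap k (MvPolynomial (Fin d) k)) := by
    rw [RingHom.comp_assoc, hρσ]
    rfl
  have h3 : β' ((g i).aeval (MvPolynomial.X i)) =
      toSec q (p ⁻¹ᵁ V) ((g i).aeval (MvPolynomial.X i : MvPolynomial (Fin d) k)) := by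
    rw [Polynomial.aeval_def, Polynomial.aeval_def, Polynomial.hom_eval₂, Polynomial.hom_eval₂, ← hβρ, h4]
    congr 1
    simp [β', ρ']
  rw [map_sub, h1, h2, h3]

/-- closedness of the zero loci `g_i(T_i) = 0` in `X`. -/
theorem isClosed_zeroLocus₀ {k : Type u} [Field k] {X : Scheme.{u}} (f : X ⟶ Spec (CommRingCat.of k)) (d : ℕ)
    {V : X.Opens} (hV : IsAffineOpen V) {B : Type u} [CommRing B] (φ : k →+* B) (β : B →+* Γ(X, V))
    (hβ : β.comp φ = toSec f V) (b : Fin d → B) (hb : (MvPolynomial.eval₂Hom φ b).Finite)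
    (hcl : ∀ (h : hV.fromSpec ≫ f = Spec.map (CommRingCat.ofHom β) ≫ Spec.map (CommRingCat.ofHom φ)),
        UniversallyClosed (pullback.lift hV.fromSpec (Spec.map (CommRingCat.ofHom β)) h))
    (g : Fin d → Polynomial k) (hg : ∀ i, (g i).Monic) :
    IsClosed ((V : Set X) \ ⋃ i, (X.basicOpen ((g i).eval₂ (toSec f V) (β (b i))) : Set X)) := by
  let _ : Algebra k B := φ.toAlgebra
  have hφalg : algebraMap k B = φ := rfl
  have hint := LichtTau.isIntegral_quot₀ d b (fun x => hb.to_isIntegral x) g hg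
  have key := LichtClosed.isClosed_zeroLocus f hV φ β hβ hcl (fun i : Fin d => (g i).aeval (b i)) hint
  convert key using 5 with i
  rw [Polynomial.aeval_def, Polynomial.hom_eval₂, ← hβ, hφalg]

end Groth.Agent.LoccohA.LichtChart
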