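import Groth.Agent.LoccohA.LichtAlg
import Groth.Agent.CycB.ImageInt
import Groth.Agent.S0025
import Groth.Agent.Dix.ProjProper
import Mathlib.AlgebraicGeometry.Morphisms.Proper
import Mathlib.AlgebraicGeometry.Morphisms.Immersion
import Mathlib.AlgebraicGeometry.Noetherian

/-!
# A chart at infinity of a nonproper variety
-/

set_option autoImplicit false
universe u

open CategoryTheory AlgebraicGeometry CategoryTheory.Limits TopologicalSpace

namespace Groth.Agent.LoccohA.LichtGeo

/-- Chow's lemma and projective closure: for a nonproper variety `X` there are an integral scheme `X₁`, proper and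
surjective over `X`, an open immersion `b : X₁ ⟶ P`, dominant and not surjective, `P` integral and proper over `k`,
and an open `W` of `X₁`, nonempty, such that `W ⟶ X₁ ⟶ X` is an open immersion. -/
theorem exists_compactification (k : Type u) [Field k] (X : Scheme.{u}) (f : X ⟶ Spec (CommRingCat.of k))
    [IsSeparated f] [LocallyOfFiniteType f] [QuasiCompact f] [IsIntegral X] (hf : ¬ IsProper f) :
    ∃ (X₁ P W : Scheme.{u}) (π₁ : X₁ ⟶ X) (b : X₁ ⟶ P) (s : P ⟶ Spec (CommRingCat.of k)) (a : W ⟶ X₁),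
      IsIntegral X₁ ∧ IsIntegral P ∧ IsIntegral W ∧ IsProper π₁ ∧ IsOpenImmersion b ∧ IsProper s ∧
      IsOpenImmersion a ∧ IsOpenImmersion (a ≫ π₁) ∧ b ≫ s = π₁ ≫ f ∧ ¬ Surjective b := by
  have hXn : IsLocallyNoetherian X := LocallyOfFiniteType.isLocallyNoetherian f
  obtain ⟨n, X', π, j, hj, hcomm, hπ, hπs, U, hU, hiso⟩ := Groth.Agent.S0025.result f
  have hX'n : IsLocallyNoetherian X' := LocallyOfFiniteType.isLocallyNoetherian π
  have hXc : CompactSpace X := QuasiCompact.compactSpace_of_compactSpace f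
  have hX'c : CompactSpace X' := QuasiCompact.compactSpace_of_compactSpace π
  have hX'N : IsNoetherian X' := ⟨⟩
  obtain ⟨x, hx⟩ : (U : Set X).Nonempty := hU.nonempty
  have hUne : Nonempty U.toScheme := ⟨⟨x, hx⟩⟩
  have hUint : IsIntegral U.toScheme := inferInstance
  let W : Scheme.{u} := (π ⁻¹ᵁ U).toScheme
  have hWint : IsIntegral W := by
    have h1 : Nonempty W := ⟨(inv (π ∣_ U)) ⟨x, hx⟩⟩
    exact isIntegral_of_isOpenImmersion (π ∣_ U)
  let ι : W ⟶ X' := (π ⁻¹ᵁ U).ι
  have hWn : NoetherianSpace W := ι.isOpenEmbedding.isInducing.noetherianSpace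
  have hqι : QuasiCompact ι := inferInstance
  let X₁ : Scheme.{u} := ι.image
  let i₁ : X₁ ⟶ X' := ι.imageι
  let a : W ⟶ X₁ := ι.toImage
  have hX₁ : IsIntegral X₁ := Groth.Agent.CycB.ImageInt.isIntegral_image ι
  have hai : a ≫ i₁ = ι := Scheme.Hom.toImage_imageι _
  have hX₁n : NoetherianSpace X₁ := (i₁.isClosedEmbedding.isInducing).noetherianSpace
  let j₁ : X₁ ⟶ CohB1.ProjSpaceOver n (Spec (CommRingCat.of k)) := i₁ ≫ j
  have hqj : QuasiCompact j₁ := inferInstance
  let P : Scheme.{u} := j₁.image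
  let b : X₁ ⟶ P := j₁.toImage
  have hP : IsIntegral P := Groth.Agent.CycB.ImageInt.isIntegral_image j₁
  let s : P ⟶ Spec (CommRingCat.of k) := j₁.imageι ≫ CohB1.ProjSpaceOver.toBase n _
  have hcomm' : b ≫ s = (i₁ ≫ π) ≫ f := by
    change j₁.toImage ≫ j₁.imageι ≫ _ = _
    rw [Scheme.Hom.toImage_imageι_assoc, Category.assoc, Category.assoc, hcomm]
  have hopen : IsOpenImmersion (a ≫ i₁ ≫ π) := by
    rw [← Category.assoc, hai]
    have h1 : ι ≫ π = (π ∣_ U) ≫ U.ι := (morphismRestrict_ι π U).symm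
    rw [h1]
    infer_instance
  refine ⟨X₁, P, W, i₁ ≫ π, b, s, a, hX₁, hP, hWint, inferInstance, inferInstance, inferInstance, inferInstance,
    hopen, hcomm', fun hb => hf ?_⟩
  -- if `b` is surjective then `X₁` is proper
  have hbiso : IsIso b := by
    have h1 : Epi b.base := (TopCat.epi_iff_surjective _).mpr hb.surj
    exact IsOpenImmersion.isIso b
  have h1 : IsProper ((i₁ ≫ π) ≫ f) := by
    rw [← hcomm']
    infer_instance
  have hsurj : Surjective (i₁ ≫ π) := by
    have hdom : IsDominant (a ≫ i₁ ≫ π) := by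
      constructor
      have h2 : a ≫ i₁ ≫ π = (π ∣_ U) ≫ U.ι := by
        rw [← Category.assoc, hai]
        exact (morphismRestrict_ι π U).symm
      rw [h2, Scheme.Hom.comp_base, TopCat.coe_comp]
      have h3 : IsDominant U.ι := Opens.isDominant_ι hU
      have h4 : IsDominant (π ∣_ U) := inferInstance
      exact h3.denseRange.comp h4.denseRange U.ι.continuous
    have hdom' : IsDominant (i₁ ≫ π) := IsDominant.of_comp a (i₁ ≫ π)
    exact surjective_of_isDominant_of_isClosed_range _ ((i₁ ≫ π).isClosedMap.isClosed_range)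
  have h2 : UniversallyClosed f := UniversallyClosed.of_comp_surjective (i₁ ≫ π) f
  exact ⟨⟩

/-- the range of `Spec` of a localization away from an element. -/
theorem range_specMap_away {C L : Type u} [CommRing C] [CommRing L] [Algebra C L] (h : C) [IsLocalization.Away h L] :
    Set.range (Spec.map (CommRingCat.ofHom (algebraMap C L))) = {p : PrimeSpectrum C | h ∉ p.asIdeal} := by
  ext p
  have := Set.ext_iff.mp (PrimeSpectrum.localization_away_comap_range L h) p
  exact this

/-- **the chart at infinity** of a nonproper variety `X` over `k`: a domain `B` of finite type over `k`, a nonzero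
nonunit `π` and an open immersion `Spec B_π ⟶ X` such that `Spec B_π ⟶ X ×ₖ Spec B` is proper. -/
theorem exists_chart (k : Type u) [Field k] (X : Scheme.{u}) (f : X ⟶ Spec (CommRingCat.of k))
    [IsSeparated f] [LocallyOfFiniteType f] [QuasiCompact f] [IsIntegral X] (hf : ¬ IsProper f) :
    ∃ (B : Type u) (_ : CommRing B) (_ : IsDomain B) (φ : k →+* B) (π : B)
      (j : Spec (CommRingCat.of (Localization.Away π)) ⟶ X)
      (hcomm : j ≫ f = Spec.map (CommRingCat.ofHom (algebraMap B (Localization.Away π))) ≫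
        Spec.map (CommRingCat.ofHom φ)),
      IsOpenImmersion j ∧ φ.FiniteType ∧ π ≠ 0 ∧ ¬ IsUnit π ∧
        IsProper (pullback.lift j (Spec.map (CommRingCat.ofHom (algebraMap B (Localization.Away π)))) hcomm) := by
  obtain ⟨X₁, P, W, π₁, b, s, a, hX₁, hP, hW, hπ₁, hb, hs, ha, haπ, hcomm, hsurj⟩ := exists_compactification k X f hf
  -- a point of `P` outside `X₁`
  obtain ⟨z, hz⟩ : ∃ z : P, z ∉ Set.range b := by
    by_contra hcon
    push Not at hcon
    exact hsurj ⟨fun z => hcon z⟩
  obtain ⟨V₀, hV₀, hzV₀, -⟩ := exists_isAffineOpen_mem_and_subset (U := ⊤) (x := z) trivial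
  have hPn : IsLocallyNoetherian P := LocallyOfFiniteType.isLocallyNoetherian s
  let C : CommRingCat.{u} := Γ(P, V₀)
  have hne : Nonempty V₀ := ⟨⟨z, hzV₀⟩⟩
  have hCdom : IsDomain C := inferInstanceAs (IsDomain Γ(P, V₀))
  have hCn : IsNoetherianRing C := IsLocallyNoetherian.component_noetherian ⟨V₀, hV₀⟩
  let c : Spec C ⟶ P := hV₀.fromSpec
  have hcs : ∃ ψ : CommRingCat.of k ⟶ C, c ≫ s = Spec.map ψ := ⟨Spec.preimage (c ≫ s), (Spec.map_preimage _).symm⟩
  obtain ⟨ψ, hψ⟩ := hcs
  have hψft : ψ.hom.FiniteType := by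
    have h1 : LocallyOfFiniteType (Spec.map ψ) := by
      rw [← hψ]
      infer_instance
    exact (HasRingHomProperty.Spec_iff (P := @LocallyOfFiniteType)).mp h1
  -- the ideal of the boundary
  let O₁ : P.Opens := b.opensRange
  let Z : Set (PrimeSpectrum C) := (c ⁻¹' (O₁ : Set P))ᶜ
  have hZc : IsClosed Z := (O₁.isOpen.preimage c.continuous).isClosed_compl
  let I : Ideal C := PrimeSpectrum.vanishingIdeal Z
  have hZI : PrimeSpectrum.zeroLocus (I : Set C) = Z := by
    rw [PrimeSpectrum.zeroLocus_vanishingIdeal_eq_closure, hZc.closure_eq]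
  obtain ⟨z', hz'⟩ : ∃ z' : Spec C, c z' = z := by
    have h1 : z ∈ Set.range c := by
      rw [hV₀.range_fromSpec]
      exact hzV₀
    exact h1
  have hz'Z : z' ∈ Z := by
    change ¬ (c z' ∈ Set.range b)
    rw [hz']
    exact hz
  have hI1 : I ≠ ⊤ := by
    intro h
    rw [h] at hZI
    rw [← hZI] at hz'Z
    exact z'.2.ne_top (top_le_iff.mp hz'Z)
  -- the open subset on which `X₁` and `X` agree
  let O₂ : P.Opens := (a ≫ b).opensRange
  have hO₂ : (O₂ : Set P) ⊆ O₁ := by
    rintro _ ⟨w, rfl⟩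
    exact ⟨a w, by simp⟩
  have hO₂ne : (O₂ : Set P).Nonempty := by
    obtain ⟨w⟩ : Nonempty W := inferInstance
    exact ⟨(a ≫ b) w, w, rfl⟩
  -- `c₀`
  have hgen : genericPoint P ∈ O₂ := (genericPoint_spec P).mem_open_set_iff O₂.isOpen |>.mpr (by simpa using hO₂ne)
  have hp₀ : (genericPoint (Spec C)).asIdeal = ⊥ := by
    rw [genericPoint_eq_bot_of_affine C]
    rfl
  obtain ⟨c₀, hc₀, hc₀'⟩ : ∃ c₀ : C, c₀ ≠ 0 ∧ ∀ p : Spec C, c₀ ∉ p.asIdeal → c p ∈ O₂ := by
    have h1 : IsOpen (c ⁻¹' (O₂ : Set P)) := O₂.isOpen.preimage c.continuous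
    have h2 : c (genericPoint (Spec C)) ∈ (O₂ : Set P) := by
      have h3 : c (genericPoint (Spec C)) = genericPoint P :=
        genericPoint_eq_of_isOpenImmersion c
      rw [h3]
      exact hgen
    obtain ⟨_, ⟨c₀, rfl⟩, h5, h6⟩ := PrimeSpectrum.isTopologicalBasis_basic_opens.exists_subset_of_mem_open
      (show genericPoint (Spec C) ∈ c ⁻¹' (O₂ : Set P) from h2) h1
    exact ⟨c₀, fun h => h5 (by rw [h]; exact zero_mem _), fun p hp => h6 hp⟩
  have hI0 : I ≠ ⊥ := by
    intro h
    rw [h] at hZI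
    have h1 : genericPoint (Spec C) ∈ Z := by
      rw [← hZI]
      exact (bot_le : (⊥ : Ideal C) ≤ (genericPoint (Spec C)).asIdeal)
    have h2 := hc₀' (genericPoint (Spec C)) (by rw [hp₀]; exact hc₀)
    exact h1 (hO₂ h2)
  obtain ⟨B, iB, iBd, iCB, π, h, hinj, hft, hπ0, hπu, hIB, hloc, hunit⟩ :=
    LichtAlg.exists_chart_away I hI0 hI1 c₀ hc₀
  let L := Localization.Away π
  let q₀ : Spec (CommRingCat.of B) ⟶ Spec C := Spec.map (CommRingCat.ofHom (algebraMap C B))
  let l₀ : Spec (CommRingCat.of L) ⟶ Spec (CommRingCat.of B) := Spec.map (CommRingCat.ofHom (algebraMap B L))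
  have hl₀ : IsOpenImmersion l₀ := inferInstance
  have hlq : l₀ ≫ q₀ = Spec.map (CommRingCat.ofHom (algebraMap C L)) := by
    change Spec.map _ ≫ Spec.map _ = _
    rw [← Spec.map_comp, ← CommRingCat.ofHom_comp, ← IsScalarTower.algebraMap_eq]
  have hlqo : IsOpenImmersion (l₀ ≫ q₀) := by
    rw [hlq]
    exact IsOpenImmersion.of_isLocalization h
  have hlqc : IsOpenImmersion (l₀ ≫ q₀ ≫ c) := by
    rw [← Category.assoc]
    infer_instance
  -- the lift to `W`
  have hrange : Set.range (l₀ ≫ q₀ ≫ c) ⊆ Set.range (a ≫ b) := by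
    rintro _ ⟨p, rfl⟩
    have h1 : (l₀ ≫ q₀ ≫ c) p = c ((l₀ ≫ q₀) p) := by simp
    rw [h1]
    apply hc₀'
    rw [hlq]
    intro h2
    have h3 : algebraMap C L c₀ ∈ (p : PrimeSpectrum L).asIdeal := h2
    exact p.2.ne_top (Ideal.eq_top_of_isUnit_mem _ h3 hunit)
  have hab : IsOpenImmersion (a ≫ b) := inferInstance
  let l : Spec (CommRingCat.of L) ⟶ W := IsOpenImmersion.lift (a ≫ b) (l₀ ≫ q₀ ≫ c) hrange
  have hl : l ≫ a ≫ b = l₀ ≫ q₀ ≫ c := IsOpenImmersion.lift_fac _ _ _
  have hlo : IsOpenImmersion l := by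
    have h1 : IsOpenImmersion (l ≫ a ≫ b) := by
      rw [hl]
      infer_instance
    exact IsOpenImmersion.of_comp l (a ≫ b)
  let j : Spec (CommRingCat.of L) ⟶ X := l ≫ a ≫ π₁
  have hj : IsOpenImmersion j := inferInstance
  let φ : k →+* B := (algebraMap C B).comp ψ.hom
  have hφ : Spec.map (CommRingCat.ofHom φ) = q₀ ≫ c ≫ s := by
    rw [hψ]
    change _ = Spec.map _ ≫ Spec.map _
    rw [← Spec.map_comp]
    rfl
  have hjf : j ≫ f = l₀ ≫ Spec.map (CommRingCat.ofHom φ) := by
    rw [hφ]
    change (l ≫ a ≫ π₁) ≫ f = _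
    rw [Category.assoc, Category.assoc, ← hcomm, reassoc_of% hl]
  refine ⟨B, iB, iBd, φ, π, j, hjf, hj, ?_, hπ0, hπu, ?_⟩
  · exact RingHom.FiniteType.comp (RingHom.finiteType_algebraMap.mpr hft) hψft
  · -- properness
    let q : Spec (CommRingCat.of B) ⟶ P := q₀ ≫ c
    have hlab : (l ≫ a) ≫ b = l₀ ≫ q := by
      rw [Category.assoc, hl]
    let e : Spec (CommRingCat.of L) ⟶ pullback b q := pullback.lift (l ≫ a) l₀ hlab
    have hesnd : e ≫ pullback.snd b q = l₀ := pullback.lift_snd _ _ _
    have hefst : e ≫ pullback.fst b q = l ≫ a := pullback.lift_fst _ _ _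
    have heo : IsOpenImmersion e := by
      have h1 : IsOpenImmersion (e ≫ pullback.snd b q) := by
        rw [hesnd]
        infer_instance
      exact IsOpenImmersion.of_comp e (pullback.snd b q)
    have hes : Surjective e := by
      constructor
      intro y
      have h1 : q (pullback.snd b q y) ∈ O₁ := by
        rw [← Scheme.Hom.comp_apply, ← pullback.condition, Scheme.Hom.comp_apply]
        exact ⟨_, rfl⟩
      -- `π` is not in the prime `snd y`
      have h2 : π ∉ (pullback.snd b q y).asIdeal := by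
        intro h3
        have h4 : c (q₀ (pullback.snd b q y)) ∈ O₁ := by
          rw [← Scheme.Hom.comp_apply]
          exact h1
        have h5 : q₀ (pullback.snd b q y) ∈ Z := by
          rw [← hZI]
          intro x hx
          have h6 : algebraMap C B x ∈ Ideal.span {π} := hIB ▸ Ideal.mem_map_of_mem _ hx
          have h7 : algebraMap C B x ∈ (pullback.snd b q y).asIdeal :=
            (Ideal.span_singleton_le_iff_mem _).mpr h3 h6
          exact h7
        exact h5 h4
      obtain ⟨x, hx⟩ : pullback.snd b q y ∈ Set.range l₀ := by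
        have h3 := range_specMap_away (C := B) (L := L) π
        change _ ∈ Set.range (Spec.map (CommRingCat.ofHom (algebraMap B L)))
        rw [h3]
        exact h2
      refine ⟨x, ?_⟩
      apply (pullback.snd b q).isOpenEmbedding.injective
      rw [← Scheme.Hom.comp_apply, hesnd, hx]
    have hei : IsIso e := by
      have h1 : Epi e.base := (TopCat.epi_iff_surjective _).mpr hes.surj
      exact IsOpenImmersion.isIso e
    have hqs : q ≫ s = Spec.map (CommRingCat.ofHom φ) := by
      rw [hφ, Category.assoc]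
    let m₁ : pullback b q ⟶ pullback (b ≫ s) (q ≫ s) := pullback.mapDesc b q s
    have hm₁ : IsClosedImmersion m₁ := inferInstance
    let m₂ : pullback (b ≫ s) (q ≫ s) ⟶ pullback f (Spec.map (CommRingCat.ofHom φ)) :=
      pullback.map (b ≫ s) (q ≫ s) f (Spec.map (CommRingCat.ofHom φ)) π₁ (𝟙 _) (𝟙 _)
        (by rw [Category.comp_id, hcomm]) (by rw [Category.comp_id, Category.id_comp, hqs])
    have hm₂ : IsProper m₂ := by
      have := MorphismProperty.pullbackMap (P := @IsProper)
        (f := b ≫ s) (g := q ≫ s) (f' := f) (g' := Spec.map (CommRingCat.ofHom φ)) (i₁ := π₁) (i₂ := 𝟙 _)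
        hπ₁ inferInstance hcomm (by rw [Category.id_comp, hqs])
      exact this
    have hm : pullback.lift j l₀ hjf = e ≫ m₁ ≫ m₂ := by
      apply pullback.hom_ext
      · rw [pullback.lift_fst, Category.assoc, Category.assoc, pullback.lift_fst]
        rw [pullback.lift_fst_assoc, Category.comp_id, ← Category.assoc, hefst, Category.assoc]
      · rw [pullback.lift_snd, Category.assoc, Category.assoc, pullback.lift_snd]
        rw [Category.comp_id, pullback.lift_snd, Category.comp_id, hesnd]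
    change IsProper (pullback.lift j l₀ hjf)
    rw [hm]
    infer_instance

end Groth.Agent.LoccohA.LichtGeo
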