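import Groth.Agent.LoccohA.LichtChart

/-!
# Closed zero loci of monic polynomials in the coordinates
-/

set_option autoImplicit false
universe u

open CategoryTheory AlgebraicGeometry CategoryTheory.Limits TopologicalSpace Opposite

namespace Groth.Agent.LoccohA.LichtMonic

open LichtClosed

open MvPolynomial in
/-- the ring `B[s] / (P_i(b_i))`, `P_i ∈ k[s][X]` monic, is integral over `k[s]`. -/
theorem isIntegral_quot {k : Type u} [Field k] (d : ℕ) {B : Type u} [CommRing B] [Algebra k B]
    (b : Fin d → B) (hint : (aeval (R := k) b).toRingHom.IsIntegral)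
    (P : Fin d → Polynomial (MvPolynomial (Fin d) k)) (hP : ∀ i, (P i).Monic) :
    ((Ideal.Quotient.mk (Ideal.span (Set.range fun i : Fin d =>
      ((P i).eval₂ (MvPolynomial.map (algebraMap k B)) (C (b i)) : MvPolynomial (Fin d) B)))).comp
      (MvPolynomial.map (algebraMap k B))).IsIntegral := by
  set J : Ideal (MvPolynomial (Fin d) B) := Ideal.span (Set.range fun i : Fin d =>
      ((P i).eval₂ (MvPolynomial.map (algebraMap k B)) (C (b i)) : MvPolynomial (Fin d) B)) with hJ
  set ψ : MvPolynomial (Fin d) k →+* MvPolynomial (Fin d) B ⧸ J :=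
    (Ideal.Quotient.mk J).comp (MvPolynomial.map (algebraMap k B)) with hψ
  let _ : Algebra (MvPolynomial (Fin d) k) (MvPolynomial (Fin d) B ⧸ J) := ψ.toAlgebra
  have halg : ∀ p, algebraMap (MvPolynomial (Fin d) k) (MvPolynomial (Fin d) B ⧸ J) p = ψ p := fun _ => rfl
  let IC : Subalgebra (MvPolynomial (Fin d) k) (MvPolynomial (Fin d) B ⧸ J) := integralClosure _ _
  -- the elements `b i`
  have hb : ∀ i, Ideal.Quotient.mk J (C (b i)) ∈ IC := by
    intro i
    refine ⟨P i, hP i, ?_⟩
    have h1 : Polynomial.eval₂ ψ (Ideal.Quotient.mk J (C (b i))) (P i) =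
        Ideal.Quotient.mk J ((P i).eval₂ (MvPolynomial.map (algebraMap k B)) (C (b i))) := by
      rw [Polynomial.hom_eval₂]
    change Polynomial.eval₂ ψ (Ideal.Quotient.mk J (C (b i))) (P i) = 0
    rw [h1, Ideal.Quotient.eq_zero_iff_mem]
    exact Ideal.subset_span ⟨i, rfl⟩
  have hbp : ∀ p : MvPolynomial (Fin d) k, Ideal.Quotient.mk J (C (aeval b p)) ∈ IC := by
    intro p
    induction p using MvPolynomial.induction_on with
    | C a =>
      have h1 : Ideal.Quotient.mk J (C (aeval b (C a : MvPolynomial (Fin d) k))) = ψ (C a) := by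
        simp [hψ]
      rw [h1, ← halg]
      exact IC.algebraMap_mem _
    | add p q hp hq =>
      rw [map_add, map_add, map_add]
      exact add_mem hp hq
    | mul_X p i hp =>
      rw [map_mul, map_mul, map_mul, aeval_X]
      exact mul_mem hp (hb i)
  have hc : ∀ c : B, Ideal.Quotient.mk J (C c) ∈ IC := by
    intro c
    obtain ⟨P, hP, hPc⟩ := hint c
    let α : MvPolynomial (Fin d) k →+* IC :=
      (((Ideal.Quotient.mk J).comp C).comp (aeval (R := k) b).toRingHom).codRestrict IC.toSubring hbp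
    have h1 : IsIntegral IC (Ideal.Quotient.mk J (C c)) := by
      refine ⟨P.map α, hP.map _, ?_⟩
      rw [Polynomial.eval₂_map]
      have h2 := congrArg ((Ideal.Quotient.mk J).comp C) hPc
      rw [map_zero, Polynomial.hom_eval₂] at h2
      exact h2
    exact isIntegral_trans (R := MvPolynomial (Fin d) k) (A := IC) _ h1
  intro x
  obtain ⟨x, rfl⟩ := Ideal.Quotient.mk_surjective x
  change Ideal.Quotient.mk J x ∈ IC
  induction x using MvPolynomial.induction_on with
  | C a => exact hc a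
  | add p q hp hq =>
    rw [map_add]
    exact add_mem hp hq
  | mul_X p i hp =>
    rw [map_mul]
    refine mul_mem hp ?_
    have h1 : Ideal.Quotient.mk J (X i) = ψ (X i) := by
      simp [hψ]
    rw [h1, ← halg]
    exact IC.algebraMap_mem _

/-- closedness of the zero loci `P_i(T_i) = 0`, `P_i ∈ k[s][X]` monic, in `X × 𝔸^d`. -/
theorem isClosed_zeroLocus {k : Type u} [Field k] {X Y : Scheme.{u}} (f : X ⟶ Spec (CommRingCat.of k)) (d : ℕ)
    (p : Y ⟶ X) (q : Y ⟶ Spec (CommRingCat.of (MvPolynomial (Fin d) k)))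
    (H : IsPullback p q f (Spec.map (CommRingCat.ofHom (algebraMap k (MvPolynomial (Fin d) k)))))
    {V : X.Opens} (hV : IsAffineOpen V) {B : Type u} [CommRing B] (φ : k →+* B) (β : B →+* Γ(X, V))
    (hβ : β.comp φ = toSec f V) (b : Fin d → B) (hb : (MvPolynomial.eval₂Hom φ b).Finite)
    (hcl : ∀ (h : hV.fromSpec ≫ f = Spec.map (CommRingCat.ofHom β) ≫ Spec.map (CommRingCat.ofHom φ)),
        UniversallyClosed (pullback.lift hV.fromSpec (Spec.map (CommRingCat.ofHom β)) h))
    (P : Fin d → Polynomial (MvPolynomial (Fin d) k)) (hP : ∀ i, (P i).Monic) :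
    IsClosed (((p ⁻¹ᵁ V : Y.Opens) : Set Y) \ ⋃ i, (Y.basicOpen
      ((P i).eval₂ (toSec q (p ⁻¹ᵁ V)) (p.app V (β (b i)))) : Set Y)) := by
  have hpaff : IsAffineHom p := MorphismProperty.of_isPullback H.flip inferInstance
  have hV' : IsAffineOpen (p ⁻¹ᵁ V) := hV.preimage p
  let _ : Algebra k B := φ.toAlgebra
  have hφalg : algebraMap k B = φ := rfl
  let ρ' : MvPolynomial (Fin d) k →+* MvPolynomial (Fin d) B := MvPolynomial.map (algebraMap k B)
  let σ : B →+* MvPolynomial (Fin d) B := MvPolynomial.C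
  let β' : MvPolynomial (Fin d) B →+* Γ(Y, p ⁻¹ᵁ V) :=
    MvPolynomial.eval₂Hom ((p.app V).hom.comp β) (fun i => toSec q (p ⁻¹ᵁ V) (MvPolynomial.X i))
  have hβσ : β'.comp σ = (p.app V).hom.comp β := by
    ext x
    simp [β', σ]
  have hc : hV.fromSpec ≫ f = Spec.map (CommRingCat.ofHom β) ≫ Spec.map (CommRingCat.ofHom φ) := by
    rw [OmClosed.fromSpec_comp, ← Spec.map_comp, ← CommRingCat.ofHom_comp, hβ]
  have hρσ : ρ'.comp (algebraMap k (MvPolynomial (Fin d) k)) = σ.comp φ := by
    ext x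
    simp [ρ', σ, hφalg]
  have hβρ : β'.comp ρ' = toSec q (p ⁻¹ᵁ V) := by
    apply MvPolynomial.ringHom_ext
    · intro a
      have h1 : (β'.comp ρ') (MvPolynomial.C a) = p.app V (β (φ a)) := by
        simp [β', ρ', hφalg]
      rw [h1]
      have h2 : β (φ a) = toSec f V a := RingHom.congr_fun hβ a
      rw [h2, LichtChart.app_toSec f _ p q H.w]
      rfl
    · intro i
      simp [β', ρ']
  have hu := universallyClosed_lift f (algebraMap k (MvPolynomial (Fin d) k)) p q H hV hV' φ β hc (hcl hc)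
    ρ' σ hρσ β' hβσ
  have hint := isIntegral_quot d b (fun x => hb.to_isIntegral x) P hP
  have key := LichtClosed.isClosed_zeroLocus q hV' ρ' β' hβρ (fun h => hu h) _ hint
  convert key using 5 with i
  have h1 : p.app V (β (b i)) = β' (MvPolynomial.C (b i)) := by
    simp [β']
  rw [h1, ← hβρ, Polynomial.hom_eval₂]

/-- the finite case (`X` separated, `k[T] → Γ(X, V)` finite). -/
theorem isClosed_zeroLocus_of_finite {k : Type u} [Field k] {X Y : Scheme.{u}} (f : X ⟶ Spec (CommRingCat.of k))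
    [IsSeparated f] (d : ℕ) (p : Y ⟶ X) (q : Y ⟶ Spec (CommRingCat.of (MvPolynomial (Fin d) k)))
    (H : IsPullback p q f (Spec.map (CommRingCat.ofHom (algebraMap k (MvPolynomial (Fin d) k)))))
    {V : X.Opens} (hV : IsAffineOpen V) (T : Fin d → Γ(X, V))
    (hT : (MvPolynomial.eval₂Hom (toSec f V) T).Finite)
    (P : Fin d → Polynomial (MvPolynomial (Fin d) k)) (hP : ∀ i, (P i).Monic) :
    IsClosed (((p ⁻¹ᵁ V : Y.Opens) : Set Y) \ ⋃ i, (Y.basicOpen
      ((P i).eval₂ (toSec q (p ⁻¹ᵁ V)) (p.app V (T i))) : Set Y)) := by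
  refine isClosed_zeroLocus f d p q H hV (toSec f V) (RingHom.id _) (RingHom.id_comp _) T hT ?_ P hP
  intro h
  have h1 : UniversallyClosed (pullback.lift hV.fromSpec (Spec.map (CommRingCat.ofHom (RingHom.id Γ(X, V)))) h ≫
      pullback.snd f (Spec.map (CommRingCat.ofHom (toSec f V)))) := by
    rw [pullback.lift_snd]
    have h2 : Spec.map (CommRingCat.ofHom (RingHom.id Γ(X, V))) = 𝟙 _ := Spec.map_id _
    rw [h2]
    infer_instance
  exact UniversallyClosed.of_comp_of_isSeparated _ (pullback.snd f (Spec.map (CommRingCat.ofHom (toSec f V))))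

end Groth.Agent.LoccohA.LichtMonic
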