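import Mathlib.RingTheory.MvPolynomial.Basic
import Mathlib.RingTheory.Polynomial.Basic
import Mathlib.RingTheory.Filtration
import Mathlib.RingTheory.Jacobson.Ring
import Mathlib.RingTheory.Artinian.Module
import Mathlib.RingTheory.Artinian.Ring
import Mathlib.RingTheory.Ideal.Operations

/-!
# Algebra for the coherence of the top-degree dualizing module
-/

set_option autoImplicit false
set_option linter.unusedSectionVars false

universe u

namespace Groth.Agent.LoccohA.OmAlg

open MvPolynomial

variable {k : Type u} [Field k]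

/-- the one-variable residue. -/
noncomputable def res1 (g : Polynomial k) : Polynomial k →ₗ[k] k :=
  (Polynomial.lcoeff k (g.natDegree - 1)).comp (Polynomial.modByMonicHom g)

lemma res1_apply (g p : Polynomial k) : res1 g p = (p %ₘ g).coeff (g.natDegree - 1) := rfl

lemma res1_mul (g : Polynomial k) (hg : g.Monic) (p : Polynomial k) : res1 g (p * g) = 0 := by
  rw [res1_apply, (Polynomial.modByMonic_eq_zero_iff_dvd hg).2 (dvd_mul_left g p),
    Polynomial.coeff_zero]

lemma res1_X_pow (g : Polynomial k) (hg : g.Monic) (b : ℕ) (hb : b < g.natDegree) :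
    res1 g (Polynomial.X ^ b) = if b + 1 = g.natDegree then 1 else 0 := by
  rw [res1_apply, (Polynomial.modByMonic_eq_self_iff hg).2, Polynomial.coeff_X_pow]
  · congr 1
    rw [eq_iff_iff]
    omega
  · rw [Polynomial.degree_X_pow, Polynomial.degree_eq_natDegree hg.ne_zero]
    exact_mod_cast hb

theorem exists_residue {k : Type u} [Field k] (n : ℕ) (g : Fin n → Polynomial k)
    (hg : ∀ i, (g i).Monic) :
    ∃ ρ : MvPolynomial (Fin n) k →ₗ[k] k,
      (∀ i p, ρ (p * (g i).aeval (X i : MvPolynomial (Fin n) k)) = 0) ∧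
      ∀ β : Fin n →₀ ℕ, (∀ i, β i < (g i).natDegree) →
        ρ (monomial β 1) = if ∀ i, β i + 1 = (g i).natDegree then 1 else 0 := by
  classical
  obtain ⟨ρ, hρ⟩ : ∃ ρ : MvPolynomial (Fin n) k →ₗ[k] k,
      ∀ β : Fin n →₀ ℕ, ρ (monomial β 1) = ∏ i, res1 (g i) (Polynomial.X ^ β i) := by
    refine ⟨(basisMonomials (Fin n) k).constr k
      (fun β => ∏ i, res1 (g i) (Polynomial.X ^ β i)), fun β => ?_⟩
    have := (basisMonomials (Fin n) k).constr_basis k
      (fun β => ∏ i, res1 (g i) (Polynomial.X ^ β i)) β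
    rwa [coe_basisMonomials] at this
  refine ⟨ρ, fun i p => ?_, fun β hβ => ?_⟩
  · -- reduce to monomials
    have key0 : ∀ (β : Fin n →₀ ℕ) (q : Polynomial k),
        ρ (monomial β 1 * q.aeval (X i : MvPolynomial (Fin n) k)) =
        (∏ j ∈ Finset.univ.erase i, res1 (g j) (Polynomial.X ^ β j)) *
            (res1 (g i) (Polynomial.X ^ β i * q)) := by
      intro β q
      induction q using Polynomial.induction_on' with
      | add p q hp hq => rw [map_add, mul_add, map_add, hp, hq, mul_add, map_add, mul_add]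
      | monomial m a =>
        have h1 : Polynomial.monomial m a = a • (Polynomial.X ^ m : Polynomial k) := by
          rw [Polynomial.smul_X_eq_monomial]
        rw [h1, map_smul, mul_smul_comm, map_smul, mul_smul_comm, map_smul, mul_smul_comm,
          map_pow, Polynomial.aeval_X, X_pow_eq_monomial, monomial_mul, one_mul, hρ, ← pow_add,
          ← Finset.mul_prod_erase Finset.univ _ (Finset.mem_univ i), mul_comm]
        congr 2
        · refine Finset.prod_congr rfl fun j hj => ?_
          rw [Finsupp.add_apply, Finsupp.single_eq_of_ne (Finset.ne_of_mem_erase hj), add_zero]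
        · rw [Finsupp.add_apply, Finsupp.single_eq_same]
    have key : ∀ β : Fin n →₀ ℕ,
        ρ (monomial β 1 * (g i).aeval (X i : MvPolynomial (Fin n) k)) = 0 := by
      intro β
      rw [key0, res1_mul _ (hg i), mul_zero]
    induction p using MvPolynomial.induction_on' with
    | monomial β a =>
      have h2 : monomial β a = a • (monomial β (1 : k)) := by
        rw [smul_monomial, smul_eq_mul, mul_one]
      rw [h2, smul_mul_assoc, map_smul, key, smul_zero]
    | add p q hp hq => rw [add_mul, map_add, hp, hq, add_zero]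
  · rw [hρ]
    rw [Finset.prod_congr rfl fun i _ => res1_X_pow (g i) (hg i) (β i) (hβ i)]
    split_ifs with h
    · exact Finset.prod_eq_one fun i _ => if_pos (h i)
    · push Not at h
      obtain ⟨i, hi⟩ := h
      exact Finset.prod_eq_zero (Finset.mem_univ i) (if_neg hi)

/-- a maximal ideal of `k[X]` contains monic polynomials in each variable. -/
lemma exists_monic_mem {n : ℕ} (m : Ideal (MvPolynomial (Fin n) k)) [hm : m.IsMaximal] (i : Fin n) :
    ∃ g : Polynomial k, g.Monic ∧ (g.aeval (X i : MvPolynomial (Fin n) k)) ∈ m := by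
  let _ : Field (MvPolynomial (Fin n) k ⧸ m) := Ideal.Quotient.field m
  have hint : Algebra.IsIntegral k (MvPolynomial (Fin n) k ⧸ m) := by
    have := finite_of_finite_type_of_isJacobsonRing k (MvPolynomial (Fin n) k ⧸ m)
    infer_instance
  obtain ⟨g, hg, hg'⟩ := hint.isIntegral (Ideal.Quotient.mk m (X i))
  refine ⟨g, hg, ?_⟩
  rw [← Ideal.Quotient.eq_zero_iff_mem]
  have h1 : Ideal.Quotient.mk m (Polynomial.aeval (X i) g) =
      Polynomial.aeval (Ideal.Quotient.mk m (X i)) g :=
    (Polynomial.aeval_algHom_apply (Ideal.Quotient.mkₐ k m) (X i) g).symm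
  rw [h1]
  exact hg'

theorem eq_zero_of_forall {k : Type u} [Field k] (n : ℕ) (h r : MvPolynomial (Fin n) k)
    (hh : h ≠ 0)
    (H : ∀ g : Fin n → Polynomial k, (∀ i, (g i).Monic) →
      ∃ N : ℕ, h ^ N * r ∈ Ideal.span (Set.range fun i =>
        (g i).aeval (X i : MvPolynomial (Fin n) k))) : r = 0 := by
  -- a maximal ideal not containing `h`
  obtain ⟨m, hm, hhm⟩ : ∃ m : Ideal (MvPolynomial (Fin n) k), m.IsMaximal ∧ h ∉ m := by
    by_contra hcon
    push Not at hcon
    apply hh
    have h1 : (⊥ : Ideal (MvPolynomial (Fin n) k)).jacobson = ⊥ :=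
      IsJacobsonRing.out inferInstance Ideal.isRadical_bot
    have h2 : h ∈ (⊥ : Ideal (MvPolynomial (Fin n) k)).jacobson := by
      rw [Ideal.jacobson, Ideal.mem_sInf]
      intro I hI
      exact hcon I hI.2
    rwa [h1, Ideal.mem_bot] at h2
  choose g hg hgm using fun i => exists_monic_mem m i
  have key : ∀ e : ℕ, r ∈ m ^ e := by
    intro e
    obtain ⟨N, hN⟩ := H (fun i => g i ^ e) (fun i => (hg i).pow e)
    have h1 : h ^ N * r ∈ m ^ e := by
      refine (Ideal.span_le.2 ?_) hN
      rintro _ ⟨i, rfl⟩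
      dsimp only
      rw [map_pow]
      exact Ideal.pow_mem_pow (hgm i) e
    have h2 : Ideal.span {h ^ N} ⊔ m ^ e = ⊤ := by
      refine Ideal.sup_pow_eq_top ?_
      by_contra hcon
      have h3 := hm.eq_of_le (J := Ideal.span {h ^ N} ⊔ m) hcon le_sup_right
      have h4 : h ^ N ∈ m := by
        rw [h3]
        exact Ideal.mem_sup_left (Ideal.mem_span_singleton_self _)
      exact hhm (hm.isPrime.mem_of_pow_mem N h4)
    obtain ⟨a, ha, b, hb, hab⟩ := Submodule.mem_sup.1
      (h2 ▸ Submodule.mem_top : (1 : MvPolynomial (Fin n) k) ∈ Ideal.span {h ^ N} ⊔ m ^ e)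
    obtain ⟨c, rfl⟩ := Ideal.mem_span_singleton'.1 ha
    have h5 : r = c * (h ^ N * r) + b * r := by
      rw [← mul_assoc, ← add_mul, hab, one_mul]
    rw [h5]
    exact Ideal.add_mem _ (Ideal.mul_mem_left _ _ h1) (Ideal.mul_mem_right _ _ hb)
  have h1 : r ∈ ⨅ e : ℕ, m ^ e := by
    rw [Ideal.mem_iInf]
    exact key
  rwa [Ideal.iInf_pow_eq_bot_of_isDomain _ hm.ne_top, Ideal.mem_bot] at h1

theorem exists_idem {k : Type u} [Field k] (n : ℕ) (h : MvPolynomial (Fin n) k)
    (g : Fin n → Polynomial k) (hg : ∀ i, (g i).Monic) :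
    ∃ (N : ℕ) (c : MvPolynomial (Fin n) k), h ^ N * (1 - h ^ N * c) ∈
      Ideal.span (Set.range fun i => (g i).aeval (X i : MvPolynomial (Fin n) k)) := by
  set I : Ideal (MvPolynomial (Fin n) k) :=
    Ideal.span (Set.range fun i => (g i).aeval (X i : MvPolynomial (Fin n) k)) with hI
  have hint : Algebra.IsIntegral k (MvPolynomial (Fin n) k ⧸ I) := by
    constructor
    intro x
    obtain ⟨x, rfl⟩ := Ideal.Quotient.mk_surjective x
    induction x using MvPolynomial.induction_on with
    | C a => exact isIntegral_algebraMap (R := k) (x := a)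
    | add p q hp hq => rw [map_add]; exact hp.add hq
    | mul_X p i hp =>
      rw [map_mul]
      refine hp.mul ⟨g i, hg i, ?_⟩
      have h1 : Ideal.Quotient.mk I (Polynomial.aeval (X i) (g i)) =
          Polynomial.aeval (Ideal.Quotient.mk I (X i)) (g i) :=
        (Polynomial.aeval_algHom_apply (Ideal.Quotient.mkₐ k I) (X i) (g i)).symm
      change Polynomial.aeval (Ideal.Quotient.mk I (X i)) (g i) = 0
      rw [← h1, Ideal.Quotient.eq_zero_iff_mem]
      exact Ideal.subset_span ⟨i, rfl⟩
  have hfin : Module.Finite k (MvPolynomial (Fin n) k ⧸ I) := Algebra.IsIntegral.finite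
  have hart : IsArtinianRing (MvPolynomial (Fin n) k ⧸ I) := isArtinian_of_tower k inferInstance
  obtain ⟨N, hN⟩ := IsArtinian.monotone_stabilizes (R := MvPolynomial (Fin n) k ⧸ I)
    (M := MvPolynomial (Fin n) k ⧸ I)
    ⟨fun m => OrderDual.toDual (Ideal.span {(Ideal.Quotient.mk I h) ^ m}), by
      intro a b hab
      refine OrderDual.toDual_le_toDual.2 ?_
      rw [Ideal.span_singleton_le_span_singleton]
      exact pow_dvd_pow _ hab⟩
  have h1 := hN (N + N) (by omega)
  have h2 : Ideal.span {(Ideal.Quotient.mk I h) ^ N} =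
      Ideal.span {(Ideal.Quotient.mk I h) ^ (N + N)} := h1
  have h3 : (Ideal.Quotient.mk I h) ^ N ∈ Ideal.span {(Ideal.Quotient.mk I h) ^ (N + N)} := by
    rw [← h2]
    exact Ideal.mem_span_singleton_self _
  obtain ⟨c, hc⟩ := Ideal.mem_span_singleton'.1 h3
  obtain ⟨c, rfl⟩ := Ideal.Quotient.mk_surjective c
  refine ⟨N, c, ?_⟩
  rw [← Ideal.Quotient.eq_zero_iff_mem]
  simp only [map_mul, map_pow, map_sub, map_one]
  rw [mul_sub, mul_one, sub_eq_zero]
  calc (Ideal.Quotient.mk I h) ^ N = (Ideal.Quotient.mk I c) * (Ideal.Quotient.mk I h) ^ (N + N) :=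
        hc.symm
    _ = _ := by rw [pow_add]; ring

end Groth.Agent.LoccohA.OmAlg
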