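import Mathlib.RingTheory.MvPolynomial.Basic
import Mathlib.RingTheory.Polynomial.Basic
import Mathlib.RingTheory.Noetherian.Basic
import Mathlib.RingTheory.Finiteness.Finsupp
import Mathlib.Algebra.Module.FinitePresentation

/-!
# Algebra for the coherence of the top-degree dualizing module
-/

set_option linter.unusedSectionVars false

universe u v w

namespace Groth.Agent.LoccohA.OmAlg529

open MvPolynomial

section E1

variable {k : Type u} [CommRing k] {σ : Type v} {A : Type w} [CommRing A] [Algebra k A] (T : σ → A)
variable {M : Type*} [AddCommGroup M] [Module A M] [Module k M] [IsScalarTower k A M]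

/-- `τ (φ(b) m) = b τ(m)`. -/
lemma tau_aeval (τ : M →ₗ[k] MvPolynomial σ k) (hτ : ∀ i m, τ (T i • m) = X i * τ m)
    (b : MvPolynomial σ k) (m : M) : τ (aeval T b • m) = b * τ m := by
  induction b using MvPolynomial.induction_on generalizing m with
  | C a => rw [aeval_C, algebraMap_smul, map_smul, MvPolynomial.smul_eq_C_mul]
  | add p q hp hq => rw [map_add, add_smul, map_add, hp, hq, add_mul]
  | mul_X p i hp => rw [map_mul, aeval_X, mul_smul, hp, hτ, mul_assoc]

/-- (E1): a module with a faithful symbol functional is finite. -/
theorem finite_of_tau {k : Type u} [CommRing k] [IsNoetherianRing k] {σ : Type v} [Finite σ]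
    {A : Type w} [CommRing A] [Algebra k A] (T : σ → A)
    (hfin : (aeval (R := k) T).toRingHom.Finite)
    {M : Type*} [AddCommGroup M] [Module A M] [Module k M] [IsScalarTower k A M]
    (τ : M →ₗ[k] MvPolynomial σ k) (hτ : ∀ i m, τ (T i • m) = X i * τ m)
    (hinj : ∀ m : M, (∀ a : A, τ (a • m) = 0) → m = 0) : Module.Finite A M := by
  let _ : Algebra (MvPolynomial σ k) A := (aeval (R := k) T).toRingHom.toAlgebra
  have hf : Module.Finite (MvPolynomial σ k) A := hfin
  let _ : Module (MvPolynomial σ k) M := Module.compHom M (aeval (R := k) T).toRingHom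
  have : IsScalarTower (MvPolynomial σ k) A M := ⟨fun b a m => by
    change (aeval T b * a) • m = aeval T b • a • m
    rw [mul_smul]⟩
  let Φ : M →ₗ[MvPolynomial σ k] (A →ₗ[MvPolynomial σ k] MvPolynomial σ k) :=
    { toFun := fun m =>
        { toFun := fun a => τ (a • m)
          map_add' := fun a a' => by rw [add_smul, map_add]
          map_smul' := fun b a => by
            change τ ((aeval T b * a) • m) = b * τ (a • m)
            rw [mul_smul, tau_aeval T τ hτ] }
      map_add' := fun m m' => by
        refine LinearMap.ext fun a => ?_
        change τ (a • (m + m')) = τ (a • m) + τ (a • m')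
        rw [smul_add, map_add]
      map_smul' := fun b m => by
        refine LinearMap.ext fun a => ?_
        change τ (a • (aeval T b • m)) = b * τ (a • m)
        rw [smul_comm, tau_aeval T τ hτ] }
  have hΦ : Function.Injective Φ := by
    rw [injective_iff_map_eq_zero]
    intro m hm
    exact hinj m fun a => LinearMap.congr_fun hm a
  have : IsNoetherian (MvPolynomial σ k) (A →ₗ[MvPolynomial σ k] MvPolynomial σ k) := by
    infer_instance
  have : Module.Finite (MvPolynomial σ k) M := Module.Finite.of_injective Φ hΦ
  exact Module.Finite.of_restrictScalars_finite (MvPolynomial σ k) A M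

end E1

end Groth.Agent.LoccohA.OmAlg529
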