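import Mathlib.Data.Finsupp.Basic
import Mathlib.Algebra.Group.Finsupp
import Mathlib.Tactic.Abel

/-!
# Abstract cohomology theories with Mayer-Vietoris sequences: direct sums and the comparison theorem
-/

set_option autoImplicit false

universe u w w'

namespace Groth.Agent.LoccohA.OmMVCmp

/-- a cohomology theory with Mayer-Vietoris sequences on a lattice -/
structure Th (P : Type u) [Lattice P] where
  H : ℕ → P → Type w
  [grp : ∀ n U, AddCommGroup (H n U)]
  res : ∀ (n : ℕ) {U V : P}, V ≤ U → (H n U →+ H n V)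
  res_res : ∀ (n : ℕ) {U V W : P} (h : V ≤ U) (h' : W ≤ V) (x : H n U), res n h' (res n h x) = res n (h'.trans h) x
  δ : ∀ (n : ℕ) (U V : P), H n (U ⊓ V) →+ H (n + 1) (U ⊔ V)
  sep : ∀ (U V : P) (x : H 0 (U ⊔ V)), res 0 (le_sup_left : U ≤ U ⊔ V) x = 0 →
    res 0 (le_sup_right : V ≤ U ⊔ V) x = 0 → x = 0
  exists_δ : ∀ (n : ℕ) (U V : P) (x : H (n + 1) (U ⊔ V)), res _ (le_sup_left : U ≤ U ⊔ V) x = 0 →
    res _ (le_sup_right : V ≤ U ⊔ V) x = 0 → ∃ y, δ n U V y = x
  glue : ∀ (n : ℕ) (U V : P) (a : H n U) (b : H n V),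
    res n (inf_le_left : U ⊓ V ≤ U) a = res n (inf_le_right : U ⊓ V ≤ V) b →
      ∃ x : H n (U ⊔ V), res n le_sup_left x = a ∧ res n le_sup_right x = b
  exists_sub : ∀ (n : ℕ) (U V : P) (y : H n (U ⊓ V)), δ n U V y = 0 →
    ∃ (a : H n U) (b : H n V), res n (inf_le_left : U ⊓ V ≤ U) a - res n (inf_le_right : U ⊓ V ≤ V) b = y
  δ_sub : ∀ (n : ℕ) (U V : P) (a : H n U) (b : H n V),
    δ n U V (res n (inf_le_left : U ⊓ V ≤ U) a - res n (inf_le_right : U ⊓ V ≤ V) b) = 0

attribute [instance] Th.grp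

/-- a morphism of cohomology theories -/
structure Hom {P : Type u} [Lattice P] (T : Th.{u, w} P) (T' : Th.{u, w'} P) where
  f : ∀ (n : ℕ) (U : P), T.H n U →+ T'.H n U
  f_res : ∀ (n : ℕ) {U V : P} (h : V ≤ U) (x : T.H n U), f n V (T.res n h x) = T'.res n h (f n U x)
  f_δ : ∀ (n : ℕ) (U V : P) (x : T.H n (U ⊓ V)), f (n + 1) (U ⊔ V) (T.δ n U V x) = T'.δ n U V (f n (U ⊓ V) x)

section finsupp

variable {ι : Type*} {M N : Type*} [AddCommGroup M] [AddCommGroup N]

/-- apply a group homomorphism to all components -/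
noncomputable def mr (ι : Type*) (f : M →+ N) : (ι →₀ M) →+ (ι →₀ N) := Finsupp.mapRange.addMonoidHom f

@[simp] lemma mr_apply (f : M →+ N) (x : ι →₀ M) (i : ι) : mr ι f x i = f (x i) := rfl

/-- choice of preimages, with finite support -/
lemma exists_finsupp {α : Type*} [Zero α] (x : ι →₀ N) (p : N → α → Prop) (h0 : p 0 0) (h : ∀ i, ∃ a, p (x i) a) :
    ∃ y : ι →₀ α, ∀ i, p (x i) (y i) := by
  classical
  choose a ha using h
  refine ⟨Finsupp.onFinset x.support (fun i => if x i = 0 then 0 else a i) (fun i hi => ?_), fun i => ?_⟩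
  · rw [Finsupp.mem_support_iff]
    intro hx
    exact hi (if_pos hx)
  · rw [Finsupp.onFinset_apply]
    split_ifs with hx
    · rw [hx]; exact h0
    · exact ha i

lemma exists_finsupp₂ {α β : Type*} [AddCommGroup α] [AddCommGroup β] (x : ι →₀ M) (y : ι →₀ N)
    (p : M → N → α → β → Prop) (h0 : p 0 0 0 0) (h : ∀ i, ∃ a b, p (x i) (y i) a b) :
    ∃ (a : ι →₀ α) (b : ι →₀ β), ∀ i, p (x i) (y i) (a i) (b i) := by
  classical
  choose a b hab using h
  refine ⟨Finsupp.onFinset (x.support ∪ y.support) (fun i => if x i = 0 ∧ y i = 0 then 0 else a i) (fun i hi => ?_),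
    Finsupp.onFinset (x.support ∪ y.support) (fun i => if x i = 0 ∧ y i = 0 then 0 else b i) (fun i hi => ?_),
    fun i => ?_⟩
  · rw [Finset.mem_union, Finsupp.mem_support_iff, Finsupp.mem_support_iff]
    by_contra hc
    push Not at hc
    exact hi (if_pos hc)
  · rw [Finset.mem_union, Finsupp.mem_support_iff, Finsupp.mem_support_iff]
    by_contra hc
    push Not at hc
    exact hi (if_pos hc)
  · rw [Finsupp.onFinset_apply, Finsupp.onFinset_apply]
    split_ifs with hx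
    · rw [hx.1, hx.2]; exact h0
    · exact hab i

end finsupp

variable {P : Type u} [Lattice P]

/-- direct sums of copies of a cohomology theory -/
noncomputable def Th.fs (ι : Type*) (T : Th.{u, w} P) : Th P where
  H n U := ι →₀ T.H n U
  res n _ _ h := mr ι (T.res n h)
  res_res n _ _ _ h h' x := by
    ext i
    simp [T.res_res]
  δ n U V := mr ι (T.δ n U V)
  sep U V x h h' := by
    ext i
    exact T.sep U V _ (DFunLike.congr_fun h i) (DFunLike.congr_fun h' i)
  exists_δ n U V x h h' := by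
    obtain ⟨y, hy⟩ := exists_finsupp x (fun a b => T.δ n U V b = a) (map_zero _)
      (fun i => T.exists_δ n U V _ (DFunLike.congr_fun h i) (DFunLike.congr_fun h' i))
    exact ⟨y, by ext i; exact hy i⟩
  glue n U V a b h := by
    obtain ⟨x, -, hx⟩ := exists_finsupp₂ (α := T.H n (U ⊔ V)) (β := T.H n (U ⊔ V)) a b
      (fun a b x _ => T.res n le_sup_left x = a ∧ T.res n le_sup_right x = b) ⟨map_zero _, map_zero _⟩
      (fun i => by
        obtain ⟨x, hx⟩ := T.glue n U V (a i) (b i) (DFunLike.congr_fun h i)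
        exact ⟨x, 0, hx⟩)
    exact ⟨x, by ext i; exact (hx i).1, by ext i; exact (hx i).2⟩
  exists_sub n U V y h := by
    obtain ⟨a, b, hab⟩ := exists_finsupp₂ (α := T.H n U) (β := T.H n V) y (0 : ι →₀ ℤ)
      (fun y _ a b => T.res n (inf_le_left : U ⊓ V ≤ U) a - T.res n (inf_le_right : U ⊓ V ≤ V) b = y)
      (by simp) (fun i => T.exists_sub n U V (y i) (DFunLike.congr_fun h i))
    exact ⟨a, b, by ext i; exact hab i⟩
  δ_sub n U V a b := by
    ext i
    exact T.δ_sub n U V _ _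

section five

variable {T : Th.{u, w} P} {T' : Th.{u, w'} P} (φ : Hom T T') {U V : P}

lemma inj_zero (hU : Function.Injective (φ.f 0 U)) (hV : Function.Injective (φ.f 0 V)) :
    Function.Injective (φ.f 0 (U ⊔ V)) := by
  rw [injective_iff_map_eq_zero]
  intro x hx
  apply T.sep
  · apply hU
    rw [φ.f_res, hx, map_zero, map_zero]
  · apply hV
    rw [φ.f_res, hx, map_zero, map_zero]

lemma inj_succ (n : ℕ) (hU : Function.Injective (φ.f (n + 1) U)) (hV : Function.Injective (φ.f (n + 1) V))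
    (hUs : Function.Surjective (φ.f n U)) (hVs : Function.Surjective (φ.f n V))
    (hUV : Function.Injective (φ.f n (U ⊓ V))) :
    Function.Injective (φ.f (n + 1) (U ⊔ V)) := by
  rw [injective_iff_map_eq_zero]
  intro x hx
  obtain ⟨y, rfl⟩ := T.exists_δ n U V x (hU (by rw [φ.f_res, hx, map_zero, map_zero]))
    (hV (by rw [φ.f_res, hx, map_zero, map_zero]))
  rw [φ.f_δ] at hx
  obtain ⟨a', b', hab⟩ := T'.exists_sub n U V _ hx
  obtain ⟨a, rfl⟩ := hUs a'
  obtain ⟨b, rfl⟩ := hVs b'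
  rw [← φ.f_res, ← φ.f_res, ← map_sub] at hab
  rw [← hUV hab, T.δ_sub]

lemma surj (n : ℕ) (hU : Function.Surjective (φ.f n U)) (hV : Function.Surjective (φ.f n V))
    (hUV : Function.Injective (φ.f n (U ⊓ V)))
    (hs : ∀ y : T'.H n (U ⊔ V), T'.res n (le_sup_left : U ≤ U ⊔ V) y = 0 →
      T'.res n (le_sup_right : V ≤ U ⊔ V) y = 0 → ∃ x, φ.f n (U ⊔ V) x = y) :
    Function.Surjective (φ.f n (U ⊔ V)) := by
  intro y
  obtain ⟨a, ha⟩ := hU (T'.res n le_sup_left y)
  obtain ⟨b, hb⟩ := hV (T'.res n le_sup_right y)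
  obtain ⟨x, hxa, hxb⟩ := T.glue n U V a b (hUV (by
    rw [φ.f_res, φ.f_res, ha, hb, T'.res_res, T'.res_res]))
  obtain ⟨x', hx'⟩ := hs (y - φ.f n (U ⊔ V) x) (by rw [map_sub, ← φ.f_res, hxa, ha, sub_self])
    (by rw [map_sub, ← φ.f_res, hxb, hb, sub_self])
  exact ⟨x' + x, by rw [map_add, hx', sub_add_cancel]⟩

/-- **Comparison for a union.** -/
theorem bijective_sup (hU : ∀ n, Function.Bijective (φ.f n U)) (hV : ∀ n, Function.Bijective (φ.f n V))
    (hUV : ∀ n, Function.Bijective (φ.f n (U ⊓ V))) (n : ℕ) : Function.Bijective (φ.f n (U ⊔ V)) := by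
  cases n with
  | zero =>
    refine ⟨inj_zero φ (hU 0).1 (hV 0).1, surj φ 0 (hU 0).2 (hV 0).2 (hUV 0).1 fun y h h' => ⟨0, ?_⟩⟩
    rw [map_zero]
    exact (T'.sep U V y h h').symm
  | succ n =>
    refine ⟨inj_succ φ n (hU _).1 (hV _).1 (hU n).2 (hV n).2 (hUV n).1,
      surj φ (n + 1) (hU _).2 (hV _).2 (hUV _).1 fun y h h' => ?_⟩
    obtain ⟨z', rfl⟩ := T'.exists_δ n U V y h h'
    obtain ⟨z, rfl⟩ := (hUV n).2 z'
    exact ⟨T.δ n U V z, φ.f_δ n U V z⟩

end five

end Groth.Agent.LoccohA.OmMVCmp
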