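import Groth.Agent.VarietyB.PullSec
import Mathlib.AlgebraicGeometry.Morphisms.Flat
import Mathlib.RingTheory.TensorProduct.IsBaseChangeFree
import Mathlib.RingTheory.MvPolynomial.Basic

/-!
# Sections of the pullback to `X × 𝔸ⁿ` are polynomials with coefficients sections
-/

set_option autoImplicit false
universe u

open CategoryTheory AlgebraicGeometry TopologicalSpace Opposite Groth.Agent.VarietyB

namespace Groth.Agent.LoccohA.OmPoly

/-- Elements of a base change along a ring map with a basis. -/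
theorem core {A B M N ι : Type*} [CommRing A] [CommRing B] [Algebra A B] [AddCommGroup M] [Module A M]
    [AddCommGroup N] [Module A N] [Module B N] [IsScalarTower A B N] (f : M →ₗ[A] N)
    (hf : IsBaseChange B f) (b : Module.Basis ι A B) :
    Function.Bijective (fun x : ι →₀ M => x.sum fun i m => b i • f m) := by
  classical
  have h : (fun x : ι →₀ M => x.sum fun i m => b i • f m) =
      hf.equiv ∘ (TensorProduct.equivFinsuppOfBasisLeft b).symm := by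
    funext x
    rw [Function.comp_apply, TensorProduct.equivFinsuppOfBasisLeft_symm_apply, Finsupp.sum, Finsupp.sum,
      map_sum]
    exact Finset.sum_congr rfl fun i _ => (hf.equiv_tmul _ _).symm
  rw [h]
  exact hf.equiv.bijective.comp (LinearEquiv.bijective _)

section

theorem appLE_top {Z W : Scheme.{u}} (h : Z ⟶ W) : h.appLE ⊤ ⊤ le_top = h.appTop :=
  (congrArg (h.appTop ≫ ·) (Z.presheaf.map_id _)).trans (Category.comp_id _)

theorem isPushout {k R : Type u} [CommRing k] [CommRing R] [Algebra k R] {X Y : Scheme.{u}}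
    (f : X ⟶ Spec (CommRingCat.of k)) (p : Y ⟶ X) (q : Y ⟶ Spec (CommRingCat.of R))
    (H : IsPullback p q f (Spec.map (CommRingCat.ofHom (algebraMap k R))))
    {V : X.Opens} (hV : IsAffineOpen V) :
    IsPushout (CommRingCat.ofHom (algebraMap k R))
      ((Scheme.ΓSpecIso (CommRingCat.of k)).inv ≫ f.appTop ≫ X.presheaf.map (homOfLE le_top : V ⟶ ⊤).op)
      ((Scheme.ΓSpecIso (CommRingCat.of R)).inv ≫ q.appTop ≫
        Y.presheaf.map (homOfLE le_top : p ⁻¹ᵁ V ⟶ ⊤).op) (p.app V) := by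
  have h1 := (isIso_pushoutSection_iff H (US := ⊤) (UT := ⊤) (UX := V) (UY := p ⁻¹ᵁ V)
    le_top le_top (by simp)).mp (isIso_pushoutSection_of_isAffineOpen H le_top le_top (by simp)
      (isAffineOpen_top _) (isAffineOpen_top _) hV)
  refine IsPushout.of_iso h1.flip (Scheme.ΓSpecIso _) (Scheme.ΓSpecIso _) (Iso.refl _) (Iso.refl _)
    ?_ ?_ ?_ ?_
  · rw [appLE_top, Scheme.ΓSpecIso_naturality]
  · rw [Iso.refl_hom, Category.comp_id, Iso.hom_inv_id_assoc]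
    rfl
  · rw [Iso.refl_hom, Category.comp_id, Iso.hom_inv_id_assoc]
    rfl
  · rw [Iso.refl_hom, Iso.refl_hom, Category.comp_id, Category.id_comp]
    exact (congrArg (p.app V ≫ ·) (Y.presheaf.map_id _)).trans (Category.comp_id _)

end

section

variable {k : Type u} [CommRing k] (n : ℕ) {X Y : Scheme.{u}} (f : X ⟶ Spec (CommRingCat.of k))
  (p : Y ⟶ X) (q : Y ⟶ Spec (CommRingCat.of (MvPolynomial (Fin n) k)))
  (H : IsPullback p q f (Spec.map (CommRingCat.ofHom (algebraMap k (MvPolynomial (Fin n) k)))))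

include H in
/-- `Γ(Y, p⁻¹V)` is free over `Γ(X, V)` on the monomials. -/
theorem exists_basis {V : X.Opens} (hV : IsAffineOpen V) :
    letI : Algebra Γ(X, V) Γ(Y, p ⁻¹ᵁ V) := (p.app V).hom.toAlgebra
    ∃ b : Module.Basis (Fin n →₀ ℕ) Γ(X, V) Γ(Y, p ⁻¹ᵁ V), ∀ α, b α =
      Y.presheaf.map (homOfLE le_top : p ⁻¹ᵁ V ⟶ ⊤).op (Coh.toGlobal q (MvPolynomial.monomial α 1)) := by
  have h1 := isPushout f p q H hV
  let i1 : Algebra Γ(X, V) Γ(Y, p ⁻¹ᵁ V) := (p.app V).hom.toAlgebra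
  let i2 : Algebra k Γ(X, V) := ((Scheme.ΓSpecIso (CommRingCat.of k)).inv ≫ f.appTop ≫
    X.presheaf.map (homOfLE le_top : V ⟶ ⊤).op).hom.toAlgebra
  let i3 : Algebra (MvPolynomial (Fin n) k) Γ(Y, p ⁻¹ᵁ V) :=
    ((Scheme.ΓSpecIso (CommRingCat.of (MvPolynomial (Fin n) k))).inv ≫ q.appTop ≫
        Y.presheaf.map (homOfLE le_top : p ⁻¹ᵁ V ⟶ ⊤).op).hom.toAlgebra
  let i4 : Algebra k Γ(Y, p ⁻¹ᵁ V) := ((algebraMap (MvPolynomial (Fin n) k) Γ(Y, p ⁻¹ᵁ V)).comp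
    (algebraMap k (MvPolynomial (Fin n) k))).toAlgebra
  have i5 : IsScalarTower k (MvPolynomial (Fin n) k) Γ(Y, p ⁻¹ᵁ V) := IsScalarTower.of_algebraMap_eq (fun _ => rfl)
  have i6 : IsScalarTower k Γ(X, V) Γ(Y, p ⁻¹ᵁ V) := IsScalarTower.of_algebraMap_eq (fun a =>
    congr($(h1.w) a))
  have h2 : Algebra.IsPushout k (MvPolynomial (Fin n) k) Γ(X, V) Γ(Y, p ⁻¹ᵁ V) :=
    CommRingCat.isPushout_iff_isPushout.mp h1
  have h3 := h2.symm.out
  refine ⟨h3.basis (MvPolynomial.basisMonomials (Fin n) k), fun α => ?_⟩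
  rw [IsBaseChange.basis_apply, MvPolynomial.coe_basisMonomials]
  rfl

include H in
theorem exists_basis' {V : X.Opens} (hV : IsAffineOpen V) (φ : Γ(X, V) ⟶ Γ(Y, p ⁻¹ᵁ V)) (hφ : φ = p.app V) :
    letI : Algebra Γ(X, V) Γ(Y, p ⁻¹ᵁ V) := φ.hom.toAlgebra
    ∃ b : Module.Basis (Fin n →₀ ℕ) Γ(X, V) Γ(Y, p ⁻¹ᵁ V), ∀ α, b α =
      Y.presheaf.map (homOfLE le_top : p ⁻¹ᵁ V ⟶ ⊤).op (Coh.toGlobal q (MvPolynomial.monomial α 1)) := by
  subst hφ
  exact exists_basis n f p q H hV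

include H in
theorem bijective_sections (F : X.Modules) (hF : Coh.IsQCoh F) {V : X.Opens} (hV : IsAffineOpen V) :
    Function.Bijective (fun (x : (Fin n →₀ ℕ) →₀ Γ(F, V)) => x.sum fun α m =>
      (Y.presheaf.map (homOfLE le_top : p ⁻¹ᵁ V ⟶ ⊤).op
        (Coh.toGlobal q (MvPolynomial.monomial α 1)) : Γ(Y, p ⁻¹ᵁ V)) •
        Groth.Agent.VarietyB.PullSec.sec p F (le_refl (p ⁻¹ᵁ V)) m) := by
  have e1 : p.appLE V (p ⁻¹ᵁ V) (le_refl (p ⁻¹ᵁ V)) = p.app V :=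
    (congrArg (p.app V ≫ ·) (Y.presheaf.map_id _)).trans (Category.comp_id _)
  obtain ⟨b, hb⟩ := exists_basis' n f p q H hV _ e1
  have hV' : IsAffineOpen (p ⁻¹ᵁ V) := by
    have : IsAffineHom p := MorphismProperty.of_isPullback H.flip inferInstance
    exact hV.preimage p
  have h1 := PullSec.isBaseChange_secₗ p F (le_refl (p ⁻¹ᵁ V)) hF hV hV'
  let i1 : Algebra Γ(X, V) Γ(Y, p ⁻¹ᵁ V) := (p.appLE V (p ⁻¹ᵁ V) (le_refl (p ⁻¹ᵁ V))).hom.toAlgebra
  let i2 := PullSec.secModule p F (le_refl (p ⁻¹ᵁ V))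
  have i3 : IsScalarTower Γ(X, V) Γ(Y, p ⁻¹ᵁ V) Γ((Scheme.Modules.pullback p).obj F, p ⁻¹ᵁ V) :=
      ⟨fun a b c => by rw [Algebra.smul_def, mul_smul]; rfl⟩
  have h2 := core (PullSec.secₗ p F (le_refl (p ⁻¹ᵁ V))) h1 b
  simp only [hb] at h2
  exact h2

include H in
theorem exists_sum {V : X.Opens} (hV : IsAffineOpen V) (b : Γ(Y, p ⁻¹ᵁ V)) :
    ∃ x : (Fin n →₀ ℕ) →₀ Γ(X, V), b = x.sum fun α a =>
      Y.presheaf.map (homOfLE le_top : p ⁻¹ᵁ V ⟶ ⊤).op (Coh.toGlobal q (MvPolynomial.monomial α 1)) *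
        p.app V a := by
  obtain ⟨B, hB⟩ := exists_basis n f p q H hV
  let i1 : Algebra Γ(X, V) Γ(Y, p ⁻¹ᵁ V) := (p.app V).hom.toAlgebra
  refine ⟨B.repr b, ?_⟩
  conv_lhs => rw [← B.linearCombination_repr b, Finsupp.linearCombination_apply]
  refine Finsupp.sum_congr fun α _ => ?_
  rw [hB, Algebra.smul_def, mul_comm]
  rfl

end

end Groth.Agent.LoccohA.OmPoly
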