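import Groth.Agent.LoccohA.OmEdge
import Groth.Agent.LoccohA.OmPoly
import Groth.Agent.LoccohA.OmMVCmp
import Groth.Agent.CohqA.FBCCx
import Groth.Agent.CohqA.AffineVanish

/-!
# Kuenneth: cohomology of a pullback to `X × 𝔸ⁿ`

`Phi`: the sum of the pullback maps along a family `θ i : F ⟶ f_* G`. `bijective_Phi`: it is bijective if the `θ i`
induce an isomorphism `⊕ F ≅ f_* G` on affine opens. `exists_tR`: the `k[s]`-linear extension of a `k`-linear
form on `H^d(X, F)` to `H^d(X × 𝔸ⁿ, F[s])`.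
-/

set_option autoImplicit false
universe u

open CategoryTheory Limits Opposite TopologicalSpace AlgebraicGeometry

noncomputable section

namespace Groth.Agent.LoccohA.OmBC

open Groth.Agent.LoccohA.OmBase Groth.Agent.LoccohA.OmEdge Groth.Agent.LoccohA.OmMVCmp

section top

variable {X Y : TopCat.{u}}

theorem sep (F : CohTop.Ab X) (A B : Opens X) (x : Hc F 0 (A ⊔ B))
    (hA : res F 0 (le_sup_left : A ≤ A ⊔ B) x = 0) (hB : res F 0 (le_sup_right : B ≤ A ⊔ B) x = 0) : x = 0 := by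
  apply (h0 F _).injective
  have h1 := h0_res F (le_sup_left : A ≤ A ⊔ B) x
  have h2 := h0_res F (le_sup_right : B ≤ A ⊔ B) x
  rw [hA, map_zero] at h1
  rw [hB, map_zero] at h2
  refine TopCat.Sheaf.eq_of_locally_eq₂ (X := X) ⟨F.obj, F.property⟩ (homOfLE (le_sup_left : A ≤ A ⊔ B))
    (homOfLE (le_sup_right : B ≤ A ⊔ B)) le_rfl _ _ ?_ ?_
  · rw [map_zero, map_zero]
    exact h1.symm
  · rw [map_zero, map_zero]
    exact h2.symm

/-- the cohomology theory of a sheaf -/
def thF (F : CohTop.Ab X) : Th (Opens X) where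
  H n U := Hc F n U
  res n _ _ h := res F n h
  res_res n _ _ _ h h' x := res_res F n h h' x
  δ n U V := δ F U V n
  sep U V x h h' := sep F U V x h h'
  exists_δ n U V x h h' := exists_δ F U V n x h h'
  glue n U V a b h := exists_glue F U V n a b h
  exists_sub n U V y h := exists_sub_eq F U V n y h
  δ_sub n U V a b := by rw [map_sub, δ_res_left, δ_res_right, sub_zero]

variable (f : Y ⟶ X)

theorem map_le {U V : Opens X} (h : V ≤ U) : (Opens.map f).obj V ≤ (Opens.map f).obj U := fun _ hy => h hy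

/-- the cohomology theory `V ↦ H^n(f⁻¹V, G)` -/
def thG (G : CohTop.Ab Y) : Th (Opens X) where
  H n U := Hc G n ((Opens.map f).obj U)
  res n _ _ h := res G n (map_le f h)
  res_res n _ _ _ h h' x := res_res G n _ _ x
  δ n U V := δ G ((Opens.map f).obj U) ((Opens.map f).obj V) n
  sep U V x h h' := sep G ((Opens.map f).obj U) ((Opens.map f).obj V) x h h'
  exists_δ n U V x h h' := exists_δ G ((Opens.map f).obj U) ((Opens.map f).obj V) n x h h'
  glue n U V a b h := exists_glue G ((Opens.map f).obj U) ((Opens.map f).obj V) n a b h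
  exists_sub n U V y h := exists_sub_eq G ((Opens.map f).obj U) ((Opens.map f).obj V) n y h
  δ_sub n U V a b := by
    refine (map_sub (δ G ((Opens.map f).obj U) ((Opens.map f).obj V) n) _ _).trans ?_
    exact (congrArg₂ (· - ·) (δ_res_left G _ _ n a) (δ_res_right G _ _ n b)).trans (sub_zero _)

variable {F : CohTop.Ab X} {G : CohTop.Ab Y} {ι : Type*} (θ : ι → (F ⟶ (CohTop.push f).obj G))

/-- the sum of the pullback maps along the `θ i` -/
def Phi (n : ℕ) (V : Opens X) : (ι →₀ Hc F n V) →+ Hc G n ((Opens.map f).obj V) :=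
  Finsupp.liftAddHom fun i => pb f (θ i) n V

theorem Phi_apply (n : ℕ) (V : Opens X) (x : ι →₀ Hc F n V) :
    Phi f θ n V x = x.sum fun i m => pb f (θ i) n V m := rfl

theorem Phi_single (n : ℕ) (V : Opens X) (i : ι) (m : Hc F n V) :
    Phi f θ n V (Finsupp.single i m) = pb f (θ i) n V m := Finsupp.liftAddHom_apply_single _ _ _

theorem Phi_δ (n : ℕ) (U V : Opens X) (x : ι →₀ Hc F n (U ⊓ V)) :
    Phi f θ (n + 1) (U ⊔ V) (mr ι (δ F U V n) x) =
      δ G ((Opens.map f).obj U) ((Opens.map f).obj V) n (Phi f θ n (U ⊓ V) x) := by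
  let a : (ι →₀ Hc F n (U ⊓ V)) →+ Hc G (n + 1) ((Opens.map f).obj (U ⊔ V)) :=
    (Phi f θ (n + 1) (U ⊔ V)).comp (mr ι (δ F U V n))
  let b' : (ι →₀ Hc F n (U ⊓ V)) →+ Hc G n ((Opens.map f).obj U ⊓ (Opens.map f).obj V) := Phi f θ n (U ⊓ V)
  let b : (ι →₀ Hc F n (U ⊓ V)) →+ Hc G (n + 1) ((Opens.map f).obj U ⊔ (Opens.map f).obj V) :=
    (δ G ((Opens.map f).obj U) ((Opens.map f).obj V) n).comp b'
  have key : a = b := by
    ext i m
    change Phi f θ (n + 1) (U ⊔ V) (mr ι (δ F U V n) (Finsupp.single i m)) =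
      δ G ((Opens.map f).obj U) ((Opens.map f).obj V) n (Phi f θ n (U ⊓ V) (Finsupp.single i m))
    have h1 : mr ι (δ F U V n) (Finsupp.single i m) = Finsupp.single i (δ F U V n m) := by
      rw [mr, Finsupp.mapRange.addMonoidHom_apply, Finsupp.mapRange_single]
    refine (congrArg (Phi f θ (n + 1) (U ⊔ V)) h1).trans ((Phi_single f θ (n + 1) (U ⊔ V) i _).trans ?_)
    refine (pb_δ f (θ i) U V n m).trans ?_
    exact congrArg (δ G ((Opens.map f).obj U) ((Opens.map f).obj V) n) (Phi_single f θ n (U ⊓ V) i m).symm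
  exact DFunLike.congr_fun key x

/-- `Phi` as a morphism of cohomology theories -/
def homPhi : Hom ((thF F).fs ι) (thG f G) where
  f n U := Phi f θ n U
  f_res n U V h x := by
    have key : (Phi f θ n V).comp (mr ι (res F n h)) = (res G n (map_le f h)).comp (Phi f θ n U) := by
      ext i m
      simp only [AddMonoidHom.comp_apply, Finsupp.singleAddHom_apply]
      rw [Phi_single, mr, Finsupp.mapRange.addMonoidHom_apply, Finsupp.mapRange_single, Phi_single]
      exact pb_res f (θ i) n h m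
    exact DFunLike.congr_fun key x
  f_δ n U V x := Phi_δ f θ n U V x

theorem bijective_sup (A B : Opens X) (hA : ∀ n, Function.Bijective (Phi f θ n A))
    (hB : ∀ n, Function.Bijective (Phi f θ n B)) (hAB : ∀ n, Function.Bijective (Phi f θ n (A ⊓ B))) :
    ∀ n, Function.Bijective (Phi f θ n (A ⊔ B)) :=
  OmMVCmp.bijective_sup (homPhi f θ) hA hB hAB

theorem h0_Phi (V : Opens X) (x : ι →₀ Hc F 0 V) :
    h0 G _ (Phi f θ 0 V x) = (mr ι (h0 F V).toAddMonoidHom x).sum fun i m => (θ i).hom.app (op V) m := by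
  rw [mr, Finsupp.mapRange.addMonoidHom_apply, Finsupp.sum_mapRange_index (fun i => map_zero _), Phi_apply,
    Finsupp.sum, Finsupp.sum, map_sum]
  exact Finset.sum_congr rfl fun i _ => pb_h0 f (θ i) V _

end top

section scheme

theorem subsingleton_affine {X : Scheme.{u}} (F : X.Modules) (hF : Coh.IsQCoh F) {V : X.Opens}
    (hV : IsAffineOpen V) (n : ℕ) : Subsingleton (Hc (X := X.toTopCat) (Coh.toAb F) (n + 1) V) :=
  Groth.Agent.CohqA.AffineVanish.HU_subsingleton F (n + 1) (Nat.succ_pos n) V hV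

variable {X Y : Scheme.{u}} (p : Y ⟶ X)

theorem bijective_Phi [IsAffineHom p] [CompactSpace X] [QuasiSeparatedSpace X] (F : X.Modules)
    (hF : Coh.IsQCoh F) (G : Y.Modules) (hG : Coh.IsQCoh G) {ι : Type*}
    (θ : ι → (Coh.toAb F ⟶ (Coh.pushAb p).obj (Coh.toAb G)))
    (H : ∀ V : X.Opens, IsAffineOpen V → Function.Bijective
      fun x : ι →₀ (Coh.toAb F).obj.obj (op V) => x.sum fun i m => (θ i).hom.app (op V) m) (n : ℕ) :
    Function.Bijective (Phi (X := X.toTopCat) (Y := Y.toTopCat) p.base θ n (⊤ : Opens X.toTopCat)) := by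
  have key : ∀ n, Function.Bijective (Phi (X := X.toTopCat) (Y := Y.toTopCat) p.base θ n (⊤ : X.Opens)) := by
    refine Groth.Agent.CohqA.FBCCx.induction_le (⊤ : X.Opens) isQuasiSeparated_univ
      (fun V => ∀ n, Function.Bijective (Phi (X := X.toTopCat) (Y := Y.toTopCat) p.base θ n V)) ?_ ?_ ⊤ le_rfl
      isCompact_univ
    · intro V _ hV n
      cases n with
      | zero =>
        have h1 := h0_Phi (X := X.toTopCat) (Y := Y.toTopCat) p.base θ V
        have h2 : Function.Bijective (h0 (X := Y.toTopCat) (Coh.toAb G) _ ∘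
            Phi (X := X.toTopCat) (Y := Y.toTopCat) p.base θ 0 V) := by
          have h3 : (h0 (X := Y.toTopCat) (Coh.toAb G) _ ∘ Phi (X := X.toTopCat) (Y := Y.toTopCat) p.base θ 0 V) =
              (fun x : ι →₀ (Coh.toAb F).obj.obj (op V) => x.sum fun i m => (θ i).hom.app (op V) m) ∘
                (mr ι (h0 (X := X.toTopCat) (Coh.toAb F) V).toAddMonoidHom) := funext h1
          rw [h3]
          refine (H V hV).comp ?_
          exact (Finsupp.mapRange.addEquiv (h0 (X := X.toTopCat) (Coh.toAb F) V)).bijective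
        exact (Function.Bijective.of_comp_iff' (h0 (X := Y.toTopCat) (Coh.toAb G) _).bijective _).1 h2
      | succ n =>
        have i1 := subsingleton_affine F hF hV n
        have i2 : Subsingleton (Hc (X := Y.toTopCat) (Coh.toAb G) (n + 1) ((Opens.map p.base).obj V)) :=
          subsingleton_affine G hG (hV.preimage p) n
        exact ⟨fun a b _ => Subsingleton.elim _ _, fun b => ⟨0, Subsingleton.elim _ _⟩⟩
    · intro U V _ _ h₁ h₂ h₃
      exact bijective_sup (X := X.toTopCat) (Y := Y.toTopCat) p.base θ U V h₁ h₂ h₃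
  exact key n

/-- the unit `F ⟶ p_* p^* F` on abelian sheaves -/
def unitAb (F : X.Modules) :
    Coh.toAb F ⟶ (Coh.pushAb p).obj (Coh.toAb ((Scheme.Modules.pullback p).obj F)) :=
  (SheafOfModules.toSheaf X.ringCatSheaf).map ((Scheme.Modules.pullbackPushforwardAdjunction p).unit.app F)

theorem unitAb_app (F : X.Modules) (V : X.Opens) (m : Γ(F, V)) :
    (unitAb p F).hom.app (op V) m = Groth.Agent.VarietyB.PullSec.sec p F (le_refl (p ⁻¹ᵁ V)) m := by
  rw [VarietyB.PullSec.sec_apply]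
  exact (congr($(((Scheme.Modules.pullback p).obj F).presheaf.map_id (op (p ⁻¹ᵁ V)))
    (((Scheme.Modules.pullbackPushforwardAdjunction p).unit.app F).app V m))).symm

/-- `p_*` of multiplication by a global function, after the unit -/
def unitMul (F : X.Modules) (r : Coh.Γtop Y) :
    Coh.toAb F ⟶ (Coh.pushAb p).obj (Coh.toAb ((Scheme.Modules.pullback p).obj F)) :=
  unitAb p F ≫ (Coh.pushAb p).map (Coh.smulAb ((Scheme.Modules.pullback p).obj F) r)

theorem unitMul_app (F : X.Modules) (r : Coh.Γtop Y) (V : X.Opens) (m : Γ(F, V)) :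
    (unitMul p F r).hom.app (op V) m = (Y.presheaf.map (homOfLE le_top : p ⁻¹ᵁ V ⟶ ⊤).op r : Γ(Y, p ⁻¹ᵁ V)) •
      Groth.Agent.VarietyB.PullSec.sec p F (le_refl (p ⁻¹ᵁ V)) m := by
  rw [← unitAb_app]
  rfl

theorem unitMul_one (F : X.Modules) : unitMul p F 1 = unitAb p F := by
  rw [unitMul, Coh.smulAb_one, CategoryTheory.Functor.map_id, Category.comp_id]

theorem unitMul_comp (F : X.Modules) (r s : Coh.Γtop Y) :
    unitMul p F r ≫ (Coh.pushAb p).map (Coh.smulAb ((Scheme.Modules.pullback p).obj F) s) =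
      unitMul p F (s * r) := by
  rw [unitMul, unitMul, Coh.smulAb_mul, Functor.map_comp, Category.assoc]

/-- the unit is semilinear -/
theorem smulAb_unitMul (F : X.Modules) (c : Coh.Γtop X) (r c' : Coh.Γtop Y) (hc : c' = p.appTop c) :
    Coh.smulAb F c ≫ unitMul p F r = unitMul p F (r * c') := by
  ext V m
  induction V using Opposite.rec with | _ V =>
  change (unitMul p F r).hom.app (op V) ((Coh.smulAb F c).hom.app (op V) m) =
    (unitMul p F (r * c')).hom.app (op V) m
  have h1 : (Coh.smulAb F c).hom.app (op V) m =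
      (X.presheaf.map (homOfLE le_top : V ⟶ ⊤).op c : Γ(X, V)) • (show Γ(F, V) from m) := rfl
  rw [h1]
  refine (unitMul_app p F r V _).trans (Eq.trans ?_ (unitMul_app p F (r * c') V m).symm)
  rw [Groth.Agent.VarietyB.PullSec.sec_smul, smul_smul]
  congr 1
  have h2 : p.appLE V (p ⁻¹ᵁ V) le_rfl (X.presheaf.map (homOfLE le_top : V ⟶ ⊤).op c) =
      Y.presheaf.map (homOfLE le_top : p ⁻¹ᵁ V ⟶ ⊤).op c' := by
    have e1 : p.appLE V (p ⁻¹ᵁ V) (le_refl (p ⁻¹ᵁ V)) = p.app V :=
      (congrArg (p.app V ≫ ·) (Y.presheaf.map_id _)).trans (Category.comp_id _)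
    rw [e1, hc]
    exact congr($(p.naturality (homOfLE le_top : V ⟶ ⊤).op) c)
  rw [h2]
  exact (map_mul (Y.presheaf.map (homOfLE le_top : p ⁻¹ᵁ V ⟶ ⊤).op).hom r c').symm

end scheme

section tR

/-- formal part of `exists_tR` -/
theorem tR_aux {k : Type u} [CommRing k] {n : ℕ} {M N : Type*} [AddCommGroup M] [AddCommGroup N]
    (Φ : ((Fin n →₀ ℕ) →₀ M) →+ N) (hΦ : Function.Bijective Φ) (t : M →+ k)
    (act : MvPolynomial (Fin n) k → N →+ N) (hadd : ∀ r s y, act (r + s) y = act r y + act s y)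
    (sc : k → M →+ M) (ht : ∀ c x, t (sc c x) = c * t x)
    (hact : ∀ β α c x, act (MvPolynomial.monomial β c) (Φ (Finsupp.single α x)) =
      Φ (Finsupp.single (β + α) (sc c x))) :
    ∃ tR : N →+ MvPolynomial (Fin n) k, (∀ r y, tR (act r y) = r * tR y) ∧
      ∀ x, tR (Φ (Finsupp.single 0 x)) = MvPolynomial.C (t x) := by
  let e : ((Fin n →₀ ℕ) →₀ M) ≃+ N := AddEquiv.ofBijective Φ hΦ
  let T : ((Fin n →₀ ℕ) →₀ M) →+ MvPolynomial (Fin n) k :=
    Finsupp.liftAddHom fun α => ((MvPolynomial.monomial α : k →ₗ[k] MvPolynomial (Fin n) k).toAddMonoidHom).comp t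
  have hT : ∀ α x, T (Finsupp.single α x) = MvPolynomial.monomial α (t x) := fun α x =>
    Finsupp.liftAddHom_apply_single _ _ _
  let tR : N →+ MvPolynomial (Fin n) k := T.comp e.symm.toAddMonoidHom
  have htR : ∀ x, tR (Φ x) = T x := fun x => congrArg T (e.symm_apply_apply x)
  refine ⟨tR, ?_, fun x => (htR _).trans (hT 0 x)⟩
  intro r y
  obtain ⟨x, rfl⟩ := hΦ.2 y
  induction r using MvPolynomial.induction_on' with
  | monomial β c =>
    induction x using Finsupp.induction_linear with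
    | zero => rw [map_zero, map_zero, map_zero, mul_zero]
    | add x₁ x₂ h₁ h₂ => rw [_root_.map_add, _root_.map_add, _root_.map_add, _root_.map_add, mul_add, h₁, h₂]
    | single α x => rw [hact, htR, htR, hT, hT, ht, MvPolynomial.monomial_mul]
  | add r₁ r₂ h₁ h₂ => rw [hadd, _root_.map_add, h₁, h₂, add_mul]

variable {k : Type u} [CommRing k] (n : ℕ) {X Y : Scheme.{u}} [CompactSpace X] [QuasiSeparatedSpace X]
  (f : X ⟶ Spec (CommRingCat.of k)) (p : Y ⟶ X) (q : Y ⟶ Spec (CommRingCat.of (MvPolynomial (Fin n) k)))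
  (H : IsPullback p q f (Spec.map (CommRingCat.ofHom (algebraMap k (MvPolynomial (Fin n) k)))))

omit [CompactSpace X] [QuasiSeparatedSpace X] in
include H in
theorem toGlobal_C (c : k) : Coh.toGlobal q (MvPolynomial.C c) = p.appTop (Coh.toGlobal f c) := by
  have h2 : (Scheme.ΓSpecIso (CommRingCat.of k)).inv ≫ (p ≫ f).appTop =
      (Scheme.ΓSpecIso (CommRingCat.of k)).inv ≫
        (q ≫ Spec.map (CommRingCat.ofHom (algebraMap k (MvPolynomial (Fin n) k)))).appTop := by rw [H.w]
  rw [Scheme.Hom.comp_appTop, Scheme.Hom.comp_appTop, ← Scheme.ΓSpecIso_inv_naturality_assoc] at h2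
  exact (congr($(h2) c)).symm

include H in
/-- **The `k[s]`-linear extension of a linear form on `H^d(X, F)`.** -/
theorem exists_tR (F : X.Modules) (hF : Coh.IsQCoh F) (d : ℕ)
    (t : Hc (X := X.toTopCat) (Coh.toAb F) d ⊤ →+ k)
    (ht : ∀ (c : k) x, t (map (Coh.smulAb F (Coh.toGlobal f c)) d ⊤ x) = c * t x) :
    ∃ tR : Hc (X := Y.toTopCat) (Coh.toAb ((Scheme.Modules.pullback p).obj F)) d ⊤ →+ MvPolynomial (Fin n) k,
      (∀ r y, tR (map (Coh.smulAb _ (Coh.toGlobal q r)) d ⊤ y) = r * tR y) ∧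
      ∀ x, tR (pb (X := X.toTopCat) (Y := Y.toTopCat) p.base (unitAb p F) d ⊤ x) = MvPolynomial.C (t x) := by
  set F' := (Scheme.Modules.pullback p).obj F with hF'
  have hp : IsAffineHom p := MorphismProperty.of_isPullback H.flip inferInstance
  have hF'q : Coh.IsQCoh F' := Groth.Agent.VarietyB.PullSec.isQCoh_pullback p F hF
  let θ : (Fin n →₀ ℕ) → (Coh.toAb F ⟶ (Coh.pushAb p).obj (Coh.toAb F')) :=
    fun α => unitMul p F (Coh.toGlobal q (MvPolynomial.monomial α 1))
  have hbij : Function.Bijective (Phi (X := X.toTopCat) (Y := Y.toTopCat) p.base θ d (⊤ : Opens X.toTopCat)) := by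
    refine bijective_Phi p F hF F' hF'q θ (fun V hV => ?_) d
    have h1 := OmPoly.bijective_sections n f p q H F hF hV
    have h2 : (fun x : (Fin n →₀ ℕ) →₀ (Coh.toAb F).obj.obj (op V) =>
        x.sum fun i m => (θ i).hom.app (op V) m) = (fun (x : (Fin n →₀ ℕ) →₀ Γ(F, V)) => x.sum fun α m =>
      (Y.presheaf.map (homOfLE le_top : p ⁻¹ᵁ V ⟶ ⊤).op
        (Coh.toGlobal q (MvPolynomial.monomial α 1)) : Γ(Y, p ⁻¹ᵁ V)) •
        Groth.Agent.VarietyB.PullSec.sec p F (le_refl (p ⁻¹ᵁ V)) m) := by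
      funext x
      exact Finset.sum_congr rfl fun α _ => unitMul_app p F _ V _
    rw [h2]
    exact h1
  have hmap : ∀ (β α : Fin n →₀ ℕ) (c : k) (x : Hc (X := X.toTopCat) (Coh.toAb F) d ⊤),
      map (Coh.smulAb F' (Coh.toGlobal q (MvPolynomial.monomial β c))) d ((Opens.map p.base).obj ⊤)
        (pb (X := X.toTopCat) (Y := Y.toTopCat) p.base (θ α) d ⊤ x) =
      pb (X := X.toTopCat) (Y := Y.toTopCat) p.base (θ (β + α)) d ⊤
        (map (Coh.smulAb F (Coh.toGlobal f c)) d ⊤ x) := by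
    intro β α c x
    refine map_pb (X := X.toTopCat) (Y := Y.toTopCat) p.base (θ α) (θ (β + α)) (Coh.smulAb F (Coh.toGlobal f c))
      (Coh.smulAb F' (Coh.toGlobal q (MvPolynomial.monomial β c))) ?_ d ⊤ x
    refine (unitMul_comp p F _ _).trans ?_
    refine Eq.trans ?_ (smulAb_unitMul p F (Coh.toGlobal f c) _ _ (toGlobal_C n f p q H c)).symm
    congr 1
    rw [← map_mul, ← map_mul, MvPolynomial.monomial_mul, mul_comm _ (MvPolynomial.C c), MvPolynomial.C_mul_monomial]
  have h0 : θ 0 = unitAb p F := by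
    have h1 : (MvPolynomial.monomial (0 : Fin n →₀ ℕ) (1 : k)) = 1 := rfl
    change unitMul p F (Coh.toGlobal q (MvPolynomial.monomial (0 : Fin n →₀ ℕ) (1 : k))) = _
    rw [h1, map_one, unitMul_one]
  obtain ⟨tR, h1, h2⟩ := tR_aux (Phi (X := X.toTopCat) (Y := Y.toTopCat) p.base θ d (⊤ : Opens X.toTopCat)) hbij t
    (fun r => map (Coh.smulAb F' (Coh.toGlobal q r)) d ((Opens.map p.base).obj ⊤))
    (fun r s y => by rw [_root_.map_add, Coh.smulAb_add, OmBase.map_add])
    (fun c => map (Coh.smulAb F (Coh.toGlobal f c)) d ⊤) ht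
    (fun β α c x => by
      rw [Phi_single, Phi_single]
      exact hmap β α c x)
  refine ⟨tR, h1, fun x => ?_⟩
  have h3 := h2 x
  rw [Phi_single, h0] at h3
  exact h3

end tR

end Groth.Agent.LoccohA.OmBC
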