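import Groth.Agent.CohtopA.MVElem
import Groth.Agent.CohqA.MV
import Groth.Agent.CohtopA.ExtAdj
import Groth.Agent.CohtopB.TopPull
import Groth.Agent.CohqA.SheafH

/-!
# A sealed API for cohomology over opens

`Hc F n V` is `H^n(V, F)` (`CohTop.HU`), behind a definition to keep type checking fast, with
restrictions `res`, Mayer-Vietoris connecting maps `δ`, functoriality `map` and pullback maps `pb`.
-/

set_option autoImplicit false
universe u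

open CategoryTheory Abelian Limits Opposite TopologicalSpace

noncomputable section

namespace Groth.Agent.LoccohA.OmBase

open Groth.Agent.CohtopA Groth.Agent.CohqA Groth.Agent.CohtopA.FreeAb Groth.Agent.CohtopB.TopPull

section Abstract

universe w w' v v' u₁ u₂

variable {A : Type u₁} [Category.{v} A] [Abelian A] {B : Type u₂} [Category.{v'} B] [Abelian B]
  [HasExt.{w} A] [HasExt.{w'} B] (L : B ⥤ A) [L.Additive] [PreservesFiniteLimits L]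
  [PreservesFiniteColimits L]

/-- Pullback on Ext groups along an exact functor. -/
def pbA {Z : B} {Z' : A} (c : Z' ⟶ L.obj Z) {F : B} {G : A} (θ : L.obj F ⟶ G) (n : ℕ) :
    Ext.{w'} Z F n →+ Ext.{w} Z' G n :=
  ((Ext.mk₀ c).precomp G (zero_add n)).comp
    (((Ext.mk₀ θ).postcomp _ (add_zero n)).comp (L.mapExtAddHom Z F n))

theorem pbA_apply {Z : B} {Z' : A} (c : Z' ⟶ L.obj Z) {F : B} {G : A} (θ : L.obj F ⟶ G) (n : ℕ)
    (x : Ext.{w'} Z F n) : pbA L c θ n x =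
      (Ext.mk₀ c).comp ((x.mapExactFunctor L).comp (Ext.mk₀ θ) (add_zero n)) (zero_add n) := rfl

theorem pbA_mk₀ {Z : B} {Z' : A} (c : Z' ⟶ L.obj Z) {F : B} {G : A} (θ : L.obj F ⟶ G)
    (g : Z ⟶ F) : pbA L c θ 0 (Ext.mk₀ g) = Ext.mk₀ (c ≫ L.map g ≫ θ) := by
  rw [pbA_apply, Ext.mapExactFunctor_mk₀, Ext.mk₀_comp_mk₀, Ext.mk₀_comp_mk₀]

theorem pbA_res {Z Z₁ : B} {Z' Z₁' : A} (c : Z' ⟶ L.obj Z) (c₁ : Z₁' ⟶ L.obj Z₁) {F : B} {G : A}
    (θ : L.obj F ⟶ G) (φ : Z₁ ⟶ Z) (φ' : Z₁' ⟶ Z') (comm : φ' ≫ c = c₁ ≫ L.map φ) (n : ℕ)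
    (x : Ext.{w'} Z F n) :
    pbA L c₁ θ n ((Ext.mk₀ φ).comp x (zero_add n)) =
      (Ext.mk₀ φ').comp (pbA L c θ n x) (zero_add n) := by
  rw [pbA_apply, pbA_apply, Ext.mapExactFunctor_comp, Ext.mapExactFunctor_mk₀,
    Ext.comp_assoc_of_third_deg_zero, Ext.mk₀_comp_mk₀_assoc, Ext.mk₀_comp_mk₀_assoc, comm]

theorem pbA_map {Z : B} {Z' : A} (c : Z' ⟶ L.obj Z) {F F₁ : B} {G G₁ : A}
    (θ : L.obj F ⟶ G) (θ₁ : L.obj F₁ ⟶ G₁) (φ : F ⟶ F₁) (ψ : G ⟶ G₁)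
    (comm : θ ≫ ψ = L.map φ ≫ θ₁) (n : ℕ) (x : Ext.{w'} Z F n) :
    (pbA L c θ n x).comp (Ext.mk₀ ψ) (add_zero n) =
      pbA L c θ₁ n (x.comp (Ext.mk₀ φ) (add_zero n)) := by
  rw [pbA_apply, pbA_apply, Ext.mapExactFunctor_comp, Ext.mapExactFunctor_mk₀,
    Ext.comp_assoc_of_third_deg_zero, Ext.comp_assoc_of_second_deg_zero,
    Ext.comp_assoc_of_second_deg_zero, Ext.mk₀_comp_mk₀, Ext.mk₀_comp_mk₀, comm]

omit [HasExt.{w'} B] [L.Additive] [PreservesFiniteLimits L] [PreservesFiniteColimits L] in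
theorem assoc_aux {P₁ P₃ Q₁ Q₃ F G : A} (E : Ext.{w} P₃ P₁ 1) (E' : Ext.{w} Q₃ Q₁ 1) (t₁ : Q₁ ⟶ P₁)
    (t₃ : Q₃ ⟶ P₃) (h : E'.comp (Ext.mk₀ t₁) (add_zero 1) = (Ext.mk₀ t₃).comp E (zero_add 1))
    (n : ℕ) (y : Ext.{w} P₁ F n) (θ : F ⟶ G) (m : ℕ) (hm : 1 + n = m) :
    (Ext.mk₀ t₃).comp ((E.comp y hm).comp (Ext.mk₀ θ) (add_zero m)) (zero_add m) =
      E'.comp ((Ext.mk₀ t₁).comp (y.comp (Ext.mk₀ θ) (add_zero n)) (zero_add n)) hm := by
  rw [Ext.comp_assoc_of_third_deg_zero, ← Ext.comp_assoc (Ext.mk₀ t₃) E _ (zero_add 1) _ (by omega),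
    ← h, Ext.comp_assoc_of_second_deg_zero]

theorem pbA_extClass {S : ShortComplex B} (hS : S.ShortExact) {S' : ShortComplex A}
    (hS' : S'.ShortExact) (t₁ : S'.X₁ ⟶ L.obj S.X₁) (t₂ : S'.X₂ ⟶ L.obj S.X₂)
    (t₃ : S'.X₃ ⟶ L.obj S.X₃) (c₁ : t₁ ≫ L.map S.f = S'.f ≫ t₂)
    (c₂ : t₂ ≫ L.map S.g = S'.g ≫ t₃) {F : B} {G : A} (θ : L.obj F ⟶ G) (n m : ℕ)
    (hm : 1 + n = m) (x : Ext.{w'} S.X₁ F n) :
    pbA L t₃ θ m (hS.extClass.comp x hm) = hS'.extClass.comp (pbA L t₁ θ n x) hm := by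
  have h1 : (hS.extClass.comp x hm).mapExactFunctor L =
      Ext.comp (X := L.obj S.X₃) (Y := L.obj S.X₁) (Z := L.obj F) (hS.map_of_exact L).extClass
        (x.mapExactFunctor L) hm := by
    rw [Ext.mapExactFunctor_comp, Ext.mapExactFunctor_extClass]
  have h3 : Ext.comp (Y := S'.X₁) (Z := L.obj S.X₁) hS'.extClass (Ext.mk₀ t₁) (add_zero 1) =
      Ext.comp (X := S'.X₃) (Y := L.obj S.X₃) (Z := L.obj S.X₁)
        (Ext.mk₀ t₃) (hS.map_of_exact L).extClass (zero_add 1) :=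
    ShortComplex.ShortExact.extClass_naturality hS' (hS.map_of_exact L) ⟨t₁, t₂, t₃, c₁, c₂⟩
  rw [pbA_apply, pbA_apply, h1]
  exact assoc_aux _ _ t₁ t₃ h3 n (x.mapExactFunctor L) θ m hm

/-- Version of `pbA_extClass` for Mayer-Vietoris type sequences. -/
theorem pbA_mv {X₁ X₂ X₃ X₄ : B} {f : X₁ ⟶ X₂} {g : X₁ ⟶ X₃} {h : X₂ ⟶ X₄} {k : X₃ ⟶ X₄}
    {w : biprod.lift f (-g) ≫ biprod.desc h k = 0}
    (hS : (ShortComplex.mk (biprod.lift f (-g)) (biprod.desc h k) w).ShortExact)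
    {Y₁ Y₂ Y₃ Y₄ : A} {f' : Y₁ ⟶ Y₂} {g' : Y₁ ⟶ Y₃} {h' : Y₂ ⟶ Y₄} {k' : Y₃ ⟶ Y₄}
    {w' : biprod.lift f' (-g') ≫ biprod.desc h' k' = 0}
    (hS' : (ShortComplex.mk (biprod.lift f' (-g')) (biprod.desc h' k') w').ShortExact)
    (a₁ : Y₁ ⟶ L.obj X₁) (a₂ : Y₂ ⟶ L.obj X₂) (a₃ : Y₃ ⟶ L.obj X₃) (a₄ : Y₄ ⟶ L.obj X₄)
    (ef : f' ≫ a₂ = a₁ ≫ L.map f) (eg : g' ≫ a₃ = a₁ ≫ L.map g)
    (eh : h' ≫ a₄ = a₂ ≫ L.map h) (ek : k' ≫ a₄ = a₃ ≫ L.map k)
    {F : B} {G : A} (θ : L.obj F ⟶ G) (n m : ℕ) (hm : 1 + n = m) (x : Ext.{w'} X₁ F n) :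
    pbA L a₄ θ m (hS.extClass.comp x hm) = hS'.extClass.comp (pbA L a₁ θ n x) hm := by
  refine pbA_extClass L hS hS' a₁ (biprod.desc (a₂ ≫ L.map biprod.inl) (a₃ ≫ L.map biprod.inr)) a₄
    ?_ ?_ θ n m hm x
  · dsimp only
    have e : biprod.lift f (-g) = f ≫ biprod.inl - g ≫ biprod.inr := by
      rw [biprod.lift_eq]
      simp [sub_eq_add_neg]
    rw [e, L.map_sub, L.map_comp, L.map_comp, Preadditive.comp_sub, ← reassoc_of% ef,
      ← reassoc_of% eg, biprod.lift_desc]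
    simp [sub_eq_add_neg]
  · dsimp only
    apply biprod.hom_ext'
    · rw [biprod.inl_desc_assoc, Category.assoc, ← L.map_comp, biprod.inl_desc,
        biprod.inl_desc_assoc, eh]
    · rw [biprod.inr_desc_assoc, Category.assoc, ← L.map_comp, biprod.inr_desc,
        biprod.inr_desc_assoc, ek]

end Abstract

/-! ### The sealed groups -/

section basic

variable {X : TopCat.{u}} (F : CohTop.Ab X)

/-- `H^n(V, F)` -/
def Hc (n : ℕ) (V : Opens X) : Type u := CohTop.HU F n V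

instance (n : ℕ) (V : Opens X) : AddCommGroup (Hc F n V) :=
  inferInstanceAs (AddCommGroup (CohTop.HU F n V))

/-- comparison with the unsealed group -/
def eqv (n : ℕ) (V : Opens X) : CohTop.HU F n V ≃+ Hc F n V := AddEquiv.refl _

/-- restriction -/
def res (n : ℕ) {U V : Opens X} (h : V ≤ U) : Hc F n U →+ Hc F n V := CohTop.res F n h

theorem eqv_res (n : ℕ) {U V : Opens X} (h : V ≤ U) (x : CohTop.HU F n U) :
    eqv F n V (CohTop.res F n h x) = res F n h (eqv F n U x) := rfl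

theorem res_res (n : ℕ) {U V W : Opens X} (h : V ≤ U) (h' : W ≤ V) (x : Hc F n U) :
    res F n h' (res F n h x) = res F n (h'.trans h) x := MVElem.res_res F n h h' x

theorem res_self (n : ℕ) {U : Opens X} (h : U ≤ U) (x : Hc F n U) : res F n h x = x :=
  MVElem.res_self F n h x

/-- The Mayer-Vietoris connecting map. -/
def δ (A B : Opens X) (n : ℕ) : Hc F n (A ⊓ B) →+ Hc F (n + 1) (A ⊔ B) := MV.δ F A B n

theorem exists_δ (A B : Opens X) (n : ℕ) (y : Hc F (n + 1) (A ⊔ B))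
    (h1 : res F (n + 1) (le_sup_left : A ≤ A ⊔ B) y = 0)
    (h2 : res F (n + 1) (le_sup_right : B ≤ A ⊔ B) y = 0) : ∃ x, δ F A B n x = y :=
  MV.exists_δ_eq F A B n y h1 h2

theorem exists_sub_eq (A B : Opens X) (n : ℕ) (z : Hc F n (A ⊓ B)) (hz : δ F A B n z = 0) :
    ∃ (a : Hc F n A) (b : Hc F n B), res F n inf_le_left a - res F n inf_le_right b = z :=
  MV.exists_sub_eq F A B n z hz

theorem exists_glue (A B : Opens X) (n : ℕ) (a : Hc F n A) (b : Hc F n B)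
    (hab : res F n (inf_le_left : A ⊓ B ≤ A) a = res F n (inf_le_right : A ⊓ B ≤ B) b) :
    ∃ c : Hc F n (A ⊔ B), res F n le_sup_left c = a ∧ res F n le_sup_right c = b :=
  MV.exists_glue F A B n a b hab

theorem δ_res_left (A B : Opens X) (n : ℕ) (x : Hc F n A) :
    δ F A B n (res F n inf_le_left x) = 0 := MVElem.δ_res_left F n x

theorem δ_res_right (A B : Opens X) (n : ℕ) (x : Hc F n B) :
    δ F A B n (res F n inf_le_right x) = 0 := MVElem.δ_res_right F n x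

theorem res_δ {A B A' B' : Opens X} (hA : A' ≤ A) (hB : B' ≤ B) (n : ℕ) (x : Hc F n (A ⊓ B)) :
    res F (n + 1) (sup_le_sup hA hB) (δ F A B n x) =
      δ F A' B' n (res F n (inf_le_inf hA hB) x) := MVElem.res_δ F hA hB n x

theorem subsingleton_bot (n : ℕ) : Subsingleton (Hc F n ⊥) := MV.subsingleton_bot F n

theorem subsingleton_sup (U V : Opens X) (n : ℕ) (h₁ : Subsingleton (Hc F n (U ⊓ V)))
    (h₂ : Subsingleton (Hc F (n + 1) U)) (h₃ : Subsingleton (Hc F (n + 1) V)) :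
    Subsingleton (Hc F (n + 1) (U ⊔ V)) := MV.subsingleton_sup F U V n h₁ h₂ h₃

/-- `H^0(U, F) = F(U)` -/
def h0 (U : Opens X) : Hc F 0 U ≃+ F.obj.obj (op U) := SheafH.H0 F U

theorem h0_res {U V : Opens X} (h : V ≤ U) (x : Hc F 0 U) :
    h0 F V (res F 0 h x) = F.obj.map (homOfLE h).op (h0 F U x) :=
  SheafH.H0_res F (homOfLE h) x

variable {F}
variable {G H : CohTop.Ab X}

/-- Functoriality in the sheaf. -/
def map (φ : F ⟶ G) (n : ℕ) (V : Opens X) : Hc F n V →+ Hc G n V := CohTop.HUmap φ n V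

theorem eqv_map (φ : F ⟶ G) (n : ℕ) (V : Opens X) (x : CohTop.HU F n V) :
    eqv G n V (CohTop.HUmap φ n V x) = map φ n V (eqv F n V x) := rfl

theorem map_res (φ : F ⟶ G) (n : ℕ) {U V : Opens X} (h : V ≤ U) (x : Hc F n U) :
    map φ n V (res F n h x) = res G n h (map φ n U x) :=
  ConcreteCategory.congr_hom
    (((Sheaf.cohomologyPresheafFunctor (Opens.grothendieckTopology X) n).map φ).naturality
      (homOfLE h).op) x

theorem map_δ (φ : F ⟶ G) (A B : Opens X) (n : ℕ) (x : Hc F n (A ⊓ B)) :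
    map φ (n + 1) (A ⊔ B) (δ F A B n x) = δ G A B n (map φ n (A ⊓ B) x) :=
  Ext.comp_assoc _ _ _ (add_comm 1 n) (add_zero n) (by omega)

theorem map_id (n : ℕ) (V : Opens X) (x : Hc F n V) : map (𝟙 F) n V x = x :=
  Ext.comp_mk₀_id _

theorem map_comp (φ : F ⟶ G) (ψ : G ⟶ H) (n : ℕ) (V : Opens X) (x : Hc F n V) :
    map (φ ≫ ψ) n V x = map ψ n V (map φ n V x) := by
  have h : Ext.mk₀ (φ ≫ ψ) = (Ext.mk₀ φ).comp (Ext.mk₀ ψ) (add_zero 0) :=
    (Ext.mk₀_comp_mk₀ _ _).symm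
  refine (congrArg (fun t => Ext.comp (X := freeAb (Opens.grothendieckTopology X) V) x t
    (add_zero n)) h).trans ?_
  exact (Ext.comp_assoc_of_second_deg_zero (X := freeAb (Opens.grothendieckTopology X) V)
    x (Ext.mk₀ φ) (Ext.mk₀ ψ) (add_zero n)).symm

theorem map_add (φ ψ : F ⟶ G) (n : ℕ) (V : Opens X) (x : Hc F n V) :
    map (φ + ψ) n V x = map φ n V x + map ψ n V x := by
  have h : (Ext.mk₀ (φ + ψ)) = Ext.mk₀ φ + Ext.mk₀ ψ := Ext.mk₀_add _ _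
  refine (congrArg (fun t => Ext.comp (X := freeAb (Opens.grothendieckTopology X) V) x t
    (add_zero n)) h).trans ?_
  exact Ext.comp_add _ _ _ _

theorem h0_map (φ : F ⟶ G) (U : Opens X) (x : Hc F 0 U) :
    h0 G U (map φ 0 U x) = φ.hom.app (op U) (h0 F U x) :=
  SheafH.H0_map φ U x

end basic


end Groth.Agent.LoccohA.OmBase
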