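import Groth.Prelude.Def_Coh
import Mathlib.AlgebraicGeometry.Morphisms.Proper
import Mathlib.AlgebraicGeometry.Morphisms.Integral

/-!
# The zero locus on an affine open of sections with integral quotient over the base is closed
-/

set_option autoImplicit false
universe u
open CategoryTheory AlgebraicGeometry TopologicalSpace Opposite

namespace Groth.Agent.LoccohA.OmClosed

theorem fromSpec_comp {Y : Scheme.{u}} {R : Type u} [CommRing R]
    (q : Y ⟶ Spec (CommRingCat.of R)) {V : Y.Opens} (hV : IsAffineOpen V) :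
    hV.fromSpec ≫ q = Spec.map (CommRingCat.ofHom
      ((Y.presheaf.map (homOfLE le_top : V ⟶ ⊤).op).hom.comp (Coh.toGlobal q))) := by
  have h0 : q = Y.toSpecΓ ≫ Spec.map q.appTop ≫ Spec.map (Scheme.ΓSpecIso (CommRingCat.of R)).inv := by
    rw [← Scheme.toSpecΓ_naturality_assoc, toSpecΓ_SpecMap_ΓSpecIso_inv, Category.comp_id]
  conv_lhs => rw [h0]
  rw [hV.fromSpec_toSpecΓ_assoc, ← Spec.map_comp, ← Spec.map_comp]
  rfl

theorem isClosed_zeroLocus {Y : Scheme.{u}} {R : Type u} [CommRing R]
    (q : Y ⟶ Spec (CommRingCat.of R)) [IsSeparated q] {V : Y.Opens} (hV : IsAffineOpen V)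
    {ι : Type*} (f : ι → Γ(Y, V))
    (hint : ((Ideal.Quotient.mk (Ideal.span (Set.range f))).comp
      ((Y.presheaf.map (homOfLE le_top : V ⟶ ⊤).op).hom.comp (Coh.toGlobal q))).IsIntegral) :
    IsClosed ((V : Set Y) \ ⋃ i, (Y.basicOpen (f i) : Set Y)) := by
  let I : Ideal Γ(Y, V) := Ideal.span (Set.range f)
  let h : Spec (CommRingCat.of (Γ(Y, V) ⧸ I)) ⟶ Y :=
    Spec.map (CommRingCat.ofHom (Ideal.Quotient.mk I)) ≫ hV.fromSpec
  have hc : h ≫ q = Spec.map (CommRingCat.ofHom ((Ideal.Quotient.mk I).comp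
      ((Y.presheaf.map (homOfLE le_top : V ⟶ ⊤).op).hom.comp (Coh.toGlobal q)))) := by
    rw [Category.assoc, fromSpec_comp, ← Spec.map_comp]
    rfl
  have hI : IsIntegralHom (h ≫ q) := by
    rw [hc, IsIntegralHom.SpecMap_iff]
    exact hint
  have hu : UniversallyClosed (h ≫ q) := inferInstance
  have hu' : UniversallyClosed h := UniversallyClosed.of_comp_of_isSeparated h q
  have hcl : IsClosed (Set.range h) := h.isClosedMap.isClosed_range
  have hr : Set.range h = (V : Set Y) \ ⋃ i, (Y.basicOpen (f i) : Set Y) := by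
    have h1 : Set.range h = hV.fromSpec '' (Set.range
        (Spec.map (CommRingCat.ofHom (Ideal.Quotient.mk I)))) := by
      rw [← Set.range_comp]
      rfl
    have h2 : Set.range (Spec.map (CommRingCat.ofHom (Ideal.Quotient.mk I))) =
        PrimeSpectrum.zeroLocus (I : Set Γ(Y, V)) := by
      have := range_comap_of_surjective (Γ(Y, V) ⧸ I)
        (Ideal.Quotient.mk I) Ideal.Quotient.mk_surjective
      rw [Ideal.mk_ker] at this
      exact this
    have h3 : PrimeSpectrum.zeroLocus (I : Set Γ(Y, V)) = hV.fromSpec ⁻¹'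
        ((V : Set Y) \ ⋃ i, (Y.basicOpen (f i) : Set Y)) := by
      ext x
      constructor
      · intro hx
        refine ⟨?_, ?_⟩
        · have : hV.fromSpec x ∈ Set.range hV.fromSpec := ⟨x, rfl⟩
          rwa [hV.range_fromSpec] at this
        · intro hx2
          obtain ⟨i, hi⟩ := Set.mem_iUnion.1 hx2
          have h4 : x ∈ hV.fromSpec ⁻¹ᵁ Y.basicOpen (f i) := hi
          rw [hV.fromSpec_preimage_basicOpen] at h4
          exact h4 (hx (Ideal.subset_span ⟨i, rfl⟩))
      · rintro ⟨_, hx⟩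
        rw [show PrimeSpectrum.zeroLocus (I : Set Γ(Y, V)) =
          PrimeSpectrum.zeroLocus (Set.range f) from PrimeSpectrum.zeroLocus_span _]
        rintro _ ⟨i, rfl⟩
        by_contra hi
        apply hx
        refine Set.mem_iUnion.2 ⟨i, ?_⟩
        have h4 : x ∈ hV.fromSpec ⁻¹ᵁ Y.basicOpen (f i) := by
          rw [hV.fromSpec_preimage_basicOpen]
          exact hi
        exact h4
    rw [h1, h2, h3, Set.image_preimage_eq_inter_range, hV.range_fromSpec]
    exact Set.inter_eq_left.2 Set.sdiff_subset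
  rw [← hr]
  exact hcl

end Groth.Agent.LoccohA.OmClosed
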