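import Groth.Agent.LoccohA.OmFrac

/-!
# Common definitions for the coherence of the dualizing module: `kSec`, `gT`, `Kills`
-/

set_option autoImplicit false
universe u

open CategoryTheory AlgebraicGeometry TopologicalSpace Opposite

noncomputable section

namespace Groth.Agent.LoccohA.OmDefs

open Groth.Agent.LoccohA.OmBase Groth.Agent.LoccohA.OmFrac

/-- constants as functions on `V` -/
abbrev kSec {k : Type u} [CommRing k] {X : Scheme.{u}} (f : X ⟶ Spec (CommRingCat.of k))
    (V : X.Opens) : k →+* Γ(X, V) :=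
  (X.presheaf.map (homOfLE le_top : V ⟶ ⊤).op).hom.comp (Coh.toGlobal f)

/-- `g_i(T_i)` -/
abbrev gT {k : Type u} [CommRing k] {X : Scheme.{u}} (f : X ⟶ Spec (CommRingCat.of k))
    {V : X.Opens} {n : ℕ} (T : Fin (n + 1) → Γ(X, V)) (g : Fin (n + 1) → Polynomial k) :
    Fin (n + 1) → Γ(X, V) :=
  fun i => (g i).eval₂ (kSec f V) (T i)

/-- `t` kills the classes supported on `S`. -/
def Kills {A : Type*} [AddCommGroup A] {X : Scheme.{u}} (F : X.Modules) (n : ℕ)
    (t : Hc (X := X.toTopCat) (Coh.toAb F) n ⊤ →+ A) (S : Set X) : Prop :=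
  ∀ U : X.Opens, (U : Set X) = Sᶜ → ∀ y,
    res (X := X.toTopCat) (Coh.toAb F) n (le_top : U ≤ ⊤) y = 0 → t y = 0

end Groth.Agent.LoccohA.OmDefs
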