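import Groth.Agent.LoccohA.OmIface526

/-!
# The density theorem for functionals on top cohomology

If a functional `t` on `H^d(X, F)` kills all classes with support in a closed point of a dense open subset then
`t = 0`.
-/

set_option autoImplicit false
universe u

open CategoryTheory AlgebraicGeometry CategoryTheory.Limits TopologicalSpace Opposite

namespace Groth.Agent.LoccohA.OmDens526

open LichtClosed OmIface526

section Kills

variable {X : Scheme.{u}} (C : Coho X) {A : Type u} [AddCommGroup A] (t : C.H ⊤ →+ A)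

/-- `t` kills the classes which vanish on `U`. -/
def Kills (U : X.Opens) : Prop := ∀ y : C.H ⊤, C.res (le_top : U ≤ ⊤) y = 0 → t y = 0

/-- `t` kills the classes supported in the point `x`. -/
def KP (x : X) : Prop := ∀ U : X.Opens, (∀ y, y ∉ U → y = x) → Kills C t U

variable {C t}

theorem Kills.mono {U U' : X.Opens} (hU : U ≤ U') (h : Kills C t U) : Kills C t U' := by
  intro y hy
  apply h
  rw [← C.res_res hU le_top, hy, map_zero]

theorem kills_top : Kills C t ⊤ := by
  intro y hy
  have h1 := C.res_self ⊤ y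
  rw [← h1, hy, map_zero]

theorem Kills.inf {U₁ U₂ : X.Opens} (h : U₁ ⊔ U₂ = ⊤) (h₁ : Kills C t U₁) (h₂ : Kills C t U₂) :
    Kills C t (U₁ ⊓ U₂) := by
  intro y hy
  obtain ⟨z, hz1, hz2⟩ := C.glue U₁ U₂ (C.res le_top y) 0 (by rw [C.res_res, hy, map_zero])
  have e1 : C.res (le_top : U₁ ≤ ⊤) (C.res (h.ge : ⊤ ≤ U₁ ⊔ U₂) z) = C.res le_top y := by
    rw [C.res_res, hz1]
  have e2 : C.res (le_top : U₂ ≤ ⊤) (C.res (h.ge : ⊤ ≤ U₁ ⊔ U₂) z) = 0 := by
    rw [C.res_res, hz2]
  have h3 := h₁ (y - C.res (h.ge : ⊤ ≤ U₁ ⊔ U₂) z) (by rw [map_sub, e1, sub_self])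
  have h4 := h₂ _ e2
  rw [map_sub, h4, sub_zero] at h3
  exact h3

theorem kills_of_finite (S : Set X) (hS : S.Finite) (hcl : ∀ x ∈ S, IsClosed ({x} : Set X))
    (hk : ∀ x ∈ S, KP C t x) : ∀ U : X.Opens, (∀ x, x ∉ U → x ∈ S) → Kills C t U := by
  classical
  induction S, hS using Set.Finite.induction_on with
  | empty =>
    intro U hU
    have : U = ⊤ := by
      ext x
      exact ⟨fun _ => trivial, fun _ => by_contra fun hx => hU x hx⟩
    rw [this]
    exact kills_top
  | @insert a S ha hS ih =>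
    intro U hU
    have ih' := ih (fun x hx => hcl x (Set.mem_insert_of_mem _ hx)) (fun x hx => hk x (Set.mem_insert_of_mem _ hx))
    by_cases haU : a ∈ U
    · apply ih'
      intro x hx
      rcases hU x hx with rfl | h
      · exact absurd haU hx
      · exact h
    · let U₁ : X.Opens := ⟨({a} : Set X)ᶜ, (hcl a (Set.mem_insert _ _)).isOpen_compl⟩
      have hfin : ((U : Set X)ᶜ \ {a}).Finite := by
        refine hS.subset ?_
        rintro x ⟨hx, hxa⟩
        rcases hU x hx with h | h
        · exact absurd h hxa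
        · exact h
      have hclosed : IsClosed ((U : Set X)ᶜ \ {a}) := by
        have h1 : ((U : Set X)ᶜ \ {a}) = ⋃ x ∈ ((U : Set X)ᶜ \ {a}), {x} := by
          rw [Set.biUnion_of_singleton]
        rw [h1]
        exact hfin.isClosed_biUnion fun x hx => hcl x (hU x hx.1)
      let U₂ : X.Opens := ⟨((U : Set X)ᶜ \ {a})ᶜ, hclosed.isOpen_compl⟩
      have h12 : U₁ ⊓ U₂ = U := by
        ext x
        constructor
        · rintro ⟨h1, h2⟩
          by_contra hx
          exact h2 ⟨hx, h1⟩
        · intro hx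
          refine ⟨?_, fun h => h.1 hx⟩
          rintro rfl
          exact haU hx
      have h12' : U₁ ⊔ U₂ = ⊤ := by
        ext x
        refine ⟨fun _ => trivial, fun _ => ?_⟩
        by_cases hx : x = a
        · exact Or.inr fun h => h.2 hx
        · exact Or.inl hx
      rw [← h12]
      refine Kills.inf h12' ?_ ?_
      · apply hk a (Set.mem_insert _ _)
        intro y hy
        by_contra hne
        exact hy hne
      · apply ih'
        intro x hx
        have hx' : x ∈ ((U : Set X)ᶜ \ {a}) := by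
          by_contra h
          exact hx h
        rcases hU x hx'.1 with h | h
        · exact absurd h hx'.2
        · exact h

theorem eq_zero_of_KP (hC : C.FinCompl) (hk : ∀ x : X, IsClosed ({x} : Set X) → KP C t x) (y : C.H ⊤) :
    t y = 0 := by
  obtain ⟨U, hU, hU', hy⟩ := hC y
  exact kills_of_finite _ hU (fun x hx => hU' x hx) (fun x hx => hk x (hU' x hx)) U (fun x hx => hx) y hy

end Kills

section Zariski

variable {k : Type u} [Field k] {X : Scheme.{u}} (f : X ⟶ Spec (CommRingCat.of k))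

theorem toSec_finiteType [LocallyOfFiniteType f] {V : X.Opens} (hV : IsAffineOpen V) : (toSec f V).FiniteType := by
  have h1 := f.finiteType_appLE (isAffineOpen_top _) hV (by simp)
  have h2 : ((Scheme.ΓSpecIso (CommRingCat.of k)).inv.hom).FiniteType :=
    RingHom.FiniteType.of_surjective _
      (ConcreteCategory.bijective_of_isIso (Scheme.ΓSpecIso (CommRingCat.of k)).inv).2
  have h3 := h1.comp h2
  have h4 : toSec f V = (f.appLE ⊤ V (by simp)).hom.comp
      (Scheme.ΓSpecIso (CommRingCat.of k)).inv.hom := by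
    ext c
    simp [Coh.toGlobal, Scheme.Hom.appLE]
  rw [h4]
  exact h3

/-- a function on an affine open satisfies a monic equation at a closed point. -/
theorem exists_monic [LocallyOfFiniteType f] {V : X.Opens} (hV : IsAffineOpen V) (x : X) (hx : x ∈ V)
    (hxc : IsClosed ({x} : Set X)) (a : Γ(X, V)) :
    ∃ g : Polynomial k, g.Monic ∧ x ∉ X.basicOpen (g.eval₂ (toSec f V) a) := by
  set 𝔪 := (hV.primeIdealOf ⟨x, hx⟩).asIdeal with h𝔪
  have hmax : 𝔪.IsMaximal := hV.primeIdealOf_isMaximal_of_isClosed ⟨x, hx⟩ hxc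
  let _ := (toSec f V).toAlgebra
  have : Algebra.FiniteType k Γ(X, V) := toSec_finiteType f hV
  let _ : Field (Γ(X, V) ⧸ 𝔪) := Ideal.Quotient.field 𝔪
  have : Algebra.FiniteType k (Γ(X, V) ⧸ 𝔪) := inferInstance
  have : Module.Finite k (Γ(X, V) ⧸ 𝔪) := finite_of_finite_type_of_isJacobsonRing _ _
  obtain ⟨g, hg, hg'⟩ := Algebra.IsIntegral.isIntegral (R := k) (Ideal.Quotient.mk 𝔪 a)
  refine ⟨g, hg, ?_⟩
  rw [Groth.Agent.Fdesc.QCohStalk.mem_basicOpen_iff hV x hx, not_not, ← h𝔪, ← Ideal.Quotient.eq_zero_iff_mem,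
    Polynomial.hom_eval₂]
  exact hg'

end Zariski

section A

variable {k : Type u} [Field k] {d : ℕ} {X Y : Scheme.{u}} {f : X ⟶ Spec (CommRingCat.of k)} {p : Y ⟶ X}
  {q : Y ⟶ Spec (CommRingCat.of (MvPolynomial (Fin d) k))}
  {C : Coho X} {C' : Coho Y} {F : X.Modules} {G : Y.Modules} {SX : Symbols C F d} {SY : Symbols C' G d}
  {t : C.H ⊤ →+ k} (D : BC F G p q SX SY t) {V : X.Opens} {T : Fin d → Γ(X, V)} (h : Chart f p q V T)

include D in
/-- if `tau` vanishes then the closed points of `V` are killed. -/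
theorem KP_of_tau [LocallyOfFiniteType f]
    (hw : p ≫ f = q ≫ Spec.map (CommRingCat.ofHom (algebraMap k (MvPolynomial (Fin d) k))))
    (hτ : ∀ m, tau D h m = 0) (x : X) (hx : x ∈ V) (hxc : IsClosed ({x} : Set X)) : KP C t x := by
  intro U hU y hy
  choose g hg hgx using fun i => exists_monic f h.aff x hx hxc (T i)
  have hxZ : x ∈ Z V (ev f T g) := by
    refine ⟨hx, ?_⟩
    rw [Set.mem_iUnion]
    rintro ⟨i, hi⟩
    exact hgx i hi
  have hle : (h.cl₀ g hg).compl ≤ U := by
    intro z hz
    by_contra hzU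
    rw [hU z hzU] at hz
    exact hz.2 hxZ
  obtain ⟨e, h', m, hm⟩ := SX.exists_sym ⊤ V (ev f T g) (h.cl₀ g hg) y (by
    rw [← C.res_res hle le_top, hy, map_zero])
  have h1 : (fun i => ev f T g i ^ e) = ev f T (fun i => g i ^ e) := by
    funext i
    unfold ev
    rw [Polynomial.eval₂_pow]
  have hge : ∀ i, (g i ^ e).Monic := fun i => (hg i).pow e
  rw [hm, sym_congr SX h' (h.cl₀ _ hge) h1]
  exact t_sym_eq_zero D h hw _ hge m (hτ m)

/-- `tau` is linear over `k[s]`. -/
theorem tau_eval (hw : p ≫ f = q ≫ Spec.map (CommRingCat.ofHom (algebraMap k (MvPolynomial (Fin d) k))))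
    (r : MvPolynomial (Fin d) k) (m : Γ(F, V)) :
    tau D h (MvPolynomial.eval₂Hom (toSec f V) T r • m) = r * tau D h m := by
  induction r using MvPolynomial.induction_on generalizing m with
  | C a =>
    rw [MvPolynomial.eval₂Hom_C, tau_C D h hw]
  | add r s hr hs =>
    rw [map_add, add_smul, map_add, hr, hs, add_mul]
  | mul_X r i hr =>
    rw [map_mul, mul_smul, hr, MvPolynomial.eval₂Hom_X', tau_T, mul_assoc]

end A

section Idem

/-- `h ^ N (1 - h c)` lies in the ideal generated by the `g_i(s_i)`. -/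
theorem exists_idem {k : Type u} [Field k] (n : ℕ) (h : MvPolynomial (Fin n) k)
    (g : Fin n → Polynomial k) (hg : ∀ i, (g i).Monic) :
    ∃ (N : ℕ) (c : MvPolynomial (Fin n) k), h ^ N * (1 - h * c) ∈
      Ideal.span (Set.range fun i => (g i).aeval (MvPolynomial.X i : MvPolynomial (Fin n) k)) := by
  set I : Ideal (MvPolynomial (Fin n) k) :=
    Ideal.span (Set.range fun i => (g i).aeval (MvPolynomial.X i : MvPolynomial (Fin n) k)) with hI
  have hint : Algebra.IsIntegral k (MvPolynomial (Fin n) k ⧸ I) := by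
    constructor
    intro x
    obtain ⟨x, rfl⟩ := Ideal.Quotient.mk_surjective x
    induction x using MvPolynomial.induction_on with
    | C a => exact isIntegral_algebraMap (R := k) (x := a)
    | add p q hp hq => rw [map_add]; exact hp.add hq
    | mul_X p i hp =>
      rw [map_mul]
      refine hp.mul ⟨g i, hg i, ?_⟩
      have h1 : Ideal.Quotient.mk I (Polynomial.aeval (MvPolynomial.X i) (g i)) =
          Polynomial.aeval (Ideal.Quotient.mk I (MvPolynomial.X i)) (g i) :=
        (Polynomial.aeval_algHom_apply (Ideal.Quotient.mkₐ k I) (MvPolynomial.X i) (g i)).symm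
      change Polynomial.aeval (Ideal.Quotient.mk I (MvPolynomial.X i)) (g i) = 0
      rw [← h1, Ideal.Quotient.eq_zero_iff_mem]
      exact Ideal.subset_span ⟨i, rfl⟩
  have hfin : Module.Finite k (MvPolynomial (Fin n) k ⧸ I) := Algebra.IsIntegral.finite
  have hart : IsArtinianRing (MvPolynomial (Fin n) k ⧸ I) := isArtinian_of_tower k inferInstance
  obtain ⟨N, hN⟩ := IsArtinian.monotone_stabilizes (R := MvPolynomial (Fin n) k ⧸ I)
    (M := MvPolynomial (Fin n) k ⧸ I)
    ⟨fun m => OrderDual.toDual (Ideal.span {(Ideal.Quotient.mk I h) ^ m}), by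
      intro a b hab
      refine OrderDual.toDual_le_toDual.2 ?_
      rw [Ideal.span_singleton_le_span_singleton]
      exact pow_dvd_pow _ hab⟩
  have h1 := hN (N + 1) (by omega)
  have h2 : Ideal.span {(Ideal.Quotient.mk I h) ^ N} =
      Ideal.span {(Ideal.Quotient.mk I h) ^ (N + 1)} := h1
  have h3 : (Ideal.Quotient.mk I h) ^ N ∈ Ideal.span {(Ideal.Quotient.mk I h) ^ (N + 1)} := by
    rw [← h2]
    exact Ideal.mem_span_singleton_self _
  obtain ⟨c, hc⟩ := Ideal.mem_span_singleton'.1 h3
  obtain ⟨c, rfl⟩ := Ideal.Quotient.mk_surjective c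
  refine ⟨N, c, ?_⟩
  rw [← Ideal.Quotient.eq_zero_iff_mem]
  simp only [map_mul, map_pow, map_sub, map_one]
  rw [mul_sub, mul_one, sub_eq_zero]
  calc (Ideal.Quotient.mk I h) ^ N = (Ideal.Quotient.mk I c) * (Ideal.Quotient.mk I h) ^ (N + 1) :=
        hc.symm
    _ = _ := by rw [pow_succ]; ring

end Idem

section B

variable {k : Type u} [Field k] {d : ℕ} {X : Scheme.{u}} (f : X ⟶ Spec (CommRingCat.of k))

/-- the points of the zero locus of a finite chart. -/
theorem finite_Z {V : X.Opens} (hV : IsAffineOpen V) (T : Fin d → Γ(X, V))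
    (hT : (MvPolynomial.eval₂Hom (toSec f V) T).Finite) (g : Fin d → Polynomial k) (hg : ∀ i, (g i).Monic)
    (hcl : IsClosed (Z V (ev f T g))) :
    (Z V (ev f T g)).Finite ∧ ∀ x ∈ Z V (ev f T g), IsClosed ({x} : Set X) := by
  let _ : Algebra k Γ(X, V) := (toSec f V).toAlgebra
  set J : Ideal Γ(X, V) := Ideal.span (Set.range (ev f T g)) with hJ
  have hint0 := LichtTau.isIntegral_quot₀ d T (fun x => hT.to_isIntegral x) g hg
  have hint : Algebra.IsIntegral k (Γ(X, V) ⧸ J) := ⟨fun x => hint0 x⟩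
  have hft : Algebra.FiniteType k Γ(X, V) := by
    have h1 : (MvPolynomial.eval₂Hom (toSec f V) T).FiniteType := hT.finiteType
    have h2 : (algebraMap k (MvPolynomial (Fin d) k)).FiniteType :=
      RingHom.finiteType_algebraMap.mpr inferInstance
    have h3 := h1.comp h2
    have h4 : (MvPolynomial.eval₂Hom (toSec f V) T).comp (algebraMap k (MvPolynomial (Fin d) k)) = toSec f V := by
      ext a
      simp
    rw [h4] at h3
    exact h3
  have hfin : Module.Finite k (Γ(X, V) ⧸ J) := Algebra.IsIntegral.finite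
  have hart : IsArtinianRing (Γ(X, V) ⧸ J) := isArtinian_of_tower k inferInstance
  have hZ : Z V (ev f T g) = hV.fromSpec '' (PrimeSpectrum.zeroLocus (Set.range (ev f T g)) : Set (PrimeSpectrum Γ(X, V))) :=
    (image_zeroLocus hV _).symm
  have hrange : (PrimeSpectrum.zeroLocus (Set.range (ev f T g)) : Set (PrimeSpectrum Γ(X, V))) =
      Set.range (PrimeSpectrum.comap (Ideal.Quotient.mk J)) := by
    rw [range_comap_of_surjective _ _ Ideal.Quotient.mk_surjective, Ideal.mk_ker, hJ, PrimeSpectrum.zeroLocus_span]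
  have hmax : ∀ P : PrimeSpectrum Γ(X, V), P ∈ PrimeSpectrum.zeroLocus (Set.range (ev f T g)) → P.asIdeal.IsMaximal := by
    intro P hP
    rw [hrange] at hP
    obtain ⟨P, rfl⟩ := hP
    have h1 : P.asIdeal.IsMaximal := inferInstance
    exact Ideal.comap_isMaximal_of_surjective _ Ideal.Quotient.mk_surjective
  refine ⟨?_, ?_⟩
  · rw [hZ, hrange]
    exact (Set.finite_range _).image _
  · intro x hx
    rw [← closure_eq_iff_isClosed]
    refine Set.Subset.antisymm ?_ subset_closure
    intro y hy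
    have hyZ : y ∈ Z V (ev f T g) := closure_minimal (Set.singleton_subset_iff.mpr hx) hcl hy
    rw [hZ] at hx hyZ
    obtain ⟨P, hP, rfl⟩ := hx
    obtain ⟨Q, hQ, rfl⟩ := hyZ
    have h1 : hV.fromSpec P ⤳ hV.fromSpec Q := specializes_iff_mem_closure.mpr hy
    rw [hV.fromSpec.isOpenEmbedding.isInducing.specializes_iff] at h1
    have h2 : P.asIdeal ≤ Q.asIdeal := (PrimeSpectrum.le_iff_specializes P Q).mpr h1
    have h3 : P.asIdeal = Q.asIdeal := (hmax P hP).eq_of_le (hmax Q hQ).ne_top h2
    have h4 : P = Q := PrimeSpectrum.ext h3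
    rw [h4]
    rfl

variable {C : Coho X} {F : X.Modules}

theorem sym_smul_eq_zero (SX : Symbols C F d) {W V : X.Opens} {f : Fin d → Γ(X, V)} (h : Cl W V f) (a : Γ(X, V))
    (ha : a ∈ Ideal.span (Set.range f)) (m : Γ(F, V)) : SX.sym W V f h (a • m) = 0 := by
  induction ha using Submodule.span_induction generalizing m with
  | mem x hx =>
    obtain ⟨i, rfl⟩ := hx
    exact SX.sym_smul_self W V f h i m
  | zero => rw [zero_smul, map_zero]
  | add x y _ _ hx hy => rw [add_smul, map_add, hx, hy, add_zero]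
  | smul b x _ hx => rw [smul_eq_mul, mul_comm, mul_smul, hx]

/-- the local computation behind the density theorem. -/
theorem t_sym_eq_zero_of_KP (SX : Symbols C F d) (t : C.H ⊤ →+ k) {V : X.Opens} (hV : IsAffineOpen V)
    (T : Fin d → Γ(X, V)) (hT : (MvPolynomial.eval₂Hom (toSec f V) T).Finite) (g : Fin d → Polynomial k)
    (hg : ∀ i, (g i).Monic) (h₀ : Cl ⊤ V (ev f T g)) (r c : MvPolynomial (Fin d) k) (N : ℕ)
    (hc : r ^ N * (1 - r * c) ∈
      Ideal.span (Set.range fun i => (g i).aeval (MvPolynomial.X i : MvPolynomial (Fin d) k)))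
    (hk : ∀ x ∈ X.basicOpen (MvPolynomial.eval₂Hom (toSec f V) T r), IsClosed ({x} : Set X) → KP C t x)
    (m : Γ(F, V)) :
    t (SX.sym ⊤ V (ev f T g) h₀ (MvPolynomial.eval₂Hom (toSec f V) T (r ^ N) • m)) = 0 := by
  set φ := MvPolynomial.eval₂Hom (toSec f V) T with hφ
  have hZcl : IsClosed (Z V (ev f T g)) := by
    have h1 := h₀.isOpen
    rw [show ((⊤ : X.Opens) : Set X) = Set.univ from rfl, ← Set.compl_eq_univ_sdiff, isOpen_compl_iff] at h1
    exact h1
  obtain ⟨hfin, hclpt⟩ := finite_Z f hV T hT g hg hZcl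
  have hspan : φ (r ^ N * (1 - r * c)) ∈ Ideal.span (Set.range (ev f T g)) := by
    have h1 := Ideal.mem_map_of_mem φ hc
    rw [Ideal.map_span, ← Set.range_comp] at h1
    have h2 : (φ ∘ fun i => (g i).aeval (MvPolynomial.X i : MvPolynomial (Fin d) k)) = ev f T g := by
      funext i
      rw [Function.comp_apply, Polynomial.aeval_def, Polynomial.hom_eval₂, hφ, MvPolynomial.eval₂Hom_X', ev]
      congr 1
      ext a
      simp
    rwa [h2] at h1
  have hdich : ∀ x ∈ Z V (ev f T g), (x ∈ X.basicOpen (φ r) ↔ x ∉ X.basicOpen (φ (1 - r * c))) := by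
    intro x hx
    have hxV : x ∈ V := hx.1
    rw [Groth.Agent.Fdesc.QCohStalk.mem_basicOpen_iff hV x hxV,
      Groth.Agent.Fdesc.QCohStalk.mem_basicOpen_iff hV x hxV, not_not]
    set P := (hV.primeIdealOf ⟨x, hxV⟩).asIdeal with hP
    have hPp : P.IsPrime := (hV.primeIdealOf ⟨x, hxV⟩).isPrime
    have hle : Ideal.span (Set.range (ev f T g)) ≤ P := by
      rw [Ideal.span_le]
      rintro _ ⟨i, rfl⟩
      by_contra hcon
      apply hx.2
      rw [Set.mem_iUnion]
      refine ⟨i, ?_⟩
      exact (Groth.Agent.Fdesc.QCohStalk.mem_basicOpen_iff hV x hxV _).mpr hcon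
    constructor
    · intro h1
      have h2 := hle hspan
      rw [map_mul, map_pow] at h2
      rcases hPp.mem_or_mem h2 with h3 | h3
      · exact absurd (hPp.mem_of_pow_mem N h3) h1
      · exact h3
    · intro h1 h2
      apply hPp.ne_top
      rw [Ideal.eq_top_iff_one]
      have h3 : φ (1 - r * c) + φ r * φ c = 1 := by
        rw [map_sub, map_one, map_mul]
        ring
      rw [← h3]
      exact P.add_mem h1 (P.mul_mem_right _ h2)
  let S₁ : Set X := Z V (ev f T g) ∩ X.basicOpen (φ r)
  have hS₁ : S₁.Finite := hfin.subset Set.inter_subset_left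
  have hS₁c : IsClosed S₁ := by
    rw [← Set.biUnion_of_singleton S₁]
    exact hS₁.isClosed_biUnion fun x hx => hclpt x hx.1
  let W' : X.Opens := ⟨S₁ᶜ, hS₁c.isOpen_compl⟩
  apply kills_of_finite S₁ hS₁ (fun x hx => hclpt x hx.1) (fun x hx => hk x hx.2 (hclpt x hx.1)) W'
    (fun x hx => by
      by_contra h
      exact hx h)
  let V' : X.Opens := X.basicOpen (φ (1 - r * c))
  have hV'V : V' ≤ V := X.basicOpen_le _
  have hV'W' : V' ≤ W' := by
    intro x hx hxS
    exact (hdich x hxS.1).mp hxS.2 hx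
  have hZ' : Z V' (fun i => X.presheaf.map (homOfLE hV'V).op (ev f T g i)) = Z V (ev f T g) ∩ V' := by
    ext x
    simp only [Z, Set.mem_sdiff, Set.mem_iUnion, not_exists, Set.mem_inter_iff, X.basicOpen_res]
    constructor
    · rintro ⟨h1, h2⟩
      refine ⟨⟨hV'V h1, fun i hi => h2 i ⟨h1, hi⟩⟩, h1⟩
    · rintro ⟨⟨_, h2⟩, h1⟩
      exact ⟨h1, fun i hi => h2 i hi.2⟩
  have hcl' : Cl W' V' (fun i => X.presheaf.map (homOfLE hV'V).op (ev f T g i)) := by
    refine ⟨hV.basicOpen _, hV'W', ?_⟩
    have h1 : ((W' : Set X) \ Z V' (fun i => X.presheaf.map (homOfLE hV'V).op (ev f T g i))) =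
        (Z V (ev f T g))ᶜ := by
      rw [hZ']
      ext x
      constructor
      · rintro ⟨h1, h2⟩ h3
        by_cases h4 : x ∈ X.basicOpen (φ r)
        · exact h1 ⟨h3, h4⟩
        · apply h2
          refine ⟨h3, ?_⟩
          by_contra h5
          exact h4 ((hdich x h3).mpr h5)
      · intro h1
        exact ⟨fun h => h1 h.1, fun h => h1 h.1⟩
    rw [h1]
    exact hZcl.isOpen_compl
  have hsub : Z V (ev f T g) ∩ (W' : Set X) ⊆ V' := by
    rintro x ⟨h1, h2⟩
    by_contra h3
    exact h2 ⟨h1, (hdich x h1).mpr h3⟩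
  rw [SX.sym_res ⊤ V W' V' _ h₀ le_top hV'V hcl' hsub, Scheme.Modules.map_smul]
  apply sym_smul_eq_zero
  have hu : IsUnit (X.presheaf.map (homOfLE hV'V).op (φ (1 - r * c))) :=
    RingedSpace.isUnit_res_basicOpen X.toRingedSpace _
  have h5 : X.presheaf.map (homOfLE hV'V).op (φ (r ^ N * (1 - r * c))) ∈
      Ideal.span (Set.range fun i => X.presheaf.map (homOfLE hV'V).op (ev f T g i)) := by
    have h1 := Ideal.mem_map_of_mem (X.presheaf.map (homOfLE hV'V).op).hom hspan
    rw [Ideal.map_span, ← Set.range_comp] at h1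
    exact h1
  rw [map_mul, map_mul] at h5
  exact (Ideal.mul_unit_mem_iff_mem _ hu).mp h5

end B

section Main

variable {k : Type u} [Field k] {d : ℕ} {X Y : Scheme.{u}} {f : X ⟶ Spec (CommRingCat.of k)} {p : Y ⟶ X}
  {q : Y ⟶ Spec (CommRingCat.of (MvPolynomial (Fin d) k))}

/-- the chart given by a finite morphism. -/
theorem chart_of_finite [IsSeparated f]
    (H : IsPullback p q f (Spec.map (CommRingCat.ofHom (algebraMap k (MvPolynomial (Fin d) k)))))
    {V : X.Opens} (hV : IsAffineOpen V) (T : Fin d → Γ(X, V))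
    (hT : (MvPolynomial.eval₂Hom (toSec f V) T).Finite) : Chart f p q V T where
  aff := hV
  aff' := by
    have hpaff : IsAffineHom p := MorphismProperty.of_isPullback H.flip inferInstance
    exact hV.preimage p
  hcl := fun P hP => LichtMonic.isClosed_zeroLocus_of_finite f d p q H hV T hT P hP
  hcl₀ := fun g hg => by
    refine LichtChart.isClosed_zeroLocus₀ f d hV (toSec f V) (RingHom.id _) (RingHom.id_comp _) T hT ?_ g hg
    intro h
    have h1 : UniversallyClosed (pullback.lift hV.fromSpec (Spec.map (CommRingCat.ofHom (RingHom.id Γ(X, V)))) h ≫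
        pullback.snd f (Spec.map (CommRingCat.ofHom (toSec f V)))) := by
      rw [pullback.lift_snd]
      have h2 : Spec.map (CommRingCat.ofHom (RingHom.id Γ(X, V))) = 𝟙 _ := Spec.map_id _
      rw [h2]
      infer_instance
    exact UniversallyClosed.of_comp_of_isSeparated _ (pullback.snd f (Spec.map (CommRingCat.ofHom (toSec f V))))

/-- the chart given by a finite morphism from a partial compactification. -/
theorem chart_of_closed
    (H : IsPullback p q f (Spec.map (CommRingCat.ofHom (algebraMap k (MvPolynomial (Fin d) k)))))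
    {V : X.Opens} (hV : IsAffineOpen V) {B : Type u} [CommRing B] (φ : k →+* B) (β : B →+* Γ(X, V))
    (hβ : β.comp φ = toSec f V) (b : Fin d → B) (hb : (MvPolynomial.eval₂Hom φ b).Finite)
    (hcl : ∀ (h : hV.fromSpec ≫ f = Spec.map (CommRingCat.ofHom β) ≫ Spec.map (CommRingCat.ofHom φ)),
        UniversallyClosed (pullback.lift hV.fromSpec (Spec.map (CommRingCat.ofHom β)) h)) :
    Chart f p q V (fun i => β (b i)) where
  aff := hV
  aff' := by
    have hpaff : IsAffineHom p := MorphismProperty.of_isPullback H.flip inferInstance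
    exact hV.preimage p
  hcl := fun P hP => LichtMonic.isClosed_zeroLocus f d p q H hV φ β hβ b hb hcl P hP
  hcl₀ := fun g hg => LichtChart.isClosed_zeroLocus₀ f d hV φ β hβ b hb hcl g hg

variable {C : Coho X} {C' : Coho Y} {F : X.Modules} {G : Y.Modules} {SX : Symbols C F d} {SY : Symbols C' G d}
  {t : C.H ⊤ →+ k} (D : BC F G p q SX SY t)

include D in
theorem tau_eq_zero_of_KP {V : X.Opens} {T : Fin d → Γ(X, V)} (h : Chart f p q V T)
    (hw : p ≫ f = q ≫ Spec.map (CommRingCat.ofHom (algebraMap k (MvPolynomial (Fin d) k))))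
    (hT : (MvPolynomial.eval₂Hom (toSec f V) T).Finite) (r : MvPolynomial (Fin d) k) (hr : r ≠ 0)
    (hk : ∀ x ∈ X.basicOpen (MvPolynomial.eval₂Hom (toSec f V) T r), IsClosed ({x} : Set X) → KP C t x)
    (m : Γ(F, V)) : tau D h m = 0 := by
  refine OmAlg.eq_zero_of_forall d r _ hr fun g hg => ?_
  obtain ⟨N, c, hc⟩ := exists_idem d r g hg
  refine ⟨N, ?_⟩
  rw [← tau_eval D h hw]
  apply tau_mem D h hw g hg
  intro a
  rw [smul_comm]
  exact t_sym_eq_zero_of_KP f SX t h.aff T hT g hg (h.cl₀ g hg) r c N hc hk _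

include D in
/-- **the density theorem**. -/
theorem density [IsNoetherian X] [IsSeparated f] [LocallyOfFiniteType f]
    (H : IsPullback p q f (Spec.map (CommRingCat.ofHom (algebraMap k (MvPolynomial (Fin d) k)))))
    (hd : topologicalKrullDim X ≤ (d : WithBot ℕ∞)) (hC : C.FinCompl) (W : X.Opens) (hW : Dense (W : Set X))
    (hk : ∀ x ∈ W, IsClosed ({x} : Set X) → KP C t x) (y : C.H ⊤) : t y = 0 := by
  let _ : X.Over (Spec (CommRingCat.of k)) := ⟨f⟩
  have hlft : LocallyOfFiniteType (X ↘ Spec (CommRingCat.of k)) := ‹LocallyOfFiniteType f›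
  refine eq_zero_of_KP hC (fun x hx => ?_) y
  obtain ⟨V, hV, hxV, -⟩ := exists_isAffineOpen_mem_and_subset (x := x) (U := ⊤) trivial
  obtain ⟨T, hT⟩ := OmH.exists_normalization (k := k) d hd hV
  obtain ⟨r, hr, hrW⟩ := OmH.exists_ne_zero d hd hV _ hT W hW
  have hch := chart_of_finite H hV T hT
  refine KP_of_tau D hch H.w ?_ x hxV hx
  exact tau_eq_zero_of_KP D hch H.w hT r hr fun z hz hz' => hk z (hrW hz) hz'

include D in
/-- functionals on the top cohomology of a nonproper variety vanish. -/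
theorem eq_zero_of_not_isProper [IsSeparated f] [LocallyOfFiniteType f] [QuasiCompact f] [IsIntegral X]
    (H : IsPullback p q f (Spec.map (CommRingCat.ofHom (algebraMap k (MvPolynomial (Fin d) k)))))
    (hf : ¬ IsProper f) (hd : topologicalKrullDim X ≤ (d : WithBot ℕ∞)) (hC : C.FinCompl) (y : C.H ⊤) :
    t y = 0 := by
  have hloc : IsLocallyNoetherian X := LocallyOfFiniteType.isLocallyNoetherian f
  have hcomp : CompactSpace X := QuasiCompact.compactSpace_of_compactSpace f
  have hnoeth : IsNoetherian X := {}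
  obtain ⟨V, hV, B, iB, iBd, φ, β, π, b, hne, hβφ, hu, hπu, hb, hcl⟩ := LichtChart.exists_chart k X f hf d hd
  have hch := chart_of_closed H hV φ β hβφ b hb hcl
  refine density D H hd hC V ?_ ?_ y
  · exact V.isOpen.dense hne
  · intro x hx hxc
    refine KP_of_tau D hch H.w ?_ x hx hxc
    let _ : Algebra k B := φ.toAlgebra
    let _ : Module B Γ(F, V) := Module.compHom _ β
    let _ : Module k Γ(F, V) := Module.compHom _ (toSec f V)
    have hkm : ∀ (a : k) (m : Γ(F, V)), a • m = toSec f V a • m := fun _ _ => rfl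
    have hBm : ∀ (a : B) (m : Γ(F, V)), a • m = β a • m := fun _ _ => rfl
    have : IsScalarTower k B Γ(F, V) := by
      constructor
      intro a x m
      rw [hBm, hBm, hkm, ← hβφ, Algebra.smul_def, map_mul, mul_smul]
      rfl
    let τ : Γ(F, V) →ₗ[k] MvPolynomial (Fin d) k :=
      { toFun := tau D hch
        map_add' := map_add _
        map_smul' := fun a m => by
          rw [hkm, tau_C D hch H.w, RingHom.id_apply, MvPolynomial.smul_eq_C_mul] }
    refine LichtTau.tau_eq_zero d b hb π hπu ?_ τ ?_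
    · intro m
      obtain ⟨v, hv⟩ := hu
      refine ⟨(↑v⁻¹ : Γ(X, V)) • m, ?_⟩
      rw [hBm, ← hv, ← mul_smul, v.mul_inv, one_smul]
    · intro i m
      exact tau_T D hch i m

end Main

end Groth.Agent.LoccohA.OmDens526
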