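import Groth.Agent.LoccohA.OmBase

/-!
# Pullback maps on cohomology over opens

For `f : Y ⟶ X` continuous and `θ : F ⟶ f_* G` we define `pb : H^n(V, F) ⟶ H^n(f⁻¹V, G)`, natural in
`V`, compatible with Mayer-Vietoris connecting maps.
-/

set_option autoImplicit false
universe u

open CategoryTheory Abelian Limits Opposite TopologicalSpace

noncomputable section

namespace Groth.Agent.LoccohA.OmEdge

open Groth.Agent.CohtopA Groth.Agent.CohqA Groth.Agent.CohtopA.FreeAb Groth.Agent.CohtopB.TopPull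
open Groth.Agent.LoccohA.OmBase

/-! ### Pullback maps -/

section pb

variable {X Y : TopCat.{u}} (f : Y ⟶ X)

/-- The canonical map `ℤ_{f⁻¹V} ⟶ f⁻¹ ℤ_V`. -/
def alp (V : Opens X) : freeAb (Opens.grothendieckTopology Y) ((Opens.map f).obj V) ⟶
    (CohTop.pull f).obj (freeAb (Opens.grothendieckTopology X) V) :=
  (Equiv.ofBijective _ (homEv_bijective _ _)).symm
    (((adj f).unit.app (freeAb (Opens.grothendieckTopology X) V)).hom.app (op V) (gen _ V))

theorem homEv_alp (V : Opens X) :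
    homEv ((Opens.map f).obj V) _ (alp f V) =
      ((adj f).unit.app (freeAb (Opens.grothendieckTopology X) V)).hom.app (op V) (gen _ V) :=
  (Equiv.ofBijective _ (homEv_bijective _ _)).apply_symm_apply _

theorem homEv_alp_comp (V : Opens X) {F : CohTop.Ab X}
    (g : freeAb (Opens.grothendieckTopology X) V ⟶ F) :
    homEv ((Opens.map f).obj V) _ (alp f V ≫ (CohTop.pull f).map g) =
      ((adj f).unit.app F).hom.app (op V) (homEv V F g) := by
  rw [homEv_comp, homEv_alp]
  have h1 := congrArg (fun t => t.hom.app (op V)) ((adj f).unit.naturality g)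
  exact (ConcreteCategory.congr_hom h1 (gen _ V)).symm

theorem alp_naturality {U V : Opens X} (h : U ⟶ V) :
    freeAbMap (Opens.grothendieckTopology Y) ((Opens.map f).map h) ≫ alp f V =
      alp f U ≫ (CohTop.pull f).map (freeAbMap (Opens.grothendieckTopology X) h) := by
  apply (homEv_bijective _ _).1
  rw [homEv_freeAbMap, homEv_alp, homEv_alp_comp, homEv_apply, freeAbMap_gen]
  exact (ConcreteCategory.congr_hom
    (((adj f).unit.app (freeAb (Opens.grothendieckTopology X) V)).hom.naturality h.op) (gen _ V)).symm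

variable {F : CohTop.Ab X} {G : CohTop.Ab Y} (θ : F ⟶ (CohTop.push f).obj G)

/-- The pullback map on cohomology over opens. -/
def pb (n : ℕ) (V : Opens X) : Hc F n V →+ Hc G n ((Opens.map f).obj V) :=
  pbA (CohTop.pull f) (alp f V) (((adj f).homEquiv F G).symm θ) n

theorem pb_res (n : ℕ) {U V : Opens X} (h : V ≤ U) (x : Hc F n U) :
    pb f θ n V (res F n h x) =
      res G n (show (Opens.map f).obj V ≤ (Opens.map f).obj U from fun _ hy => h hy)
        (pb f θ n U x) :=
  pbA_res (CohTop.pull f) (alp f U) (alp f V) (((adj f).homEquiv F G).symm θ)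
    (freeAbMap (Opens.grothendieckTopology X) (homOfLE h))
    (freeAbMap (Opens.grothendieckTopology Y) ((Opens.map f).map (homOfLE h)))
    (alp_naturality f (homOfLE h)) n x

theorem eq_unit_comp : θ = (adj f).unit.app F ≫
    (CohTop.push f).map (((adj f).homEquiv F G).symm θ) :=
  (((adj f).homEquiv F G).apply_symm_apply θ).symm.trans ((adj f).homEquiv_unit _ _ _)

theorem pb_h0 (V : Opens X) (x : Hc F 0 V) :
    h0 G ((Opens.map f).obj V) (pb f θ 0 V x) = θ.hom.app (op V) (h0 F V x) := by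
  obtain ⟨g, rfl⟩ := (Ext.mk₀_bijective (freeAb (Opens.grothendieckTopology X) V) F).2 x
  have h1 : pb f θ 0 V (Ext.mk₀ g) = Ext.mk₀ (alp f V ≫ (CohTop.pull f).map g ≫
      ((adj f).homEquiv F G).symm θ) := pbA_mk₀ (CohTop.pull f) _ _ g
  have h5 : h0 F V (Ext.mk₀ g) = homEv V F g :=
    (SheafH.H0_mk₀ F V g).trans (SheafH.homEquiv_apply V F g)
  have h6 : ∀ g', h0 G ((Opens.map f).obj V) (Ext.mk₀ g') = homEv ((Opens.map f).obj V) G g' :=
    fun g' => (SheafH.H0_mk₀ G _ g').trans (SheafH.homEquiv_apply _ G g')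
  refine (congrArg (h0 G _) h1).trans ((h6 _).trans ?_)
  refine Eq.trans ?_ (congrArg (θ.hom.app (op V)) h5).symm
  have h3 := congrArg (fun t => t.hom.app (op V) (homEv V F g)) (eq_unit_comp f θ)
  refine Eq.trans ?_ h3.symm
  have h4 := homEv_alp_comp f V g
  rw [← Category.assoc, homEv_comp, h4]
  rfl

/-- `alp_naturality` for inequalities. -/
theorem alp_le {U V : Opens X} (h : U ≤ V) (h' : (Opens.map f).obj U ≤ (Opens.map f).obj V) :
    freeAbMap (Opens.grothendieckTopology Y) (homOfLE h') ≫ alp f V =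
      alp f U ≫ (CohTop.pull f).map (freeAbMap (Opens.grothendieckTopology X) (homOfLE h)) :=
  alp_naturality f (homOfLE h)

theorem pb_δ_aux (A B : Opens X) (n : ℕ)
    (x : Ext (freeAb (Opens.grothendieckTopology X) (A ⊓ B)) F n) :
    pbA (CohTop.pull f) (alp f (A ⊔ B)) (((adj f).homEquiv F G).symm θ) (n + 1)
        ((MV.shortExact A B).extClass.comp x (add_comm 1 n)) =
      (MV.shortExact ((Opens.map f).obj A) ((Opens.map f).obj B)).extClass.comp
        (pbA (CohTop.pull f) (alp f (A ⊓ B)) (((adj f).homEquiv F G).symm θ) n x)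
        (add_comm 1 n) :=
  pbA_mv (CohTop.pull f)
    (f := freeAbMap (Opens.grothendieckTopology X) (homOfLE inf_le_left : A ⊓ B ⟶ A))
    (g := freeAbMap (Opens.grothendieckTopology X) (homOfLE inf_le_right : A ⊓ B ⟶ B))
    (h := freeAbMap (Opens.grothendieckTopology X) (homOfLE le_sup_left : A ⟶ A ⊔ B))
    (k := freeAbMap (Opens.grothendieckTopology X) (homOfLE le_sup_right : B ⟶ A ⊔ B))
    (f' := freeAbMap (Opens.grothendieckTopology Y)
      (homOfLE inf_le_left : (Opens.map f).obj A ⊓ (Opens.map f).obj B ⟶ (Opens.map f).obj A))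
    (g' := freeAbMap (Opens.grothendieckTopology Y)
      (homOfLE inf_le_right : (Opens.map f).obj A ⊓ (Opens.map f).obj B ⟶ (Opens.map f).obj B))
    (h' := freeAbMap (Opens.grothendieckTopology Y)
      (homOfLE le_sup_left : (Opens.map f).obj A ⟶ (Opens.map f).obj A ⊔ (Opens.map f).obj B))
    (k' := freeAbMap (Opens.grothendieckTopology Y)
      (homOfLE le_sup_right : (Opens.map f).obj B ⟶ (Opens.map f).obj A ⊔ (Opens.map f).obj B))
    (MV.shortExact A B)
    (MV.shortExact ((Opens.map f).obj A) ((Opens.map f).obj B)) (alp f (A ⊓ B)) (alp f A)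
    (alp f B) (alp f (A ⊔ B)) (alp_le f inf_le_left (fun _ h => h.1))
    (alp_le f inf_le_right (fun _ h => h.2)) (alp_le f le_sup_left (fun _ h => Or.inl h))
    (alp_le f le_sup_right (fun _ h => Or.inr h)) (((adj f).homEquiv F G).symm θ) n (n + 1) (add_comm 1 n) x

theorem pb_δ (A B : Opens X) (n : ℕ) (x : Hc F n (A ⊓ B)) :
    pb f θ (n + 1) (A ⊔ B) (δ F A B n x) =
      δ G ((Opens.map f).obj A) ((Opens.map f).obj B) n (pb f θ n (A ⊓ B) x) :=
  pb_δ_aux f θ A B n x

theorem symm_comm {F₁ : CohTop.Ab X} {G₁ : CohTop.Ab Y} (θ₁ : F₁ ⟶ (CohTop.push f).obj G₁)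
    (φ : F ⟶ F₁) (ψ : G ⟶ G₁) (comm : θ ≫ (CohTop.push f).map ψ = φ ≫ θ₁) :
    ((adj f).homEquiv F G).symm θ ≫ ψ =
      (CohTop.pull f).map φ ≫ ((adj f).homEquiv F₁ G₁).symm θ₁ :=
  ((adj f).homEquiv_naturality_right_symm θ ψ).symm.trans
    ((congrArg _ comm).trans ((adj f).homEquiv_naturality_left_symm φ θ₁))

theorem map_pb_aux {F₁ : CohTop.Ab X} {G₁ : CohTop.Ab Y} (θ₁ : F₁ ⟶ (CohTop.push f).obj G₁)
    (φ : F ⟶ F₁) (ψ : G ⟶ G₁) (comm : θ ≫ (CohTop.push f).map ψ = φ ≫ θ₁) (n : ℕ) (V : Opens X)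
    (x : Ext (freeAb (Opens.grothendieckTopology X) V) F n) :
    (pbA (CohTop.pull f) (alp f V) (((adj f).homEquiv F G).symm θ) n x).comp (Ext.mk₀ ψ)
      (add_zero n) = pbA (CohTop.pull f) (alp f V) (((adj f).homEquiv F₁ G₁).symm θ₁) n
        (x.comp (Ext.mk₀ φ) (add_zero n)) :=
  pbA_map (CohTop.pull f) (alp f V) (((adj f).homEquiv F G).symm θ)
    (((adj f).homEquiv F₁ G₁).symm θ₁) φ ψ (symm_comm f θ θ₁ φ ψ comm) n x

theorem map_pb {F₁ : CohTop.Ab X} {G₁ : CohTop.Ab Y} (θ₁ : F₁ ⟶ (CohTop.push f).obj G₁)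
    (φ : F ⟶ F₁) (ψ : G ⟶ G₁) (comm : θ ≫ (CohTop.push f).map ψ = φ ≫ θ₁) (n : ℕ) (V : Opens X)
    (x : Hc F n V) : map ψ n ((Opens.map f).obj V) (pb f θ n V x) = pb f θ₁ n V (map φ n V x) :=
  map_pb_aux f θ θ₁ φ ψ comm n V x

end pb

end Groth.Agent.LoccohA.OmEdge
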