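import Groth.Agent.LoccohA.OmClosed
import Groth.Agent.LoccohA.OmPoly
import Mathlib.RingTheory.IntegralClosure.IsIntegralClosure.Basic

/-!
# Closedness of zero loci of monic polynomials in the coordinates of a finite map to affine space
-/

set_option autoImplicit false
universe u

open CategoryTheory AlgebraicGeometry TopologicalSpace Opposite

namespace Groth.Agent.LoccohA.OmFinCl

/-- If `A` is integral over `k[T]`, then the images of the elements of `A` in `Q` are integral over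
`R` as soon as the images of the `T i` are. -/
theorem isIntegralElem_of {ι k R A Q : Type*} [CommRing k] [CommRing R] [CommRing A] [CommRing Q]
    (ρ : R →+* Q) (ρA : k →+* A) (φ : A →+* Q) (T : ι → A)
    (hT : (MvPolynomial.eval₂Hom ρA T).IsIntegral) (c : k →+* R)
    (hc : ∀ x, φ (ρA x) = ρ (c x)) (hTi : ∀ i, ρ.IsIntegralElem (φ (T i))) (a : A) :
    ρ.IsIntegralElem (φ a) := by
  let _ : Algebra R Q := ρ.toAlgebra
  let C : Subalgebra R Q := integralClosure R Q
  have h1 : ∀ x, (φ.comp (MvPolynomial.eval₂Hom ρA T)) x ∈ C.toSubring := by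
    intro x
    induction x using MvPolynomial.induction_on with
    | C x =>
      rw [RingHom.comp_apply, MvPolynomial.eval₂Hom_C, hc]
      exact C.algebraMap_mem (c x)
    | add x y hx hy =>
      rw [map_add]
      exact add_mem hx hy
    | mul_X x i hx =>
      rw [map_mul]
      refine mul_mem hx ?_
      rw [RingHom.comp_apply, MvPolynomial.eval₂Hom_X']
      exact hTi i
  let ψ : MvPolynomial ι k →+* C := (φ.comp (MvPolynomial.eval₂Hom ρA T)).codRestrict C.toSubring h1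
  obtain ⟨g, hg, hga⟩ := hT a
  have h2 : IsIntegral C (φ a) := by
    refine ⟨g.map ψ, hg.map ψ, ?_⟩
    rw [Polynomial.eval₂_map]
    have h3 : (algebraMap C Q).comp ψ = φ.comp (MvPolynomial.eval₂Hom ρA T) := RingHom.ext fun _ => rfl
    rw [h3, ← Polynomial.hom_eval₂, hga, map_zero]
  exact isIntegral_trans (R := R) (A := C) (φ a) h2

theorem toGlobal_pullback {k R : Type u} [CommRing k] [CommRing R] [Algebra k R] {X Y : Scheme.{u}}
    (f : X ⟶ Spec (CommRingCat.of k)) (p : Y ⟶ X) (q : Y ⟶ Spec (CommRingCat.of R))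
    (H : p ≫ f = q ≫ Spec.map (CommRingCat.ofHom (algebraMap k R))) (V : X.Opens) (x : k) :
    p.app V (X.presheaf.map (homOfLE le_top : V ⟶ ⊤).op (Coh.toGlobal f x)) =
      Y.presheaf.map (homOfLE le_top : p ⁻¹ᵁ V ⟶ ⊤).op (Coh.toGlobal q (algebraMap k R x)) := by
  have h1 : p.app V (X.presheaf.map (homOfLE le_top : V ⟶ ⊤).op (Coh.toGlobal f x)) =
      Y.presheaf.map (homOfLE le_top : p ⁻¹ᵁ V ⟶ ⊤).op (p.app ⊤ (Coh.toGlobal f x)) := by
    have := p.naturality (homOfLE le_top : V ⟶ ⊤).op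
    exact congr($(this) (Coh.toGlobal f x))
  rw [h1]
  congr 1
  have h2 : (Scheme.ΓSpecIso (CommRingCat.of k)).inv ≫ (p ≫ f).appTop =
      (Scheme.ΓSpecIso (CommRingCat.of k)).inv ≫
        (q ≫ Spec.map (CommRingCat.ofHom (algebraMap k R))).appTop := by rw [H]
  rw [Scheme.Hom.comp_appTop, Scheme.Hom.comp_appTop, ← Scheme.ΓSpecIso_inv_naturality_assoc] at h2
  exact congr($(h2) x)

theorem isClosed_X {k : Type u} [Field k] (n : ℕ) {X : Scheme.{u}} (f : X ⟶ Spec (CommRingCat.of k))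
    [IsSeparated f] {V : X.Opens} (hV : IsAffineOpen V) (T : Fin n → Γ(X, V))
    (hT : (MvPolynomial.eval₂Hom ((X.presheaf.map (homOfLE le_top : V ⟶ ⊤).op).hom.comp
      (Coh.toGlobal f)) T).Finite) (g : Fin n → Polynomial k) (hg : ∀ i, (g i).Monic) :
    IsClosed ((V : Set X) \ ⋃ i, (X.basicOpen ((g i).eval₂
      ((X.presheaf.map (homOfLE le_top : V ⟶ ⊤).op).hom.comp (Coh.toGlobal f)) (T i)) : Set X)) := by
  refine OmClosed.isClosed_zeroLocus f hV _ fun b => ?_
  obtain ⟨b, rfl⟩ := Ideal.Quotient.mk_surjective b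
  refine isIntegralElem_of _ _ _ T hT.to_isIntegral (RingHom.id k) (fun _ => rfl) (fun i => ?_) b
  refine ⟨g i, hg i, ?_⟩
  rw [← Polynomial.hom_eval₂]
  exact Ideal.Quotient.eq_zero_iff_mem.2 (Ideal.subset_span ⟨i, rfl⟩)

theorem isClosed_R {k : Type u} [Field k] (n : ℕ) {X Y : Scheme.{u}} (f : X ⟶ Spec (CommRingCat.of k))
    [IsSeparated f] (p : Y ⟶ X) (q : Y ⟶ Spec (CommRingCat.of (MvPolynomial (Fin n) k)))
    (H : IsPullback p q f (Spec.map (CommRingCat.ofHom (algebraMap k (MvPolynomial (Fin n) k)))))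
    {V : X.Opens} (hV : IsAffineOpen V) (T : Fin n → Γ(X, V))
    (hT : (MvPolynomial.eval₂Hom ((X.presheaf.map (homOfLE le_top : V ⟶ ⊤).op).hom.comp
      (Coh.toGlobal f)) T).Finite)
    (P : Fin n → Polynomial (MvPolynomial (Fin n) k)) (hP : ∀ i, (P i).Monic) :
    IsClosed ((p ⁻¹ᵁ V : Set Y) \ ⋃ i, (Y.basicOpen ((P i).eval₂
      ((Y.presheaf.map (homOfLE le_top : p ⁻¹ᵁ V ⟶ ⊤).op).hom.comp (Coh.toGlobal q))
        (p.app V (T i))) : Set Y)) := by
  have hq : IsSeparated q := MorphismProperty.of_isPullback H inferInstance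
  have hp : IsAffineHom p := MorphismProperty.of_isPullback H.flip inferInstance
  refine OmClosed.isClosed_zeroLocus q (hV.preimage p) _ fun b => ?_
  obtain ⟨b, rfl⟩ := Ideal.Quotient.mk_surjective b
  set I : Ideal Γ(Y, p ⁻¹ᵁ V) := Ideal.span (Set.range fun i => (P i).eval₂
      ((Y.presheaf.map (homOfLE le_top : p ⁻¹ᵁ V ⟶ ⊤).op).hom.comp (Coh.toGlobal q))
        (p.app V (T i))) with hI
  set ρ : MvPolynomial (Fin n) k →+* Γ(Y, p ⁻¹ᵁ V) ⧸ I := (Ideal.Quotient.mk I).comp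
    ((Y.presheaf.map (homOfLE le_top : p ⁻¹ᵁ V ⟶ ⊤).op).hom.comp (Coh.toGlobal q)) with hρ
  have h1 : ∀ a : Γ(X, V), ρ.IsIntegralElem (((Ideal.Quotient.mk I).comp (p.app V).hom) a) := by
    refine isIntegralElem_of ρ _ _ T hT.to_isIntegral (algebraMap k (MvPolynomial (Fin n) k))
      (fun x => ?_) (fun i => ?_)
    · exact congrArg (Ideal.Quotient.mk I) (toGlobal_pullback f p q H.w V x)
    · refine ⟨P i, hP i, ?_⟩
      rw [hρ, RingHom.comp_apply, ← Polynomial.hom_eval₂]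
      exact Ideal.Quotient.eq_zero_iff_mem.2 (Ideal.subset_span ⟨i, rfl⟩)
  obtain ⟨x, rfl⟩ := OmPoly.exists_sum n f p q H hV b
  rw [Finsupp.sum, map_sum]
  let _ : Algebra (MvPolynomial (Fin n) k) (Γ(Y, p ⁻¹ᵁ V) ⧸ I) := ρ.toAlgebra
  change IsIntegral _ _
  refine IsIntegral.sum _ fun α _ => ?_
  rw [map_mul]
  exact IsIntegral.mul (isIntegral_algebraMap (x := MvPolynomial.monomial α (1 : k))) (h1 _)

end Groth.Agent.LoccohA.OmFinCl
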