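import Groth.Agent.CohtopA.HTop
import Groth.Agent.CohtopA.ColimCohomology
import Groth.Agent.CohtopA.NoethVanish
import Groth.Agent.CohqB.DevSupport
import Mathlib.CategoryTheory.Limits.Constructions.Filtered
import Mathlib.Algebra.Category.Grp.FilteredColimits
import Mathlib.Algebra.Category.Grp.Limits

/-!
# Sheaf cohomology and filtered colimits / coproducts, elementwise
-/

set_option autoImplicit false
set_option maxHeartbeats 400000
universe u
open CategoryTheory CategoryTheory.Limits AlgebraicGeometry Opposite TopologicalSpace

noncomputable section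

namespace Groth.Agent.LoccohA.TDColim

section Abs

variable {C : Type*} [Category* C] [Abelian C] [HasExt.{u} C]

theorem preserves_ext_of_iso {A B : C} (e : A ≅ B) (n : ℕ) (K : Type*) [Category* K]
    (h : PreservesColimitsOfShape K (Abelian.extFunctorObj.{u} A n)) :
    PreservesColimitsOfShape K (Abelian.extFunctorObj.{u} B n) :=
  preservesColimitsOfShape_of_natIso (F := Abelian.extFunctorObj.{u} A n)
    ((Abelian.extFunctor.{u} n).mapIso e.symm.op)

end Abs

section Top

variable {T : TopCat.{u}}

theorem preserves_ext [PrespectralSpace T] [QuasiSeparatedSpace T] [CompactSpace T]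
    (J : Type u) [SmallCategory J] [IsFiltered J] (q : ℕ) :
    PreservesColimitsOfShape J
      (Abelian.extFunctorObj.{u}
        ((constantSheaf (Opens.grothendieckTopology T) AddCommGrpCat.{u}).obj
          (AddCommGrpCat.of (ULift ℤ))) q) :=
  preserves_ext_of_iso (Groth.Agent.CohtopA.HTop.isoConst (Opens.grothendieckTopology T)
      (isTerminalTop : IsTerminal (⊤ : Opens T))).symm q J
    (Groth.Agent.CohtopA.ColimCohomology.preservesColimitsOfShape_ext (X := T)
      (J := J) (U := ⊤) (by simpa using isCompact_univ) q)

end Top

section Scheme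

open CoproductsFromFiniteFiltered

variable {X : Scheme.{u}}

/-- Every class in `H^d(X, ∐ M)` comes from a finite sub-coproduct. -/
theorem exists_finset_sigma [CompactSpace X] [QuasiSeparatedSpace X] {J : Type u} (M : J → X.Modules)
    (d : ℕ) (x : Coh.HH X (∐ M) d) :
    ∃ (S : Finset (Discrete J)) (y : Coh.HH X (∐ fun s : {s // s ∈ S} => M s.1.as) d),
      Sheaf.H.map ((SheafOfModules.toSheaf X.ringCatSheaf).map
        (Sigma.desc fun s : {s // s ∈ S} => Sigma.ι M s.1.as)) d y = x := by
  classical
  have h0 : PrespectralSpace X := inferInstance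
  have h0' : PrespectralSpace X.toTopCat := h0
  have h0a : QuasiSeparatedSpace X.toTopCat := inferInstanceAs (QuasiSeparatedSpace X)
  have h0b : CompactSpace X.toTopCat := inferInstanceAs (CompactSpace X)
  have h1 : PreservesColimitsOfShape (Finset (Discrete J))
      (Abelian.extFunctorObj.{u}
        ((constantSheaf (Opens.grothendieckTopology X) AddCommGrpCat.{u}).obj
          (AddCommGrpCat.of (ULift ℤ))) d) := preserves_ext (T := X.toTopCat) (Finset (Discrete J)) d
  have h2 : PreservesColimitsOfShape (Finset (Discrete J)) (Groth.Agent.CohqB.DevSupport.toAbF X) :=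
    inferInstance
  have hc := isColimitOfPreserves (Groth.Agent.CohqB.DevSupport.toAbF X)
    (isColimitFiniteSubproductsCocone M)
  have hc' := isColimitOfPreserves (Abelian.extFunctorObj.{u}
        ((constantSheaf (Opens.grothendieckTopology X) AddCommGrpCat.{u}).obj
          (AddCommGrpCat.of (ULift ℤ))) d) hc
  obtain ⟨S, y, hy⟩ := Concrete.isColimit_exists_rep _ hc' x
  exact ⟨S, y, hy⟩

end Scheme

end Groth.Agent.LoccohA.TDColim
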