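import Groth.Agent.PerfA.ExtZero
import Groth.Agent.PerfC.FTExt
import Groth.Agent.FormalB.ModPowAff2
import Groth.Agent.FormalB.SysSect
import Groth.Agent.Ega1.QCohFinite
import Groth.Agent.CohqB.QC6
import Mathlib.CategoryTheory.Abelian.GrothendieckCategory.Basic
import Groth.Agent.PerfA.AffVan

/-!
# A small generating family of quasi-coherent modules of finite type

For `X` quasi-compact and quasi-separated there is a small family `gens` of quasi-coherent modules of
finite type such that every quasi-coherent module of finite type is isomorphic to a member and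
every quasi-coherent module is a quotient of a coproduct of members.
-/

set_option autoImplicit false
set_option maxHeartbeats 400000
universe u
open CategoryTheory CategoryTheory.Limits AlgebraicGeometry Opposite TopologicalSpace

noncomputable section

namespace Groth.Agent.LoccohA.TDGen

open Groth.Agent.PerfA.ExtZero

variable {X : Scheme.{u}}

/-- `X` is covered by finitely many affine opens. -/
theorem exists_finset_affine (X : Scheme.{u}) [CompactSpace X] :
    ∃ T : Finset X.affineOpens, ∀ x : X, ∃ V ∈ T, x ∈ (V : X.Opens) := by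
  classical
  have hc : IsCompact (Set.univ : Set X) := isCompact_univ
  obtain ⟨t, ht⟩ := hc.elim_finite_subcover (fun V : X.affineOpens => ((V : X.Opens) : Set X))
    (fun V => V.1.isOpen) (by
      intro x _
      obtain ⟨_, ⟨V, hV, rfl⟩, hx, -⟩ :=
        X.isBasis_affineOpens.exists_subset_of_mem_open (Set.mem_univ x) isOpen_univ
      exact Set.mem_iUnion.2 ⟨⟨V, hV⟩, hx⟩)
  refine ⟨t, fun x => ?_⟩
  obtain ⟨V, hV, hx⟩ := Set.mem_iUnion₂.1 (ht (Set.mem_univ x))
  exact ⟨V, hV, hx⟩

/-- A quasi-coherent module of finite type is a quotient of a finite sum of modules `j_! O_V`. -/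
theorem exists_epi_of_isFT [CompactSpace X] (M : X.Modules) (hM : Coh.IsQCoh M)
    (hft : CohB1.IsFT M) :
    ∃ (n : ℕ) (V : Fin n → X.affineOpens) (φ : (∐ fun i => OU (V i : X.Opens)) ⟶ M), Epi φ := by
  classical
  obtain ⟨T, hT⟩ := exists_finset_affine X
  have hfin : ∀ V : X.affineOpens, ∃ (m : ℕ) (g : Fin m → Γ(M, V)),
      Submodule.span Γ(X, V) (Set.range g) = ⊤ := by
    intro V
    have : M.IsQuasicoherent := hM
    have := Ega1.QCohFinite.finite_sections M hft V.2
    exact Module.Finite.exists_fin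
  choose m g hg using hfin
  let K : Type u := Σ V : T, Fin (m V)
  let e : K ≃ Fin (Fintype.card K) := Fintype.equivFin K
  refine ⟨Fintype.card K, fun i => (e.symm i).1.1,
    Sigma.desc fun i => desc (g _ (e.symm i).2), ⟨fun {N} h₁ h₂ h => ?_⟩⟩
  have key : ∀ a : K, h₁.app a.1.1 (g _ a.2) = h₂.app a.1.1 (g _ a.2) := by
    intro a
    obtain ⟨i, rfl⟩ := e.symm.surjective a
    have := congrArg (fun q => Sigma.ι (fun i => OU (((e.symm i).1.1 : X.affineOpens) : X.Opens)) i ≫ q) h
    simp only [Sigma.ι_desc_assoc, desc_comp] at this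
    exact desc_injective this
  refine FormalB.ModPowAff2.hom_ext_of_affine_cover hM _ _ fun x => ?_
  obtain ⟨V, hV, hx⟩ := hT x
  refine ⟨V, hx, V.2, fun t => ?_⟩
  have ht : t ∈ Submodule.span Γ(X, V) (Set.range (g V)) := by
    rw [hg]; trivial
  induction ht using Submodule.span_induction with
  | mem t ht =>
    obtain ⟨j, rfl⟩ := ht
    exact key ⟨⟨V, hV⟩, j⟩
  | zero => rw [map_zero, map_zero]
  | add a b _ _ ha hb => rw [map_add, map_add, ha, hb]
  | smul r a _ ha => rw [Scheme.Modules.Hom.app_smul, Scheme.Modules.Hom.app_smul, ha]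

theorem wellPowered (X : Scheme.{u}) : WellPowered.{u} X.Modules := by
  have := PerfA.AffVan.isGrothendieckAbelian X
  infer_instance

attribute [local instance] wellPowered

variable (X) in
/-- All quotients of finite sums of modules `j_! O_V`. -/
abbrev Idx₀ : Type u :=
  Σ (n : ℕ) (V : Fin n → X.affineOpens), Shrink.{u} (Subobject (∐ fun i => OU (V i : X.Opens)))

/-- The quotient by a subobject. -/
def cok (Q : X.Modules) (K : Subobject Q) : X.Modules := cokernel K.arrow

/-- The module attached to an index. -/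
def quot (x : Idx₀ X) : X.Modules :=
  cok _ ((equivShrink.{u} (Subobject (∐ fun i => OU (x.2.1 i : X.Opens)))).symm x.2.2)

variable (X) in
/-- Index type of the generating family. -/
def Idx : Type u := {x : Idx₀ X // Coh.IsQCoh (quot x) ∧ CohB1.IsFT (quot x)}

/-- The generating family. -/
def gens (x : Idx X) : X.Modules := quot x.1

theorem isQCoh_gens (x : Idx X) : Coh.IsQCoh (gens x) := x.2.1

theorem isFT_gens (x : Idx X) : CohB1.IsFT (gens x) := x.2.2

/-- Every quasi-coherent module of finite type is isomorphic to a member of the family. -/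
theorem exists_iso [CompactSpace X] (M : X.Modules) (hM : Coh.IsQCoh M) (hft : CohB1.IsFT M) :
    ∃ x : Idx X, Nonempty (gens x ≅ M) := by
  obtain ⟨n, V, φ, hφ⟩ := exists_epi_of_isFT M hM hft
  let K := Subobject.mk (kernel.ι φ)
  let x : Idx₀ X := ⟨n, V, equivShrink _ K⟩
  have e : quot x ≅ M := by
    have h1 : quot x ≅ cokernel K.arrow :=
      eqToIso (congrArg (cok _) (Equiv.symm_apply_apply (equivShrink.{u} (Subobject _)) K))
    have h2 : cokernel K.arrow ≅ cokernel (kernel.ι φ) :=
      cokernel.mapIso _ _ (Subobject.underlyingIso (kernel.ι φ)) (Iso.refl _) (by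
        simp [K])
    have h3 : cokernel (kernel.ι φ) ≅ M :=
      IsColimit.coconePointUniqueUpToIso (cokernelIsCokernel (kernel.ι φ))
        (Abelian.epiIsCokernelOfKernel _ (limit.isLimit (parallelPair φ 0)))
    exact h1 ≪≫ h2 ≪≫ h3
  exact ⟨⟨x, PerfA.QCohSerre.isQCoh_of_iso e.symm hM,
    CohqB.LocalQC.isFT_of_epi e.inv hft⟩, ⟨e⟩⟩

/-- Every quasi-coherent module is a quotient of a coproduct of members of the family. -/
theorem exists_epi [CompactSpace X] [QuasiSeparatedSpace X] (F : X.Modules) (hF : Coh.IsQCoh F) :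
    ∃ (J : Type u) (s : J → Idx X) (p : (∐ fun j => gens (s j)) ⟶ F), Epi p := by
  let J : Type u := Σ V : X.affineOpens, Γ(F, V)
  have h : ∀ j : J, ∃ (x : Idx X) (i : gens x ⟶ F) (t : Γ(gens x, j.1)), i.app j.1 t = j.2 := by
    intro j
    obtain ⟨M, i, hM, hft, -, t, ht⟩ := PerfC.FTExt.exists_isFT_mono_section F hF
      (j.1.2.isCompact) j.2
    obtain ⟨x, ⟨e⟩⟩ := exists_iso M hM hft
    refine ⟨x, e.hom ≫ i, e.inv.app j.1 t, ?_⟩
    change i.app j.1 ((e.inv ≫ e.hom).app j.1 t) = _
    rw [e.inv_hom_id]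
    exact ht
  choose s i t hst using h
  refine ⟨J, s, Sigma.desc i, FormalB.SysSect.epi_of_affine _ fun U hU m => ?_⟩
  refine ⟨(Sigma.ι (fun j => gens (s j)) ⟨⟨U, hU⟩, m⟩).app U (t ⟨⟨U, hU⟩, m⟩), ?_⟩
  change (Sigma.ι (fun j => gens (s j)) ⟨⟨U, hU⟩, m⟩ ≫ Sigma.desc i).app U (t ⟨⟨U, hU⟩, m⟩) = m
  rw [Sigma.ι_desc]
  exact hst ⟨⟨U, hU⟩, m⟩

end Groth.Agent.LoccohA.TDGen
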