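import Groth.Agent.LoccohA.TDRepAbs
import Groth.Agent.LoccohA.TDGen
import Groth.Agent.LoccohA.TDColim
import Groth.Agent.VarietyB.HHLes
import Groth.Agent.Models2.QCohColim
import Groth.Agent.PerfB.ResolQC

/-!
# Representability of the dual of top degree cohomology by a quasi-coherent module
-/

set_option autoImplicit false
set_option maxHeartbeats 400000
universe u
open CategoryTheory CategoryTheory.Limits AlgebraicGeometry Opposite TopologicalSpace

noncomputable section

namespace Groth.Agent.LoccohA.TDRep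

open Groth.Agent.VarietyB.HHLes

variable (A : Type u) [CommRing A] {X : Scheme.{u}} [X.Over (Spec (CommRingCat.of A))]

theorem Hmap_add {M N : X.Modules} (f g : M ⟶ N) (n : ℕ) :
    Hmap A (f + g) n = Hmap A f n + Hmap A g n := by
  ext x
  have h : (CohqB.DevSupport.toAbF X).map (f + g) = (CohqB.DevSupport.toAbF X).map f +
    (CohqB.DevSupport.toAbF X).map g := Functor.map_add _
  have h' := congrArg (fun q => Sheaf.H.map q n x) h
  exact h'.trans (Sheaf.H.map_add_apply _ _ _)

theorem Hmap_comp_apply {M N P : X.Modules} (φ : M ⟶ N) (ψ : N ⟶ P) (n : ℕ) (x : Hn A X M n) :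
    Hmap A ψ n (Hmap A φ n x) = Hmap A (φ ≫ ψ) n x := by
  rw [Hmap_comp]; rfl

theorem Hmap_sum {ι : Type*} (s : Finset ι) {M N : X.Modules} (f : ι → (M ⟶ N)) (n : ℕ)
    (x : Hn A X M n) : Hmap A (∑ i ∈ s, f i) n x = ∑ i ∈ s, Hmap A (f i) n x := by
  classical
  induction s using Finset.induction_on with
  | empty => rw [Finset.sum_empty, Finset.sum_empty, Hmap_zero, LinearMap.zero_apply]
  | insert a s ha ih =>
    rw [Finset.sum_insert ha, Finset.sum_insert ha, Hmap_add, LinearMap.add_apply, ih]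

theorem exists_finset {J : Type u} [CompactSpace X] [QuasiSeparatedSpace X] (M : J → X.Modules)
    (d : ℕ) (x : Hn A X (∐ M) d) :
    ∃ (S : Finset (Discrete J)) (y : Hn A X (∐ fun s : {s // s ∈ S} => M s.1.as) d),
      Hmap A (Sigma.desc fun s : {s // s ∈ S} => Sigma.ι M s.1.as) d y = x :=
  TDColim.exists_finset_sigma M d x

section

variable {C : Type*} [Category* C] [Preadditive C]

theorem sum_π_ι {ι : Type*} [Fintype ι] [DecidableEq ι] (M : ι → C) [HasCoproduct M] :
    ∑ i, Sigma.π M i ≫ Sigma.ι M i = 𝟙 (∐ M) := by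
  refine Sigma.hom_ext _ _ fun j => ?_
  rw [Preadditive.comp_sum, Finset.sum_eq_single j, Category.comp_id, Sigma.ι_π_eq_id_assoc]
  · intro b _ hb
    rw [Sigma.ι_π_of_ne_assoc _ hb.symm, zero_comp]
  · intro h
    exact absurd (Finset.mem_univ j) h

end

variable (W : Type u) [AddCommGroup W] [Module A W]

/-- Functionals on cohomology. -/
abbrev Dual (d : ℕ) (M : X.Modules) : Type u := Hn A X M d →ₗ[A] W

/-- Restriction of functionals. -/
def res (d : ℕ) {M N : X.Modules} (f : M ⟶ N) : Dual A W d N →+ Dual A W d M where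
  toFun ψ := ψ.comp (Hmap A f d)
  map_zero' := LinearMap.zero_comp _
  map_add' _ _ := LinearMap.add_comp _ _ _

theorem res_apply (d : ℕ) {M N : X.Modules} (f : M ⟶ N) (ψ : Dual A W d N) (x : Hn A X M d) :
    res A W d f ψ x = ψ (Hmap A f d x) := rfl

variable {A W}

theorem sigma_ext {J : Type u} [CompactSpace X] [QuasiSeparatedSpace X] (d : ℕ)
    (M : J → X.Modules) (ψ : Dual A W d (∐ M)) (h : ∀ j, res A W d (Sigma.ι M j) ψ = 0) :
    ψ = 0 := by
  classical
  ext x
  obtain ⟨S, y, rfl⟩ := exists_finset A M d x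
  let N : {s // s ∈ S} → X.Modules := fun s => M s.1.as
  have hy : y = ∑ i, Hmap A (Sigma.ι N i) d (Hmap A (Sigma.π N i) d y) := by
    have h1 : Hmap A (𝟙 (∐ N)) d y = y := by rw [Hmap_id]; rfl
    conv_lhs => rw [← h1]
    rw [← sum_π_ι N, Hmap_sum]
    exact Finset.sum_congr rfl fun i _ =>
      (Hmap_comp_apply A (Sigma.π N i) (Sigma.ι N i) d y).symm
  rw [hy, map_sum, map_sum, LinearMap.zero_apply]
  refine Finset.sum_eq_zero fun i _ => ?_
  rw [Hmap_comp_apply A (Sigma.ι N i) (Sigma.desc fun s : {s // s ∈ S} => Sigma.ι M s.1.as),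
    Sigma.ι_desc]
  exact LinearMap.congr_fun (h i.1.as) _

open scoped Classical in
theorem finite_support {J : Type u} [CompactSpace X] [QuasiSeparatedSpace X] (d : ℕ)
    (M : J → X.Modules) (s : ∀ j, Dual A W d (M j)) (x : Hn A X (∐ M) d) :
    (Function.support fun j => s j (Hmap A (Sigma.π M j) d x)).Finite := by
  classical
  obtain ⟨S, y, rfl⟩ := exists_finset A M d x
  refine (S.image Discrete.as).finite_toSet.subset fun j hj => ?_
  by_contra hjS
  refine hj ?_
  dsimp only
  rw [Hmap_comp_apply]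
  have : (Sigma.desc fun s : {s // s ∈ S} => Sigma.ι M s.1.as) ≫ Sigma.π M j = 0 := by
    refine Sigma.hom_ext _ _ fun i => ?_
    rw [Sigma.ι_desc_assoc, comp_zero]
    refine Sigma.ι_π_of_ne _ fun h => hjS ?_
    rw [← h]
    exact Finset.mem_coe.2 (Finset.mem_image_of_mem _ i.2)
  rw [this, Hmap_zero, LinearMap.zero_apply, map_zero]

theorem sigma_glue {J : Type u} [CompactSpace X] [QuasiSeparatedSpace X] (d : ℕ)
    (M : J → X.Modules) (s : ∀ j, Dual A W d (M j)) :
    ∃ ψ : Dual A W d (∐ M), ∀ j, res A W d (Sigma.ι M j) ψ = s j := by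
  classical
  refine ⟨{ toFun := fun x => ∑ᶠ j, s j (Hmap A (Sigma.π M j) d x)
            map_add' := fun x y => ?_
            map_smul' := fun c x => ?_ }, fun j => ?_⟩
  · rw [← finsum_add_distrib (finite_support d M s x) (finite_support d M s y)]
    exact finsum_congr fun j => by rw [map_add, map_add]
  · rw [RingHom.id_apply, smul_finsum' c (finite_support d M s x)]
    exact finsum_congr fun j => by rw [map_smul, map_smul]
  · ext y
    rw [res_apply]
    change ∑ᶠ i, s i (Hmap A (Sigma.π M i) d (Hmap A (Sigma.ι M j) d y)) = s j y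
    rw [finsum_eq_single _ j]
    · rw [Hmap_comp_apply, Sigma.ι_π_eq_id, Hmap_id]; rfl
    · intro i hi
      rw [Hmap_comp_apply, Sigma.ι_π_of_ne _ hi.symm, Hmap_zero, LinearMap.zero_apply, map_zero]

section Vanish

variable (A) [IsNoetherian X] (d : ℕ) (hd : topologicalKrullDim X ≤ d)
include hd

theorem Hn_eq_zero (M : X.Modules) (x : Hn A X M (d + 1)) : x = 0 := by
  have h0 : NoetherianSpace X := inferInstance
  have h0' : NoetherianSpace X.toTopCat := h0
  have h1 : Subsingleton (CohTop.H (X := X.toTopCat) (Coh.toAb M) (d + 1)) :=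
    Groth.Agent.CohtopA.NoethVanish.subsingleton_H_of_krullDim (X := X.toTopCat) d hd
      (Coh.toAb M) (d + 1) (Nat.lt_succ_self d)
  exact @Subsingleton.elim _ h1 x 0

theorem Hmap_surjective {M N : X.Modules} (f : M ⟶ N) [Epi f] :
    Function.Surjective (Hmap A f d) := by
  intro x
  let S : ShortComplex X.Modules := ShortComplex.mk (kernel.ι f) f (kernel.condition f)
  have hS : S.ShortExact :=
    { exact := ShortComplex.exact_of_f_is_kernel _ (kernelIsKernel f)
      mono_f := inferInstanceAs (Mono (kernel.ι f))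
      epi_g := inferInstanceAs (Epi f) }
  exact exact₃ A hS d x (Hn_eq_zero A d hd _ _)

variable {A} (W)

theorem exists_desc {M N : X.Modules} (f : M ⟶ N) [Mono f] (ψ : Dual A W d N)
    (h : res A W d f ψ = 0) : ∃ t : Dual A W d (cokernel f), res A W d (cokernel.π f) t = ψ := by
  let S : ShortComplex X.Modules := ShortComplex.mk f (cokernel.π f) (cokernel.condition f)
  have hS : S.ShortExact :=
    { exact := ShortComplex.exact_of_g_is_cokernel _ (cokernelIsCokernel f)
      mono_f := inferInstanceAs (Mono f)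
      epi_g := inferInstanceAs (Epi (cokernel.π f)) }
  have hs : Function.Surjective (Hmap A (cokernel.π f) d) := Hmap_surjective A d hd _
  have hk : LinearMap.ker (Hmap A (cokernel.π f) d) ≤ LinearMap.ker ψ := by
    intro x hx
    obtain ⟨y, rfl⟩ := exact₂ A hS d x hx
    exact LinearMap.congr_fun h y
  refine ⟨((LinearMap.ker (Hmap A (cokernel.π f) d)).liftQ ψ hk).comp
    ((Hmap A (cokernel.π f) d).quotKerEquivOfSurjective hs).symm.toLinearMap, ?_⟩
  ext x
  rw [res_apply, LinearMap.comp_apply]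
  have : ((Hmap A (cokernel.π f) d).quotKerEquivOfSurjective hs).symm
      (Hmap A (cokernel.π f) d x) = Submodule.Quotient.mk x := by
    rw [LinearEquiv.symm_apply_eq]
    rfl
  erw [this]
  rfl

omit [AlgebraicGeometry.IsNoetherian X] hd in
theorem closed : TDRepAbs.Closed (fun M : X.Modules => Coh.IsQCoh M) where
  iso e h := PerfA.QCohSerre.isQCoh_of_iso e h
  ker f hM hN := (PerfA.QCohSerre.qcoh X).prop_kernel f hM hN
  coker f hM hN := (PerfA.QCohSerre.qcoh X).prop_cokernel f hM hN
  biprod hM hN := PerfB.ResolQC.isQCoh_biprod hM hN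

theorem leftExact : TDRepAbs.LeftExact (fun M : X.Modules => Coh.IsQCoh M) (Dual A W d)
    (@res A _ X _ W _ _ d) where
  id t := by
    ext x
    rw [res_apply, Hmap_id]
    rfl
  comp f g t := by
    ext x
    rw [res_apply, res_apply, res_apply, Hmap_comp_apply]
  add f g t := by
    ext x
    rw [res_apply, Hmap_add, LinearMap.add_apply, map_add]
    rfl
  epi f _ _ _ := by
    intro s t h
    ext x
    obtain ⟨y, rfl⟩ := Hmap_surjective A d hd f x
    exact LinearMap.congr_fun h y
  coker f _ _ _ s h := exists_desc W d hd f s h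
  sigma_ext M _ _ s h := by
    refine sigma_ext d M s fun j => ?_
    exact h j
  sigma_glue M _ _ s := sigma_glue d M s

end Vanish

variable (A W) in
theorem exists_repr_Hn [AlgebraicGeometry.IsNoetherian X] (d : ℕ) (hd : topologicalKrullDim X ≤ d) :
    ∃ (ω : X.Modules) (t : Dual A W d ω), Coh.IsQCoh ω ∧
      ∀ F : X.Modules, Coh.IsQCoh F → ∀ ψ : Dual A W d F,
        ∃! φ : F ⟶ ω, res A W d φ t = ψ := by
  have := TDGen.wellPowered X
  obtain ⟨ω, t, h1, h2⟩ := TDRepAbs.exists_repr (C := X.Modules) closed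
    (fun M hM => Models2.QCohColim.isQC_colimit _ (coproductIsCoproduct M)
      (fun j => hM j.as)) (leftExact (A := A) W d hd) (TDGen.gens) (TDGen.isQCoh_gens)
      (fun F hF => TDGen.exists_epi F hF)
  exact ⟨ω, t, h1, h2⟩

/-- (R) for `Coh.HH`: the dual of top degree cohomology (with values in any module `W`) is
represented by a quasi-coherent module. -/
theorem exists_repr (A : Type u) [CommRing A] (W : Type u) [AddCommGroup W] [Module A W]
    (X : Scheme.{u}) [X.Over (Spec (CommRingCat.of A))] [AlgebraicGeometry.IsNoetherian X] (d : ℕ)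
    (hd : topologicalKrullDim X ≤ d) :
    ∃ (ω : X.Modules) (t : Coh.HH X ω d →ₗ[A] W), Coh.IsQCoh ω ∧
      ∀ F : X.Modules, Coh.IsQCoh F → ∀ ψ : Coh.HH X F d →ₗ[A] W,
        ∃! φ : F ⟶ ω, ∀ x : Coh.HH X F d,
          ψ x = t (Sheaf.H.map ((SheafOfModules.toSheaf X.ringCatSheaf).map φ) d x) := by
  obtain ⟨ω, t, hω, h⟩ := exists_repr_Hn A (X := X) W d hd
  refine ⟨ω, t, hω, fun F hF ψ => ?_⟩
  obtain ⟨φ, hφ, hu⟩ := h F hF ψ
  exact ⟨φ, fun x => (LinearMap.congr_fun hφ x).symm,
    fun φ' hφ' => hu φ' (LinearMap.ext fun x => (hφ' x).symm)⟩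

end Groth.Agent.LoccohA.TDRep
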