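import Groth.Agent.LoccohA.OmSym
import Groth.Agent.LoccohA.OmEdge
import Groth.Agent.Ega1.QCohLoc
import Groth.Agent.CohqA.AffVan

/-!
# Symbols on schemes and fractions

For `f : Fin (n+1) → Γ(X, V)` whose zero locus `zl f` in `V` is closed in `X`, `sg F hcl` is the symbol
`Γ(F, D f) →+ H^(n+1)(X, F)`, `D f = X.basicOpen (∏ i, f i)`.  `dv F c W m` is the section `m / c` on
`W ≤ X.basicOpen c`.
-/

set_option autoImplicit false
universe u

open CategoryTheory AlgebraicGeometry Opposite TopologicalSpace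

noncomputable section

namespace Groth.Agent.LoccohA.OmFrac

open Groth.Agent.LoccohA.OmBase Groth.Agent.LoccohA.OmSym Groth.Agent.LoccohA.OmEdge
open Groth.Agent.Ega1

variable {X : Scheme.{u}} (F : X.Modules)

/-! ### Fractions -/

section dv

variable {V W : X.Opens}

theorem isUnit_resO (c : Γ(X, V)) (hW : W ≤ X.basicOpen c) (h : W ≤ V) :
    IsUnit (QCohLoc.resO h c) := by
  have h1 : IsUnit (QCohLoc.resO (X.basicOpen_le c) c) := X.toRingedSpace.isUnit_res_basicOpen c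
  have h2 := h1.map (QCohLoc.resO hW)
  rwa [QCohLoc.resO_resO] at h2

/-- The section `m / c` on `W`. -/
def dv (c : Γ(X, V)) (hW : W ≤ X.basicOpen c) (m : Γ(F, V)) : Γ(F, W) :=
  ((isUnit_resO c hW (hW.trans (X.basicOpen_le c))).unit⁻¹ : (Γ(X, W))ˣ).1 •
    QCohLoc.res F (hW.trans (X.basicOpen_le c)) m

theorem dv_spec (c : Γ(X, V)) (hW : W ≤ X.basicOpen c) (m : Γ(F, V)) :
    QCohLoc.resO (hW.trans (X.basicOpen_le c)) c • dv F c hW m =
      QCohLoc.res F (hW.trans (X.basicOpen_le c)) m := by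
  rw [dv, ← mul_smul, IsUnit.mul_val_inv, one_smul]

theorem eq_dv (c : Γ(X, V)) (hW : W ≤ X.basicOpen c) (m : Γ(F, V)) (h : W ≤ V) (z : Γ(F, W))
    (hz : QCohLoc.resO h c • z = QCohLoc.res F h m) : z = dv F c hW m := by
  rw [dv, ← hz, ← mul_smul, IsUnit.val_inv_mul, one_smul]

theorem res_dv (c : Γ(X, V)) (hW : W ≤ X.basicOpen c) (m : Γ(F, V)) {W' : X.Opens} (h : W' ≤ W) :
    QCohLoc.res F h (dv F c hW m) = dv F c (h.trans hW) m := by
  refine eq_dv F c _ m ((h.trans hW).trans (X.basicOpen_le c)) _ ?_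
  have := congrArg (QCohLoc.res F h) (dv_spec F c hW m)
  rwa [QCohLoc.res_smul, QCohLoc.resO_resO, QCohLoc.res_res] at this

theorem dv_smul (c : Γ(X, V)) (hW : W ≤ X.basicOpen c) (a : Γ(X, V)) (m : Γ(F, V)) :
    dv F c hW (a • m) = QCohLoc.resO (hW.trans (X.basicOpen_le c)) a • dv F c hW m := by
  symm
  refine eq_dv F c _ _ (hW.trans (X.basicOpen_le c)) _ ?_
  rw [← mul_smul, mul_comm, mul_smul, dv_spec, QCohLoc.res_smul]

theorem dv_add (c : Γ(X, V)) (hW : W ≤ X.basicOpen c) (m m' : Γ(F, V)) :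
    dv F c hW (m + m') = dv F c hW m + dv F c hW m' := by
  rw [dv, _root_.map_add, smul_add]
  rfl

/-- `dv` as an additive map -/
def dvHom (c : Γ(X, V)) (hW : W ≤ X.basicOpen c) : Γ(F, V) →+ Γ(F, W) :=
  AddMonoidHom.mk' (dv F c hW) (dv_add F c hW)

theorem dvHom_apply (c : Γ(X, V)) (hW : W ≤ X.basicOpen c) (m : Γ(F, V)) :
    dvHom F c hW m = dv F c hW m := rfl

theorem dv_mul (c c' : Γ(X, V)) (hW : W ≤ X.basicOpen c) (hW' : W ≤ X.basicOpen (c * c'))
    (m : Γ(F, V)) : dv F (c * c') hW' (c' • m) = dv F c hW m := by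
  symm
  refine eq_dv F _ _ _ (hW.trans (X.basicOpen_le c)) _ ?_
  rw [map_mul, mul_comm, mul_smul, dv_spec, QCohLoc.res_smul]

theorem dv_mul' (c c' : Γ(X, V)) (hW : W ≤ X.basicOpen c') (hW' : W ≤ X.basicOpen (c * c'))
    (m : Γ(F, V)) : dv F (c * c') hW' (c • m) = dv F c' hW m := by
  symm
  refine eq_dv F _ _ _ (hW.trans (X.basicOpen_le c')) _ ?_
  rw [map_mul, mul_smul, dv_spec, QCohLoc.res_smul]

theorem app_dv {G : X.Modules} (φ : F ⟶ G) (c : Γ(X, V)) (hW : W ≤ X.basicOpen c) (m : Γ(F, V)) :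
    φ.app W (dv F c hW m) = dv G c hW (φ.app V m) := by
  refine eq_dv G c _ _ (hW.trans (X.basicOpen_le c)) _ ?_
  rw [← Scheme.Modules.Hom.app_smul, dv_spec, QCohLoc.res_app]

/-- `dv` and shrinking the open on which numerator and denominator live. -/
theorem dv_res (c : Γ(X, V)) (hW : W ≤ X.basicOpen c) (m : Γ(F, V)) {V' : X.Opens} (h : V' ≤ V)
    (hW' : W ≤ X.basicOpen (QCohLoc.resO h c)) :
    dv F (QCohLoc.resO h c) hW' (QCohLoc.res F h m) = dv F c hW m := by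
  refine eq_dv F c _ _ (hW.trans (X.basicOpen_le c)) _ ?_
  have := dv_spec F (QCohLoc.resO h c) hW' (QCohLoc.res F h m)
  rwa [QCohLoc.resO_resO, QCohLoc.res_res] at this

end dv

/-! ### Symbols -/

section sg

variable {V : X.Opens} {n : ℕ}

/-- The zero locus of `f` in `V`. -/
def zl (f : Fin (n + 1) → Γ(X, V)) : Set X := (V : Set X) \ ⋃ i, (X.basicOpen (f i) : Set X)

theorem mem_zl (f : Fin (n + 1) → Γ(X, V)) (x : X) :
    x ∈ zl f ↔ x ∈ V ∧ ∀ i, x ∉ X.basicOpen (f i) := by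
  simp [zl]

/-- The common nonvanishing locus. -/
abbrev Df (f : Fin (n + 1) → Γ(X, V)) : X.Opens := X.basicOpen (∏ i, f i)

theorem mem_basicOpen_prod {ι : Type*} (s : Finset ι) (f : ι → Γ(X, V)) (x : X) :
    x ∈ X.basicOpen (∏ i ∈ s, f i) ↔ x ∈ V ∧ ∀ i ∈ s, x ∈ X.basicOpen (f i) := by
  by_cases hx : x ∈ V
  · rw [X.mem_basicOpen _ _ hx, map_prod, IsUnit.prod_iff]
    simp only [hx, true_and]
    exact forall₂_congr fun i _ => (X.mem_basicOpen _ _ hx).symm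
  · simp only [hx, false_and, iff_false]
    exact fun h => hx (X.basicOpen_le _ h)

theorem mem_Df (f : Fin (n + 1) → Γ(X, V)) (x : X) :
    x ∈ Df f ↔ x ∈ V ∧ ∀ i, x ∈ X.basicOpen (f i) := by
  rw [mem_basicOpen_prod]
  simp

variable {f : Fin (n + 1) → Γ(X, V)}

/-- The complement of the zero locus. -/
def cpl (hcl : IsClosed (zl f)) : X.Opens := ⟨(zl f)ᶜ, hcl.isOpen_compl⟩

theorem mem_cpl (hcl : IsClosed (zl f)) (x : X) :
    x ∈ cpl hcl ↔ (x ∈ V → ∃ i, x ∈ X.basicOpen (f i)) := by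
  change x ∈ (zl f)ᶜ ↔ _
  rw [Set.mem_compl_iff, mem_zl]
  push Not
  rfl

theorem isDat (hcl : IsClosed (zl f)) :
    IsDat (X := X.toTopCat) (fun i => X.basicOpen (f i)) V (cpl hcl) (Df f) ⊤ where
  mem_I x hx h := (mem_Df f x).2 ⟨hx, h⟩
  mem_D x hx hV := (mem_cpl hcl x).1 hx hV
  mem_T x _ := by
    by_cases hx : x ∈ V
    · exact Or.inr hx
    · exact Or.inl ((mem_cpl hcl x).2 fun h => absurd h hx)

/-- Sections as cohomology classes of degree `0`. -/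
def s0 (U : X.Opens) : Γ(F, U) ≃+ Hc (X := X.toTopCat) (Coh.toAb F) 0 U :=
  (h0 (X := X.toTopCat) (Coh.toAb F) U).symm

theorem s0_res {U U' : X.Opens} (h : U' ≤ U) (m : Γ(F, U)) :
    s0 F U' (QCohLoc.res F h m) = OmBase.res (X := X.toTopCat) (Coh.toAb F) 0 h (s0 F U m) := by
  apply (h0 (X := X.toTopCat) (Coh.toAb F) U').injective
  rw [h0_res]
  exact ((h0 (X := X.toTopCat) (Coh.toAb F) U').apply_symm_apply _).trans
    (congrArg ((Coh.toAb F).obj.map (homOfLE h).op)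
      ((h0 (X := X.toTopCat) (Coh.toAb F) U).apply_symm_apply _)).symm

/-- The symbol `Γ(F, D(f_0 ⋯ f_n)) ⟶ H^(n+1)(X, F)`. -/
def sg (hcl : IsClosed (zl f)) : Γ(F, Df f) →+ Hc (X := X.toTopCat) (Coh.toAb F) (n + 1) ⊤ :=
  (sym (X := X.toTopCat) (Coh.toAb F) (isDat hcl)).comp (s0 F (Df f)).toAddMonoidHom

theorem sg_apply (hcl : IsClosed (zl f)) (z : Γ(F, Df f)) :
    sg F hcl z = sym (X := X.toTopCat) (Coh.toAb F) (isDat hcl) (s0 F (Df f) z) := rfl

/-- A symbol vanishes if its argument extends across one of the `D(f i)`. -/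
theorem sg_res_eq_zero (hcl : IsClosed (zl f)) (i : Fin (n + 1)) {W : X.Opens}
    (hW : ∀ x ∈ V, (∀ j, j ≠ i → x ∈ X.basicOpen (f j)) → x ∈ W) (hle : Df f ≤ W) (z : Γ(F, W)) :
    sg F hcl (QCohLoc.res F hle z) = 0 := by
  have h' : IsDat (X := X.toTopCat) (fun i => X.basicOpen (f i)) V (cpl hcl) W ⊤ :=
    ⟨fun x hx h => hW x hx fun j _ => h j, (isDat hcl).mem_D, (isDat hcl).mem_T⟩
  rw [sg_apply, s0_res]
  refine (sym_res (X := X.toTopCat) (Coh.toAb F) (isDat hcl) hle h' _).trans ?_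
  exact sym_eq_zero (X := X.toTopCat) (Coh.toAb F) h' i hW _

/-- Refinement: replace `f` by `f'` with `D(f' i) ≤ D(f i)`. -/
theorem sg_refine (hcl : IsClosed (zl f)) {f' : Fin (n + 1) → Γ(X, V)}
    (hcl' : IsClosed (zl f')) (h : ∀ i, X.basicOpen (f' i) ≤ X.basicOpen (f i))
    (hle : Df f' ≤ Df f) (z : Γ(F, Df f)) : sg F hcl z = sg F hcl' (QCohLoc.res F hle z) := by
  have h' : IsDat (X := X.toTopCat) (fun i => X.basicOpen (f' i)) V (cpl hcl') (Df f) ⊤ :=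
    ⟨fun x hx hi => hle ((mem_Df f' x).2 ⟨hx, hi⟩), (isDat hcl').mem_D, (isDat hcl').mem_T⟩
  rw [sg_apply, sg_apply, s0_res]
  refine Eq.trans ?_ (sym_res (X := X.toTopCat) (Coh.toAb F) (isDat hcl') hle h' _).symm
  refine sym_refine (X := X.toTopCat) (Coh.toAb F) (isDat hcl) h' h le_rfl ?_ _
  intro x hx
  refine (mem_cpl hcl x).2 fun hV => ?_
  obtain ⟨i, hi⟩ := (mem_cpl hcl' x).1 hx hV
  exact ⟨i, h i hi⟩

theorem map_s0 {G : X.Modules} (ψ : Coh.toAb F ⟶ Coh.toAb G) (U : X.Opens) (m : Γ(F, U)) :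
    OmBase.map (X := X.toTopCat) ψ 0 U (s0 F U m) = s0 G U (ψ.hom.app (op U) m) := by
  apply (h0 (X := X.toTopCat) (Coh.toAb G) U).injective
  rw [h0_map]
  exact (congrArg (ψ.hom.app (op U)) ((h0 (X := X.toTopCat) (Coh.toAb F) U).apply_symm_apply _)).trans
    ((h0 (X := X.toTopCat) (Coh.toAb G) U).apply_symm_apply _).symm

/-- Naturality of symbols in the sheaf. -/
theorem map_sg {G : X.Modules} (ψ : Coh.toAb F ⟶ Coh.toAb G) (hcl : IsClosed (zl f))
    (z : Γ(F, Df f)) :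
    OmBase.map (X := X.toTopCat) ψ (n + 1) ⊤ (sg F hcl z) =
      sg G hcl (ψ.hom.app (op (Df f)) z) := by
  rw [sg_apply, sg_apply]
  refine (map_sym (X := X.toTopCat) (Coh.toAb F) ψ (isDat hcl) _).trans ?_
  rw [map_s0]

/-- Symbols and multiplication by global functions. -/
theorem smul_sg (r : Coh.Γtop X) (hcl : IsClosed (zl f)) (z : Γ(F, Df f)) :
    OmBase.map (X := X.toTopCat) (Coh.smulAb F r) (n + 1) ⊤ (sg F hcl z) =
      sg F hcl ((QCohLoc.resO (le_top : Df f ≤ ⊤) (r : Γ(X, ⊤)) : Γ(X, Df f)) • z) :=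
  map_sg F (Coh.smulAb F r) hcl z

theorem sg_dv_smul (hcl : IsClosed (zl f)) (i : Fin (n + 1)) (m : Γ(F, V)) :
    sg F hcl (dv F (∏ i, f i) le_rfl (f i • m)) = 0 := by
  have h1 : ∏ i, f i = f i * ∏ j ∈ Finset.univ.erase i, f j :=
    (Finset.mul_prod_erase _ _ (Finset.mem_univ i)).symm
  have hle : Df f ≤ X.basicOpen (∏ j ∈ Finset.univ.erase i, f j) := by
    rw [Df, h1, Scheme.basicOpen_mul]
    exact inf_le_right
  have h2 : dv F (∏ i, f i) le_rfl (f i • m) =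
      QCohLoc.res F hle (dv F (∏ j ∈ Finset.univ.erase i, f j) le_rfl m) := by
    rw [res_dv]
    symm
    refine eq_dv F _ _ _ (X.basicOpen_le _) _ ?_
    have h3 := congrArg (QCohLoc.resO (X.basicOpen_le (∏ i, f i))) h1
    rw [map_mul] at h3
    rw [h3, mul_smul, dv_spec, QCohLoc.res_smul]
  rw [h2]
  refine sg_res_eq_zero F hcl i (fun x hx h => ?_) hle _
  exact (mem_basicOpen_prod _ _ _).2 ⟨hx, fun j hj => h j (Finset.ne_of_mem_erase hj)⟩

theorem subsingleton_affine (hF : Coh.IsQCoh F) {U : X.Opens} (hU : IsAffineOpen U) (n : ℕ) :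
    Subsingleton (Hc (X := X.toTopCat) (Coh.toAb F) (n + 1) U) :=
  Groth.Agent.CohqA.AffVan.subsingleton_HU_of_isAffineOpen F hU n

/-- Every class vanishing off the zero locus of `f` is a symbol. -/
theorem exists_sg (hF : Coh.IsQCoh F) (hV : IsAffineOpen V) (hcl : IsClosed (zl f))
    (y : Hc (X := X.toTopCat) (Coh.toAb F) (n + 1) ⊤)
    (hy : OmBase.res (X := X.toTopCat) (Coh.toAb F) (n + 1) (le_top : cpl hcl ≤ ⊤) y = 0) :
    ∃ z : Γ(F, Df f), sg F hcl z = y := by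
  have hD : ∀ E : Opens X.toTopCat, (IsAffineOpen (X := X) E ∧ E ≤ V) → ∀ i,
      (IsAffineOpen (X := X) (ext (fun i => X.basicOpen (f i)) i ⊓ E) ∧
        ext (fun i => X.basicOpen (f i)) i ⊓ E ≤ V) := by
    intro E hE i
    by_cases hi : i < n + 1
    · rw [ext_mk _ _ hi]
      refine ⟨?_, inf_le_right.trans hE.2⟩
      have h1 := hE.1.basicOpen (QCohLoc.resO hE.2 (f ⟨i, hi⟩))
      rw [QCohLoc.basicOpen_resO] at h1
      rwa [inf_comm]
    · have : ext (fun i => X.basicOpen (f i)) i = (⊤ : Opens X.toTopCat) := by simp [ext, hi]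
      rw [this, top_inf_eq]
      exact hE
  obtain ⟨x, hx⟩ := exists_sym (X := X.toTopCat) (Coh.toAb F)
    (fun E => IsAffineOpen (X := X) E ∧ E ≤ V)
    (fun E hE m => subsingleton_affine F hF hE.1 m) hD ⟨hV, le_rfl⟩ (isDat hcl)
    (fun x hx => (mem_Df f x).1 hx) (fun x hx i hi => (mem_cpl hcl x).2 fun _ => ⟨i, hi⟩)
    le_top le_top y hy
  obtain ⟨z, rfl⟩ := (s0 F (Df f)).surjective x
  exact ⟨z, hx⟩

end sg

end Groth.Agent.LoccohA.OmFrac
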