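import Groth.Agent.LoccohA.LichtMonic
import Groth.Agent.LoccohA.OmAlg

/-!
# The calculus of symbols (interface) and the value formula

`Symbols X F d`: symbols `[m; f_1, …, f_d] ∈ H^d(W, F)` for an affine open `V ≤ W`, `m ∈ Γ(F, V)` and functions `f_i`
on `V` whose zero locus is closed in `W`.

`BC`: compatibility with the base change `Y = X × 𝔸^d ⟶ X`.

From this data: the functional `tau` and the formula `rho_g (tau m) = t [m; g(T)]`.
-/

set_option autoImplicit false
universe u

open CategoryTheory AlgebraicGeometry CategoryTheory.Limits TopologicalSpace Opposite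

namespace Groth.Agent.LoccohA.OmIface526

open LichtClosed

/-- An abstract version of the functor `U ↦ H^d(U, F)` (for a top degree `d`). -/
structure Coho (X : Scheme.{u}) where
  /-- the groups. -/
  H : X.Opens → Type u
  /-- the group structure. -/
  grp : ∀ U, AddCommGroup (H U)
  /-- restriction. -/
  res : ∀ {U V : X.Opens}, U ≤ V → (H V →+ H U)
  res_self : ∀ (U : X.Opens) (y : H U), res le_rfl y = y
  res_res : ∀ {U V W : X.Opens} (h : U ≤ V) (h' : V ≤ W) (y : H W), res h (res h' y) = res (h.trans h') y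
  glue : ∀ (P Q : X.Opens) (a : H P) (b : H Q), res (inf_le_left : P ⊓ Q ≤ P) a = res (inf_le_right : P ⊓ Q ≤ Q) b →
    ∃ z : H (P ⊔ Q), res le_sup_left z = a ∧ res le_sup_right z = b

instance {X : Scheme.{u}} (C : Coho X) (U : X.Opens) : AddCommGroup (C.H U) := C.grp U

/-- every class vanishes outside of a finite set of closed points. -/
def Coho.FinCompl {X : Scheme.{u}} (C : Coho X) : Prop :=
  ∀ y : C.H ⊤, ∃ U : X.Opens, ((U : Set X)ᶜ).Finite ∧ (∀ x ∉ U, IsClosed ({x} : Set X)) ∧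
    C.res (le_top : U ≤ ⊤) y = 0

/-- the zero locus in `V` of functions `f i`. -/
def Z {X : Scheme.{u}} {d : ℕ} (V : X.Opens) (f : Fin d → Γ(X, V)) : Set X :=
  (V : Set X) \ ⋃ i, (X.basicOpen (f i) : Set X)

/-- `V` is an affine open of `W` and the zero locus of the `f i` is closed in `W`. -/
structure Cl {X : Scheme.{u}} {d : ℕ} (W V : X.Opens) (f : Fin d → Γ(X, V)) : Prop where
  aff : IsAffineOpen V
  le : V ≤ W
  isOpen : IsOpen ((W : Set X) \ Z V f)

/-- the complement of the zero locus. -/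
def Cl.compl {X : Scheme.{u}} {d : ℕ} {W V : X.Opens} {f : Fin d → Γ(X, V)} (h : Cl W V f) : X.Opens :=
  ⟨(W : Set X) \ Z V f, h.isOpen⟩

theorem Cl.compl_le {X : Scheme.{u}} {d : ℕ} {W V : X.Opens} {f : Fin d → Γ(X, V)} (h : Cl W V f) :
    h.compl ≤ W := fun _ hx => hx.1

/-- A calculus of symbols for a module `F`. -/
structure Symbols {X : Scheme.{u}} (C : Coho X) (F : X.Modules) (d : ℕ) where
  /-- the symbol `[m; f]` in `H^d(W, F)`. -/
  sym : ∀ (W V : X.Opens) (f : Fin d → Γ(X, V)), Cl W V f → (Γ(F, V) →+ C.H W)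
  sym_smul_self : ∀ (W V : X.Opens) (f : Fin d → Γ(X, V)) (h : Cl W V f) (i : Fin d) (m : Γ(F, V)),
    sym W V f h (f i • m) = 0
  sym_mul : ∀ (W V : X.Opens) (f q : Fin d → Γ(X, V)) (h : Cl W V f) (h' : Cl W V (fun i => f i * q i))
    (m : Γ(F, V)), sym W V (fun i => f i * q i) h' ((∏ i, q i) • m) = sym W V f h m
  sym_res : ∀ (W V W' V' : X.Opens) (f : Fin d → Γ(X, V)) (h : Cl W V f) (hW : W' ≤ W) (hV : V' ≤ V)
    (h' : Cl W' V' (fun i => X.presheaf.map (homOfLE hV).op (f i))) (_ : Z V f ∩ W' ⊆ V') (m : Γ(F, V)),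
    C.res hW (sym W V f h m) = sym W' V' _ h' (F.presheaf.map (homOfLE hV).op m)
  exists_sym : ∀ (W V : X.Opens) (f : Fin d → Γ(X, V)) (h : Cl W V f) (y : C.H W),
    C.res h.compl_le y = 0 →
      ∃ (e : ℕ) (h' : Cl W V (fun i => f i ^ e)) (m : Γ(F, V)), y = sym W V (fun i => f i ^ e) h' m

/-- Base change data for symbols along `p : Y = X × 𝔸^d ⟶ X`, for a functional `t`. -/
structure BC {k : Type u} [Field k] {d : ℕ} {X Y : Scheme.{u}} {C : Coho X} {C' : Coho Y} (F : X.Modules)
    (G : Y.Modules) (p : Y ⟶ X) (q : Y ⟶ Spec (CommRingCat.of (MvPolynomial (Fin d) k))) (SX : Symbols C F d)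
    (SY : Symbols C' G d)
    (t : C.H ⊤ →+ k) where
  /-- the functional over `Y`. -/
  tR : C'.H ⊤ →+ MvPolynomial (Fin d) k
  /-- pullback of sections. -/
  ps : ∀ V : X.Opens, Γ(F, V) →+ Γ(G, p ⁻¹ᵁ V)
  ps_smul : ∀ (V : X.Opens) (a : Γ(X, V)) (m : Γ(F, V)), ps V (a • m) = p.app V a • ps V m
  tR_smul : ∀ (V : Y.Opens) (f : Fin d → Γ(Y, V)) (h : Cl ⊤ V f) (r : MvPolynomial (Fin d) k) (m : Γ(G, V)),
    tR (SY.sym ⊤ V f h (toSec q V r • m)) = r * tR (SY.sym ⊤ V f h m)
  tR_ps : ∀ (V : X.Opens) (f : Fin d → Γ(X, V)) (h : Cl ⊤ V f) (h' : Cl ⊤ (p ⁻¹ᵁ V) (fun i => p.app V (f i)))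
    (m : Γ(F, V)), tR (SY.sym ⊤ (p ⁻¹ᵁ V) _ h' (ps V m)) = MvPolynomial.C (t (SX.sym ⊤ V f h m))

section Poly

open Polynomial

variable {k : Type u} [Field k]

/-- the coefficients of the divided difference of `g`. -/
noncomputable def co (g : k[X]) (j : ℕ) : k[X] := (Polynomial.divX)^[j + 1] g

theorem co_succ (g : k[X]) (j : ℕ) : co g (j + 1) = co g.divX j := rfl

theorem divided_difference {A : Type u} [CommRing A] (φ : k →+* A) (T s : A) (n : ℕ) (g : k[X]) (hn : g.natDegree ≤ n) :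
    g.eval₂ φ T - g.eval₂ φ s = (T - s) * ∑ j ∈ Finset.range n, s ^ j * (co g j).eval₂ φ T := by
  induction n generalizing g with
  | zero =>
    rw [Polynomial.eq_C_of_natDegree_le_zero hn]
    simp
  | succ n ih =>
    have hd : g.divX.natDegree ≤ n := by
      rw [Polynomial.natDegree_divX_eq_natDegree_tsub_one]
      omega
    have h1 := ih g.divX hd
    have h2 : ∀ x : A, g.eval₂ φ x = x * g.divX.eval₂ φ x + φ (g.coeff 0) := by
      intro x
      conv_lhs => rw [← Polynomial.X_mul_divX_add g]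
      rw [Polynomial.eval₂_add, Polynomial.eval₂_mul, Polynomial.eval₂_X, Polynomial.eval₂_C]
    rw [Finset.sum_range_succ', h2 T, h2 s]
    have h3 : ∀ j, co g (j + 1) = co g.divX j := co_succ g
    have h4 : co g 0 = g.divX := rfl
    rw [h4]
    simp only [h3, pow_succ, pow_zero, one_mul]
    have h5 : ∑ x ∈ Finset.range n, s ^ x * s * (co g.divX x).eval₂ φ T =
        s * ∑ x ∈ Finset.range n, s ^ x * (co g.divX x).eval₂ φ T := by
      rw [Finset.mul_sum]
      exact Finset.sum_congr rfl fun x _ => by ring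
    rw [h5]
    linear_combination s * h1

theorem co_monic (g : k[X]) (hg : g.Monic) (n : ℕ) (hn : g.natDegree = n + 1) : co g n = 1 := by
  induction n generalizing g with
  | zero =>
    have h1 : g.divX.natDegree = 0 := by
      rw [Polynomial.natDegree_divX_eq_natDegree_tsub_one, hn]
    have h2 : g.divX.coeff 0 = 1 := by
      rw [Polynomial.coeff_divX]
      rw [Polynomial.Monic, Polynomial.leadingCoeff, hn] at hg
      exact hg
    have h3 : co g 0 = g.divX := rfl
    rw [h3, Polynomial.eq_C_of_natDegree_eq_zero h1, h2, Polynomial.C_1]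
  | succ n ih =>
    rw [co_succ]
    have h1 : g.divX.natDegree = n + 1 := by
      rw [Polynomial.natDegree_divX_eq_natDegree_tsub_one, hn]
      omega
    apply ih _ _ h1
    rw [Polynomial.Monic, Polynomial.leadingCoeff, h1, Polynomial.coeff_divX]
    rw [Polynomial.Monic, Polynomial.leadingCoeff, hn] at hg
    exact hg

end Poly

/-! ### Charts -/

section Chart

variable {k : Type u} [Field k] {d : ℕ} {X Y : Scheme.{u}} (f : X ⟶ Spec (CommRingCat.of k)) (p : Y ⟶ X)
  (q : Y ⟶ Spec (CommRingCat.of (MvPolynomial (Fin d) k)))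

/-- the values of polynomials `P i ∈ k[s][X]` at the coordinates `T i`. -/
noncomputable def evP {V : X.Opens} (T : Fin d → Γ(X, V)) (P : Fin d → Polynomial (MvPolynomial (Fin d) k)) (i : Fin d) :
    Γ(Y, p ⁻¹ᵁ V) := (P i).eval₂ (toSec q (p ⁻¹ᵁ V)) (p.app V (T i))

/-- the values of polynomials `g i ∈ k[X]` at the coordinates `T i`. -/
noncomputable def ev {V : X.Opens} (T : Fin d → Γ(X, V)) (g : Fin d → Polynomial k) (i : Fin d) :
    Γ(X, V) := (g i).eval₂ (toSec f V) (T i)

/-- coordinates `T` on an affine open `V` such that the relevant zero loci are closed. -/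
structure Chart (V : X.Opens) (T : Fin d → Γ(X, V)) : Prop where
  aff : IsAffineOpen V
  aff' : IsAffineOpen (p ⁻¹ᵁ V)
  hcl : ∀ P : Fin d → Polynomial (MvPolynomial (Fin d) k), (∀ i, (P i).Monic) →
    IsClosed (Z (p ⁻¹ᵁ V) (evP p q T P))
  hcl₀ : ∀ g : Fin d → Polynomial k, (∀ i, (g i).Monic) → IsClosed (Z V (ev f T g))

variable {f p q}

theorem Chart.cl {V : X.Opens} {T : Fin d → Γ(X, V)} (h : Chart f p q V T)
    (P : Fin d → Polynomial (MvPolynomial (Fin d) k)) (hP : ∀ i, (P i).Monic) :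
    Cl ⊤ (p ⁻¹ᵁ V) (evP p q T P) :=
  ⟨h.aff', le_top, isOpen_univ.sdiff (h.hcl P hP)⟩

theorem Chart.cl₀ {V : X.Opens} {T : Fin d → Γ(X, V)} (h : Chart f p q V T)
    (g : Fin d → Polynomial k) (hg : ∀ i, (g i).Monic) :
    Cl ⊤ V (ev f T g) :=
  ⟨h.aff, le_top, isOpen_univ.sdiff (h.hcl₀ g hg)⟩

variable (d k) in
/-- the polynomials `X - s_i`. -/
noncomputable def Ps (i : Fin d) : Polynomial (MvPolynomial (Fin d) k) :=
  Polynomial.X - Polynomial.C (MvPolynomial.X i)

theorem Ps_monic (i : Fin d) : (Ps k d i).Monic := Polynomial.monic_X_sub_C _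

variable {C : Coho X} {C' : Coho Y} {F : X.Modules} {G : Y.Modules} {SX : Symbols C F d} {SY : Symbols C' G d}
  {t : C.H ⊤ →+ k} (D : BC F G p q SX SY t) {V : X.Opens} {T : Fin d → Γ(X, V)} (h : Chart f p q V T)

/-- the symbol functional. -/
noncomputable def tau : Γ(F, V) →+ MvPolynomial (Fin d) k :=
  D.tR.comp ((SY.sym ⊤ (p ⁻¹ᵁ V) (evP p q T (Ps k d)) (h.cl _ Ps_monic)).comp (D.ps V))

theorem tau_apply (m : Γ(F, V)) :
    tau D h m = D.tR (SY.sym ⊤ (p ⁻¹ᵁ V) (evP p q T (Ps k d)) (h.cl _ Ps_monic) (D.ps V m)) := rfl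

theorem evP_Ps (i : Fin d) : evP p q T (Ps k d) i = p.app V (T i) - toSec q (p ⁻¹ᵁ V) (MvPolynomial.X i) := by
  unfold evP Ps
  rw [Polynomial.eval₂_sub, Polynomial.eval₂_X, Polynomial.eval₂_C]

/-- `tau (T_i m) = s_i tau m`. -/
theorem tau_T (i : Fin d) (m : Γ(F, V)) : tau D h (T i • m) = MvPolynomial.X i * tau D h m := by
  rw [tau_apply, tau_apply, D.ps_smul, ← D.tR_smul, ← sub_eq_zero, ← map_sub, ← map_sub, ← sub_smul, ← evP_Ps,
    SY.sym_smul_self, map_zero]

/-- `tau` is `k`-linear. -/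
theorem tau_C (hw : p ≫ f = q ≫ Spec.map (CommRingCat.ofHom (algebraMap k (MvPolynomial (Fin d) k))))
    (a : k) (m : Γ(F, V)) : tau D h (toSec f V a • m) = MvPolynomial.C a * tau D h m := by
  rw [tau_apply, tau_apply, D.ps_smul, LichtChart.app_toSec f _ p q hw, D.tR_smul]
  rfl

theorem sym_congr {S : Scheme.{u}} {CS : Coho S} {M : S.Modules} (SS : Symbols CS M d) {W V : S.Opens} {f f' : Fin d → Γ(S, V)}
    (h : Cl W V f) (h' : Cl W V f') (hff' : f = f') (m : Γ(M, V)) : SS.sym W V f h m = SS.sym W V f' h' m := by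
  subst hff'
  rfl

/-- **the value formula**: modulo `g_i(s_i)`, `tau m` is the sum of the `s^x t [c_x(T) m; g(T)]`. -/
theorem tau_mod (hw : p ≫ f = q ≫ Spec.map (CommRingCat.ofHom (algebraMap k (MvPolynomial (Fin d) k))))
    (g : Fin d → Polynomial k) (hg : ∀ i, (g i).Monic) (hdeg : ∀ i, (g i).natDegree ≠ 0) (m : Γ(F, V)) :
    tau D h m - ∑ x ∈ Fintype.piFinset (fun i => Finset.range (g i).natDegree),
      MvPolynomial.monomial (Finsupp.equivFunOnFinite.symm x) (1 : k) *
        MvPolynomial.C (t (SX.sym ⊤ V (ev f T g) (h.cl₀ g hg) ((∏ i, (co (g i) (x i)).eval₂ (toSec f V) (T i)) • m))) ∈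
      Ideal.span (Set.range fun i => (g i).aeval (MvPolynomial.X i : MvPolynomial (Fin d) k)) := by
  classical
  set I := Ideal.span (Set.range fun i => (g i).aeval (MvPolynomial.X i : MvPolynomial (Fin d) k)) with hI
  set V' := p ⁻¹ᵁ V with hV'
  set φ : k →+* Γ(Y, V') := (p.app V).hom.comp (toSec f V) with hφ
  have hφ' : ∀ a : k, toSec q V' (MvPolynomial.C a) = φ a := by
    intro a
    exact (LichtChart.app_toSec f _ p q hw V a).symm
  set T' : Fin d → Γ(Y, V') := fun i => p.app V (T i) with hT'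
  set s : Fin d → Γ(Y, V') := fun i => toSec q V' (MvPolynomial.X i) with hs
  set Q : Fin d → Γ(Y, V') := fun i => ∑ j ∈ Finset.range (g i).natDegree, s i ^ j * (co (g i) j).eval₂ φ (T' i)
    with hQ
  set GG : Fin d → Γ(Y, V') := fun i => (g i).eval₂ φ (T' i) with hGG
  set γ : Fin d → Γ(Y, V') := fun i => toSec q V' ((g i).aeval (MvPolynomial.X i : MvPolynomial (Fin d) k)) with hγ
  have hγ' : ∀ i, γ i = (g i).eval₂ φ (s i) := by
    intro i
    rw [hγ]
    dsimp only
    rw [Polynomial.aeval_def, Polynomial.hom_eval₂]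
    congr 1
    ext a
    exact hφ' a
  have hdd : ∀ i, GG i - γ i = (T' i - s i) * Q i := by
    intro i
    rw [hγ']
    exact divided_difference φ (T' i) (s i) _ (g i) le_rfl
  -- the four families
  let P2 : Fin d → Polynomial (MvPolynomial (Fin d) k) := fun i =>
    (g i).map MvPolynomial.C - Polynomial.C ((g i).aeval (MvPolynomial.X i : MvPolynomial (Fin d) k))
  let P3 : Fin d → Polynomial (MvPolynomial (Fin d) k) := fun i => (g i).map MvPolynomial.C
  have hP3 : ∀ i, (P3 i).Monic := fun i => (hg i).map _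
  have hP2 : ∀ i, (P2 i).Monic := by
    intro i
    have hpos : 0 < (g i).natDegree := Nat.pos_of_ne_zero (hdeg i)
    rw [Polynomial.Monic.def, Polynomial.leadingCoeff_sub_of_degree_lt]
    · exact hP3 i
    · refine lt_of_le_of_lt Polynomial.degree_C_le ?_
      rw [(hg i).degree_map]
      exact Polynomial.natDegree_pos_iff_degree_pos.mp hpos
  let P4 : Fin d → Polynomial (MvPolynomial (Fin d) k) := fun i => P3 i * P2 i
  have hP4 : ∀ i, (P4 i).Monic := fun i => (hP3 i).mul (hP2 i)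
  have e3 : evP p q T P3 = GG := by
    funext i
    change Polynomial.eval₂ _ _ ((g i).map MvPolynomial.C) = _
    rw [Polynomial.eval₂_map]
    congr 1
    ext a
    exact hφ' a
  have e2 : evP p q T P2 = fun i => GG i - γ i := by
    funext i
    change Polynomial.eval₂ _ _ ((g i).map MvPolynomial.C - Polynomial.C _) = _
    rw [Polynomial.eval₂_sub, Polynomial.eval₂_C]
    congr 1
    exact congrFun e3 i
  have e4 : evP p q T P4 = fun i => GG i * (GG i - γ i) := by
    funext i
    change Polynomial.eval₂ _ _ (P3 i * P2 i) = _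
    rw [Polynomial.eval₂_mul]
    exact congrArg₂ (· * ·) (congrFun e3 i) (congrFun e2 i)
  have c1 := h.cl _ (Ps_monic (k := k) (d := d))
  have c2 := h.cl P2 hP2
  have c3 := h.cl P3 hP3
  have c4 := h.cl P4 hP4
  set w : Γ(G, V') := (∏ i, Q i) • D.ps V m with hw'
  -- (a)
  have ha : SY.sym ⊤ V' _ c1 (D.ps V m) = SY.sym ⊤ V' _ c2 w := by
    have hQ1 : (fun i => evP p q T (Ps k d) i * Q i) = evP p q T P2 := by
      rw [e2]
      funext i
      rw [evP_Ps, hdd]
    have c1' : Cl ⊤ V' (fun i => evP p q T (Ps k d) i * Q i) := by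
      rw [hQ1]
      exact c2
    rw [← SY.sym_mul ⊤ V' _ Q c1 c1' (D.ps V m)]
    exact sym_congr SY _ _ hQ1 _
  -- (b)
  have hb : SY.sym ⊤ V' _ c2 w = SY.sym ⊤ V' _ c4 ((∏ i, GG i) • w) := by
    have h1 : (fun i => evP p q T P2 i * GG i) = evP p q T P4 := by
      rw [e2, e4]
      funext i
      ring
    have c' : Cl ⊤ V' (fun i => evP p q T P2 i * GG i) := by
      rw [h1]
      exact c4
    rw [← SY.sym_mul ⊤ V' _ GG c2 c' w]
    exact sym_congr SY _ _ h1 _
  -- (c)
  have hc : SY.sym ⊤ V' _ c3 w = SY.sym ⊤ V' _ c4 ((∏ i, (GG i - γ i)) • w) := by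
    have h1 : (fun i => evP p q T P3 i * (GG i - γ i)) = evP p q T P4 := by
      rw [e3, e4]
    have c' : Cl ⊤ V' (fun i => evP p q T P3 i * (GG i - γ i)) := by
      rw [h1]
      exact c4
    rw [← SY.sym_mul ⊤ V' _ (fun i => GG i - γ i) c3 c' w]
    exact sym_congr SY _ _ h1 _
  -- (d)
  have hkill : ∀ x ∈ Ideal.span (Set.range γ), ∀ w' : Γ(G, V'), D.tR (SY.sym ⊤ V' _ c4 (x • w')) ∈ I := by
    intro x hx
    induction hx using Submodule.span_induction with
    | mem x hx =>
      intro w'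
      obtain ⟨i, rfl⟩ := hx
      rw [D.tR_smul, mul_comm]
      exact Ideal.mul_mem_left _ _ (Ideal.subset_span ⟨i, rfl⟩)
    | zero => intro w'; rw [zero_smul, map_zero, map_zero]; exact I.zero_mem
    | add x y _ _ hx hy => intro w'; rw [add_smul, map_add, map_add]; exact I.add_mem (hx w') (hy w')
    | smul a x hx' hx =>
      intro w'
      rw [smul_eq_mul, mul_comm, mul_smul]
      exact hx _
  have hsum : D.tR (SY.sym ⊤ V' _ c2 w) - D.tR (SY.sym ⊤ V' _ c3 w) ∈ I := by
    rw [hb, hc, ← map_sub, ← map_sub, ← sub_smul]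
    apply hkill
    rw [← Ideal.Quotient.eq, map_prod, map_prod]
    refine Finset.prod_congr rfl fun i _ => ?_
    rw [map_sub, eq_comm, sub_eq_self, Ideal.Quotient.eq_zero_iff_mem]
    exact Ideal.subset_span ⟨i, rfl⟩
  -- (e)
  set c' : (Fin d → ℕ) → Γ(X, V) := fun x => ∏ i, (co (g i) (x i)).eval₂ (toSec f V) (T i) with hc'
  have hcl3 : evP p q T P3 = fun i => p.app V (ev f T g i) := by
    rw [e3]
    funext i
    rw [hGG]
    dsimp only
    rw [hφ, ev, Polynomial.hom_eval₂]
  have c3' : Cl ⊤ V' (fun i => p.app V (ev f T g i)) := hcl3 ▸ c3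
  have hw2 : w = ∑ x ∈ Fintype.piFinset (fun i => Finset.range (g i).natDegree),
      toSec q V' (MvPolynomial.monomial (Finsupp.equivFunOnFinite.symm x) 1) • D.ps V (c' x • m) := by
    rw [hw', hQ, Finset.prod_univ_sum, Finset.sum_smul]
    refine Finset.sum_congr rfl fun x _ => ?_
    rw [D.ps_smul, ← mul_smul, Finset.prod_mul_distrib]
    congr 2
    · rw [MvPolynomial.monomial_eq, map_one, one_mul, Finsupp.prod_fintype _ _ (fun i => pow_zero _), map_prod]
      refine Finset.prod_congr rfl fun i _ => ?_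
      rw [map_pow]
      rfl
    · rw [hc', map_prod]
      refine Finset.prod_congr rfl fun i _ => ?_
      rw [Polynomial.hom_eval₂]
  have hval : D.tR (SY.sym ⊤ V' _ c3 w) = ∑ x ∈ Fintype.piFinset (fun i => Finset.range (g i).natDegree),
      MvPolynomial.monomial (Finsupp.equivFunOnFinite.symm x) (1 : k) *
        MvPolynomial.C (t (SX.sym ⊤ V (ev f T g) (h.cl₀ g hg) (c' x • m))) := by
    rw [hw2, map_sum, map_sum]
    refine Finset.sum_congr rfl fun x _ => ?_
    rw [D.tR_smul, sym_congr SY c3 c3' hcl3, D.tR_ps V (ev f T g) (h.cl₀ g hg) c3']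
  rw [tau_apply, ha]
  rw [hval] at hsum
  exact hsum

/-- if `t [c m; g(T)] = 0` for all `c` then `tau m` lies in the ideal generated by the `g_i(s_i)`. -/
theorem tau_mem (hw : p ≫ f = q ≫ Spec.map (CommRingCat.ofHom (algebraMap k (MvPolynomial (Fin d) k))))
    (g : Fin d → Polynomial k) (hg : ∀ i, (g i).Monic) (m : Γ(F, V))
    (hm : ∀ c : Γ(X, V), t (SX.sym ⊤ V (ev f T g) (h.cl₀ g hg) (c • m)) = 0) :
    tau D h m ∈ Ideal.span (Set.range fun i => (g i).aeval (MvPolynomial.X i : MvPolynomial (Fin d) k)) := by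
  by_cases hdeg : ∃ i, (g i).natDegree = 0
  · obtain ⟨i, hi⟩ := hdeg
    have hgi : g i = 1 := (hg i).natDegree_eq_zero.mp hi
    have h1 : (1 : MvPolynomial (Fin d) k) ∈
        Ideal.span (Set.range fun i => (g i).aeval (MvPolynomial.X i : MvPolynomial (Fin d) k)) :=
      Ideal.subset_span ⟨i, by dsimp only; rw [hgi, map_one]⟩
    rw [(Ideal.eq_top_iff_one _).mpr h1]
    trivial
  push Not at hdeg
  have h1 := tau_mod D h hw g hg hdeg m
  simpa only [hm, map_zero, mul_zero, Finset.sum_const_zero, sub_zero] using h1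

/-- **the value formula**, second form: if `tau m = 0` then `t [m; g(T)] = 0`. -/
theorem t_sym_eq_zero (hw : p ≫ f = q ≫ Spec.map (CommRingCat.ofHom (algebraMap k (MvPolynomial (Fin d) k))))
    (g : Fin d → Polynomial k) (hg : ∀ i, (g i).Monic) (m : Γ(F, V)) (hm : tau D h m = 0) :
    t (SX.sym ⊤ V (ev f T g) (h.cl₀ g hg) m) = 0 := by
  classical
  by_cases hdeg : ∃ i, (g i).natDegree = 0
  · obtain ⟨i, hi⟩ := hdeg
    have hgi : g i = 1 := (hg i).natDegree_eq_zero.mp hi
    have h3 := SX.sym_smul_self ⊤ V (ev f T g) (h.cl₀ g hg) i m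
    have h4 : ev f T g i = 1 := by
      unfold ev
      rw [hgi, Polynomial.eval₂_one]
    rw [h4, one_smul] at h3
    rw [h3, map_zero]
  push Not at hdeg
  obtain ⟨ρ, hρ, hρ'⟩ := OmAlg.exists_residue d g hg
  have hI : ∀ x ∈ Ideal.span (Set.range fun i => (g i).aeval (MvPolynomial.X i : MvPolynomial (Fin d) k)), ρ x = 0 := by
    intro x hx
    obtain ⟨c, rfl⟩ := (Ideal.mem_span_range_iff_exists_fun).mp hx
    rw [map_sum]
    exact Finset.sum_eq_zero fun i _ => hρ i _
  have h1 := hI _ (tau_mod D h hw g hg hdeg m)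
  rw [hm, zero_sub, map_neg, neg_eq_zero, map_sum] at h1
  let x₀ : Fin d → ℕ := fun i => (g i).natDegree - 1
  have hx₀ : x₀ ∈ Fintype.piFinset (fun i => Finset.range (g i).natDegree) := by
    rw [Fintype.mem_piFinset]
    intro i
    rw [Finset.mem_range]
    have := hdeg i
    change (g i).natDegree - 1 < _
    omega
  have h2 : ∀ (x : Fin d → ℕ) (a : k), ρ (MvPolynomial.monomial (Finsupp.equivFunOnFinite.symm x) (1 : k) *
      MvPolynomial.C a) = a * ρ (MvPolynomial.monomial (Finsupp.equivFunOnFinite.symm x) (1 : k)) := by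
    intro x a
    rw [mul_comm, ← MvPolynomial.smul_eq_C_mul, map_smul, smul_eq_mul]
  rw [Finset.sum_eq_single_of_mem x₀ hx₀, h2, hρ', if_pos, mul_one] at h1
  · have h3 : ∀ i, (co (g i) (x₀ i)).eval₂ (toSec f V) (T i) = 1 := by
      intro i
      have h4 : (g i).natDegree = (g i).natDegree - 1 + 1 := by
        have := hdeg i
        omega
      rw [co_monic (g i) (hg i) _ h4, Polynomial.eval₂_one]
    rwa [Finset.prod_congr rfl (fun i _ => h3 i), Finset.prod_const_one, one_smul] at h1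
  · intro i
    have := hdeg i
    change (g i).natDegree - 1 + 1 = _
    omega
  · intro i
    exact Finset.mem_range.mp (Fintype.mem_piFinset.mp hx₀ i)
  · intro x hx hne
    rw [h2, hρ', if_neg, mul_zero]
    · intro hcon
      apply hne
      funext i
      have h1 := hcon i
      have h2 : x i + 1 = (g i).natDegree := h1
      change x i = (g i).natDegree - 1
      omega
    · intro i
      exact Finset.mem_range.mp (Fintype.mem_piFinset.mp hx i)

end Chart

end Groth.Agent.LoccohA.OmIface526
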