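import Groth.Agent.LoccohA.OmBase

/-!
# Iterated Mayer-Vietoris symbols

Let `F` be an abelian sheaf on `X`, `V`, `Y'`, `D i` (`i : Fin (n+1)`) opens such that `Y' ⊓ V` is
covered by the `D i`.  Iterating Mayer-Vietoris connecting maps we get the *symbol*
`sym : H^0(I, F) →+ H^(n+1)(T, F)` for `V ⊓ ⨅ D i ≤ I` and `T ≤ Y' ⊔ V`.
-/

set_option autoImplicit false
universe u

open CategoryTheory Abelian Limits Opposite TopologicalSpace

noncomputable section

namespace Groth.Agent.LoccohA.OmSym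

open Groth.Agent.LoccohA.OmBase

variable {X : TopCat.{u}} (F : CohTop.Ab X)

/-! ### The flexible connecting map -/

section dl

variable (A B : Opens X) {I T : Opens X}

/-- The Mayer-Vietoris connecting map of `A`, `B`, precomposed and postcomposed with restrictions. -/
def dl (hI : A ⊓ B ≤ I) (hT : T ≤ A ⊔ B) (n : ℕ) : Hc F n I →+ Hc F (n + 1) T :=
  (res F (n + 1) hT).comp ((δ F A B n).comp (res F n hI))

theorem dl_apply (hI : A ⊓ B ≤ I) (hT : T ≤ A ⊔ B) (n : ℕ) (x : Hc F n I) :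
    dl F A B hI hT n x = res F (n + 1) hT (δ F A B n (res F n hI x)) := rfl

theorem dl_res {J : Opens X} (hJ : I ≤ J) (hI : A ⊓ B ≤ I) (hT : T ≤ A ⊔ B) (n : ℕ)
    (x : Hc F n J) :
    dl F A B hI hT n (res F n hJ x) = dl F A B (hI.trans hJ) hT n x := by
  rw [dl_apply, dl_apply, OmBase.res_res]

theorem res_dl {T' : Opens X} (hT' : T' ≤ T) (hI : A ⊓ B ≤ I) (hT : T ≤ A ⊔ B) (n : ℕ)
    (x : Hc F n I) :
    res F (n + 1) hT' (dl F A B hI hT n x) = dl F A B hI (hT'.trans hT) n x := by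
  rw [dl_apply, dl_apply, OmBase.res_res]

theorem dl_refine {A' B' : Opens X} (hA : A' ≤ A) (hB : B' ≤ B) (hI : A ⊓ B ≤ I)
    (hT : T ≤ A ⊔ B) (hI' : A' ⊓ B' ≤ I) (hT' : T ≤ A' ⊔ B') (n : ℕ) (x : Hc F n I) :
    dl F A B hI hT n x = dl F A' B' hI' hT' n x := by
  rw [dl_apply, dl_apply, ← OmBase.res_res F (n + 1) (sup_le_sup hA hB) hT',
    res_δ F hA hB, OmBase.res_res]

theorem dl_eq_zero_left (h : A ≤ I) (hI : A ⊓ B ≤ I) (hT : T ≤ A ⊔ B) (n : ℕ)
    (x : Hc F n I) : dl F A B hI hT n x = 0 := by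
  rw [dl_apply, ← OmBase.res_res F n h inf_le_left, δ_res_left, map_zero]

theorem dl_eq_zero_right (h : B ≤ I) (hI : A ⊓ B ≤ I) (hT : T ≤ A ⊔ B) (n : ℕ)
    (x : Hc F n I) : dl F A B hI hT n x = 0 := by
  rw [dl_apply, ← OmBase.res_res F n h inf_le_right, δ_res_right, map_zero]

theorem exists_dl (hI : I ≤ A ⊓ B) (hI' : A ⊓ B ≤ I) (hA : A ≤ T) (hB : B ≤ T)
    (hT : T ≤ A ⊔ B) (n : ℕ) (y : Hc F (n + 1) T)
    (hyA : res F (n + 1) hA y = 0) (hyB : res F (n + 1) hB y = 0) :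
    ∃ x : Hc F n I, dl F A B hI' hT n x = y := by
  obtain ⟨z, hz⟩ := exists_δ F _ _ n (res F (n + 1) (sup_le hA hB) y)
    (by rw [OmBase.res_res]; exact hyA) (by rw [OmBase.res_res]; exact hyB)
  refine ⟨res F n hI z, ?_⟩
  rw [dl_res, dl_apply, res_self, hz, OmBase.res_res, res_self]

end dl

/-! ### Iteration -/

/-- `D 0 ⊓ … ⊓ D (n-1) ⊓ E` -/
def inter (D : ℕ → Opens X) : ℕ → Opens X → Opens X
  | 0, E => E
  | n + 1, E => inter D n (D n ⊓ E)

/-- `(D 0 ⊔ … ⊔ D (n-1)) ⊓ E` -/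
def uni (D : ℕ → Opens X) : ℕ → Opens X → Opens X
  | 0, _ => ⊥
  | n + 1, E => uni D n E ⊔ (D n ⊓ E)

variable (D : ℕ → Opens X)

theorem mem_inter {n : ℕ} {E : Opens X} {x : X} :
    x ∈ inter D n E ↔ x ∈ E ∧ ∀ i < n, x ∈ D i := by
  induction n generalizing E with
  | zero => simp [inter]
  | succ n ih =>
    rw [inter, ih]
    constructor
    · rintro ⟨⟨h1, h2⟩, h3⟩
      refine ⟨h2, fun i hi => ?_⟩
      rcases Nat.lt_succ_iff_lt_or_eq.1 hi with h | rfl
      · exact h3 i h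
      · exact h1
    · rintro ⟨h1, h2⟩
      exact ⟨⟨h2 n (Nat.lt_succ_self n), h1⟩, fun i hi => h2 i (hi.trans (Nat.lt_succ_self n))⟩

theorem mem_uni {n : ℕ} {E : Opens X} {x : X} :
    x ∈ uni D n E ↔ x ∈ E ∧ ∃ i < n, x ∈ D i := by
  induction n with
  | zero => simp [uni]
  | succ n ih =>
    rw [uni]
    constructor
    · rintro (h | h)
      · obtain ⟨h1, i, hi, h2⟩ := ih.1 h
        exact ⟨h1, i, hi.trans (Nat.lt_succ_self n), h2⟩
      · exact ⟨h.2, n, Nat.lt_succ_self n, h.1⟩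
    · rintro ⟨h1, i, hi, h2⟩
      rcases Nat.lt_succ_iff_lt_or_eq.1 hi with h | rfl
      · exact Or.inl (ih.2 ⟨h1, i, h, h2⟩)
      · exact Or.inr ⟨h2, h1⟩

theorem inter_mono {D' : ℕ → Opens X} (h : ∀ i, D' i ≤ D i) (n : ℕ) {E E' : Opens X}
    (hE : E' ≤ E) : inter D' n E' ≤ inter D n E := fun x hx => by
  rw [mem_inter] at hx ⊢
  exact ⟨hE hx.1, fun i hi => h i (hx.2 i hi)⟩

theorem uni_mono {D' : ℕ → Opens X} (h : ∀ i, D' i ≤ D i) (n : ℕ) {E E' : Opens X}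
    (hE : E' ≤ E) : uni D' n E' ≤ uni D n E := fun x hx => by
  rw [mem_uni] at hx ⊢
  obtain ⟨h1, i, hi, h2⟩ := hx
  exact ⟨hE h1, i, hi, h i h2⟩

theorem uni_inf_le (n : ℕ) (B E : Opens X) : uni D n E ⊓ B ≤ uni D n B := fun x hx => by
  obtain ⟨h1, h2⟩ := hx
  have := (mem_uni D).1 h1
  exact (mem_uni D).2 ⟨h2, this.2⟩

theorem uni_one_le (E : Opens X) : uni D 1 E ≤ inter D 1 E := fun x hx => by
  obtain ⟨h1, i, hi, h2⟩ := (mem_uni D).1 hx
  refine (mem_inter D).2 ⟨h1, fun j hj => ?_⟩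
  obtain rfl : i = 0 := by omega
  obtain rfl : j = 0 := by omega
  exact h2

/-- The iterated connecting map `H^0(D 0 ⊓ … ⊓ D n ⊓ E) ⟶ H^n((D 0 ⊔ … ⊔ D n) ⊓ E)`. -/
def kap : (n : ℕ) → (E : Opens X) →
    Hc F 0 (inter D (n + 1) E) →+ Hc F n (uni D (n + 1) E)
  | 0, E => res F 0 (uni_one_le D E)
  | n + 1, E => (dl F (uni D (n + 1) E) (D (n + 1) ⊓ E) (uni_inf_le D (n + 1) _ E)
      (le_refl (uni D (n + 2) E)) n).comp (kap n (D (n + 1) ⊓ E))

theorem kap_zero (E : Opens X) (x : Hc F 0 (inter D 1 E)) :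
    kap F D 0 E x = res F 0 (uni_one_le D E) x := rfl

theorem kap_succ (n : ℕ) (E : Opens X) (x : Hc F 0 (inter D (n + 2) E)) :
    kap F D (n + 1) E x = dl F (uni D (n + 1) E) (D (n + 1) ⊓ E) (uni_inf_le D (n + 1) _ E)
      (le_refl (uni D (n + 2) E)) n (kap F D n (D (n + 1) ⊓ E) x) := rfl

theorem res_kap {D' : ℕ → Opens X} (h : ∀ i, D' i ≤ D i) (n : ℕ) {E E' : Opens X}
    (hE : E' ≤ E) (x : Hc F 0 (inter D (n + 1) E)) :
    res F n (uni_mono D h (n + 1) hE) (kap F D n E x) =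
      kap F D' n E' (res F 0 (inter_mono D h (n + 1) hE) x) := by
  induction n generalizing E E' with
  | zero => rw [kap_zero, kap_zero, OmBase.res_res, OmBase.res_res]
  | succ n ih =>
    rw [kap_succ, kap_succ, res_dl]
    have hB : D' (n + 1) ⊓ E' ≤ D (n + 1) ⊓ E := inf_le_inf (h _) hE
    have h1 := ih hB x
    refine Eq.trans ?_ (congrArg _ h1)
    rw [dl_res]
    exact dl_refine F _ _ (uni_mono D h (n + 1) hE) hB _ _ _ _ n _

/-- If `x` extends across `D i`, then its symbol is the restriction of a class on `E`. -/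
theorem exists_kap_eq_res (n : ℕ) (E : Opens X) {i : ℕ} (hi : i < n + 1)
    (x : Hc F 0 (inter (Function.update D i ⊤) (n + 1) E)) :
    ∃ (hE : uni D (n + 1) E ≤ E) (hD : inter D (n + 1) E ≤ inter (Function.update D i ⊤) (n + 1) E)
      (z : Hc F n E),
      kap F D n E (res F 0 hD x) = res F n hE z := by
  have h : ∀ j, D j ≤ Function.update D i ⊤ j := fun j => by
    by_cases hj : j = i
    · subst hj
      simp
    · simp [hj]
  have hE : E ≤ uni (Function.update D i ⊤) (n + 1) E := fun y hy =>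
    (mem_uni _).2 ⟨hy, i, hi, by simp⟩
  refine ⟨fun y hy => ((mem_uni _).1 hy).1, inter_mono _ h _ le_rfl,
    res F n hE (kap F (Function.update D i ⊤) n E x), ?_⟩
  rw [← res_kap F (Function.update D i ⊤) h n le_rfl, OmBase.res_res]

/-! ### Surjectivity -/

section surj

variable (P : Opens X → Prop) (hP : ∀ E, P E → ∀ n, Subsingleton (Hc F (n + 1) E))
  (hD : ∀ E, P E → ∀ i, P (D i ⊓ E))

include hP hD in
theorem subsingleton_uni (n : ℕ) (E : Opens X) (hE : P E) (m : ℕ) (hm : n ≤ m) :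
    Subsingleton (Hc F m (uni D n E)) := by
  induction n generalizing E m with
  | zero => exact subsingleton_bot F m
  | succ n ih =>
    obtain ⟨m, rfl⟩ : ∃ m', m = m' + 1 := ⟨m - 1, by omega⟩
    have h1 : Subsingleton (Hc F m (uni D n (D n ⊓ E))) := ih _ (hD E hE n) m (by omega)
    have h2 : Subsingleton (Hc F (m + 1) (uni D n E)) := ih _ hE _ (by omega)
    have h3 : Subsingleton (Hc F (m + 1) (D n ⊓ E)) := hP _ (hD E hE n) m
    have e : uni D n E ⊓ (D n ⊓ E) = uni D n (D n ⊓ E) := by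
      ext x
      constructor
      · intro hx
        exact uni_inf_le D n _ E hx
      · intro hx
        have := (mem_uni D).1 hx
        exact ⟨(mem_uni D).2 ⟨this.1.2, this.2⟩, this.1⟩
    refine subsingleton_sup F (uni D n E) (D n ⊓ E) m ?_ h2 h3
    rw [e]
    exact h1

include hP hD in
theorem kap_surjective (n : ℕ) (E : Opens X) (hE : P E) : Function.Surjective (kap F D n E) := by
  induction n generalizing E with
  | zero =>
    intro y
    have h : inter D 1 E ≤ uni D 1 E := fun x hx => by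
      have := (mem_inter D).1 hx
      exact (mem_uni D).2 ⟨this.1, 0, by omega, this.2 0 (by omega)⟩
    refine ⟨res F 0 h y, ?_⟩
    rw [kap_zero, OmBase.res_res, res_self]
  | succ n ih =>
    intro y
    have h2 : Subsingleton (Hc F (n + 1) (uni D (n + 1) E)) :=
      subsingleton_uni F D P hP hD (n + 1) E hE _ le_rfl
    have h3 : Subsingleton (Hc F (n + 1) (D (n + 1) ⊓ E)) := hP _ (hD E hE _) n
    have h4 : uni D (n + 1) (D (n + 1) ⊓ E) ≤ uni D (n + 1) E ⊓ (D (n + 1) ⊓ E) := fun x hx => by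
      have := (mem_uni D).1 hx
      exact ⟨(mem_uni D).2 ⟨this.1.2, this.2⟩, this.1⟩
    obtain ⟨z, hz⟩ := exists_dl F (uni D (n + 1) E) (D (n + 1) ⊓ E) h4
      (uni_inf_le D (n + 1) _ E) (T := uni D (n + 2) E) le_sup_left le_sup_right
      (le_refl (uni D (n + 2) E)) n y (Subsingleton.elim _ _) (Subsingleton.elim _ _)
    obtain ⟨x, rfl⟩ := ih _ (hD E hE (n + 1)) z
    exact ⟨x, hz⟩

end surj

/-! ### Functoriality -/

section map

variable {F} {G : CohTop.Ab X} (φ : F ⟶ G)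

theorem map_dl (A B : Opens X) {I T : Opens X} (hI : A ⊓ B ≤ I) (hT : T ≤ A ⊔ B) (n : ℕ)
    (x : Hc F n I) :
    map φ (n + 1) T (dl F A B hI hT n x) = dl G A B hI hT n (map φ n I x) := by
  rw [dl_apply, dl_apply, map_res, map_δ, map_res]

theorem map_kap (n : ℕ) (E : Opens X) (x : Hc F 0 (inter D (n + 1) E)) :
    map φ n (uni D (n + 1) E) (kap F D n E x) =
      kap G D n E (map φ 0 (inter D (n + 1) E) x) := by
  induction n generalizing E with
  | zero => rw [kap_zero, kap_zero, map_res]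
  | succ n ih =>
    rw [kap_succ, kap_succ, map_dl, ih]
    rfl

end map

/-! ### The symbol -/

section sym

variable {n : ℕ}

/-- Extend a finite family of opens by `⊤`. -/
def ext (D : Fin (n + 1) → Opens X) : ℕ → Opens X :=
  fun i => if h : i < n + 1 then D ⟨i, h⟩ else ⊤

theorem ext_mk (D : Fin (n + 1) → Opens X) (i : ℕ) (h : i < n + 1) : ext D i = D ⟨i, h⟩ := by
  rw [ext, dif_pos h]

theorem ext_mono {D D' : Fin (n + 1) → Opens X} (h : ∀ i, D' i ≤ D i) (i : ℕ) :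
    ext D' i ≤ ext D i := by
  by_cases hi : i < n + 1
  · rw [ext_mk _ _ hi, ext_mk _ _ hi]
    exact h _
  · simp [ext, hi]

/-- The hypotheses on the opens needed to define the symbol `H^0(I) ⟶ H^(n+1)(T)`. -/
structure IsDat (D : Fin (n + 1) → Opens X) (V Y' I T : Opens X) : Prop where
  mem_I : ∀ x ∈ V, (∀ i, x ∈ D i) → x ∈ I
  mem_D : ∀ x ∈ Y', x ∈ V → ∃ i, x ∈ D i
  mem_T : ∀ x ∈ T, x ∈ Y' ∨ x ∈ V

variable {D : Fin (n + 1) → Opens X} {V Y' I T : Opens X}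

theorem IsDat.le_I (h : IsDat D V Y' I T) : inter (ext D) (n + 1) V ≤ I := fun x hx => by
  have := (mem_inter _).1 hx
  refine h.mem_I x this.1 fun i => ?_
  have h1 := this.2 i i.2
  rwa [ext_mk _ _ i.2] at h1

theorem IsDat.le_uni (h : IsDat D V Y' I T) : Y' ⊓ V ≤ uni (ext D) (n + 1) V := fun x hx => by
  obtain ⟨i, hi⟩ := h.mem_D x hx.1 hx.2
  exact (mem_uni _).2 ⟨hx.2, i, i.2, by rwa [ext_mk _ _ i.2]⟩

theorem IsDat.le_T (h : IsDat D V Y' I T) : T ≤ Y' ⊔ V := fun x hx => h.mem_T x hx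

/-- The symbol. -/
def sym (h : IsDat D V Y' I T) : Hc F 0 I →+ Hc F (n + 1) T :=
  (dl F Y' V h.le_uni h.le_T n).comp ((kap F (ext D) n V).comp (res F 0 h.le_I))

theorem sym_apply (h : IsDat D V Y' I T) (x : Hc F 0 I) :
    sym F h x = dl F Y' V h.le_uni h.le_T n (kap F (ext D) n V (res F 0 h.le_I x)) := rfl

theorem sym_res (h : IsDat D V Y' I T) {J : Opens X} (hJ : I ≤ J) (h' : IsDat D V Y' J T)
    (x : Hc F 0 J) : sym F h (res F 0 hJ x) = sym F h' x := by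
  rw [sym_apply, sym_apply, OmBase.res_res]

theorem res_sym (h : IsDat D V Y' I T) {T' : Opens X} (hT : T' ≤ T) (h' : IsDat D V Y' I T')
    (x : Hc F 0 I) : res F (n + 1) hT (sym F h x) = sym F h' x := by
  rw [sym_apply, sym_apply, res_dl]

theorem sym_refine {D' : Fin (n + 1) → Opens X} {V' Y'' : Opens X} (h : IsDat D V Y' I T)
    (h' : IsDat D' V' Y'' I T) (hD : ∀ i, D' i ≤ D i) (hV : V' ≤ V) (hY : Y'' ≤ Y')
    (x : Hc F 0 I) : sym F h x = sym F h' x := by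
  have h1 : Y'' ⊓ V' ≤ uni (ext D) (n + 1) V := (inf_le_inf hY hV).trans h.le_uni
  rw [sym_apply, sym_apply, dl_refine F Y' V hY hV h.le_uni h.le_T h1 h'.le_T]
  rw [← dl_res F Y'' V' (uni_mono (ext D) (ext_mono hD) (n + 1) hV) h'.le_uni h'.le_T,
    res_kap F (ext D) (ext_mono hD) n hV, OmBase.res_res]

theorem sym_eq_zero (h : IsDat D V Y' I T) (i : Fin (n + 1))
    (hi : ∀ x ∈ V, (∀ j, j ≠ i → x ∈ D j) → x ∈ I) (x : Hc F 0 I) : sym F h x = 0 := by
  have hI : inter (Function.update (ext D) i ⊤) (n + 1) V ≤ I := fun y hy => by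
    have h1 := (mem_inter _).1 hy
    refine hi y h1.1 fun j hj => ?_
    have h2 := h1.2 j j.2
    rwa [Function.update_of_ne (fun h => hj (Fin.ext h)), ext_mk _ _ j.2] at h2
  obtain ⟨hE, hD, z, hz⟩ := exists_kap_eq_res F (ext D) n V i.2 (res F 0 hI x)
  rw [OmBase.res_res] at hz
  rw [sym_apply, hz, dl_res]
  exact dl_eq_zero_right F Y' V le_rfl _ _ n z

theorem map_sym {G : CohTop.Ab X} (φ : F ⟶ G) (h : IsDat D V Y' I T) (x : Hc F 0 I) :
    map φ (n + 1) T (sym F h x) = sym G h (map φ 0 I x) := by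
  rw [sym_apply, sym_apply, map_dl, map_kap, map_res]

/-- Classes on `T = Y' ⊔ V` which vanish on `Y'` are symbols, under acyclicity assumptions. -/
theorem exists_sym (P : Opens X → Prop)
    (hP : ∀ E, P E → ∀ n, Subsingleton (Hc F (n + 1) E))
    (hD : ∀ E, P E → ∀ i, P (ext D i ⊓ E)) (hPV : P V)
    (h : IsDat D V Y' I T) (hI : ∀ x ∈ I, x ∈ V ∧ ∀ i, x ∈ D i)
    (hDY : ∀ x ∈ V, ∀ i, x ∈ D i → x ∈ Y') (hY : Y' ≤ T) (hV : V ≤ T)
    (y : Hc F (n + 1) T) (hy : res F (n + 1) hY y = 0) :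
    ∃ x, sym F h x = y := by
  have h1 : uni (ext D) (n + 1) V ≤ Y' ⊓ V := fun x hx => by
    obtain ⟨hx, i, hi, h2⟩ := (mem_uni _).1 hx
    rw [ext_mk _ _ hi] at h2
    exact ⟨hDY x hx _ h2, hx⟩
  have h2 : Subsingleton (Hc F (n + 1) V) := hP V hPV n
  obtain ⟨z, hz⟩ := exists_dl F Y' V h1 h.le_uni hY hV h.le_T n y hy (Subsingleton.elim _ _)
  obtain ⟨w, hw⟩ := kap_surjective F (ext D) P hP hD n V hPV z
  have h3 : I ≤ inter (ext D) (n + 1) V := fun x hx =>
    (mem_inter _).2 ⟨(hI x hx).1, fun i hi => by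
      rw [ext_mk _ _ hi]
      exact (hI x hx).2 _⟩
  refine ⟨res F 0 h3 w, ?_⟩
  rw [sym_apply, OmBase.res_res, res_self, hw, hz]

end sym

end Groth.Agent.LoccohA.OmSym
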