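import Groth.Agent.LoccohA.OmEdge
import Groth.Agent.LoccohA.OmSym

/-!
# Pullback of symbols
-/

set_option autoImplicit false
universe u

open CategoryTheory Abelian Limits Opposite TopologicalSpace

namespace Groth.Agent.LoccohA.OmPb526

open Groth.Agent.LoccohA.OmBase Groth.Agent.LoccohA.OmEdge Groth.Agent.LoccohA.OmSym

variable {X Y : TopCat.{u}} (f : Y ⟶ X) {F : CohTop.Ab X} {G : CohTop.Ab Y} (θ : F ⟶ (CohTop.push f).obj G)

theorem pb_dl (A B : Opens X) {I T : Opens X} (hI : A ⊓ B ≤ I) (hT : T ≤ A ⊔ B)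
    (hI' : (Opens.map f).obj A ⊓ (Opens.map f).obj B ≤ (Opens.map f).obj I)
    (hT' : (Opens.map f).obj T ≤ (Opens.map f).obj A ⊔ (Opens.map f).obj B) (n : ℕ) (x : Hc F n I) :
    pb f θ (n + 1) T (dl F A B hI hT n x) =
      dl G ((Opens.map f).obj A) ((Opens.map f).obj B) hI' hT' n (pb f θ n I x) := by
  rw [dl_apply, pb_res, pb_δ, pb_res]
  rfl

theorem pb_kap (D : ℕ → Opens X) (D' : ℕ → Opens Y) (hD : ∀ i, D' i ≤ (Opens.map f).obj (D i)) (n : ℕ)
    {E : Opens X} {E' : Opens Y} (hE : E' ≤ (Opens.map f).obj E) (x : Hc F 0 (inter D (n + 1) E))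
    (h1 : uni D' (n + 1) E' ≤ (Opens.map f).obj (uni D (n + 1) E))
    (h2 : inter D' (n + 1) E' ≤ (Opens.map f).obj (inter D (n + 1) E)) :
    res G n h1 (pb f θ n _ (kap F D n E x)) = kap G D' n E' (res G 0 h2 (pb f θ 0 _ x)) := by
  induction n generalizing E E' with
  | zero => rw [kap_zero, kap_zero, pb_res, OmBase.res_res, OmBase.res_res]
  | succ n ih =>
    have hE1 : D' (n + 1) ⊓ E' ≤ (Opens.map f).obj (D (n + 1) ⊓ E) := inf_le_inf (hD _) hE
    have h3 : uni D' (n + 1) (D' (n + 1) ⊓ E') ≤ (Opens.map f).obj (uni D (n + 1) (D (n + 1) ⊓ E)) := by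
      intro y hy
      obtain ⟨h4, i, hi, h5⟩ := (mem_uni D').1 hy
      exact (mem_uni D).2 ⟨hE1 h4, i, hi, hD i h5⟩
    have h6 : uni D' (n + 1) E' ≤ (Opens.map f).obj (uni D (n + 1) E) := by
      intro y hy
      obtain ⟨h4, i, hi, h5⟩ := (mem_uni D').1 hy
      exact (mem_uni D).2 ⟨hE h4, i, hi, hD i h5⟩
    have hI' : (Opens.map f).obj (uni D (n + 1) E) ⊓ (Opens.map f).obj (D (n + 1) ⊓ E) ≤
        (Opens.map f).obj (uni D (n + 1) (D (n + 1) ⊓ E)) := fun y hy =>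
      uni_inf_le D (n + 1) (D (n + 1) ⊓ E) E hy
    have hT' : (Opens.map f).obj (uni D (n + 2) E) ≤
        (Opens.map f).obj (uni D (n + 1) E) ⊔ (Opens.map f).obj (D (n + 1) ⊓ E) := fun y hy => hy
    rw [kap_succ, kap_succ, pb_dl f θ _ _ _ _ hI' hT', res_dl]
    have h7 := ih hE1 x h3 h2
    refine Eq.trans ?_ (congrArg _ h7)
    rw [dl_res]
    exact dl_refine G _ _ h6 hE1 _ _ _ _ n _

variable {n : ℕ} {D : Fin (n + 1) → Opens X} {V Y' I T : Opens X}
  {D' : Fin (n + 1) → Opens Y} {V' Y'' I' T' : Opens Y}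

/-- pullback of symbols. -/
theorem pb_sym (h : IsDat D V Y' I T) (h' : IsDat D' V' Y'' I' T') (hD : ∀ i, D' i ≤ (Opens.map f).obj (D i))
    (hV : V' ≤ (Opens.map f).obj V) (hY : Y'' ≤ (Opens.map f).obj Y') (hI : I' ≤ (Opens.map f).obj I)
    (hT : T' ≤ (Opens.map f).obj T) (x : Hc F 0 I) :
    res G (n + 1) hT (pb f θ (n + 1) T (sym F h x)) = sym G h' (res G 0 hI (pb f θ 0 I x)) := by
  have hDe : ∀ i, ext D' i ≤ (Opens.map f).obj (ext D i) := by
    intro i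
    by_cases hi : i < n + 1
    · rw [ext_mk _ _ hi, ext_mk _ _ hi]
      exact hD _
    · simp only [ext, hi, dif_neg, not_false_eq_true]
      exact fun _ _ => trivial
  have h1 : uni (ext D') (n + 1) V' ≤ (Opens.map f).obj (uni (ext D) (n + 1) V) := by
    intro y hy
    obtain ⟨h4, i, hi, h5⟩ := (mem_uni _).1 hy
    exact (mem_uni (ext D)).2 ⟨hV h4, i, hi, hDe i h5⟩
  have h2 : inter (ext D') (n + 1) V' ≤ (Opens.map f).obj (inter (ext D) (n + 1) V) := by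
    intro y hy
    obtain ⟨h4, h5⟩ := (mem_inter _).1 hy
    exact (mem_inter (ext D)).2 ⟨hV h4, fun i hi => hDe i (h5 i hi)⟩
  have hI' : (Opens.map f).obj Y' ⊓ (Opens.map f).obj V ≤ (Opens.map f).obj (uni (ext D) (n + 1) V) :=
    fun y hy => h.le_uni hy
  have hT' : (Opens.map f).obj T ≤ (Opens.map f).obj Y' ⊔ (Opens.map f).obj V := fun y hy => h.le_T hy
  have h3 := pb_kap f θ (ext D) (ext D') hDe n hV (res F 0 h.le_I x) h1 h2
  rw [sym_apply, sym_apply, pb_dl f θ _ _ _ _ hI' hT', res_dl]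
  rw [pb_res, OmBase.res_res] at h3
  rw [OmBase.res_res, ← h3, dl_res]
  exact dl_refine G _ _ hY hV _ _ _ _ n _

end Groth.Agent.LoccohA.OmPb526
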