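import Groth.Agent.LoccohA.OmPb526
import Groth.Agent.LoccohA.OmDefs

/-!
# Pullback of symbols on schemes
-/

set_option autoImplicit false
universe u

open CategoryTheory AlgebraicGeometry TopologicalSpace Opposite

noncomputable section

namespace Groth.Agent.LoccohA.OmPb

open Groth.Agent.LoccohA.OmBase Groth.Agent.LoccohA.OmSym Groth.Agent.LoccohA.OmEdge
open Groth.Agent.LoccohA.OmFrac Groth.Agent.LoccohA.OmDefs
open Groth.Agent.Ega1

variable {X Y : Scheme.{u}} (p : Y ⟶ X) (F : X.Modules) (G : Y.Modules)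
    (θ : Coh.toAb F ⟶ (Coh.pushAb p).obj (Coh.toAb G))

theorem pb_s0 (U : X.Opens) (z : Γ(F, U)) :
    pb (X := X.toTopCat) (Y := Y.toTopCat) p.base θ 0 U (s0 F U z) =
      s0 G (p ⁻¹ᵁ U) (θ.hom.app (op U) z) := by
  apply (h0 (X := Y.toTopCat) (Coh.toAb G) (p ⁻¹ᵁ U)).injective
  refine (pb_h0 (X := X.toTopCat) (Y := Y.toTopCat) p.base θ U _).trans ?_
  exact (congrArg (θ.hom.app (op U)) ((h0 (X := X.toTopCat) (Coh.toAb F) U).apply_symm_apply _)).trans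
    ((h0 (X := Y.toTopCat) (Coh.toAb G) (p ⁻¹ᵁ U)).apply_symm_apply _).symm

/-- symbols and pullback -/
theorem pb_sg {V : X.Opens} {n : ℕ} (f : Fin (n + 1) → Γ(X, V))
    (hcl : IsClosed (zl f)) (hcl' : IsClosed (zl (fun i => p.app V (f i))))
    (hle : Df (fun i => p.app V (f i)) ≤ p ⁻¹ᵁ (Df f)) (z : Γ(F, Df f)) :
    pb (X := X.toTopCat) (Y := Y.toTopCat) p.base θ (n + 1) ⊤ (sg F hcl z) =
      sg G hcl' (QCohLoc.res G hle (θ.hom.app (op (Df f)) z)) := by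
  have hD : ∀ i, (Y.basicOpen (p.app V (f i)) : Y.Opens) ≤ p ⁻¹ᵁ X.basicOpen (f i) := fun i => by
    rw [Scheme.preimage_basicOpen]
  have hY : cpl hcl' ≤ p ⁻¹ᵁ (cpl hcl) := fun y hy => by
    refine (mem_cpl hcl _).2 fun hV => ?_
    obtain ⟨i, hi⟩ := (mem_cpl hcl' y).1 hy hV
    exact ⟨i, hD i hi⟩
  have h := OmPb526.pb_sym (X := X.toTopCat) (Y := Y.toTopCat) p.base θ (isDat hcl) (isDat hcl')
    hD (le_refl (p ⁻¹ᵁ V)) hY hle (le_top : ⊤ ≤ p ⁻¹ᵁ ⊤) (s0 F (Df f) z)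
  rw [sg_apply, sg_apply, s0_res, ← pb_s0]
  refine Eq.trans ?_ h
  exact (OmBase.res_self (X := Y.toTopCat) (Coh.toAb G) (n + 1) _ _).symm

end Groth.Agent.LoccohA.OmPb
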