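import Groth.Agent.LoccohA.OmTauGen
import Groth.Agent.LoccohA.OmBC
import Groth.Agent.LoccohA.OmFinCl

/-!
# The residue functional `τ : Γ(F, V) → k[s_0, …, s_n]` attached to a functional on `H^(n+1)(X, F)`
-/

set_option autoImplicit false
universe u

open CategoryTheory AlgebraicGeometry TopologicalSpace Opposite

noncomputable section

namespace Groth.Agent.LoccohA.OmTau

open Groth.Agent.LoccohA.OmBase Groth.Agent.LoccohA.OmEdge
open Groth.Agent.LoccohA.OmFrac Groth.Agent.LoccohA.OmDefs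
open Groth.Agent.Ega1

/-- Compatibility of constants. -/
theorem app_kSec {k : Type u} [CommRing k] {n : ℕ} {X Y : Scheme.{u}}
    (f : X ⟶ Spec (CommRingCat.of k)) (p : Y ⟶ X)
    (q : Y ⟶ Spec (CommRingCat.of (MvPolynomial (Fin (n + 1)) k)))
    (w : p ≫ f = q ≫ Spec.map (CommRingCat.ofHom (algebraMap k (MvPolynomial (Fin (n + 1)) k))))
    (V : X.Opens) (c : k) :
    p.app V (kSec f V c) = kSec q (p ⁻¹ᵁ V) (MvPolynomial.C c) :=
  OmFinCl.toGlobal_pullback f p q w V c

/-- Existence of the residue functional. -/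
theorem exists_tau {k : Type u} [Field k] (n : ℕ) {X Y : Scheme.{u}} [CompactSpace X]
    [QuasiSeparatedSpace X] (f : X ⟶ Spec (CommRingCat.of k)) (p : Y ⟶ X)
    (q : Y ⟶ Spec (CommRingCat.of (MvPolynomial (Fin (n + 1)) k)))
    (H : IsPullback p q f
      (Spec.map (CommRingCat.ofHom (algebraMap k (MvPolynomial (Fin (n + 1)) k)))))
    (F : X.Modules) (hF : Coh.IsQCoh F) (t : Hc (X := X.toTopCat) (Coh.toAb F) (n + 1) ⊤ →+ k)
    (ht : ∀ (c : k) x,
      t (map (X := X.toTopCat) (Coh.smulAb F (Coh.toGlobal f c)) (n + 1) ⊤ x) = c * t x)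
    {V : X.Opens} (T : Fin (n + 1) → Γ(X, V))
    (hclR : ∀ P : Fin (n + 1) → Polynomial (MvPolynomial (Fin (n + 1)) k), (∀ i, (P i).Monic) →
      IsClosed (zl (gT q (fun i => p.app V (T i)) P)))
    (hclX : ∀ g : Fin (n + 1) → Polynomial k, (∀ i, (g i).Monic) → IsClosed (zl (gT f T g))) :
    ∃ τ : Γ(F, V) →+ MvPolynomial (Fin (n + 1)) k,
      (∀ i m, τ (T i • m) = MvPolynomial.X i * τ m) ∧
      (∀ c m, τ (kSec f V c • m) = MvPolynomial.C c * τ m) ∧
      (∀ g (hg : ∀ i, (g i).Monic) m, τ m = 0 →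
        t (sg F (hclX g hg) (dv F (∏ i, gT f T g i) le_rfl m)) = 0) ∧
      (∀ g (hg : ∀ i, (g i).Monic) m,
        (∀ a : Γ(X, V), t (sg F (hclX g hg) (dv F (∏ i, gT f T g i) le_rfl (a • m))) = 0) →
        τ m ∈ Ideal.span (Set.range fun i =>
          (g i).aeval (MvPolynomial.X i : MvPolynomial (Fin (n + 1)) k))) := by
  obtain ⟨tR, hR, htR⟩ := OmBC.exists_tR (n + 1) f p q H F hF (n + 1) t ht
  refine OmTauGen.exists_tau f p q (OmBC.unitAb p F) ?_ (app_kSec f p q H.w) t tR hR htR T hclR hclX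
  intro U a m
  exact Scheme.Modules.Hom.app_smul
    ((Scheme.Modules.pullbackPushforwardAdjunction p).unit.app F) a m

end Groth.Agent.LoccohA.OmTau
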