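import Groth.Agent.LoccohA.OmDefs
import Groth.Agent.LoccohA.OmAlg

/-!
# The residue functional `τ` (algebraic core)

From an `R = k[s_0..s_n]`-linear functional on `H^(n+1)(Y, G)` (`Y = X × Spec R`) we construct
`τ : Γ(F, V) → R` and compare it with the values of `t` on symbols of `X`.
-/

set_option autoImplicit false
universe u

open CategoryTheory AlgebraicGeometry TopologicalSpace Opposite

noncomputable section

namespace Groth.Agent.LoccohA.OmTauCore

open Groth.Agent.LoccohA.OmBase Groth.Agent.LoccohA.OmFrac Groth.Agent.LoccohA.OmDefs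
open Groth.Agent.Ega1

/-! ### Divided differences -/

section divdiff

variable {k : Type*} [CommRing k] (g : Polynomial k)

/-- `A_b`, the polynomial with coefficients `c_b, c_{b+1}, …` -/
def tl (b : ℕ) : Polynomial k := Polynomial.divX^[b] g

theorem coeff_tl (b m : ℕ) : (tl g b).coeff m = g.coeff (m + b) := by
  induction b generalizing m with
  | zero => rfl
  | succ b ih =>
    rw [tl, Function.iterate_succ_apply', Polynomial.coeff_divX]
    exact (ih (m + 1)).trans (by rw [add_right_comm, add_assoc])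

theorem tl_zero : tl g 0 = g := rfl

theorem tl_eq (b : ℕ) : tl g b = Polynomial.X * tl g (b + 1) + Polynomial.C (g.coeff b) := by
  ext m
  cases m with
  | zero => simp [coeff_tl]
  | succ m => simp [coeff_tl, add_right_comm, add_assoc]

theorem tl_natDegree (hg : g.Monic) : tl g g.natDegree = 1 := by
  ext m
  rw [coeff_tl, Polynomial.coeff_one]
  split_ifs with h
  · subst h
    rw [zero_add]
    exact hg
  · exact Polynomial.coeff_eq_zero_of_natDegree_lt (by omega)

variable {B : Type*} [CommRing B] (φ : k →+* B) (T s : B)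

theorem mul_sum_eq (N : ℕ) :
    (T - s) * ∑ b ∈ Finset.range N, s ^ b * (tl g (b + 1)).eval₂ φ T =
      g.eval₂ φ T - s ^ N * (tl g N).eval₂ φ T - ∑ b ∈ Finset.range N, φ (g.coeff b) * s ^ b := by
  induction N with
  | zero => simp [tl_zero]
  | succ N ih =>
    rw [Finset.sum_range_succ, mul_add, ih, Finset.sum_range_succ]
    have h := congrArg (Polynomial.eval₂ φ T) (tl_eq g N)
    rw [Polynomial.eval₂_add, Polynomial.eval₂_mul, Polynomial.eval₂_X, Polynomial.eval₂_C] at h
    rw [h]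
    ring

theorem mul_sum_eq_sub (hg : g.Monic) :
    (T - s) * ∑ b ∈ Finset.range g.natDegree, s ^ b * (tl g (b + 1)).eval₂ φ T =
      g.eval₂ φ T - g.eval₂ φ s := by
  rw [mul_sum_eq, tl_natDegree g hg, Polynomial.eval₂_one, mul_one]
  have : g.eval₂ φ s = ∑ b ∈ Finset.range g.natDegree, φ (g.coeff b) * s ^ b + s ^ g.natDegree := by
    rw [Polynomial.eval₂_eq_sum_range, Finset.sum_range_succ]
    rw [show g.coeff g.natDegree = 1 from hg, map_one, one_mul]
  rw [this]
  ring

end divdiff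

/-! ### Products modulo an ideal -/

theorem prod_sub_prod_mem {B : Type*} [CommRing B] {ι : Type*} (s : Finset ι) (G γ : ι → B) :
    ∏ i ∈ s, G i - ∏ i ∈ s, (G i - γ i) ∈ Ideal.span (Set.range γ) := by
  rw [← Ideal.Quotient.eq, map_prod, map_prod]
  refine Finset.prod_congr rfl fun i _ => ?_
  rw [Ideal.Quotient.eq, sub_sub_cancel]
  exact Ideal.subset_span ⟨i, rfl⟩

/-! ### Symbols as functionals on `Γ(G, V)` -/

section sy

variable {A : Type*} [CommRing A] {Y : Scheme.{u}} (G : Y.Modules) {n : ℕ}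
  (tR : Hc (X := Y.toTopCat) (Coh.toAb G) (n + 1) ⊤ →+ A) {V : Y.Opens}
  {c c' : Fin (n + 1) → Γ(Y, V)}

/-- `m ↦ tR [m / ∏ c i]` -/
def sy (hcl : IsClosed (zl c)) : Γ(G, V) →+ A :=
  tR.comp ((sg G hcl).comp (dvHom G (∏ i, c i) le_rfl))

theorem sy_apply (hcl : IsClosed (zl c)) (m : Γ(G, V)) :
    sy G tR hcl m = tR (sg G hcl (dv G (∏ i, c i) le_rfl m)) := rfl

theorem sy_congr (hcl : IsClosed (zl c)) (hcl' : IsClosed (zl c')) (h : c = c') (m : Γ(G, V)) :
    sy G tR hcl m = sy G tR hcl' m := by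
  subst h
  rfl

theorem sy_smul (hcl : IsClosed (zl c)) (i : Fin (n + 1)) (m : Γ(G, V)) :
    sy G tR hcl (c i • m) = 0 := by
  rw [sy_apply, sg_dv_smul, map_zero]

theorem sy_mul (hcl : IsClosed (zl c)) (hcl' : IsClosed (zl fun i => c i * c' i)) (m : Γ(G, V)) :
    sy G tR hcl' ((∏ i, c' i) • m) = sy G tR hcl m := by
  have hle : Df (fun i => c i * c' i) ≤ Df c := fun x hx => by
    rw [mem_Df] at hx ⊢
    refine ⟨hx.1, fun i => ?_⟩
    have := hx.2 i
    rw [Scheme.basicOpen_mul] at this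
    exact this.1
  rw [sy_apply, sy_apply, sg_refine G hcl hcl' (fun i => by
    rw [Scheme.basicOpen_mul]
    exact inf_le_left) hle, res_dv]
  congr 2
  symm
  refine eq_dv G _ _ _ (Y.basicOpen_le _) _ ?_
  have h3 := congrArg (QCohLoc.resO (Y.basicOpen_le (∏ i, c i * c' i)))
    (Finset.prod_mul_distrib (s := Finset.univ) (f := c) (g := c'))
  rw [map_mul] at h3
  rw [h3, mul_comm, mul_smul, dv_spec, QCohLoc.res_smul]

variable {R : Type u} [CommRing R] (q : Y ⟶ Spec (CommRingCat.of R)) (α : R →+* A)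
  (hR : ∀ r y, tR (map (X := Y.toTopCat) (Coh.smulAb G (Coh.toGlobal q r)) (n + 1) ⊤ y) =
    α r * tR y)

include hR in
theorem sy_kSec (hcl : IsClosed (zl c)) (r : R) (m : Γ(G, V)) :
    sy G tR hcl (kSec q V r • m) = α r * sy G tR hcl m := by
  rw [sy_apply, sy_apply, ← hR, smul_sg, dv_smul]
  congr 3
  exact QCohLoc.resO_resO (X := Y) le_top (Y.basicOpen_le (∏ i, c i)) (Coh.toGlobal q r)

end sy

end Groth.Agent.LoccohA.OmTauCore
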