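import Groth.Agent.LoccohA.OmTauCore

/-!
# The residue functional `τ` and the congruence modulo `(g_i(s_i))`
-/

set_option autoImplicit false
universe u

open CategoryTheory AlgebraicGeometry TopologicalSpace Opposite

noncomputable section

namespace Groth.Agent.LoccohA.OmTauMain

open Groth.Agent.LoccohA.OmBase Groth.Agent.LoccohA.OmFrac Groth.Agent.LoccohA.OmDefs
open Groth.Agent.LoccohA.OmTauCore
open Groth.Agent.Ega1

section Y

variable {k : Type u} [Field k] {n : ℕ} {Y : Scheme.{u}}
  (q : Y ⟶ Spec (CommRingCat.of (MvPolynomial (Fin (n + 1)) k))) {G : Y.Modules} {V : Y.Opens}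
  (tR : Hc (X := Y.toTopCat) (Coh.toAb G) (n + 1) ⊤ →+ MvPolynomial (Fin (n + 1)) k)
  (hR : ∀ r y, tR (map (X := Y.toTopCat) (Coh.smulAb G (Coh.toGlobal q r)) (n + 1) ⊤ y) =
    r * tR y)
  (T : Fin (n + 1) → Γ(Y, V))

theorem sy_of_eq {P P' P₂ : Fin (n + 1) → Polynomial (MvPolynomial (Fin (n + 1)) k)}
    (h : ∀ i, P₂ i = P i * P' i) (hcl : IsClosed (zl (gT q T P)))
    (hcl₂ : IsClosed (zl (gT q T P₂))) (m : Γ(G, V)) :
    sy G tR hcl₂ ((∏ i, gT q T P' i) • m) = sy G tR hcl m := by
  have e : gT q T P₂ = fun i => gT q T P i * gT q T P' i := by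
    funext i
    rw [gT, h i, Polynomial.eval₂_mul]
  have hcl' : IsClosed (zl fun i => gT q T P i * gT q T P' i) := by
    rw [← e]
    exact hcl₂
  rw [sy_congr G tR hcl₂ hcl' e]
  exact sy_mul G tR hcl hcl' m

include hR in
theorem sy_mem_span {c : Fin (n + 1) → Γ(Y, V)} (hcl : IsClosed (zl c))
    (γ : Fin (n + 1) → MvPolynomial (Fin (n + 1)) k) (z : Γ(Y, V))
    (hz : z ∈ Ideal.span (Set.range fun i => kSec q V (γ i))) (m : Γ(G, V)) :
    sy G tR hcl (z • m) ∈ Ideal.span (Set.range γ) := by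
  induction hz using Submodule.span_induction generalizing m with
  | mem x hx =>
    obtain ⟨i, rfl⟩ := hx
    rw [sy_kSec G tR q (RingHom.id _) hR]
    exact Ideal.mul_mem_right _ _ (Ideal.subset_span ⟨i, rfl⟩)
  | zero =>
    rw [zero_smul, map_zero]
    exact Ideal.zero_mem _
  | add x y _ _ hx hy =>
    rw [add_smul, _root_.map_add]
    exact Ideal.add_mem _ (hx m) (hy m)
  | smul a x _ hx =>
    rw [smul_eq_mul, mul_comm, mul_smul]
    exact hx (a • m)

/-- The quotient polynomial `(g(T) - g(s)) / (T - s)`. -/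
def QQ (g : Fin (n + 1) → Polynomial k) (i : Fin (n + 1)) :
    Polynomial (MvPolynomial (Fin (n + 1)) k) :=
  ∑ b ∈ Finset.range (g i).natDegree, Polynomial.C (MvPolynomial.X i) ^ b *
    (tl (g i) (b + 1)).eval₂ (Polynomial.C.comp MvPolynomial.C) Polynomial.X

/-- `g_i(s_i)` -/
def gam (g : Fin (n + 1) → Polynomial k) (i : Fin (n + 1)) : MvPolynomial (Fin (n + 1)) k :=
  (g i).aeval (MvPolynomial.X i : MvPolynomial (Fin (n + 1)) k)

theorem QQ_spec (g : Fin (n + 1) → Polynomial k) (i : Fin (n + 1)) (hg : (g i).Monic) :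
    (Polynomial.X - Polynomial.C (MvPolynomial.X i)) * QQ g i =
      (g i).map MvPolynomial.C - Polynomial.C (gam g i) := by
  rw [QQ, mul_sum_eq_sub _ _ _ _ hg]
  have h1 : (g i).eval₂ (Polynomial.C.comp MvPolynomial.C)
      (Polynomial.X : Polynomial (MvPolynomial (Fin (n + 1)) k)) = (g i).map MvPolynomial.C := by
    rw [← Polynomial.eval₂_map, Polynomial.eval₂_C_X]
  have h2 : (g i).eval₂ (Polynomial.C.comp MvPolynomial.C)
      (Polynomial.C (MvPolynomial.X i : MvPolynomial (Fin (n + 1)) k)) =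
      Polynomial.C (gam g i) := by
    rw [gam, Polynomial.aeval_def, Polynomial.hom_eval₂]
    rfl
  rw [h1, h2]

include hR in
/-- The first congruence. -/
theorem cong₁ (hcl : ∀ P : Fin (n + 1) → Polynomial (MvPolynomial (Fin (n + 1)) k),
      (∀ i, (P i).Monic) → IsClosed (zl (gT q T P)))
    (g : Fin (n + 1) → Polynomial k) (hg : ∀ i, (g i).Monic) (hd : ∀ i, 0 < (g i).natDegree)
    (m : Γ(G, V)) :
    sy G tR (hcl (fun i => Polynomial.X - Polynomial.C (MvPolynomial.X i))
        (fun _ => Polynomial.monic_X_sub_C _)) m -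
      sy G tR (hcl (fun i => (g i).map MvPolynomial.C) (fun i => (hg i).map _))
        ((∏ i, gT q T (QQ g) i) • m) ∈ Ideal.span (Set.range (gam g)) := by
  have hm : ∀ i, ((g i).map MvPolynomial.C * ((g i).map MvPolynomial.C -
      Polynomial.C (gam g i))).Monic := by
    intro i
    refine ((hg i).map _).mul (((hg i).map _).sub_of_left ?_)
    refine Polynomial.degree_C_le.trans_lt ?_
    rw [Polynomial.degree_eq_natDegree ((hg i).map _).ne_zero, (hg i).natDegree_map]
    exact_mod_cast hd i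
  let hcl₂ := hcl (fun i => (g i).map MvPolynomial.C * ((g i).map MvPolynomial.C -
      Polynomial.C (gam g i))) hm
  have h1 := sy_of_eq q tR T (P := fun i => Polynomial.X - Polynomial.C (MvPolynomial.X i))
    (P' := fun i => QQ g i * (g i).map MvPolynomial.C)
    (P₂ := fun i => (g i).map MvPolynomial.C * ((g i).map MvPolynomial.C -
      Polynomial.C (gam g i))) (fun i => by
        rw [← QQ_spec g i (hg i)]
        ring) (hcl _ fun i => Polynomial.monic_X_sub_C _) hcl₂ m
  have h2 := sy_of_eq q tR T (P := fun i => (g i).map MvPolynomial.C)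
    (P' := fun i => (g i).map MvPolynomial.C - Polynomial.C (gam g i))
    (P₂ := fun i => (g i).map MvPolynomial.C * ((g i).map MvPolynomial.C -
      Polynomial.C (gam g i))) (fun i => rfl) (hcl _ fun i => (hg i).map _) hcl₂
    ((∏ i, gT q T (QQ g) i) • m)
  rw [← h1, ← h2, ← map_sub, ← mul_smul, ← sub_smul]
  have h3 : (∏ i, gT q T (fun i => QQ g i * (g i).map MvPolynomial.C) i) -
      (∏ i, gT q T (fun i => (g i).map MvPolynomial.C - Polynomial.C (gam g i)) i) *
        ∏ i, gT q T (QQ g) i =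
      (∏ i, gT q T (fun i => (g i).map MvPolynomial.C) i -
        ∏ i, (gT q T (fun i => (g i).map MvPolynomial.C) i - kSec q V (gam g i))) *
        ∏ i, gT q T (QQ g) i := by
    rw [sub_mul, ← Finset.prod_mul_distrib, ← Finset.prod_mul_distrib, ← Finset.prod_mul_distrib]
    congr 1
    · refine Finset.prod_congr rfl fun i _ => ?_
      rw [gT, Polynomial.eval₂_mul, mul_comm]
    · refine Finset.prod_congr rfl fun i _ => ?_
      rw [gT, Polynomial.eval₂_sub, Polynomial.eval₂_C]
  rw [h3, mul_smul]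
  exact sy_mem_span q tR hR hcl₂ (gam g) _ (prod_sub_prod_mem _ _ _) _

end Y

section XY

variable {k : Type u} [Field k] {n : ℕ} {X Y : Scheme.{u}} (f : X ⟶ Spec (CommRingCat.of k))
  (p : Y ⟶ X) (q : Y ⟶ Spec (CommRingCat.of (MvPolynomial (Fin (n + 1)) k)))
  {F : X.Modules} {G : Y.Modules} {V : X.Opens}
  (θ : Γ(F, V) →+ Γ(G, p ⁻¹ᵁ V))
  (hθ : ∀ (a : Γ(X, V)) m, θ (a • m) = p.app V a • θ m)
  (hk : ∀ c : k, p.app V (kSec f V c) = kSec q (p ⁻¹ᵁ V) (MvPolynomial.C c))
  (t : Hc (X := X.toTopCat) (Coh.toAb F) (n + 1) ⊤ →+ k)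
  (tR : Hc (X := Y.toTopCat) (Coh.toAb G) (n + 1) ⊤ →+ MvPolynomial (Fin (n + 1)) k)
  (hR : ∀ r y, tR (map (X := Y.toTopCat) (Coh.smulAb G (Coh.toGlobal q r)) (n + 1) ⊤ y) =
    r * tR y)
  (hpb : ∀ (c : Fin (n + 1) → Γ(X, V)) (hcl : IsClosed (zl c))
    (hcl' : IsClosed (zl fun i => p.app V (c i))) (m : Γ(F, V)),
    sy G tR hcl' (θ m) = MvPolynomial.C (sy F t hcl m))
  (T : Fin (n + 1) → Γ(X, V))
  (hclR : ∀ P : Fin (n + 1) → Polynomial (MvPolynomial (Fin (n + 1)) k), (∀ i, (P i).Monic) →
      IsClosed (zl (gT q (fun i => p.app V (T i)) P)))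
  (hclX : ∀ g : Fin (n + 1) → Polynomial k, (∀ i, (g i).Monic) → IsClosed (zl (gT f T g)))

include hk in
theorem app_eval₂ (g : Polynomial k) (a : Γ(X, V)) :
    p.app V (g.eval₂ (kSec f V) a) =
      g.eval₂ ((kSec q (p ⁻¹ᵁ V)).comp MvPolynomial.C) (p.app V a) := by
  have h := Polynomial.hom_eval₂ g (kSec f V) (p.app V).hom a
  refine h.trans ?_
  congr 1
  ext c
  exact hk c

include hk in
theorem gT_map (g : Fin (n + 1) → Polynomial k) :
    gT q (fun i => p.app V (T i)) (fun i => (g i).map MvPolynomial.C) =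
      fun i => p.app V (gT f T g i) := by
  funext i
  rw [gT, Polynomial.eval₂_map, gT, app_eval₂ f p q hk]

/-- The residue functional. -/
def tau : Γ(F, V) →+ MvPolynomial (Fin (n + 1)) k :=
  (sy G tR (hclR (fun i => Polynomial.X - Polynomial.C (MvPolynomial.X i))
    (fun i => Polynomial.monic_X_sub_C _))).comp θ

include hθ hR in
theorem tau_smul (i : Fin (n + 1)) (m : Γ(F, V)) :
    tau p q θ tR T hclR (T i • m) = MvPolynomial.X i * tau p q θ tR T hclR m := by
  have h1 := sy_smul G tR (hclR (fun i => Polynomial.X - Polynomial.C (MvPolynomial.X i))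
    (fun i => Polynomial.monic_X_sub_C _)) i (θ m)
  have h2 : p.app V (T i) = gT q (fun i => p.app V (T i))
      (fun i => Polynomial.X - Polynomial.C (MvPolynomial.X i)) i +
        kSec q (p ⁻¹ᵁ V) (MvPolynomial.X i) := by
    rw [gT, Polynomial.eval₂_sub, Polynomial.eval₂_X, Polynomial.eval₂_C, sub_add_cancel]
  change sy G tR _ (θ (T i • m)) = MvPolynomial.X i * sy G tR _ (θ m)
  rw [hθ, h2, add_smul, _root_.map_add, h1, zero_add, sy_kSec G tR q (RingHom.id _) hR]
  rfl

include hθ hk hR in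
theorem tau_const (c : k) (m : Γ(F, V)) :
    tau p q θ tR T hclR (kSec f V c • m) = MvPolynomial.C c * tau p q θ tR T hclR m := by
  change sy G tR _ (θ (kSec f V c • m)) = MvPolynomial.C c * sy G tR _ (θ m)
  rw [hθ, hk, sy_kSec G tR q (RingHom.id _) hR]
  rfl

/-- `∏ A^{(i)}_{β_i + 1}(T_i)` -/
def aa (g : Fin (n + 1) → Polynomial k) (β : Fin (n + 1) → ℕ) : Γ(X, V) :=
  ∏ i, (tl (g i) (β i + 1)).eval₂ (kSec f V) (T i)

include hk in
theorem prod_QQ (g : Fin (n + 1) → Polynomial k) :
    ∏ i, gT q (fun i => p.app V (T i)) (QQ g) i =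
      ∑ β ∈ Fintype.piFinset fun i => Finset.range (g i).natDegree,
        kSec q (p ⁻¹ᵁ V) (∏ i, MvPolynomial.X i ^ β i) * p.app V (aa f T g β) := by
  have h1 : ∀ i, gT q (fun i => p.app V (T i)) (QQ g) i =
      ∑ b ∈ Finset.range (g i).natDegree, kSec q (p ⁻¹ᵁ V) (MvPolynomial.X i) ^ b *
        p.app V ((tl (g i) (b + 1)).eval₂ (kSec f V) (T i)) := by
    intro i
    rw [gT, QQ, Polynomial.eval₂_finsetSum]
    refine Finset.sum_congr rfl fun b _ => ?_
    have h5 : (tl (g i) (b + 1)).eval₂ (Polynomial.C.comp MvPolynomial.C)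
        (Polynomial.X : Polynomial (MvPolynomial (Fin (n + 1)) k)) =
        (tl (g i) (b + 1)).map MvPolynomial.C := by
      rw [← Polynomial.eval₂_map, Polynomial.eval₂_C_X]
    rw [Polynomial.eval₂_mul, Polynomial.eval₂_pow, Polynomial.eval₂_C, app_eval₂ f p q hk, h5,
      Polynomial.eval₂_map]
  simp_rw [h1]
  rw [Finset.prod_univ_sum]
  refine Finset.sum_congr rfl fun β _ => ?_
  rw [Finset.prod_mul_distrib, map_prod, aa, map_prod]
  congr 1
  refine Finset.prod_congr rfl fun i _ => ?_
  rw [map_pow]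

include hθ hk hR hpb in
/-- The main congruence. -/
theorem cong₂ (g : Fin (n + 1) → Polynomial k) (hg : ∀ i, (g i).Monic)
    (hd : ∀ i, 0 < (g i).natDegree) (m : Γ(F, V)) :
    tau p q θ tR T hclR m -
      ∑ β ∈ Fintype.piFinset fun i => Finset.range (g i).natDegree,
        (∏ i, MvPolynomial.X i ^ β i) * MvPolynomial.C (sy F t (hclX g hg) (aa f T g β • m)) ∈
      Ideal.span (Set.range (gam g)) := by
  have h1 := cong₁ q tR hR (fun i => p.app V (T i)) hclR g hg hd (θ m)
  have h2 : sy G tR (hclR (fun i => (g i).map MvPolynomial.C) (fun i => (hg i).map _))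
        ((∏ i, gT q (fun i => p.app V (T i)) (QQ g) i) • θ m) =
      ∑ β ∈ Fintype.piFinset fun i => Finset.range (g i).natDegree,
        (∏ i, MvPolynomial.X i ^ β i) * MvPolynomial.C (sy F t (hclX g hg) (aa f T g β • m)) := by
    rw [prod_QQ f p q hk, Finset.sum_smul, map_sum]
    refine Finset.sum_congr rfl fun β _ => ?_
    rw [mul_smul, sy_kSec G tR q (RingHom.id _) hR, ← hθ]
    congr 1
    have hcl' : IsClosed (zl fun i => p.app V (gT f T g i)) := by
      rw [← gT_map f p q hk T g]
      exact hclR _ fun i => (hg i).map _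
    rw [← hpb _ (hclX g hg) hcl']
    exact sy_congr G tR _ _ (gT_map f p q hk T g) _
  rw [h2] at h1
  exact h1

/-- A functional killing `f_i • m` kills everything if some denominator is `1`. -/
theorem sy_eq_zero_of_eq_one (g : Fin (n + 1) → Polynomial k) (hg : ∀ i, (g i).Monic)
    {i : Fin (n + 1)} (hi : g i = 1) (m : Γ(F, V)) : sy F t (hclX g hg) m = 0 := by
  have h := sy_smul F t (hclX g hg) i m
  have h1 : gT f T g i = 1 := by rw [gT, hi, Polynomial.eval₂_one]
  rwa [h1, one_smul] at h

include hθ hk hR hpb in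
theorem tau_mem (g : Fin (n + 1) → Polynomial k) (hg : ∀ i, (g i).Monic) (m : Γ(F, V))
    (hm : ∀ a : Γ(X, V), sy F t (hclX g hg) (a • m) = 0) :
    tau p q θ tR T hclR m ∈ Ideal.span (Set.range (gam g)) := by
  by_cases hd : ∀ i, 0 < (g i).natDegree
  · have h := cong₂ f p q θ hθ hk t tR hR hpb T hclR hclX g hg hd m
    have h2 : ∑ β ∈ Fintype.piFinset fun i => Finset.range (g i).natDegree,
        (∏ i, MvPolynomial.X i ^ β i) *
          (MvPolynomial.C (sy F t (hclX g hg) (aa f T g β • m)) : MvPolynomial (Fin (n + 1)) k) =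
        0 := by
      refine Finset.sum_eq_zero fun β _ => ?_
      rw [hm, map_zero, mul_zero]
    rwa [h2, sub_zero] at h
  · push Not at hd
    obtain ⟨i, hi⟩ := hd
    have h1 : g i = 1 := (hg i).natDegree_eq_zero.1 (by omega)
    have h2 : Ideal.span (Set.range (gam g)) = ⊤ := by
      rw [Ideal.eq_top_iff_one]
      refine Ideal.subset_span ⟨i, ?_⟩
      rw [gam, h1, map_one]
    rw [h2]
    trivial

include hθ hk hR hpb in
theorem sy_eq_zero (g : Fin (n + 1) → Polynomial k) (hg : ∀ i, (g i).Monic) (m : Γ(F, V))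
    (hm : tau p q θ tR T hclR m = 0) : sy F t (hclX g hg) m = 0 := by
  by_cases hd : ∀ i, 0 < (g i).natDegree
  · have h := cong₂ f p q θ hθ hk t tR hR hpb T hclR hclX g hg hd m
    rw [hm, zero_sub] at h
    have h' := (Ideal.neg_mem_iff _).1 h
    obtain ⟨ρ, hρ1, hρ2⟩ := OmAlg.exists_residue (n + 1) g hg
    have hρ : ∀ z ∈ Ideal.span (Set.range (gam g)), ρ z = 0 := by
      intro z hz
      have : ∀ w : MvPolynomial (Fin (n + 1)) k, ρ (w * z) = 0 := by
        induction hz using Submodule.span_induction with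
        | mem x hx =>
          obtain ⟨i, rfl⟩ := hx
          intro w
          exact hρ1 i w
        | zero => intro w; rw [mul_zero, map_zero]
        | add x y _ _ hx hy => intro w; rw [mul_add, _root_.map_add, hx, hy, add_zero]
        | smul a x _ hx => intro w; rw [smul_eq_mul, ← mul_assoc]; exact hx _
      simpa using this 1
    have h3 := hρ _ h'
    rw [map_sum] at h3
    have h4 : ∀ β ∈ Fintype.piFinset fun i => Finset.range (g i).natDegree,
        ρ ((∏ i, MvPolynomial.X i ^ β i) * MvPolynomial.C (sy F t (hclX g hg) (aa f T g β • m))) =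
          if β = fun i => (g i).natDegree - 1 then sy F t (hclX g hg) m else 0 := by
      intro β hβ
      rw [Fintype.mem_piFinset] at hβ
      have h5 : (∏ i, MvPolynomial.X i ^ β i : MvPolynomial (Fin (n + 1)) k) =
          MvPolynomial.monomial (Finsupp.equivFunOnFinite.symm β) 1 := by
        rw [MvPolynomial.monomial_eq, map_one, one_mul, Finsupp.prod_fintype]
        · rfl
        · intro i
          rw [pow_zero]
      rw [mul_comm, ← MvPolynomial.smul_eq_C_mul, map_smul, h5, hρ2 _ (fun i => by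
        simpa using hβ i), smul_eq_mul]
      have h6 : (∀ i, (Finsupp.equivFunOnFinite.symm β : Fin (n + 1) →₀ ℕ) i + 1 =
          (g i).natDegree) ↔ β = fun i => (g i).natDegree - 1 := by
        constructor
        · intro h
          funext i
          have := h i
          simp only [Finsupp.equivFunOnFinite_symm_apply_apply] at this
          omega
        · rintro rfl i
          have := hd i
          simp only [Finsupp.equivFunOnFinite_symm_apply_apply]
          omega
      by_cases hb : β = fun i => (g i).natDegree - 1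
      · rw [if_pos (h6.2 hb), if_pos hb, mul_one]
        have h7 : aa f T g β = 1 := by
          rw [aa]
          refine Finset.prod_eq_one fun i _ => ?_
          have : β i + 1 = (g i).natDegree := by
            have h9 : β i = (g i).natDegree - 1 := congrFun hb i
            have := hd i
            omega
          rw [this, tl_natDegree _ (hg i), Polynomial.eval₂_one]
        rw [h7, one_smul]
      · rw [if_neg (fun h => hb (h6.1 h)), if_neg hb, mul_zero]
    rw [Finset.sum_congr rfl h4, Finset.sum_ite_eq', if_pos] at h3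
    · exact h3
    · rw [Fintype.mem_piFinset]
      intro i
      have := hd i
      simp only [Finset.mem_range]
      omega
  · push Not at hd
    obtain ⟨i, hi⟩ := hd
    exact sy_eq_zero_of_eq_one f t T hclX g hg ((hg i).natDegree_eq_zero.1 (by omega)) m

end XY

end Groth.Agent.LoccohA.OmTauMain
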