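import Groth.Agent.LoccohA.OmPb
import Groth.Agent.LoccohA.OmTauMain

/-!
# Existence of `τ` from a base change datum `(G, θ, tR)`
-/

set_option autoImplicit false
universe u

open CategoryTheory AlgebraicGeometry TopologicalSpace Opposite

noncomputable section

namespace Groth.Agent.LoccohA.OmTauGen

open Groth.Agent.LoccohA.OmBase Groth.Agent.LoccohA.OmEdge
open Groth.Agent.LoccohA.OmFrac Groth.Agent.LoccohA.OmDefs Groth.Agent.LoccohA.OmTauCore
open Groth.Agent.LoccohA.OmTauMain Groth.Agent.LoccohA.OmPb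
open Groth.Agent.Ega1

variable {k : Type u} [Field k] {n : ℕ} {X Y : Scheme.{u}} (f : X ⟶ Spec (CommRingCat.of k))
  (p : Y ⟶ X) (q : Y ⟶ Spec (CommRingCat.of (MvPolynomial (Fin (n + 1)) k)))
  {F : X.Modules} {G : Y.Modules}
  (θ : Coh.toAb F ⟶ (Coh.pushAb p).obj (Coh.toAb G))
  (hθ : ∀ (U : X.Opens) (a : Γ(X, U)) (m : Γ(F, U)),
    (show Γ(G, p ⁻¹ᵁ U) from θ.hom.app (op U) (show Γ(F, U) from a • m)) =
      p.app U a • (show Γ(G, p ⁻¹ᵁ U) from θ.hom.app (op U) m))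

/-- `θ` on sections -/
def th (U : X.Opens) : Γ(F, U) →+ Γ(G, p ⁻¹ᵁ U) := (θ.hom.app (op U)).hom

theorem res_th {U V : X.Opens} (h : V ≤ U) (m : Γ(F, U)) :
    QCohLoc.res G (show p ⁻¹ᵁ V ≤ p ⁻¹ᵁ U from fun _ hx => h hx) (th p θ U m) =
      th p θ V (QCohLoc.res F h m) :=
  (ConcreteCategory.congr_hom (θ.hom.naturality (homOfLE h).op) m).symm

include hθ in
theorem th_dv {V W : X.Opens} (c : Γ(X, V)) (hW : W ≤ X.basicOpen c) (m : Γ(F, V)) {W' : Y.Opens}
    (h : W' ≤ p ⁻¹ᵁ W) (hW' : W' ≤ Y.basicOpen (p.app V c)) :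
    QCohLoc.res G h (th p θ W (dv F c hW m)) = dv G (p.app V c) hW' (th p θ V m) := by
  have hWV : W ≤ V := hW.trans (X.basicOpen_le c)
  refine eq_dv G _ _ _ (hW'.trans (Y.basicOpen_le _)) _ ?_
  have h1 := congrArg (fun z => QCohLoc.res G h (th p θ W z)) (dv_spec F c hW m)
  have h2 : th p θ W (QCohLoc.resO hWV c • dv F c hW m) =
      p.app W (QCohLoc.resO hWV c) • th p θ W (dv F c hW m) := hθ W _ _
  have h3 : p.app W (QCohLoc.resO hWV c) =
      QCohLoc.resO (show p ⁻¹ᵁ W ≤ p ⁻¹ᵁ V from fun _ hx => hWV hx) (p.app V c) :=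
    ConcreteCategory.congr_hom (p.naturality (homOfLE hWV).op) c
  rw [h2, QCohLoc.res_smul, h3, QCohLoc.resO_resO, ← res_th, QCohLoc.res_res] at h1
  exact h1

include hθ in
/-- Existence of `τ`. -/
theorem exists_tau
    (hk : ∀ (V : X.Opens) (c : k), p.app V (kSec f V c) = kSec q (p ⁻¹ᵁ V) (MvPolynomial.C c))
    (t : Hc (X := X.toTopCat) (Coh.toAb F) (n + 1) ⊤ →+ k)
    (tR : Hc (X := Y.toTopCat) (Coh.toAb G) (n + 1) ⊤ →+ MvPolynomial (Fin (n + 1)) k)
    (hR : ∀ r y, tR (map (X := Y.toTopCat) (Coh.smulAb G (Coh.toGlobal q r)) (n + 1) ⊤ y) =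
      r * tR y)
    (htR : ∀ x, tR (pb (X := X.toTopCat) (Y := Y.toTopCat) p.base θ (n + 1) ⊤ x) =
      MvPolynomial.C (t x))
    {V : X.Opens} (T : Fin (n + 1) → Γ(X, V))
    (hclR : ∀ P : Fin (n + 1) → Polynomial (MvPolynomial (Fin (n + 1)) k), (∀ i, (P i).Monic) →
      IsClosed (zl (gT q (fun i => p.app V (T i)) P)))
    (hclX : ∀ g : Fin (n + 1) → Polynomial k, (∀ i, (g i).Monic) → IsClosed (zl (gT f T g))) :
    ∃ τ : Γ(F, V) →+ MvPolynomial (Fin (n + 1)) k,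
      (∀ i m, τ (T i • m) = MvPolynomial.X i * τ m) ∧
      (∀ c m, τ (kSec f V c • m) = MvPolynomial.C c * τ m) ∧
      (∀ g (hg : ∀ i, (g i).Monic) m, τ m = 0 →
        t (sg F (hclX g hg) (dv F (∏ i, gT f T g i) le_rfl m)) = 0) ∧
      (∀ g (hg : ∀ i, (g i).Monic) m,
        (∀ a : Γ(X, V), t (sg F (hclX g hg) (dv F (∏ i, gT f T g i) le_rfl (a • m))) = 0) →
        τ m ∈ Ideal.span (Set.range fun i =>
          (g i).aeval (MvPolynomial.X i : MvPolynomial (Fin (n + 1)) k))) := by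
  have hpb : ∀ (c : Fin (n + 1) → Γ(X, V)) (hcl : IsClosed (zl c))
    (hcl' : IsClosed (zl fun i => p.app V (c i))) (m : Γ(F, V)),
    sy G tR hcl' (th p θ V m) = MvPolynomial.C (sy F t hcl m) := by
    intro c hcl hcl' m
    have hle : Df (fun i => p.app V (c i)) ≤ p ⁻¹ᵁ (Df c) := by
      rw [Scheme.preimage_basicOpen, map_prod]
    rw [sy_apply, sy_apply, ← htR, pb_sg p F G θ c hcl hcl' hle]
    congr 2
    symm
    have h1 := th_dv p θ hθ (∏ i, c i) (le_refl (Df c)) m (W' := Df fun i => p.app V (c i)) hle (by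
      rw [map_prod])
    refine Eq.trans h1 ?_
    refine eq_dv G _ _ _ (Y.basicOpen_le _) _ ?_
    have h2 := dv_spec G (p.app V (∏ i, c i)) (W := Df fun i => p.app V (c i)) (by rw [map_prod])
      (th p θ V m)
    have h3 : p.app V (∏ i, c i) = ∏ i, p.app V (c i) := map_prod _ _ _
    rw [congrArg (QCohLoc.resO (Y.basicOpen_le (∏ i, p.app V (c i)))) h3] at h2
    exact h2
  refine ⟨tau p q (th p θ V) tR T hclR, ?_, ?_, ?_, ?_⟩
  · exact tau_smul p q (th p θ V) (hθ V) tR hR T hclR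
  · exact tau_const f p q (th p θ V) (hθ V) (hk V) tR hR T hclR
  · intro g hg m hm
    exact sy_eq_zero f p q (th p θ V) (hθ V) (hk V) t tR hR hpb T hclR hclX g hg m hm
  · intro g hg m hm
    exact tau_mem f p q (th p θ V) (hθ V) (hk V) t tR hR hpb T hclR hclX g hg m hm

end Groth.Agent.LoccohA.OmTauGen
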