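import Groth.Agent.LoccohA.HomolFive
import Groth.Agent.PerfB.RDerZero
import Groth.Agent.Dcoh.DerComp
import Groth.Agent.CohtopB.DTrunc
import Mathlib.Algebra.Homology.DerivedCategory.Ext.EnoughInjectives

/-!
# Comparison `Hom_{D(A)}(P, N) → Hom_{D(B)}(Q, RF N)`

`F : A ⥤ B` additive left exact, `(RF, α)` its total right derived functor, `c : Q ⟶ F P`.
`gam N : (P[0] ⟶ N) → (Q[0] ⟶ RF N)` sends `g` to `Q → RF P → RF N`.  If `c` corepresents `Hom(P,-)`
through `F`, and `Ext^n(Q, F I) = 0` for `I` injective and `n > 0`, then `gam` is bijective for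
`N = M[n]`, `M` any object of `A`.
-/

set_option autoImplicit false

universe w w' w'' v u u'

open CategoryTheory CategoryTheory.Limits CategoryTheory.Pretriangulated Opposite

namespace Groth.Agent.LoccohA.RGAbs

open Groth.Agent.Dcoh Groth.Agent.Dcoh.DerComp DerivedCategory

variable {A : Type u} [Category.{v} A] [Abelian A] [HasDerivedCategory.{w} A]
  {B : Type u'} [Category.{v} B] [Abelian B] [HasDerivedCategory.{w} B]
  (F : A ⥤ B) [F.Additive]
  (RF : DerivedCategory A ⥤ DerivedCategory B)
  (α : F.mapHomotopyCategory (ComplexShape.up ℤ) ⋙ DerivedCategory.Qh ⟶ DerivedCategory.Qh ⋙ RF)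

/-- `(F M)[0] ⟶ RF (M[0])`, natural in `M`. -/
noncomputable def theta : F ⋙ singleFunctor B 0 ⟶ singleFunctor A 0 ⋙ RF :=
  Functor.whiskerRight (HomologicalComplex.singleMapHomologicalComplex F (ComplexShape.up ℤ) 0).inv
      DerivedCategory.Q ≫
    Functor.whiskerLeft (HomologicalComplex.single A (ComplexShape.up ℤ) 0) (unitQ F RF α)

omit [HasDerivedCategory.{w} A] in
lemma isKInjective_single (I : A) [Injective I] :
    CochainComplex.IsKInjective ((CochainComplex.singleFunctor A 0).obj I) := by
  have (n : ℤ) : Injective (((CochainComplex.singleFunctor A 0).obj I).X n) := by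
    by_cases hn : n = 0
    · subst hn
      exact Injective.of_iso (HomologicalComplex.singleObjXSelf (ComplexShape.up ℤ) 0 I).symm
        inferInstance
    · have hz : IsZero (((CochainComplex.singleFunctor A 0).obj I).X n) :=
        HomologicalComplex.isZero_single_obj_X (ComplexShape.up ℤ) 0 I n hn
      exact ⟨fun f g _ => ⟨0, hz.eq_of_tgt _ _⟩⟩
  exact CochainComplex.isKInjective_of_injective _ 0

lemma isIso_theta_app [RF.IsRightDerivedFunctor α (HomotopyCategory.quasiIso A (ComplexShape.up ℤ))]
    (hA : DerHo.HasKInj A) (I : A) [Injective I] : IsIso ((theta F RF α).app I) := by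
  have h2 := isIso_unitQ_app F RF α ((CochainComplex.singleFunctor A 0).obj I)
    (DerHo.isIso_unit_app' hA RF α _ (isKInjective_single I))
  change IsIso (DerivedCategory.Q.map ((HomologicalComplex.singleMapHomologicalComplex F
    (ComplexShape.up ℤ) 0).inv.app I) ≫ (unitQ F RF α).app ((CochainComplex.singleFunctor A 0).obj I))
  exact IsIso.comp_isIso' inferInstance h2

variable {F} {P : A} {Q : B} (c : Q ⟶ F.obj P)

/-- `Q[0] ⟶ RF (P[0])`. -/
noncomputable def eta : (singleFunctor B 0).obj Q ⟶ RF.obj ((singleFunctor A 0).obj P) :=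
  (singleFunctor B 0).map c ≫ (theta F RF α).app P

lemma eta_comp_map {M : A} (g : P ⟶ M) :
    eta RF α c ≫ RF.map ((singleFunctor A 0).map g) =
      (singleFunctor B 0).map (c ≫ F.map g) ≫ (theta F RF α).app M := by
  have h := (theta F RF α).naturality g
  dsimp at h
  rw [eta, Category.assoc, ← h, Functor.map_comp, Category.assoc]

section

variable [RF.Additive]

/-- The map `Hom(P[0], N) ⟶ Hom(Q[0], RF N)`. -/
noncomputable def gamHom (N : DerivedCategory A) :
    ((singleFunctor A 0).obj P ⟶ N) →+ ((singleFunctor B 0).obj Q ⟶ RF.obj N) :=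
  AddMonoidHom.mk' (fun g => eta RF α c ≫ RF.map g) (by
    intro a b
    rw [Functor.map_add, Preadditive.comp_add])

lemma gamHom_apply (N : DerivedCategory A) (g : (singleFunctor A 0).obj P ⟶ N) :
    gamHom RF α c N g = eta RF α c ≫ RF.map g := rfl

lemma gamHom_comp {N N' : DerivedCategory A} (g : (singleFunctor A 0).obj P ⟶ N) (f : N ⟶ N') :
    gamHom RF α c N' (g ≫ f) = gamHom RF α c N g ≫ RF.map f := by
  rw [gamHom_apply, gamHom_apply, Functor.map_comp, Category.assoc]

/-- The natural transformation `Hom(P[0], -) ⟶ Hom(Q[0], RF -)`. -/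
noncomputable def gam : preadditiveCoyoneda.obj (op ((singleFunctor A 0).obj P)) ⟶
    RF ⋙ preadditiveCoyoneda.obj (op ((singleFunctor B 0).obj Q)) where
  app N := AddCommGrpCat.ofHom (gamHom RF α c N)
  naturality N N' f := by
    ext g
    exact gamHom_comp RF α c g f

end

section

variable [RF.CommShift ℤ] [RF.IsTriangulated]
  [RF.IsRightDerivedFunctor α (HomotopyCategory.quasiIso A (ComplexShape.up ℤ))]
  (hA : DerHo.HasKInj A)
  (hc : ∀ M : A, Function.Bijective (fun g : P ⟶ M => c ≫ F.map g))

include hA hc in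
lemma bijective_single_injective (I : A) [Injective I] :
    Function.Bijective (gamHom RF α c ((singleFunctor A 0).obj I)) := by
  have h1 := isIso_theta_app F RF α hA I
  have h2 : Function.Bijective (fun g : P ⟶ I =>
      gamHom RF α c ((singleFunctor A 0).obj I) ((singleFunctor A 0).map g)) := by
    have h3 : (fun g : P ⟶ I =>
        gamHom RF α c ((singleFunctor A 0).obj I) ((singleFunctor A 0).map g)) =
        (fun g : (singleFunctor B 0).obj Q ⟶ (singleFunctor B 0).obj (F.obj I) =>
          g ≫ (theta F RF α).app I) ∘ (fun g : Q ⟶ F.obj I => (singleFunctor B 0).map g) ∘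
          (fun g : P ⟶ I => c ≫ F.map g) := by
      funext g
      exact eta_comp_map RF α c g
    rw [h3]
    refine Function.Bijective.comp ?_ (Function.Bijective.comp ?_ (hc I))
    · exact (Iso.homToEquiv (asIso ((theta F RF α).app I))).bijective
    · exact ⟨Functor.map_injective _, Functor.map_surjective _⟩
  refine (Function.Bijective.of_comp_iff _
    (g := fun g : P ⟶ I => (singleFunctor A 0).map g) ?_).1 h2
  exact ⟨Functor.map_injective _, Functor.map_surjective _⟩

include hA α in
lemma RF_hom_eq_zero_of_neg [EnoughInjectives A] [PreservesFiniteLimits F] (M : A) (n : ℤ)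
    (hn : n < 0) (z : (singleFunctor B 0).obj Q ⟶ RF.obj (((singleFunctor A 0).obj M)⟦n⟧)) :
    z = 0 := by
  have h1 : (RF.obj ((singleFunctor A 0).obj M)).IsGE 0 :=
    Groth.Agent.PerfB.RDerZero.isGE_single F RF α hA M
  rw [← cancel_mono ((RF.commShiftIso n).hom.app _), zero_comp]
  exact Groth.Agent.CohtopB.DTrunc.hom_eq_zero_of_isGE Q _ 0 n hn _

include hA α in
lemma RF_hom_eq_zero_of_pos [HasExt.{w''} B]
    (hExt : ∀ (I : A) [Injective I] (n : ℕ), Subsingleton (Abelian.Ext.{w''} Q (F.obj I) (n + 1)))
    (I : A) [Injective I] (n : ℤ) (hn : 0 < n)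
    (z : (singleFunctor B 0).obj Q ⟶ RF.obj (((singleFunctor A 0).obj I)⟦n⟧)) : z = 0 := by
  have h1 := isIso_theta_app F RF α hA I
  obtain ⟨k, hk⟩ : ∃ k : ℕ, n = (k + 1 : ℕ) := ⟨(n - 1).toNat, by omega⟩
  rw [← cancel_mono ((RF.commShiftIso n).hom.app _), zero_comp,
    ← cancel_mono ((inv ((theta F RF α).app I))⟦n⟧'), zero_comp]
  exact Groth.Agent.CohtopB.DTrunc.single_hom_eq_zero Q (F.obj I) 0 n (k + 1) (by omega)
    (hExt I k) _

include hA hc in
lemma bijective_injective [EnoughInjectives A] [PreservesFiniteLimits F] [HasExt.{w''} B]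
    [HasExt.{w'} A]
    (hExt : ∀ (I : A) [Injective I] (n : ℕ), Subsingleton (Abelian.Ext.{w''} Q (F.obj I) (n + 1)))
    (I : A) [Injective I] (n : ℤ) :
    Function.Bijective (gamHom RF α c (((singleFunctor A 0).obj I)⟦n⟧)) := by
  rcases lt_trichotomy n 0 with hn | rfl | hn
  · refine ⟨fun a b _ => ?_, fun z => ⟨0, ?_⟩⟩
    · rw [Groth.Agent.CohtopB.DTrunc.hom_eq_zero_of_isGE P _ 0 n hn a,
        Groth.Agent.CohtopB.DTrunc.hom_eq_zero_of_isGE P _ 0 n hn b]
    · rw [map_zero]
      exact (RF_hom_eq_zero_of_neg RF α hA I n hn z).symm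
  · exact HomolFive.bijective_of_iso (gam RF α c)
      ((shiftFunctorZero (DerivedCategory A) ℤ).symm.app ((singleFunctor A 0).obj I))
      (bijective_single_injective RF α c hA hc I)
  · obtain ⟨k, hk⟩ : ∃ k : ℕ, n = (k + 1 : ℕ) := ⟨(n - 1).toNat, by omega⟩
    have h0 : ∀ a : (singleFunctor A 0).obj P ⟶ ((singleFunctor A 0).obj I)⟦n⟧, a = 0 :=
      fun a => Groth.Agent.CohtopB.DTrunc.single_hom_eq_zero P I 0 n (k + 1) (by omega)
        (Abelian.Ext.subsingleton_of_injective.{w'} P I k) a
    refine ⟨fun a b _ => by rw [h0 a, h0 b], fun z => ⟨0, ?_⟩⟩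
    rw [map_zero]
    exact (RF_hom_eq_zero_of_pos RF α hA hExt I n hn z).symm

include hA hc in
/-- `Hom(P[0], M[n]) → Hom(Q[0], RF (M[n]))` is bijective. -/
theorem bijective_shift [EnoughInjectives A] [PreservesFiniteLimits F] [HasExt.{w''} B]
    [HasExt.{w'} A]
    (hExt : ∀ (I : A) [Injective I] (n : ℕ), Subsingleton (Abelian.Ext.{w''} Q (F.obj I) (n + 1)))
    (M : A) (n : ℤ) :
    Function.Bijective (gamHom RF α c (((singleFunctor A 0).obj M)⟦n⟧)) := by
  have key : ∀ (k : ℕ) (m : ℤ) (_ : m < k) (M : A),
      Function.Bijective (gamHom RF α c (((singleFunctor A 0).obj M)⟦m⟧)) := by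
    intro k
    induction k with
    | zero =>
      intro m hm M
      refine ⟨fun a b _ => ?_, fun z => ⟨0, ?_⟩⟩
      · rw [Groth.Agent.CohtopB.DTrunc.hom_eq_zero_of_isGE P _ 0 m (by simpa using hm) a,
          Groth.Agent.CohtopB.DTrunc.hom_eq_zero_of_isGE P _ 0 m (by simpa using hm) b]
      · rw [map_zero]
        exact (RF_hom_eq_zero_of_neg RF α hA M m (by simpa using hm) z).symm
    | succ k hk =>
      have inj : ∀ (m : ℤ) (_ : m < (k + 1 : ℕ)) (M : A),
          Function.Injective (gamHom RF α c (((singleFunctor A 0).obj M)⟦m⟧)) := by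
        intro m hm M
        let J : InjectivePresentation M := Classical.arbitrary _
        let S := ShortComplex.mk _ _ (cokernel.condition J.f)
        have hJ : Injective S.X₂ := J.injective
        have hS : S.ShortExact := { exact := ShortComplex.exact_cokernel J.f }
        let T : Triangle (DerivedCategory A) :=
          (Triangle.shiftFunctor _ (m - 1)).obj hS.singleTriangle
        have hT : T ∈ distTriang _ :=
          Triangle.shift_distinguished _ hS.singleTriangle_distinguished (m - 1)
        have h1 := HomolFive.injective_of_triangle (gam RF α c) T hT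
          (bijective_injective RF α c hA hc hExt S.X₂ (m - 1)).2
          (hk (m - 1) (by push_cast at hm; omega) S.X₃).1
          (HomolFive.injective_of_iso (gam RF α c)
            ((shiftFunctorAdd' (DerivedCategory A) (m - 1) 1 m (by omega)).app
              ((singleFunctor A 0).obj S.X₂))
            (bijective_injective RF α c hA hc hExt S.X₂ m).1)
        exact HomolFive.injective_of_iso (gam RF α c)
          ((shiftFunctorAdd' (DerivedCategory A) (m - 1) 1 m (by omega)).symm.app
            ((singleFunctor A 0).obj S.X₁)) h1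
      intro m hm M
      let J : InjectivePresentation M := Classical.arbitrary _
      let S := ShortComplex.mk _ _ (cokernel.condition J.f)
      have hJ : Injective S.X₂ := J.injective
      have hS : S.ShortExact := { exact := ShortComplex.exact_cokernel J.f }
      let T : Triangle (DerivedCategory A) :=
        (Triangle.shiftFunctor _ (m - 1)).obj hS.singleTriangle
      have hT : T ∈ distTriang _ :=
        Triangle.shift_distinguished _ hS.singleTriangle_distinguished (m - 1)
      have h1 := HomolFive.bijective_of_triangle (gam RF α c) T hT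
        (bijective_injective RF α c hA hc hExt S.X₂ (m - 1)).2
        (hk (m - 1) (by push_cast at hm; omega) S.X₃)
        (HomolFive.bijective_of_iso (gam RF α c)
          ((shiftFunctorAdd' (DerivedCategory A) (m - 1) 1 m (by omega)).app
            ((singleFunctor A 0).obj S.X₂))
          (bijective_injective RF α c hA hc hExt S.X₂ m))
        (HomolFive.injective_of_iso (gam RF α c)
          ((shiftFunctorAdd' (DerivedCategory A) (m - 1) 1 m (by omega)).app
            ((singleFunctor A 0).obj S.X₃))
          (inj m hm S.X₃))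
      exact HomolFive.bijective_of_iso (gam RF α c)
        ((shiftFunctorAdd' (DerivedCategory A) (m - 1) 1 m (by omega)).symm.app
          ((singleFunctor A 0).obj S.X₁)) h1
  exact key (n.toNat + 1) n (by push_cast; omega) M

end

end Groth.Agent.LoccohA.RGAbs
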