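import Groth.Agent.Ega4A.CatenaryDim

/-!
# Relative heights and localization

`relHt_le_ringKrullDim_quotient`: `relHt p q ≤ dim (A_q / p A_q)`.
-/

set_option autoImplicit false

namespace Groth.Agent.LoccohA.RelHtLoc

open IsLocalRing Groth.Agent.Ega4A.ChainOrder Groth.Agent.Ega4A.CatenaryDim

theorem relHt_le_of_embedding {X Y : Type*} [PartialOrder X] [PartialOrder Y] (f : Y ↪o X)
    {y y' : Y} (h : y ≤ y') (hf : ∀ x, x ≤ f y' → x ∈ Set.range f)
    (hfin : relHt (f y) (f y') (f.monotone h) ≠ ⊤) :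
    relHt (f y) (f y') (f.monotone h) ≤ relHt y y' h := by
  obtain ⟨s, hs0, hs1, hs2, -⟩ := exists_sat (f.monotone h) hfin
  obtain ⟨t, ht⟩ := exists_lift f s (fun i => hf _ (by
    rw [← hs1]
    exact s.monotone (Fin.le_last i)))
  have h1 : f t.head = s.head := by rw [← ht]; rfl
  have h2 : f t.last = s.last := by rw [← ht]; rfl
  have h3 : s.length = t.length := by rw [← ht]; rfl
  rw [← hs2, h3]
  apply length_le_relHt h t
  · apply le_of_eq
    apply f.injective
    rw [h1, hs0]
  · apply le_of_eq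
    apply f.injective
    rw [h2, hs1]

theorem relHt_congr {X : Type*} [PartialOrder X] {a b a' b' : X} (h : a ≤ b) (h' : a' ≤ b')
    (ha : a = a') (hb : b = b') : relHt a b h = relHt a' b' h' := by
  subst ha hb
  rfl

variable {A : Type*} [CommRing A] [IsNoetherianRing A]

theorem relHt_le_ringKrullDim_quotient (p q : PrimeSpectrum A) (h : p ≤ q) :
    ((relHt p q h : ℕ∞) : WithBot ℕ∞) ≤ ringKrullDim (Localization.AtPrime q.asIdeal ⧸
      p.asIdeal.map (algebraMap A (Localization.AtPrime q.asIdeal))) := by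
  let e := IsLocalization.AtPrime.primeSpectrumOrderIso (Localization.AtPrime q.asIdeal) q.asIdeal
  let f : PrimeSpectrum (Localization.AtPrime q.asIdeal) ↪o PrimeSpectrum A :=
    e.toOrderEmbedding.trans (OrderEmbedding.subtype _)
  have hfe : ∀ P, (f P).asIdeal = P.asIdeal.comap (algebraMap A (Localization.AtPrime q.asIdeal)) :=
    fun P => rfl
  have hdisj : Disjoint (q.asIdeal.primeCompl : Set A) (p.asIdeal : Set A) := by
    rw [Set.disjoint_left]
    exact fun x hx hxp => hx (h hxp)
  have hPp : (p.asIdeal.map (algebraMap A (Localization.AtPrime q.asIdeal))).IsPrime :=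
    IsLocalization.isPrime_of_isPrime_disjoint q.asIdeal.primeCompl _ p.asIdeal p.2 hdisj
  let P : PrimeSpectrum (Localization.AtPrime q.asIdeal) := ⟨_, hPp⟩
  have hfP : f P = p := by
    apply PrimeSpectrum.ext
    rw [hfe]
    exact IsLocalization.under_map_of_isPrime_disjoint q.asIdeal.primeCompl _ p.2 hdisj
  have hfm : f (closedPoint (Localization.AtPrime q.asIdeal)) = q := by
    apply PrimeSpectrum.ext
    rw [hfe]
    exact Localization.AtPrime.under_maximalIdeal
  have hPm : P ≤ closedPoint (Localization.AtPrime q.asIdeal) := IsLocalRing.le_maximalIdeal P.2.ne_top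
  have h1 := relHt_le_of_embedding f hPm (by
    intro x hx
    rw [hfm] at hx
    refine ⟨e.symm ⟨x, hx⟩, ?_⟩
    change ((e (e.symm ⟨x, hx⟩) : Set.Iic _) : PrimeSpectrum A) = x
    rw [e.apply_symm_apply]) (relHt_ne_top _ _ _)
  have h2 := relHt_maximalIdeal P hPm
  rw [← h2]
  have h3 : relHt p q h = relHt (f P) (f (closedPoint (Localization.AtPrime q.asIdeal)))
      (f.monotone hPm) :=
    relHt_congr h _ hfP.symm hfm.symm
  rw [h3]
  exact_mod_cast h1

end Groth.Agent.LoccohA.RelHtLoc
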