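import Groth.Agent.CohqA.ExtCompare
import Mathlib.Algebra.Homology.DerivedCategory.Ext.ExactSequences

/-!
# Pro-isomorphisms of Ext systems

`R : C ⥤ D` exact, `F : ℕᵒᵖ ⥤ C`, `G : ℕᵒᵖ ⥤ D` inverse systems and `v : F ⋙ R ⟶ G`. For `K : C` we
study the map of inverse systems `Ext K (F n) p → Ext (R K) (G n) p` and show that the class of `K` for
which it is a pro-isomorphism (in all degrees) has the 2-out-of-3 property in short exact sequences (in the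
direction used for Mayer-Vietoris).
-/

set_option autoImplicit false
set_option maxHeartbeats 400000

universe w w' v v' u u'

open CategoryTheory Limits Abelian Opposite

namespace Groth.Agent.LoccohA.TDPro

open Groth.Agent.CohqA.ExtCompare

variable {C : Type u} [Category.{v} C] [Abelian C] {D : Type u'} [Category.{v'} D] [Abelian D]
  (R : C ⥤ D) [R.Additive] [PreservesFiniteLimits R] [PreservesFiniteColimits R]
  [HasExt.{w} C] [HasExt.{w'} D]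

/-- The comparison map `Ext K F p → Ext (R K) G p` attached to `v : R F ⟶ G`. -/
noncomputable def cmp {F : C} {G : D} (v : R.obj F ⟶ G) (K : C) (p : ℕ) :
    Ext.{w} K F p →+ Ext.{w'} (R.obj K) G p :=
  ((Ext.mk₀ v).postcomp (R.obj K) (add_zero p)).comp (R.mapExtAddHom K F p)

theorem cmp_apply {F : C} {G : D} (v : R.obj F ⟶ G) {K : C} {p : ℕ} (x : Ext.{w} K F p) :
    cmp R v K p x = (x.mapExactFunctor R).comp (Ext.mk₀ v) (add_zero p) := rfl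

theorem cmp_precomp {F : C} {G : D} (v : R.obj F ⟶ G) {K K' : C} {n m p : ℕ} (a : Ext.{w} K' K n)
    (x : Ext.{w} K F m) (h : n + m = p) :
    cmp R v K' p (a.comp x h) = (a.mapExactFunctor R).comp (cmp R v K m x) h := by
  rw [cmp_apply, cmp_apply, Ext.mapExactFunctor_comp, Ext.comp_assoc]
  · omega

theorem cmp_mk₀_comp {F : C} {G : D} (v : R.obj F ⟶ G) {K K' : C} {p : ℕ} (a : K' ⟶ K)
    (x : Ext.{w} K F p) :
    cmp R v K' p ((Ext.mk₀ a).comp x (zero_add p)) =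
      (Ext.mk₀ (R.map a)).comp (cmp R v K p x) (zero_add p) := by
  rw [cmp_precomp, Ext.mapExactFunctor_mk₀]

theorem cmp_naturality {F F' : C} {G G' : D} (v : R.obj F ⟶ G) (v' : R.obj F' ⟶ G')
    (f : F ⟶ F') (g : G ⟶ G') (h : R.map f ≫ v' = v ≫ g) {K : C} {p : ℕ} (x : Ext.{w} K F p) :
    cmp R v' K p (x.comp (Ext.mk₀ f) (add_zero p)) =
      (cmp R v K p x).comp (Ext.mk₀ g) (add_zero p) := by
  rw [cmp_apply, cmp_apply, Ext.mapExactFunctor_comp, Ext.mapExactFunctor_mk₀,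
    Ext.comp_assoc_of_third_deg_zero, Ext.comp_assoc_of_third_deg_zero, Ext.mk₀_comp_mk₀,
    Ext.mk₀_comp_mk₀, h]

theorem cmp_extClass {F : C} {G : D} (v : R.obj F ⟶ G) {S : ShortComplex C} (hS : S.ShortExact)
    {p q : ℕ} (x : Ext.{w} S.X₁ F p) (h : 1 + p = q) :
    cmp R v S.X₃ q (hS.extClass.comp x h) =
      (hS.map_of_exact R).extClass.comp (cmp R v S.X₁ p x) h := by
  rw [cmp_precomp, Ext.mapExactFunctor_extClass]
  rfl

variable (F : ℕᵒᵖ ⥤ C) (G : ℕᵒᵖ ⥤ D) (φ : F ⋙ R ⟶ G)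

/-- transition map of the inverse system -/
abbrev tr {E : Type*} [Category* E] (F : ℕᵒᵖ ⥤ E) {n m : ℕ} (h : n ≤ m) :
    F.obj (op m) ⟶ F.obj (op n) :=
  F.map (homOfLE h).op

theorem tr_comp {E : Type*} [Category* E] (F : ℕᵒᵖ ⥤ E) {n m l : ℕ} (h : n ≤ m) (h' : m ≤ l) :
    tr F h' ≫ tr F h = tr F (h.trans h') := by
  rw [← Functor.map_comp]
  rfl

/-- transition maps on Ext groups -/
noncomputable def T {E : Type*} [Category* E] [Abelian E] [HasExt.{w} E] (F : ℕᵒᵖ ⥤ E) (K : E) (p : ℕ)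
    {n m : ℕ} (h : n ≤ m) :
    Ext.{w} K (F.obj (op m)) p →+ Ext.{w} K (F.obj (op n)) p :=
  (Ext.mk₀ (tr F h)).postcomp K (add_zero p)

section T

variable {E : Type*} [Category* E] [Abelian E] [HasExt.{w} E] (F : ℕᵒᵖ ⥤ E)

theorem T_apply {K : E} {p : ℕ} {n m : ℕ} (h : n ≤ m) (x : Ext.{w} K (F.obj (op m)) p) :
    T F K p h x = x.comp (Ext.mk₀ (tr F h)) (add_zero p) := rfl

theorem T_T {K : E} {p : ℕ} {n m l : ℕ} (h : n ≤ m) (h' : m ≤ l)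
    (x : Ext.{w} K (F.obj (op l)) p) : T F K p h (T F K p h' x) = T F K p (h.trans h') x := by
  rw [T_apply, T_apply, T_apply, Ext.comp_assoc_of_third_deg_zero, Ext.mk₀_comp_mk₀, tr_comp]

theorem T_pre {K K' : E} (a : K' ⟶ K) {p : ℕ} {n m : ℕ} (h : n ≤ m)
    (x : Ext.{w} K (F.obj (op m)) p) :
    T F K' p h ((Ext.mk₀ a).comp x (zero_add p)) =
      (Ext.mk₀ a).comp (T F K p h x) (zero_add p) := by
  rw [T_apply, T_apply, Ext.comp_assoc_of_third_deg_zero]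

theorem T_dl {K K' : E} {i : ℕ} (a : Ext.{w} K' K i) {p q : ℕ} (hq : i + p = q) {n m : ℕ} (h : n ≤ m)
    (x : Ext.{w} K (F.obj (op m)) p) :
    T F K' q h (a.comp x hq) = a.comp (T F K p h x) hq := by
  rw [T_apply, T_apply, Ext.comp_assoc_of_third_deg_zero]

end T

theorem cmp_T {K : C} {p : ℕ} {n m : ℕ} (h : n ≤ m) (x : Ext.{w} K (F.obj (op m)) p) :
    cmp R (φ.app (op n)) K p (T F K p h x) =
      T G (R.obj K) p h (cmp R (φ.app (op m)) K p x : Ext.{w'} (R.obj K) (G.obj (op m)) p) := by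
  rw [T_apply, T_apply]
  exact cmp_naturality R _ _ _ _ (φ.naturality _) x

/-- pro-monomorphism in degree `p`, at `K` -/
def PM (K : C) (p : ℕ) : Prop :=
  ∀ n : ℕ, ∃ (m : ℕ) (h : n ≤ m), ∀ x : Ext.{w} K (F.obj (op m)) p,
    cmp R (φ.app (op m)) K p x = (0 : Ext.{w'} (R.obj K) (G.obj (op m)) p) →
      T F K p h x = 0

/-- pro-epimorphism in degree `p`, at `K` -/
def PE (K : C) (p : ℕ) : Prop :=
  ∀ n : ℕ, ∃ (m : ℕ) (h : n ≤ m), ∀ y : Ext.{w'} (R.obj K) (G.obj (op m)) p,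
    ∃ x : Ext.{w} K (F.obj (op n)) p, cmp R (φ.app (op n)) K p x = T G (R.obj K) p h y

/-- pro-isomorphism in all degrees, at `K` -/
def Pro (K : C) : Prop := ∀ p, PM.{w, w'} R F G φ K p ∧ PE.{w, w'} R F G φ K p

section LES

variable {R} {S : ShortComplex C} (hS : S.ShortExact) (Y : D)

/-- connecting class of the mapped short exact sequence, typed over `R.obj` -/
noncomputable def dlR : Ext.{w'} (R.obj S.X₃) (R.obj S.X₁) 1 := (hS.map_of_exact R).extClass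

theorem cmp_dl {F : C} {G : D} (v : R.obj F ⟶ G) {p q : ℕ} (x : Ext.{w} S.X₁ F p) (h : 1 + p = q) :
    cmp R v S.X₃ q (hS.extClass.comp x h) = (dlR hS).comp (cmp R v S.X₁ p x) h :=
  cmp_extClass R v hS x h

variable {Y}

include hS

omit [HasExt.{w} C] in
theorem exact₁ {p q : ℕ} (y : Ext.{w'} (R.obj S.X₁) Y p) (h : 1 + p = q)
    (hy : (dlR hS).comp y h = 0) :
    ∃ z : Ext.{w'} (R.obj S.X₂) Y p, (Ext.mk₀ (R.map S.f)).comp z (zero_add p) = y :=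
  Ext.contravariant_sequence_exact₁ (hS.map_of_exact R) _ y h hy

omit [HasExt.{w} C] in
theorem exact₂ {p : ℕ} (y : Ext.{w'} (R.obj S.X₂) Y p)
    (hy : (Ext.mk₀ (R.map S.f)).comp y (zero_add p) = 0) :
    ∃ z : Ext.{w'} (R.obj S.X₃) Y p, (Ext.mk₀ (R.map S.g)).comp z (zero_add p) = y :=
  Ext.contravariant_sequence_exact₂ (hS.map_of_exact R) _ y hy

omit [HasExt.{w} C] in
theorem exact₃ {p q : ℕ} (y : Ext.{w'} (R.obj S.X₃) Y q) (h : 1 + p = q)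
    (hy : (Ext.mk₀ (R.map S.g)).comp y (zero_add q) = 0) :
    ∃ z : Ext.{w'} (R.obj S.X₁) Y p, (dlR hS).comp z h = y :=
  Ext.contravariant_sequence_exact₃ (hS.map_of_exact R) _ y hy h

end LES

variable {R F G φ}

omit [HasExt.{w} C] in
theorem pre_sub {K K' : D} (a : K' ⟶ K) {Y : D} {p : ℕ} (x y : Ext.{w'} K Y p) :
    (Ext.mk₀ a).comp (x - y) (zero_add p) =
      (Ext.mk₀ a).comp x (zero_add p) - (Ext.mk₀ a).comp y (zero_add p) :=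
  map_sub ((Ext.mk₀ a).precomp Y (zero_add p)) x y

theorem PM_succ {S : ShortComplex C} (hS : S.ShortExact) {p : ℕ}
    (h2 : PM.{w, w'} R F G φ S.X₂ (p + 1)) (h1 : PM.{w, w'} R F G φ S.X₁ p)
    (e2 : PE.{w, w'} R F G φ S.X₂ p) : PM.{w, w'} R F G φ S.X₃ (p + 1) := by
  intro n
  obtain ⟨n1, hn1, H1⟩ := h1 n
  obtain ⟨n2, hn2, H2⟩ := e2 n1
  obtain ⟨n3, hn3, H3⟩ := h2 n2
  refine ⟨n3, (hn1.trans hn2).trans hn3, fun x3 hx3 => ?_⟩
  have hgx : T F S.X₂ (p + 1) hn3 ((Ext.mk₀ S.g).comp x3 (zero_add (p + 1))) = 0 := by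
    apply H3
    rw [cmp_mk₀_comp, hx3, Ext.comp_zero]
  rw [T_pre] at hgx
  obtain ⟨x1, hx1⟩ := Ext.contravariant_sequence_exact₃ hS _ (T F S.X₃ (p + 1) hn3 x3) hgx
    (n₀ := p) (add_comm 1 p)
  have hd : (dlR hS).comp
      (cmp R (φ.app (op n2)) S.X₁ p x1 : Ext.{w'} (R.obj S.X₁) (G.obj (op n2)) p)
      (add_comm 1 p) = 0 := by
    rw [← cmp_dl, hx1, cmp_T, hx3, map_zero]
  obtain ⟨y2, hy2⟩ := exact₁ hS _ _ hd
  obtain ⟨x2, hx2⟩ := H2 y2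
  have hz : T F S.X₁ p hn1 (T F S.X₁ p hn2 x1 - (Ext.mk₀ S.f).comp x2 (zero_add p)) = 0 := by
    apply H1
    rw [map_sub, cmp_T, cmp_mk₀_comp, hx2, ← hy2, T_pre, sub_self]
  rw [map_sub, sub_eq_zero, T_T, T_pre] at hz
  rw [← T_T F (hn1.trans hn2) hn3, ← hx1, T_dl, hz]
  exact hS.extClass_comp_assoc _

theorem PM_zero {S : ShortComplex C} (hS : S.ShortExact)
    (h2 : PM.{w, w'} R F G φ S.X₂ 0) : PM.{w, w'} R F G φ S.X₃ 0 := by
  intro n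
  obtain ⟨n3, hn3, H3⟩ := h2 n
  refine ⟨n3, hn3, fun x3 hx3 => ?_⟩
  have hgx : T F S.X₂ 0 hn3 ((Ext.mk₀ S.g).comp x3 (zero_add 0)) = 0 := by
    apply H3
    rw [cmp_mk₀_comp, hx3, Ext.comp_zero]
  rw [T_pre] at hgx
  have := hS.epi_g
  apply Ext.precomp_mk₀_injective_of_epi (F.obj (op n)) S.g
  rw [map_zero]
  exact hgx

theorem PE_aux {S : ShortComplex C} (hS : S.ShortExact) {p : ℕ}
    (h2 : PE.{w, w'} R F G φ S.X₂ p) (h1 : PM.{w, w'} R F G φ S.X₁ p) (n1 : ℕ) :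
    ∃ (n3 : ℕ) (h13 : n1 ≤ n3), ∀ y3 : Ext.{w'} (R.obj S.X₃) (G.obj (op n3)) p,
      ∃ x3 : Ext.{w} S.X₃ (F.obj (op n1)) p,
        (Ext.mk₀ (R.map S.g)).comp (cmp R (φ.app (op n1)) S.X₃ p x3 -
          T G (R.obj S.X₃) p h13 y3) (zero_add p) = 0 := by
  obtain ⟨n2, hn2, H2⟩ := h1 n1
  obtain ⟨n3, hn3, H3⟩ := h2 n2
  refine ⟨n3, hn2.trans hn3, fun y3 => ?_⟩
  obtain ⟨x2, hx2⟩ := H3 ((Ext.mk₀ (R.map S.g)).comp y3 (zero_add p))
  have hfx : T F S.X₁ p hn2 ((Ext.mk₀ S.f).comp x2 (zero_add p)) = 0 := by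
    apply H2
    rw [cmp_mk₀_comp, hx2, T_pre, Ext.mk₀_comp_mk₀_assoc, ← Functor.map_comp, S.zero,
      Functor.map_zero, Ext.mk₀_zero, Ext.zero_comp]
  rw [T_pre] at hfx
  obtain ⟨x3, hx3⟩ := Ext.contravariant_sequence_exact₂ hS _ (T F S.X₂ p hn2 x2) hfx
  refine ⟨x3, ?_⟩
  rw [pre_sub, ← cmp_mk₀_comp, hx3, cmp_T, hx2, ← T_pre, T_T, sub_self]

theorem PE_zero {S : ShortComplex C} (hS : S.ShortExact)
    (h2 : PE.{w, w'} R F G φ S.X₂ 0) (h1 : PM.{w, w'} R F G φ S.X₁ 0) :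
    PE.{w, w'} R F G φ S.X₃ 0 := by
  intro n
  obtain ⟨m, hm, H⟩ := PE_aux hS h2 h1 n
  refine ⟨m, hm, fun y => ?_⟩
  obtain ⟨x, hx⟩ := H y
  refine ⟨x, ?_⟩
  rw [← sub_eq_zero]
  have := hS.epi_g
  apply Ext.precomp_mk₀_injective_of_epi (G.obj (op n)) (R.map S.g)
  rw [map_zero]
  exact hx

theorem PE_succ {S : ShortComplex C} (hS : S.ShortExact) {p : ℕ}
    (h2 : PE.{w, w'} R F G φ S.X₂ (p + 1)) (h1 : PM.{w, w'} R F G φ S.X₁ (p + 1))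
    (e1 : PE.{w, w'} R F G φ S.X₁ p) :
    PE.{w, w'} R F G φ S.X₃ (p + 1) := by
  intro n
  obtain ⟨n1, hn1, H1⟩ := e1 n
  obtain ⟨m, hm, H⟩ := PE_aux hS h2 h1 n1
  refine ⟨m, hn1.trans hm, fun y => ?_⟩
  obtain ⟨x, hx⟩ := H y
  obtain ⟨y1, hy1⟩ := exact₃ hS _ (add_comm 1 p) hx
  obtain ⟨x1, hx1⟩ := H1 y1
  refine ⟨T F S.X₃ (p + 1) hn1 x - hS.extClass.comp x1 (add_comm 1 p), ?_⟩
  rw [map_sub, cmp_dl, hx1, ← T_dl, hy1, cmp_T, ← map_sub, sub_sub_cancel, T_T]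

theorem Pro_of_shortExact {S : ShortComplex C} (hS : S.ShortExact)
    (h1 : Pro.{w, w'} R F G φ S.X₁) (h2 : Pro.{w, w'} R F G φ S.X₂) :
    Pro.{w, w'} R F G φ S.X₃ := by
  rintro (_ | p)
  · exact ⟨PM_zero hS (h2 0).1, PE_zero hS (h2 0).2 (h1 0).1⟩
  · exact ⟨PM_succ hS (h2 (p + 1)).1 (h1 p).1 (h2 p).2,
      PE_succ hS (h2 (p + 1)).2 (h1 (p + 1)).1 (h1 p).2⟩

theorem PM.mono {K : C} {p : ℕ} (h : PM.{w, w'} R F G φ K p) (n : ℕ) :
    ∃ (m : ℕ) (_ : n ≤ m), ∀ (l : ℕ) (_ : m ≤ l) (hnl : n ≤ l) (x : Ext.{w} K (F.obj (op l)) p),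
      cmp R (φ.app (op l)) K p x = (0 : Ext.{w'} (R.obj K) (G.obj (op l)) p) →
      T F K p hnl x = 0 := by
  obtain ⟨m, hm, H⟩ := h n
  refine ⟨m, hm, fun l hl hnl x hx => ?_⟩
  rw [← T_T F hm hl]
  apply H
  rw [cmp_T, hx, map_zero]

theorem PE.mono {K : C} {p : ℕ} (h : PE.{w, w'} R F G φ K p) (n : ℕ) :
    ∃ (m : ℕ) (_ : n ≤ m), ∀ (l : ℕ) (_ : m ≤ l) (hnl : n ≤ l)
      (y : Ext.{w'} (R.obj K) (G.obj (op l)) p),
      ∃ x : Ext.{w} K (F.obj (op n)) p, cmp R (φ.app (op n)) K p x = T G (R.obj K) p hnl y := by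
  obtain ⟨m, hm, H⟩ := h n
  refine ⟨m, hm, fun l hl hnl y => ?_⟩
  obtain ⟨x, hx⟩ := H (T G (R.obj K) p hl y)
  exact ⟨x, by rw [hx, T_T]⟩

omit [HasExt.{w} C] in
theorem eq_zero_of_biprod {E : Type*} [Category* E] [Abelian E] [HasExt.{w} E] {K K' Y : E} {p : ℕ}
    (x : Ext.{w} (K ⊞ K') Y p) (h1 : (Ext.mk₀ (biprod.inl : K ⟶ K ⊞ K')).comp x (zero_add p) = 0)
    (h2 : (Ext.mk₀ (biprod.inr : K' ⟶ K ⊞ K')).comp x (zero_add p) = 0) : x = 0 := by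
  rw [← Ext.mk₀_id_comp x, ← biprod.total, Ext.mk₀_add, Ext.add_comp, ← Ext.mk₀_comp_mk₀_assoc,
    ← Ext.mk₀_comp_mk₀_assoc, h1, h2, Ext.comp_zero, Ext.comp_zero, add_zero]

theorem Pro_biprod {K K' : C} (h1 : Pro.{w, w'} R F G φ K) (h2 : Pro.{w, w'} R F G φ K') :
    Pro.{w, w'} R F G φ (K ⊞ K') := by
  intro p
  constructor
  · intro n
    obtain ⟨m1, hm1, H1⟩ := (h1 p).1.mono n
    obtain ⟨m2, hm2, H2⟩ := (h2 p).1.mono n
    refine ⟨max m1 m2, le_max_of_le_left hm1, fun x hx => ?_⟩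
    apply eq_zero_of_biprod
    · rw [← T_pre]
      apply H1 _ (le_max_left _ _)
      rw [cmp_mk₀_comp, hx, Ext.comp_zero]
    · rw [← T_pre]
      apply H2 _ (le_max_right _ _)
      rw [cmp_mk₀_comp, hx, Ext.comp_zero]
  · intro n
    obtain ⟨m1, hm1, H1⟩ := (h1 p).2.mono n
    obtain ⟨m2, hm2, H2⟩ := (h2 p).2.mono n
    refine ⟨max m1 m2, le_max_of_le_left hm1, fun y => ?_⟩
    obtain ⟨x1, hx1⟩ := H1 _ (le_max_left _ _) (le_max_of_le_left hm1)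
      ((Ext.mk₀ (R.map (biprod.inl : K ⟶ K ⊞ K'))).comp y (zero_add p))
    obtain ⟨x2, hx2⟩ := H2 _ (le_max_right _ _) (le_max_of_le_left hm1)
      ((Ext.mk₀ (R.map (biprod.inr : K' ⟶ K ⊞ K'))).comp y (zero_add p))
    refine ⟨(Ext.mk₀ (biprod.fst : K ⊞ K' ⟶ K)).comp x1 (zero_add p) +
      (Ext.mk₀ (biprod.snd : K ⊞ K' ⟶ K')).comp x2 (zero_add p), ?_⟩
    rw [map_add, cmp_mk₀_comp, cmp_mk₀_comp, hx1, hx2, ← T_pre, ← T_pre, ← map_add,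
      Ext.mk₀_comp_mk₀_assoc, Ext.mk₀_comp_mk₀_assoc, ← Ext.add_comp, ← Ext.mk₀_add,
      ← Functor.map_comp, ← Functor.map_comp, ← Functor.map_add, biprod.total, R.map_id,
      Ext.mk₀_id_comp]

theorem Pro_of_iso {K K' : C} (e : K ≅ K') (h : Pro.{w, w'} R F G φ K) : Pro.{w, w'} R F G φ K' := by
  intro p
  constructor
  · intro n
    obtain ⟨m, hm, H⟩ := (h p).1 n
    refine ⟨m, hm, fun x hx => ?_⟩
    have := H ((Ext.mk₀ e.hom).comp x (zero_add p)) (by rw [cmp_mk₀_comp, hx, Ext.comp_zero])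
    rw [T_pre] at this
    rw [← Ext.mk₀_id_comp (T F K' p hm x), ← e.inv_hom_id, ← Ext.mk₀_comp_mk₀_assoc, this,
      Ext.comp_zero]
  · intro n
    obtain ⟨m, hm, H⟩ := (h p).2 n
    refine ⟨m, hm, fun y => ?_⟩
    obtain ⟨x, hx⟩ := H ((Ext.mk₀ (R.map e.hom)).comp y (zero_add p))
    refine ⟨(Ext.mk₀ e.inv).comp x (zero_add p), ?_⟩
    rw [cmp_mk₀_comp, hx, ← T_pre, Ext.mk₀_comp_mk₀_assoc, ← Functor.map_comp, e.inv_hom_id,
      R.map_id, Ext.mk₀_id_comp]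

end Groth.Agent.LoccohA.TDPro
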