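import Mathlib.CategoryTheory.Abelian.Basic
import Mathlib.CategoryTheory.Abelian.Exact
import Mathlib.CategoryTheory.Subobject.WellPowered
import Mathlib.CategoryTheory.Limits.Shapes.Products
import Mathlib.CategoryTheory.ObjectProperty.Basic

/-!
# Representability of a contravariant additive functor which is left exact and turns coproducts
into products, on a nice full subcategory of an abelian category

`C` is an abelian category with coproducts which is well-powered, `P` a property of objects
closed under kernels, cokernels and coproducts such that each object with `P` is a quotient of a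
coproduct of objects from a small family.
-/

set_option autoImplicit false
universe v u

open CategoryTheory CategoryTheory.Limits

noncomputable section

namespace Groth.Agent.LoccohA.TDRepAbs

variable {C : Type u} [Category.{v} C] [Abelian C]

/-- Closure properties. -/
structure Closed (P : ObjectProperty C) : Prop where
  iso : ∀ {M N : C}, (M ≅ N) → P M → P N
  ker : ∀ {M N : C} (f : M ⟶ N), P M → P N → P (kernel f)
  coker : ∀ {M N : C} (f : M ⟶ N), P M → P N → P (cokernel f)
  biprod : ∀ {M N : C}, P M → P N → P (M ⊞ N)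

theorem Closed.image {P : ObjectProperty C} (hP : Closed P) {M N : C} (f : M ⟶ N) (hM : P M)
    (hN : P N) : P (image f) :=
  hP.iso (Abelian.coimageIsoImage' f) (hP.coker _ (hP.ker f hM hN) hM)

theorem Closed.pullback {P : ObjectProperty C} (hP : Closed P) {L M N : C} (f : L ⟶ N) (g : M ⟶ N)
    (hL : P L) (hM : P M) (hN : P N) : P (Limits.pullback f g) := by
  have e : kernel (biprod.desc f (-g)) ≅ Limits.pullback f g :=
    IsLimit.conePointUniqueUpToIso (limit.isLimit _)
      (Abelian.PullbackToBiproductIsKernel.isLimitPullbackToBiproduct f g)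
  exact hP.iso e (hP.ker _ (hP.biprod hL hM) hN)

variable (P : ObjectProperty C) (Φ : C → Type v) [∀ M, AddCommGroup (Φ M)]
  (res : ∀ {M N : C}, (M ⟶ N) → Φ N →+ Φ M)

/-- A contravariant additive functor `Φ`, left exact on `P` and compatible with coproducts. -/
structure LeftExact : Prop where
  id : ∀ {M : C} (t : Φ M), res (𝟙 M) t = t
  comp : ∀ {L M N : C} (f : L ⟶ M) (g : M ⟶ N) (t : Φ N), res (f ≫ g) t = res f (res g t)
  add : ∀ {M N : C} (f g : M ⟶ N) (t : Φ N), res (f + g) t = res f t + res g t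
  epi : ∀ {M N : C} (f : M ⟶ N) [Epi f], P M → P N → Function.Injective (res f)
  coker : ∀ {M N : C} (f : M ⟶ N) [Mono f], P M → P N → ∀ s : Φ N, res f s = 0 →
    ∃ t : Φ (cokernel f), res (cokernel.π f) t = s
  sigma_ext : ∀ {J : Type v} (M : J → C) [HasCoproduct M], (∀ j, P (M j)) → ∀ s : Φ (∐ M),
    (∀ j, res (Sigma.ι M j) s = 0) → s = 0
  sigma_glue : ∀ {J : Type v} (M : J → C) [HasCoproduct M], (∀ j, P (M j)) → ∀ s : ∀ j, Φ (M j),
    ∃ t : Φ (∐ M), ∀ j, res (Sigma.ι M j) t = s j

variable {P Φ res}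

theorem LeftExact.zero (h : LeftExact P Φ @res) {M N : C} (t : Φ N) :
    res (0 : M ⟶ N) t = 0 := by
  have := h.add (0 : M ⟶ N) 0 t
  rw [add_zero] at this
  simpa using this

theorem LeftExact.neg (h : LeftExact P Φ @res) {M N : C} (f : M ⟶ N) (t : Φ N) :
    res (-f) t = - res f t := by
  have := h.add f (-f) t
  rw [add_neg_cancel, h.zero] at this
  exact (neg_eq_of_add_eq_zero_right this.symm).symm

theorem LeftExact.sub (h : LeftExact P Φ @res) {M N : C} (f g : M ⟶ N) (t : Φ N) :
    res (f - g) t = res f t - res g t := by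
  rw [sub_eq_add_neg, h.add, h.neg, sub_eq_add_neg]

/-- Representability. -/
theorem exists_repr [HasCoproducts.{v} C] [WellPowered.{v} C] (hP : Closed P)
    (hsig : ∀ {J : Type v} (M : J → C), (∀ j, P (M j)) → P (∐ M))
    (h : LeftExact P Φ @res) {ι : Type v} (S : ι → C) (hS : ∀ i, P (S i))
    (gen : ∀ F, P F → ∃ (J : Type v) (s : J → ι) (p : (∐ fun j => S (s j)) ⟶ F), Epi p) :
    ∃ (ω : C) (t : Φ ω), P ω ∧ ∀ F, P F → ∀ ψ : Φ F, ∃! φ : F ⟶ ω, res φ t = ψ := by
  classical
  -- the big coproduct
  let J0 : Type v := Σ i, Φ (S i)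
  let P0 : C := ∐ fun j : J0 => S j.1
  have hP0 : P P0 := hsig _ fun j => hS j.1
  obtain ⟨ψ0, hψ0⟩ := h.sigma_glue (fun j : J0 => S j.1) (fun j => hS j.1) (fun j => j.2)
  -- the sum of the killed subobjects
  let T : Set (Subobject P0) := {K | P (K : C) ∧ res K.arrow ψ0 = 0}
  let e := equivShrink.{v} T
  let q : (∐ fun j : Shrink.{v} T => ((e.symm j : Subobject P0) : C)) ⟶ P0 :=
    Sigma.desc fun j => (e.symm j : Subobject P0).arrow
  have hQ : P (∐ fun j : Shrink.{v} T => ((e.symm j : Subobject P0) : C)) :=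
    hsig _ fun j => (e.symm j).2.1
  have hq : res q ψ0 = 0 := by
    refine h.sigma_ext _ (fun j => (e.symm j).2.1) _ fun j => ?_
    rw [← h.comp]
    have : Sigma.ι (fun j : Shrink.{v} T => ((e.symm j : Subobject P0) : C)) j ≫ q =
      (e.symm j : Subobject P0).arrow := Sigma.ι_desc _ _
    rw [this]
    exact (e.symm j).2.2
  have hI : P (image q) := hP.image q hQ hP0
  have hιψ : res (image.ι q) ψ0 = 0 := by
    refine h.epi (factorThruImage q) hQ hI ?_
    rw [← h.comp, image.fac, hq, map_zero]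
  let π : P0 ⟶ cokernel (image.ι q) := cokernel.π (image.ι q)
  have hω : P (cokernel (image.ι q)) := hP.coker _ hI hP0
  obtain ⟨t, ht⟩ := h.coker (image.ι q) hI hP0 ψ0 hιψ
  have hqπ : q ≫ π = 0 :=
    (congrArg (· ≫ π) (image.fac q)).symm.trans (by
      change (factorThruImage q ≫ image.ι q) ≫ cokernel.π (image.ι q) = 0
      rw [Category.assoc, cokernel.condition, comp_zero])
  have key : ∀ K : T, (K : Subobject P0).arrow ≫ π = 0 := by
    intro K
    obtain ⟨j, rfl⟩ := e.symm.surjective K
    have : Sigma.ι (fun j : Shrink.{v} T => ((e.symm j : Subobject P0) : C)) j ≫ q =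
      (e.symm j : Subobject P0).arrow := Sigma.ι_desc _ _
    rw [← this, Category.assoc, hqπ, comp_zero]
  -- uniqueness
  have uniq : ∀ F, P F → ∀ φ : F ⟶ cokernel (image.ι q), res φ t = 0 → φ = 0 := by
    intro F hF φ hφ
    let a : pullback π φ ⟶ P0 := pullback.fst π φ
    let b : pullback π φ ⟶ F := pullback.snd π φ
    have hab : a ≫ π = b ≫ φ := pullback.condition
    have hpb : P (pullback π φ) := hP.pullback π φ hP0 hF hω
    have hres : res a ψ0 = 0 := by
      rw [← ht, ← h.comp, hab, h.comp, hφ, map_zero]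
    have hJ : P (image a) := hP.image a hpb hP0
    have hresJ : res (image.ι a) ψ0 = 0 := by
      refine h.epi (factorThruImage a) hpb hJ ?_
      rw [← h.comp, image.fac, hres, map_zero]
    have hT : Subobject.mk (image.ι a) ∈ T := by
      refine ⟨hP.iso (Subobject.underlyingIso (image.ι a)).symm hJ, ?_⟩
      rw [← Subobject.underlyingIso_hom_comp_eq_mk, h.comp, hresJ, map_zero]
    have harrow : (Subobject.mk (image.ι a)).arrow ≫ π = 0 := key ⟨_, hT⟩
    have hι : image.ι a ≫ π = 0 := by
      rw [← Subobject.underlyingIso_arrow (image.ι a), Category.assoc, harrow, comp_zero]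
    have haπ : a ≫ π = 0 := by
      rw [← image.fac a, Category.assoc, hι, comp_zero]
    have : Epi b := Abelian.epi_pullback_of_epi_f π φ
    rw [← cancel_epi b, ← hab, haπ, comp_zero]
  refine ⟨cokernel (image.ι q), t, hω, fun F hF ψ => ?_⟩
  obtain ⟨J, s, p, hp⟩ := gen F hF
  have hQ' : P (∐ fun j => S (s j)) := hsig _ fun j => hS (s j)
  -- existence on the coproduct
  let f : (∐ fun j => S (s j)) ⟶ cokernel (image.ι q) := Sigma.desc fun j =>
    Sigma.ι (fun j : J0 => S j.1) ⟨s j, res (Sigma.ι (fun j => S (s j)) j) (res p ψ)⟩ ≫ π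
  have hf : res f t = res p ψ := by
    rw [← sub_eq_zero]
    refine h.sigma_ext _ (fun j => hS (s j)) _ fun j => ?_
    rw [map_sub, ← h.comp, Sigma.ι_desc, h.comp, ht, hψ0, sub_self]
  have hk : kernel.ι p ≫ f = 0 := by
    refine uniq _ (hP.ker p hQ' hF) _ ?_
    rw [h.comp, hf, ← h.comp, kernel.condition, h.zero]
  obtain ⟨φ, hφ⟩ : ∃ φ : F ⟶ cokernel (image.ι q), p ≫ φ = f :=
    ⟨Abelian.epiDesc p f hk, Abelian.comp_epiDesc p f hk⟩
  have hφt : res φ t = ψ := by
    refine h.epi p hQ' hF ?_
    rw [← h.comp, hφ, hf]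
  refine ⟨φ, hφt, fun φ' hφ' => ?_⟩
  rw [← sub_eq_zero]
  refine uniq F hF _ ?_
  rw [h.sub, hφt, hφ', sub_self]

end Groth.Agent.LoccohA.TDRepAbs
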