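import Groth.Agent.LoccohA.DzTrunc2
import Groth.Agent.LoccohA.LCTBase
import Groth.Agent.Localalg.OldExt

/-!
# Truncating a dualizing complex and top local cohomology

* `kill`: a criterion for `a` to annihilate `H^d_I(W)` in terms of morphisms in `D(A)`;
* `exists_trunc_map`: if `f` annihilates `H^i(K)` for `i > c` then `f^N • 𝟙` of `τ_{≤ c} K` factors
  through `K`.
-/

set_option autoImplicit false
set_option linter.unusedSectionVars false

universe u

open CategoryTheory Limits Pretriangulated Category Opposite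

namespace Groth.Agent.LoccohA.TopDual

open DzExact DzTrunc DzTrunc2 DerivedCategory LCTBase LCTColim

attribute [local instance] HasDerivedCategory.standard

variable {A : Type u} [CommRing A]

/-- Bounded `f`-power torsion modules form a class closed under extensions. -/
lemma closed_fpow (f : A) : Closed A (fun (E : Type (u + 1)) [AddCommGroup E] [Module A E] =>
    ∃ N : ℕ, ∀ x : E, f ^ N • x = 0) where
  exact {E₁ E₂ E₃} _ _ _ _ _ _ u v huv h1 h3 := by
    obtain ⟨N, hN⟩ := h1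
    obtain ⟨M, hM⟩ := h3
    refine ⟨N + M, fun x => ?_⟩
    have h4 : v (f ^ M • x) = 0 := by rw [map_smul, hM]
    obtain ⟨y, hy⟩ := (huv _).1 h4
    rw [pow_add, mul_smul, ← hy, ← map_smul, hN, map_zero]
  zero E _ _ h := ⟨0, fun x => Subsingleton.elim _ _⟩

/-- If `f` kills the cohomology of a bounded `Y` then some `f^N` kills `Y`. -/
lemma exists_pow_smul_id (f : A) (Y : Dual.D A) (c d : ℤ) [hc : Y.IsGE c] [hd : Y.IsLE d]
    (h : ∀ i : ℤ, ∀ x : Dual.HD A Y i, f • x = 0) : ∃ N : ℕ, f ^ N • 𝟙 Y = 0 := by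
  obtain ⟨N, hN⟩ := hom_of_truncation' (closed_fpow f) Y 0 c d Y (fun i => by
    refine ⟨1, fun x => ?_⟩
    have h1 : f • 𝟙 ((homologyFunctor (ModuleCat.{u} A) i).obj Y) = 0 := by
      ext y
      exact h i y
    have h2 : f • 𝟙 ((singleFunctor (ModuleCat.{u} A) 0).obj
        ((homologyFunctor (ModuleCat.{u} A) i).obj Y)) = 0 := by
      rw [← CategoryTheory.Functor.map_id, ← Functor.map_smul, h1, Functor.map_zero]
    rw [pow_one, ← Category.id_comp x, ← Linear.smul_comp, h2, zero_comp])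
  refine ⟨N, ?_⟩
  have h3 := hN ((shiftFunctorZero (Dual.D A) ℤ).inv.app Y)
  rw [← Category.id_comp ((shiftFunctorZero (Dual.D A) ℤ).inv.app Y), ← Linear.smul_comp] at h3
  exact (Preadditive.IsIso.comp_right_eq_zero _ _).1 h3

lemma exists_retraction (T : Triangle (Dual.D A)) (hT : T ∈ distTriang (Dual.D A)) (a : A)
    (h : a • 𝟙 T.obj₃ = 0) : ∃ g : T.obj₂ ⟶ T.obj₁, T.mor₁ ≫ g = a • 𝟙 T.obj₁ := by
  have hT' := inv_rot_of_distTriang _ hT
  have h4 : (a • 𝟙 (T.obj₃⟦(-1 : ℤ)⟧)) = 0 := by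
    rw [← CategoryTheory.Functor.map_id, ← Functor.map_smul, h, Functor.map_zero]
  have key : ∀ v : T.obj₃⟦(-1 : ℤ)⟧ ⟶ T.obj₁, v ≫ (a • 𝟙 T.obj₁) = 0 := by
    intro v
    rw [Linear.comp_smul, Category.comp_id, ← Category.id_comp v, ← Linear.smul_comp, h4,
      zero_comp]
  obtain ⟨g, hg⟩ := Triangle.yoneda_exact₂ _ hT' (a • 𝟙 T.obj₁) (key _)
  exact ⟨g, hg.symm⟩

/-- If `f` annihilates `H^i(K)` for `i > c`, then for some `N` the morphism `f^N • 𝟙` of
`τ_{≤ c} K` factors through `τ_{≤ c} K ⟶ K`. -/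
lemma exists_trunc_map (f : A) (K : Dual.D A) (c d : ℤ) [hd : K.IsLE d]
    (h : ∀ i : ℤ, c < i → ∀ x : Dual.HD A K i, f • x = 0) :
    ∃ (N : ℕ) (g : K ⟶ (TStructure.t.truncLE c).obj K),
      (TStructure.t.truncLEι c).app K ≫ g = f ^ N • 𝟙 _ := by
  have hT := TStructure.t.triangleLEGE_distinguished c (c + 1) rfl K
  have h1 : IsGE ((TStructure.t.truncGE (c + 1)).obj K) (c + 1) := by
    change TStructure.t.IsGE _ _
    infer_instance
  have h2 : IsLE ((TStructure.t.truncGE (c + 1)).obj K) d := by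
    change TStructure.t.IsLE _ _
    infer_instance
  obtain ⟨N, hN⟩ := exists_pow_smul_id f ((TStructure.t.truncGE (c + 1)).obj K) (c + 1) d
    (fun i x => by
      by_cases hi : c + 1 ≤ i
      · have := isIso_homology_truncGE K (c + 1) i hi
        let e := (asIso ((homologyFunctor (ModuleCat.{u} A) i).map
          ((TStructure.t.truncGEπ (c + 1)).app K))).toLinearEquiv
        obtain ⟨y, rfl⟩ := e.surjective x
        rw [← map_smul, h i (by omega) y, map_zero]
      · have h3 : IsZero ((homologyFunctor (ModuleCat.{u} A) i).obj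
            ((TStructure.t.truncGE (c + 1)).obj K)) := isZero_of_isGE _ (c + 1) i (by omega)
        have := ModuleCat.subsingleton_of_isZero h3
        exact Subsingleton.elim _ _)
  obtain ⟨g, hg⟩ := exists_retraction _ hT (f ^ N) hN
  exact ⟨N, g, hg⟩

/-- A criterion for the annihilation of local cohomology. -/
lemma kill (I : Ideal A) (d : ℕ) (W : Type u) [AddCommGroup W] [Module A W] (a : A)
    (h : ∀ (n : ℕ) (φ : Dual.inD A (A ⧸ I ^ n) ⟶ (Dual.inD A W)⟦(d : ℤ)⟧), ∃ (m : ℕ) (hm : n ≤ m),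
      a • ((singleFunctor (ModuleCat.{u} A) 0).map (pr (Ideal.pow_le_pow_right hm)) ≫ φ) = 0)
    (x : LocCoh.H I d W) : a • x = 0 := by
  obtain ⟨n, e, rfl⟩ := (H_isColim I d W).surj x
  let e' := Groth.Agent.Localalg.OldExt.extEquiv (R := A) (ModuleCat.of A (A ⧸ I ^ n.unop.unop))
    (ModuleCat.of A W) d e
  obtain ⟨m, hm, hφ⟩ := h n.unop.unop e'.hom
  let n' : ℕᵒᵖᵒᵖ := op (op m)
  let t : n ⟶ n' := (homOfLE hm).op.op
  have h1 := (H_isColim I d W).compat t e
  rw [← h1, ← map_smul]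
  have h2 : a • ((Hdiag I d (ModuleCat.of A W)).map t).hom e = 0 := by
    apply (Groth.Agent.Localalg.OldExt.extEquiv (R := A) (ModuleCat.of A (A ⧸ I ^ m))
      (ModuleCat.of A W) d).injective
    refine (map_smul _ _ _).trans ?_
    refine Eq.trans ?_ (map_zero _).symm
    have h3 := Groth.Agent.Localalg.OldExt.extEquiv_naturality_left (R := A)
      (pr (Ideal.pow_le_pow_right (I := I) hm)) (ModuleCat.of A W) d e
    rw [Hdiag_map]
    refine (congrArg (fun z => a • z) h3).trans ?_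
    ext
    rw [Abelian.Ext.smul_hom, Abelian.Ext.comp_hom, Abelian.Ext.mk₀_hom, ShiftedHom.mk₀_comp]
    rw [hφ]
    exact (Abelian.Ext.homAddEquiv.map_zero).symm
  rw [h2, map_zero]

end Groth.Agent.LoccohA.TopDual
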