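import Groth.Agent.Localalg.LCChange
import Mathlib.RingTheory.Jacobson.Ideal
import Mathlib.RingTheory.KrullDimension.Basic
import Mathlib.Algebra.Module.LocalizedModule.Basic

/-!
# Vanishing of top local cohomology: enlarging the ideal inside the Jacobson radical

If `f` is in the Jacobson radical, `dim A ≤ d + 1` and `H^{d+1}_{I+(f)} = 0` then `H^{d+1}_I = 0`.
-/

set_option autoImplicit false
universe u

open CategoryTheory Limits
open Groth.Agent.Localalg.DeltaFun Groth.Agent.Localalg.Gam Groth.Agent.Localalg.LCAbs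

namespace Groth.Agent.LoccohA.TopVanJac

variable {A : Type u} [CommRing A] [IsNoetherianRing A] {I : Ideal A} {f : A}

/-- For `f`-power torsion modules the supports `I` and `I + (f)` give the same cohomology. -/
theorem nonempty_iso_of_torsion (TI : LC I) (TJ : LC (Ideal.span {f}))
    (TIJ : LC (I ⊔ Ideal.span {f})) (N : ModuleCat.{u} A)
    (hN : LocCoh.IsPowerTorsion (Ideal.span {f}) N) (n : ℕ) :
    Nonempty (TI.obj n N ≅ TIJ.obj n N) := by
  obtain ⟨e⟩ := TI.nonempty_comp_iso TJ TIJ n N (fun k => TJ.acyc_of_torsion k N hN)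
  have h1 : gam (Ideal.span {f}) N = ⊤ := isPowerTorsion_iff.1 hN
  let e' : N ≅ (gamFunctor (Ideal.span {f})).obj N :=
    (LinearEquiv.ofTop _ h1).toModuleIso.symm
  exact ⟨(TI.D.T n).mapIso e' ≪≫ e⟩

/-- If `f` acts invertibly then the cohomology with support in `I + (f)` vanishes. -/
theorem isZero_of_div (TI : LC I) (TJ : LC (Ideal.span {f}))
    (TIJ : LC (I ⊔ Ideal.span {f})) (N : ModuleCat.{u} A)
    (hN : Div f N) (h0 : gam (Ideal.span {f}) N = ⊥) (n : ℕ) :
    IsZero (TIJ.obj n N) := by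
  obtain ⟨e⟩ := TI.nonempty_comp_iso TJ TIJ n N (fun k => TJ.acyc_of_div k N hN)
  refine IsZero.of_iso ?_ e.symm
  refine Functor.map_isZero _ ?_
  rw [ModuleCat.isZero_iff_subsingleton]
  change Subsingleton (gam (Ideal.span {f}) N)
  rw [h0]
  infer_instance

/-- the localization of a module at the powers of an element, as an object -/
noncomputable abbrev loc (f : A) (M : ModuleCat.{u} A) : ModuleCat.{u} A :=
  ModuleCat.of A (LocalizedModule (Submonoid.powers f) M)

omit [IsNoetherianRing A] in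
theorem isUnit_smul (M : ModuleCat.{u} A) (n : ℕ) :
    IsUnit (algebraMap A (Module.End A (LocalizedModule (Submonoid.powers f) M)) (f ^ n)) :=
  IsLocalizedModule.map_units (LocalizedModule.mkLinearMap (Submonoid.powers f) M)
    (⟨f ^ n, n, rfl⟩ : Submonoid.powers f)

omit [IsNoetherianRing A] in
theorem div_loc (M : ModuleCat.{u} A) : Div f (loc f M) := by
  intro x n
  obtain ⟨y, hy⟩ := ((Module.End.isUnit_iff _).1 (isUnit_smul (f := f) M n)).2 x
  refine ⟨y, 0, ?_⟩
  have h1 : f ^ n • y = x := hy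
  rw [h1, sub_self, smul_zero]

omit [IsNoetherianRing A] in
theorem gam_loc (M : ModuleCat.{u} A) : gam (Ideal.span {f}) (loc f M) = ⊥ := by
  rw [eq_bot_iff]
  intro x hx
  obtain ⟨n, hn⟩ := mem_gam_span_singleton.1 hx
  have h1 := ((Module.End.isUnit_iff _).1 (isUnit_smul (f := f) M n)).1
  exact h1 (a₁ := x) (a₂ := 0) (by
    change f ^ n • x = f ^ n • (0 : LocalizedModule (Submonoid.powers f) M)
    rw [hn, smul_zero])

/-- The main step. -/
theorem isZero_step (TI : LC I) (TJ : LC (Ideal.span {f}))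
    (TIJ : LC (I ⊔ Ideal.span {f})) (d : ℕ)
    (hIJ : ∀ M : ModuleCat.{u} A, IsZero (TIJ.obj (d + 1) M))
    (hloc : ∀ M : ModuleCat.{u} A, IsZero (TI.obj (d + 1) (loc f M)))
    (M : ModuleCat.{u} A) : IsZero (TI.obj (d + 1) M) := by
  let φ : M →ₗ[A] LocalizedModule (Submonoid.powers f) M :=
    LocalizedModule.mkLinearMap (Submonoid.powers f) M
  -- the two short exact sequences
  let S : ShortComplex (ModuleCat.{u} A) :=
    ShortComplex.mk (X₁ := ModuleCat.of A (LinearMap.ker φ)) (X₂ := M)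
      (X₃ := ModuleCat.of A (LinearMap.range φ))
      (ModuleCat.ofHom (LinearMap.ker φ).subtype) (ModuleCat.ofHom φ.rangeRestrict) (by
        ext x : 2
        exact Subtype.ext (LinearMap.mem_ker.1 x.2))
  have hS : S.ShortExact := by
    refine ShortComplex.ShortExact.mk' ?_ ?_ ?_
    · rw [ShortComplex.ShortExact.moduleCat_exact_iff_function_exact]
      intro x
      constructor
      · intro hx
        have h1 : φ x = 0 := congrArg Subtype.val hx
        exact ⟨⟨x, h1⟩, rfl⟩
      · rintro ⟨y, rfl⟩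
        exact Subtype.ext y.2
    · rw [ModuleCat.mono_iff_injective]
      exact Submodule.injective_subtype _
    · rw [ModuleCat.epi_iff_surjective]
      exact φ.surjective_rangeRestrict
  let S' : ShortComplex (ModuleCat.{u} A) :=
    ShortComplex.mk (X₁ := ModuleCat.of A (LinearMap.range φ)) (X₂ := loc f M)
      (X₃ := ModuleCat.of A (LocalizedModule (Submonoid.powers f) M ⧸ LinearMap.range φ))
      (ModuleCat.ofHom (LinearMap.range φ).subtype) (ModuleCat.ofHom (LinearMap.range φ).mkQ) (by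
        ext x
        exact (Submodule.Quotient.mk_eq_zero _).2 x.2)
  have hS' : S'.ShortExact := by
    refine ShortComplex.ShortExact.mk' ?_ ?_ ?_
    · rw [ShortComplex.ShortExact.moduleCat_exact_iff_function_exact]
      intro x
      constructor
      · intro hx
        have h1 := (Submodule.Quotient.mk_eq_zero (LinearMap.range φ)).1 hx
        exact ⟨⟨x, h1⟩, rfl⟩
      · rintro ⟨y, rfl⟩
        exact (Submodule.Quotient.mk_eq_zero _).2 y.2
    · rw [ModuleCat.mono_iff_injective]
      exact Submodule.injective_subtype _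
    · rw [ModuleCat.epi_iff_surjective]
      exact Submodule.mkQ_surjective _
  have hK : LocCoh.IsPowerTorsion (Ideal.span {f}) S.X₁ := by
    rw [isPowerTorsion_iff, eq_top_iff]
    rintro ⟨x, hx⟩ -
    refine mem_gam_span_singleton.2 ?_
    have h1 : LocalizedModule.mk x (1 : Submonoid.powers f) = 0 := hx
    rw [← LocalizedModule.zero_mk (1 : Submonoid.powers f), LocalizedModule.mk_eq] at h1
    obtain ⟨⟨_, n, rfl⟩, hn⟩ := h1
    refine ⟨n, Subtype.ext ?_⟩
    change f ^ n • x = 0
    simpa [Submonoid.smul_def] using hn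
  have hQ : LocCoh.IsPowerTorsion (Ideal.span {f}) S'.X₃ := by
    rw [isPowerTorsion_iff, eq_top_iff]
    intro q _
    obtain ⟨x, rfl⟩ := Submodule.mkQ_surjective _ q
    obtain ⟨⟨m, ⟨_, n, rfl⟩⟩, hm⟩ := IsLocalizedModule.surj (Submonoid.powers f)
      (LocalizedModule.mkLinearMap (Submonoid.powers f) M) x
    refine mem_gam_span_singleton.2 ⟨n, ?_⟩
    rw [← map_smul]
    exact (Submodule.Quotient.mk_eq_zero _).2 ⟨m, hm.symm⟩
  -- the cohomology of the terms
  obtain ⟨eK⟩ := nonempty_iso_of_torsion TI TJ TIJ S.X₁ hK (d + 1)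
  obtain ⟨eQ⟩ := nonempty_iso_of_torsion TI TJ TIJ S'.X₃ hQ d
  have h1 : IsZero (TI.obj (d + 1) S.X₁) := (hIJ _).of_iso eK
  have h2 : IsZero (TIJ.obj d S'.X₃) :=
    TIJ.isZero_X₃ hS' d (isZero_of_div TI TJ TIJ _ (div_loc M) (gam_loc M) d) (hIJ _)
  have h3 : IsZero (TI.obj d S'.X₃) := h2.of_iso eQ
  have h4 : IsZero (TI.obj (d + 1) S'.X₁) := TI.isZero_X₁ hS' d (hloc M) h3
  exact TI.isZero_X₂ hS (d + 1) h1 h4

end Groth.Agent.LoccohA.TopVanJac
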