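import Groth.Agent.LoccohA.TopVanJac
import Mathlib.RingTheory.Spectrum.Prime.Basic
import Mathlib.RingTheory.Localization.Away.Basic
import Mathlib.RingTheory.Noetherian.Basic

/-!
# Top vanishing inside the Jacobson radical, assembly
-/

set_option autoImplicit false
universe u

open CategoryTheory Limits
open Groth.Agent.Localalg.DeltaFun Groth.Agent.Localalg.Gam Groth.Agent.Localalg.LCAbs

namespace Groth.Agent.LoccohA.TopVanJac

variable {A : Type u} [CommRing A]

/-- Inverting an element of the Jacobson radical drops the dimension. -/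
theorem ringKrullDim_away_le (f : A) (hf : f ∈ (⊥ : Ideal A).jacobson) (d : ℕ)
    (hd : ringKrullDim A ≤ (d + 1 : ℕ)) : ringKrullDim (Localization.Away f) ≤ d := by
  refine iSup_le fun s => ?_
  have hmono : StrictMono (PrimeSpectrum.comap (algebraMap A (Localization.Away f))) := by
    refine Monotone.strictMono_of_injective ?_
      (PrimeSpectrum.localization_comap_injective _ (Submonoid.powers f))
    intro p q hpq
    exact Ideal.comap_mono hpq
  let s' := s.map _ hmono
  obtain ⟨m, hm, hle⟩ := Ideal.exists_le_maximal s'.last.asIdeal s'.last.2.ne_top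
  have hfm : f ∈ m := by
    have h1 := Ideal.mem_sInf.1 hf (show m ∈ {J : Ideal A | ⊥ ≤ J ∧ J.IsMaximal} from ⟨bot_le, hm⟩)
    exact h1
  have hfl : f ∉ s'.last.asIdeal := by
    intro h
    have h1 : s'.last = PrimeSpectrum.comap (algebraMap A (Localization.Away f)) s.last := rfl
    rw [h1] at h
    have h2 : algebraMap A (Localization.Away f) f ∈ s.last.asIdeal := h
    exact s.last.2.ne_top (Ideal.eq_top_of_isUnit_mem _ h2
      (IsLocalization.Away.algebraMap_isUnit f))
  have hlt : s'.last < (⟨m, hm.isPrime⟩ : PrimeSpectrum A) := by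
    refine lt_of_le_of_ne hle ?_
    intro h
    exact hfl (h ▸ hfm)
  have h3 : (((s'.snoc ⟨m, hm.isPrime⟩ hlt).length : ℕ) : WithBot ℕ∞) ≤ ringKrullDim A :=
    le_iSup (fun s : LTSeries (PrimeSpectrum A) => ((s.length : ℕ) : WithBot ℕ∞)) _
  have h4 := h3.trans hd
  have h5 : (s'.snoc ⟨m, hm.isPrime⟩ hlt).length = s.length + 1 := rfl
  rw [h5] at h4
  have h6 : s.length + 1 ≤ d + 1 := by exact_mod_cast h4
  exact_mod_cast Nat.le_of_succ_le_succ h6

variable [IsNoetherianRing A]

/-- Vanishing for modules over the localization at `f` follows from vanishing over `A_f`. -/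
theorem isZero_loc (TA : ∀ J : Ideal A, LC J) (f : A) (I : Ideal A)
    (TB : LC (I.map (algebraMap A (Localization.Away f)))) (n : ℕ)
    (h : ∀ N : ModuleCat.{u} (Localization.Away f), IsZero (TB.obj n N)) (M : ModuleCat.{u} A) :
    IsZero ((TA I).obj n (loc f M)) := by
  have : IsNoetherianRing (Localization.Away f) :=
    IsLocalization.isNoetherianRing (Submonoid.powers f) _ inferInstance
  obtain ⟨E, -, -⟩ := LC.exists_resIso (B := Localization.Away f) TA I TB
  let N : ModuleCat.{u} (Localization.Away f) :=
    ModuleCat.of (Localization.Away f) (LocalizedModule (Submonoid.powers f) M)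
  have h1 : IsZero ((TA I).obj n ((res A (Localization.Away f)).obj N)) :=
    ((res A (Localization.Away f)).map_isZero (h N)).of_iso ((E n).symm.app N)
  have key : ∀ (a : A) (y : LocalizedModule (Submonoid.powers f) M),
      algebraMap A (Localization.Away f) a • y = a • y := fun a y => algebraMap_smul _ a y
  let e0 : ((res A (Localization.Away f)).obj N : ModuleCat.{u} A) ≃ₗ[A] (loc f M : ModuleCat.{u} A) :=
      { toFun := fun x => x
        invFun := fun x => x
        left_inv := fun _ => rfl
        right_inv := fun _ => rfl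
        map_add' := fun _ _ => rfl
        map_smul' := fun a x => key a x }
  let e : (res A (Localization.Away f)).obj N ≅ loc f M := LinearEquiv.toModuleIso e0
  exact h1.of_iso (((TA I).D.T n).mapIso e).symm

/-- Assembly. -/
theorem isZero_of_le_jacobson (TA : ∀ J : Ideal A, LC J)
    (TB : ∀ (f : A) (J : Ideal (Localization.Away f)), LC J) (d : ℕ)
    (hd : ringKrullDim A ≤ (d + 1 : ℕ))
    (van : ∀ (f : A) (J : Ideal (Localization.Away f)) (N : ModuleCat.{u} (Localization.Away f)),
      ringKrullDim (Localization.Away f) ≤ d → IsZero ((TB f J).obj (d + 1) N))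
    (I I' : Ideal A) (hII' : I ≤ I') (hJ : I' ≤ (⊥ : Ideal A).jacobson)
    (h : ∀ M : ModuleCat.{u} A, IsZero ((TA I').obj (d + 1) M)) (M : ModuleCat.{u} A) :
    IsZero ((TA I).obj (d + 1) M) := by
  classical
  obtain ⟨s, hs⟩ : I'.FG := IsNoetherian.noetherian I'
  have key : ∀ t : Finset A, (t : Set A) ⊆ I' →
      (∀ M : ModuleCat.{u} A, IsZero ((TA (I ⊔ Ideal.span (t : Set A))).obj (d + 1) M)) →
      ∀ M : ModuleCat.{u} A, IsZero ((TA I).obj (d + 1) M) := by
    intro t
    induction t using Finset.induction_on with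
    | empty =>
      intro _ h
      rw [Finset.coe_empty, Ideal.span_empty, sup_bot_eq] at h
      exact h
    | insert f t _ ih =>
      intro ht h
      refine ih (fun x hx => ht (Finset.mem_insert_of_mem hx)) ?_
      have h1 : I ⊔ Ideal.span ((insert f t : Finset A) : Set A) =
          (I ⊔ Ideal.span (t : Set A)) ⊔ Ideal.span {f} := by
        rw [Finset.coe_insert, Ideal.span_insert, sup_assoc, sup_comm (Ideal.span (t : Set A))]
      rw [h1] at h
      have hf : f ∈ (⊥ : Ideal A).jacobson := hJ (ht (Finset.mem_insert_self f t))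
      exact isZero_step (TA _) (TA _) (TA _) d h
        (isZero_loc TA f _ (TB f _) (d + 1) (fun N => van f _ N (ringKrullDim_away_le f hf d hd)))
  refine key s (by rw [← hs]; exact Ideal.subset_span) ?_ M
  have h2 : I ⊔ Ideal.span (s : Set A) = I' := by
    have h3 : Ideal.span (s : Set A) = I' := hs
    rw [h3, sup_eq_right.2 hII']
  rw [h2]
  exact h

end Groth.Agent.LoccohA.TopVanJac
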