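import Groth.Agent.CycA.TorShift
import Mathlib.Algebra.Category.ModuleCat.ProjectiveDimension
import Mathlib.RingTheory.Localization.BaseChange
import Mathlib.Algebra.Module.FinitePresentation
import Mathlib.RingTheory.Flat.Localization

set_option autoImplicit false
universe u
open CategoryTheory TensorProduct

namespace Groth.Agent.LoccohA.TorAnn

open Groth.Agent.CycA.TorBasic Groth.Agent.CycA.TorShift

section Base

variable {P P' : Type u} [CommRing P] [CommRing P'] [Algebra P P'] [IsNoetherianRing P] (f : P)
  [IsLocalization.Away f P']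

/-- If `P' ⊗ B` is projective, a power of `f` on `B` factors through a finite free module. -/
lemma exists_factor (B : Type u) [AddCommGroup B] [Module P B] [Module.Finite P B]
    (h : Module.Projective P' (P' ⊗[P] B)) :
    ∃ (n N : ℕ) (i : B →ₗ[P] (Fin n → P)) (p : (Fin n → P) →ₗ[P] B), p ∘ₗ i = f ^ N • LinearMap.id := by
  obtain ⟨n, π, hπ⟩ := Module.Finite.exists_fin' P B
  have hB : Module.FinitePresentation P B := Module.finitePresentation_of_finite P B
  have hsurj : Function.Surjective (π.baseChange P') := LinearMap.lTensor_surjective P' hπ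
  obtain ⟨σ, hσ⟩ := Module.projective_lifting_property (π.baseChange P') LinearMap.id hsurj
  have hloc : ∀ (W : Type u) [AddCommGroup W] [Module P W],
      IsLocalizedModule (Submonoid.powers f) (TensorProduct.mk P P' W 1) := by
    intro W _ _
    exact (isLocalizedModule_iff_isBaseChange (Submonoid.powers f) P' _).2
      (TensorProduct.isBaseChange P W P')
  have := hloc (Fin n → P)
  obtain ⟨g, s, hg⟩ := Module.FinitePresentation.exists_lift_of_isLocalizedModule
    (Submonoid.powers f) (TensorProduct.mk P P' (Fin n → P) 1)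
    ((σ.restrictScalars P) ∘ₗ (TensorProduct.mk P P' B 1))
  -- `π ∘ g - s` is killed after localization
  have h1 : ∀ b : B, TensorProduct.mk P P' B 1 ((π ∘ₗ g) b - s.1 • b) = 0 := by
    intro b
    have e1 : TensorProduct.mk P P' B 1 (π (g b)) =
        π.baseChange P' (TensorProduct.mk P P' (Fin n → P) 1 (g b)) := by simp
    have e2 := LinearMap.congr_fun hg b
    have e3 := LinearMap.congr_fun hσ (TensorProduct.mk P P' B 1 b)
    simp only [LinearMap.comp_apply, LinearMap.smul_apply, LinearMap.restrictScalars_apply] at e2 e3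
    rw [map_sub, LinearMap.comp_apply, e1, e2]
    rw [Submonoid.smul_def]
    rw [LinearMap.map_smul_of_tower, e3]
    simp
  have hBl := hloc B
  obtain ⟨t, ht⟩ : ∃ t : Submonoid.powers f, ∀ b : B, t • ((π ∘ₗ g) b - s.1 • b) = 0 := by
    obtain ⟨S, hS⟩ := (inferInstance : Module.Finite P B).fg_top
    have h2 : ∀ b : B, ∃ t : Submonoid.powers f, t • ((π ∘ₗ g) b - s.1 • b) = 0 := by
      intro b
      have := IsLocalizedModule.exists_of_eq (S := Submonoid.powers f)
        (f := TensorProduct.mk P P' B 1) (x₁ := (π ∘ₗ g) b - s.1 • b) (x₂ := 0)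
        (by rw [h1, map_zero])
      obtain ⟨t, ht⟩ := this
      exact ⟨t, by simpa using ht⟩
    choose t ht using h2
    classical
    refine ⟨∏ b ∈ S, t b, fun b => ?_⟩
    have h3 : (∏ b ∈ S, t b).1 • ((π ∘ₗ g) - s.1 • LinearMap.id : B →ₗ[P] B) = 0 := by
      refine LinearMap.ext_on hS (fun b hb => ?_)
      have h4 := ht b
      rw [Submonoid.smul_def] at h4
      rw [Finset.mem_coe] at hb
      simp only [LinearMap.smul_apply, LinearMap.sub_apply, LinearMap.id_apply, LinearMap.zero_apply]
      rw [← Finset.mul_prod_erase S t hb, mul_comm, Submonoid.coe_mul, mul_smul, h4, smul_zero]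
    have := LinearMap.congr_fun h3 b
    simpa [Submonoid.smul_def] using this
  obtain ⟨N, hN⟩ := (t * s).2
  refine ⟨n, N, t.1 • g, π, ?_⟩
  have hN' : f ^ N = t.1 * s.1 := hN
  ext b
  have h5 := ht b
  rw [Submonoid.smul_def, smul_sub, sub_eq_zero] at h5
  simp only [LinearMap.comp_apply, LinearMap.smul_apply, LinearMap.id_apply, map_smul] at h5 ⊢
  rw [h5, hN', mul_smul]

end Base

section Tor

variable {A P P' : Type u} [CommRing A] [CommRing P] [CommRing P'] [Algebra A P] [Algebra P P']
  [IsNoetherianRing P] [Module.Flat A P] (f : A)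
  [IsLocalization.Away (algebraMap A P f) P']

omit [IsNoetherianRing P] in
lemma flat_pi (n : ℕ) : Module.Flat A (Fin n → P) :=
  Module.Flat.trans A P (Fin n → P)

theorem tor_ann (n : ℕ) : ∀ (B : Type u) [AddCommGroup B] [Module P B] [Module A B]
    [IsScalarTower A P B] [Module.Finite P B],
    HasProjectiveDimensionLT (ModuleCat.of P' (P' ⊗[P] B)) (n + 1) →
    ∃ N : ℕ, ∀ (M : Type u) [AddCommGroup M] [Module A M] (i : ℕ), n < i →
      ∀ x : DRing.Tor A i B M, f ^ N • x = 0 := by
  have hfp := fun n => flat_pi (A := A) (P := P) n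
  have hflat : Module.Flat P P' := IsLocalization.flat P' (Submonoid.powers (algebraMap A P f))
  induction n with
  | zero =>
    intro B _ _ _ _ _ h
    rw [zero_add, ← projective_iff_hasProjectiveDimensionLT_one] at h
    have h' : Module.Projective P' (P' ⊗[P] B) := (IsProjective.iff_projective _).2 h
    obtain ⟨n, N, i, p, hip⟩ := exists_factor (algebraMap A P f) B h'
    refine ⟨N, fun M _ _ k hk x => ?_⟩
    have e1 : (p.restrictScalars A) ∘ₗ (i.restrictScalars A) = f ^ N • LinearMap.id := by
      ext b
      have := LinearMap.congr_fun hip b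
      simp only [LinearMap.comp_apply, LinearMap.restrictScalars_apply, LinearMap.smul_apply,
        LinearMap.id_apply] at this ⊢
      rw [this, ← map_pow, algebraMap_smul]
    have e2 := mapL_smul_id (f ^ N) B k M
    rw [← e1, mapL_comp] at e2
    obtain ⟨k, rfl⟩ : ∃ k', k = k' + 1 := ⟨k - 1, by omega⟩
    have := subsingleton_of_flat_left A k (Fin n → P) M
    have e3 := LinearMap.congr_fun e2 x
    simp only [LinearMap.comp_apply, LinearMap.smul_apply, LinearMap.id_apply] at e3
    rw [← e3, Subsingleton.elim (mapL (i.restrictScalars A) (k + 1) M x) 0, map_zero]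
  | succ n ih =>
    intro B _ _ _ _ _ h
    obtain ⟨m, π, hπ⟩ := Module.Finite.exists_fin' P B
    let K := LinearMap.ker π
    have hK : Module.Finite P K := inferInstance
    have hex : Function.Exact K.subtype π := LinearMap.exact_subtype_ker_map π
    -- base change
    have hinj' : Function.Injective (K.subtype.baseChange P') :=
      Module.Flat.lTensor_preserves_injective_linearMap K.subtype Subtype.val_injective
    have hsurj' : Function.Surjective (π.baseChange P') := LinearMap.lTensor_surjective P' hπ
    have hex' : Function.Exact (K.subtype.baseChange P') (π.baseChange P') :=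
      lTensor_exact P' hex hπ
    have hS := sc_shortExact (K.subtype.baseChange P') (π.baseChange P') hinj' hex' hsurj'
    have hproj : Projective (ModuleCat.of P' (P' ⊗[P] (Fin m → P))) :=
      (IsProjective.iff_projective _).1 inferInstance
    have hKpd : HasProjectiveDimensionLT (ModuleCat.of P' (P' ⊗[P] K)) (n + 1) :=
      (hS.hasProjectiveDimensionLT_X₃_iff n hproj).1 h
    obtain ⟨N, hN⟩ := ih K hKpd
    refine ⟨N, fun M _ _ i hi x => ?_⟩
    obtain ⟨k, rfl⟩ : ∃ k', i = k' + 2 := ⟨i - 2, by omega⟩
    obtain ⟨e⟩ := shiftL (A := A) (K.subtype.restrictScalars A) (π.restrictScalars A)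
      Subtype.val_injective hex hπ k M
    apply e.injective
    rw [map_smul, map_zero]
    exact hN M (k + 1) (by omega) (e x)

end Tor

end Groth.Agent.LoccohA.TorAnn
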