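import Mathlib.Algebra.Category.ModuleCat.ProjectiveDimension
import Mathlib.RingTheory.Regular.ProjectiveDimension
import Mathlib.RingTheory.MvPolynomial.Basic
import Mathlib.Algebra.MvPolynomial.Equiv

set_option autoImplicit false
universe u
open CategoryTheory

namespace Groth.Agent.LoccohA.TorAnnPD

open MvPolynomial

variable {R : Type u} [CommRing R] {σ : Type u} (j : σ) (c : σ → R)

/-- the linear forms -/
noncomputable def lf (k : σ) : MvPolynomial σ R := X k - C (c k) * X j

/-- the ideal -/
noncomputable def idl (T : Finset σ) : Ideal (MvPolynomial σ R) :=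
  Ideal.span ((lf j c) '' (T : Set σ))

open scoped Classical in
/-- the retraction -/
noncomputable def rt (T : Finset σ) : MvPolynomial σ R →ₐ[R] MvPolynomial σ R :=
  aeval (fun k => if k ∈ T then C (c k) * X j else X k)

lemma rt_X_of_mem (T : Finset σ) {k : σ} (hk : k ∈ T) : rt j c T (X k) = C (c k) * X j := by
  simp [rt, hk]

lemma rt_X_of_notMem (T : Finset σ) {k : σ} (hk : k ∉ T) : rt j c T (X k) = X k := by
  simp [rt, hk]

lemma sub_rt_mem (T : Finset σ) (p : MvPolynomial σ R) : p - rt j c T p ∈ idl j c T := by
  induction p using MvPolynomial.induction_on with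
  | C a => simp [rt]
  | add p q hp hq =>
    rw [map_add, add_sub_add_comm]
    exact add_mem hp hq
  | mul_X p k hp =>
    have h1 : X k - rt j c T (X k) ∈ idl j c T := by
      by_cases hk : k ∈ T
      · rw [rt_X_of_mem j c T hk]
        exact Ideal.subset_span ⟨k, hk, rfl⟩
      · rw [rt_X_of_notMem j c T hk, sub_self]
        exact zero_mem _
    have h2 : p * X k - rt j c T (p * X k) = (p - rt j c T p) * X k +
        rt j c T p * (X k - rt j c T (X k)) := by
      rw [map_mul]; ring
    rw [h2]
    exact add_mem (Ideal.mul_mem_right _ _ hp) (Ideal.mul_mem_left _ _ h1)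

lemma mem_idl_iff (T : Finset σ) (hj : j ∉ T) (p : MvPolynomial σ R) :
    p ∈ idl j c T ↔ rt j c T p = 0 := by
  constructor
  · intro hp
    have : idl j c T ≤ RingHom.ker (rt j c T) := by
      rw [idl, Ideal.span_le]
      rintro _ ⟨k, hk, rfl⟩
      rw [SetLike.mem_coe, RingHom.mem_ker, lf, map_sub, map_mul, rt_X_of_mem j c T hk,
        rt_X_of_notMem j c T hj]
      simp [rt]
    exact this hp
  · intro hp
    have := sub_rt_mem j c T p
    rwa [hp, sub_zero] at this

lemma lf_mul_eq_zero {k : σ} (hk : k ≠ j) (p : MvPolynomial σ R) (h : lf j c k * p = 0) :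
    p = 0 := by
  classical
  -- automorphism
  let φ : MvPolynomial σ R →ₐ[R] MvPolynomial σ R :=
    aeval (fun i => if i = k then X k + C (c k) * X j else X i)
  let ψ : MvPolynomial σ R →ₐ[R] MvPolynomial σ R :=
    aeval (fun i => if i = k then X k - C (c k) * X j else X i)
  have hψφ : ∀ q, ψ (φ q) = q := by
    intro q
    have : ψ.comp φ = AlgHom.id R _ := by
      apply MvPolynomial.algHom_ext
      intro i
      by_cases hi : i = k
      · subst hi
        simp [φ, ψ, hk.symm]
      · simp [φ, ψ, hi]
    exact DFunLike.congr_fun this q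
  have h1 : φ (lf j c k) = X k := by
    simp [φ, lf, hk.symm]
  have h2 := congrArg φ h
  rw [map_mul, h1, map_zero] at h2
  have h3 : φ p = 0 := (isRegular_X (R := R) (n := k)).left (by simpa using h2)
  rw [← hψφ p, h3, map_zero]


lemma regular_mod (T : Finset σ) (hj : j ∉ T) {k : σ} (hk : k ≠ j) (hkT : k ∉ T)
    (p : MvPolynomial σ R) (h : lf j c k * p ∈ idl j c T) : p ∈ idl j c T := by
  rw [mem_idl_iff j c T hj] at h ⊢
  rw [map_mul] at h
  have h1 : rt j c T (lf j c k) = lf j c k := by
    rw [lf, map_sub, map_mul, rt_X_of_notMem j c T hkT, rt_X_of_notMem j c T hj]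
    simp [rt]
  rw [h1] at h
  exact lf_mul_eq_zero j c hk _ h

lemma mem_idl_insert (T : Finset σ) [DecidableEq σ] (k : σ) (p : MvPolynomial σ R) :
    p ∈ idl j c (insert k T) ↔ ∃ q, p - lf j c k * q ∈ idl j c T := by
  rw [idl, Finset.coe_insert, Set.image_insert_eq, Ideal.mem_span_insert]
  constructor
  · rintro ⟨a, z, hz, rfl⟩
    exact ⟨a, by rw [mul_comm, add_sub_cancel_left]; exact hz⟩
  · rintro ⟨q, hq⟩
    exact ⟨q, _, hq, by ring⟩

theorem pd_bound (T : Finset σ) (hj : j ∉ T) :
    HasProjectiveDimensionLT (ModuleCat.of (MvPolynomial σ R) (MvPolynomial σ R ⧸ idl j c T))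
      (T.card + 1) := by
  classical
  induction T using Finset.induction_on with
  | empty =>
    have h0 : idl j c (∅ : Finset σ) = ⊥ := by simp [idl]
    rw [Finset.card_empty, zero_add, ← projective_iff_hasProjectiveDimensionLT_one]
    have : Projective (ModuleCat.of (MvPolynomial σ R) (MvPolynomial σ R)) :=
      (IsProjective.iff_projective _).1 inferInstance
    refine Projective.of_iso (LinearEquiv.toModuleIso ?_) this
    exact (Submodule.quotEquivOfEqBot _ h0).symm
  | insert k T hk ih =>
    have hjT : j ∉ T := fun h => hj (Finset.mem_insert_of_mem h)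
    have hkj : k ≠ j := by
      rintro rfl
      exact hj (Finset.mem_insert_self _ _)
    have h1 := ih hjT
    let y := lf j c k
    let f : (MvPolynomial σ R ⧸ idl j c T) →ₗ[MvPolynomial σ R] (MvPolynomial σ R ⧸ idl j c T) :=
      LinearMap.lsmul _ _ y
    have hle : idl j c T ≤ idl j c (insert k T) := by
      intro p hp
      rw [mem_idl_insert]
      exact ⟨0, by simpa using hp⟩
    let g : (MvPolynomial σ R ⧸ idl j c T) →ₗ[MvPolynomial σ R]
        (MvPolynomial σ R ⧸ idl j c (insert k T)) := Submodule.factor hle
    have hf : Function.Injective f := by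
      rw [injective_iff_map_eq_zero]
      intro x hx
      obtain ⟨p, rfl⟩ := Submodule.Quotient.mk_surjective _ x
      have : y • (Submodule.Quotient.mk p : MvPolynomial σ R ⧸ idl j c T) = 0 := hx
      rw [← Submodule.Quotient.mk_smul, Submodule.Quotient.mk_eq_zero, smul_eq_mul] at this
      rw [Submodule.Quotient.mk_eq_zero]
      exact regular_mod j c T hjT hkj hk p this
    have hg : Function.Surjective g := Submodule.factor_surjective hle
    have hfg : Function.Exact f g := by
      intro x
      obtain ⟨p, rfl⟩ := Submodule.Quotient.mk_surjective _ x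
      have e1 : g (Submodule.Quotient.mk p) = Submodule.Quotient.mk p := rfl
      rw [e1, Submodule.Quotient.mk_eq_zero, mem_idl_insert]
      constructor
      · rintro ⟨q, hq⟩
        refine ⟨Submodule.Quotient.mk q, ?_⟩
        have : y • (Submodule.Quotient.mk q : MvPolynomial σ R ⧸ idl j c T) =
            Submodule.Quotient.mk p := by
          rw [← Submodule.Quotient.mk_smul, eq_comm, Submodule.Quotient.eq]
          exact hq
        exact this
      · rintro ⟨z, hz⟩
        obtain ⟨q, rfl⟩ := Submodule.Quotient.mk_surjective _ z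
        refine ⟨q, ?_⟩
        have : y • (Submodule.Quotient.mk q : MvPolynomial σ R ⧸ idl j c T) =
            Submodule.Quotient.mk p := hz
        rw [← Submodule.Quotient.mk_smul, eq_comm, Submodule.Quotient.eq] at this
        exact this
    let S : ShortComplex (ModuleCat.{u} (MvPolynomial σ R)) :=
      ShortComplex.mk (ModuleCat.ofHom f) (ModuleCat.ofHom g)
        (by rw [← ModuleCat.ofHom_comp, hfg.linearMap_comp_eq_zero]; rfl)
    have hS : S.ShortExact := by
      have : Mono S.f := (ModuleCat.mono_iff_injective _).2 hf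
      have : Epi S.g := (ModuleCat.epi_iff_surjective _).2 hg
      exact { exact := (ShortComplex.ShortExact.moduleCat_exact_iff_function_exact _).2 hfg }
    rw [Finset.card_insert_of_notMem hk]
    exact hS.hasProjectiveDimensionLT_X₃ (T.card + 1) h1
      (hasProjectiveDimensionLT_of_ge _ (T.card + 1) (T.card + 2) (by omega))

end Groth.Agent.LoccohA.TorAnnPD
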