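import Groth.Agent.LoccohA.TorAnn
import Groth.Agent.LoccohA.TorAnnPD
import Mathlib.RingTheory.ReesAlgebra
import Mathlib.RingTheory.MvPolynomial.Localization
import Mathlib.RingTheory.Localization.Algebra
import Mathlib.RingTheory.Polynomial.Basic

set_option autoImplicit false
universe u
open CategoryTheory TensorProduct

namespace Groth.Agent.LoccohA.TorAnnRees

open Groth.Agent.CycA.TorBasic Groth.Agent.CycA.TorShift MvPolynomial

variable {A : Type u} [CommRing A] (s : Finset A)

/-- generators of the Rees algebra -/
noncomputable def gen (k : s) : reesAlgebra (Ideal.span (s : Set A)) :=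
  ⟨Polynomial.monomial 1 k.1, reesAlgebra.monomial_mem.2 (by
    rw [pow_one]; exact Ideal.subset_span k.2)⟩

/-- presentation of the Rees algebra -/
noncomputable def rho : MvPolynomial s A →ₐ[A] reesAlgebra (Ideal.span (s : Set A)) :=
  aeval (gen s)

lemma rho_surjective : Function.Surjective (rho s) := by
  rw [← AlgHom.range_eq_top]
  have h1 : (rho s).range = Algebra.adjoin A (Set.range (gen s)) := by
    rw [Algebra.adjoin_range_eq_range_aeval]; rfl
  rw [h1]
  apply Subalgebra.map_injective (f := (reesAlgebra (Ideal.span (s : Set A))).val)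
    Subtype.val_injective
  rw [AlgHom.map_adjoin, Algebra.map_top, Subalgebra.range_val]
  have h2 : (fun p => (reesAlgebra (Ideal.span (s : Set A))).val p) '' Set.range (gen s) =
      (Polynomial.monomial 1 : A →ₗ[A] Polynomial A) '' (s : Set A) := by
    ext p
    constructor
    · rintro ⟨_, ⟨k, rfl⟩, rfl⟩
      exact ⟨k.1, k.2, rfl⟩
    · rintro ⟨k, hk, rfl⟩
      exact ⟨_, ⟨⟨k, hk⟩, rfl⟩, rfl⟩
  refine (congrArg _ h2).trans ?_
  rw [← Algebra.adjoin_span, ← Submodule.map_span]
  exact adjoin_monomial_eq_reesAlgebra _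

section Loc

variable (R : Type u) [CommRing R] [Algebra A R]

/-- the map `x_k ↦ k X` over `R`. -/
noncomputable def phi : MvPolynomial s R →ₐ[R] Polynomial R :=
  aeval (fun k => Polynomial.monomial 1 (algebraMap A R k.1))

lemma phi_comp (p : MvPolynomial s A) :
    phi s R (MvPolynomial.map (algebraMap A R) p) =
      Polynomial.map (algebraMap A R) (rho s p).1 := by
  induction p using MvPolynomial.induction_on with
  | C a => simp [phi, rho]
  | add p q hp hq => simp [hp, hq]
  | mul_X p k hp =>
    have h1 : phi s R (X k) = Polynomial.map (algebraMap A R) (rho s (X k)).1 := by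
      simp [phi, rho, gen]
    rw [map_mul, map_mul, MvPolynomial.map_X, hp, h1, map_mul, MulMemClass.coe_mul,
      Polynomial.map_mul]

lemma ker_phi (j : s) (u : Rˣ) (hu : algebraMap A R j.1 = u) [DecidableEq s] :
    RingHom.ker (phi s R) = TorAnnPD.idl j (fun k => algebraMap A R k.1 * (u⁻¹ : Rˣ).1)
      (Finset.univ.erase j) := by
  ext p
  rw [TorAnnPD.mem_idl_iff _ _ _ (by simp), RingHom.mem_ker]
  let ψ : Polynomial R →ₐ[R] MvPolynomial s R := Polynomial.aeval (C (u⁻¹ : Rˣ).1 * X j)
  have h1 : ψ.comp (phi s R) = TorAnnPD.rt j (fun k => algebraMap A R k.1 * (u⁻¹ : Rˣ).1)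
      (Finset.univ.erase j) := by
    apply MvPolynomial.algHom_ext
    intro k
    by_cases hk : k = j
    · subst hk
      rw [TorAnnPD.rt_X_of_notMem _ _ _ (by simp)]
      simp [ψ, phi, Polynomial.aeval_monomial, hu, ← mul_assoc]
      rw [← map_mul, Units.mul_inv, map_one]
    · rw [TorAnnPD.rt_X_of_mem _ _ _ (by simp [hk])]
      simp [ψ, phi, Polynomial.aeval_monomial, ← mul_assoc]
  have h2 : ∀ q, phi s R (ψ q) = q := by
    intro q
    have : (phi s R).comp ψ = AlgHom.id R _ := by
      apply Polynomial.algHom_ext
      simp only [ψ, phi, AlgHom.comp_apply, Polynomial.aeval_X, map_mul, aeval_X, hu,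
        MvPolynomial.algHom_C, AlgHom.id_apply]
      rw [Polynomial.algebraMap_eq, Polynomial.C_mul_monomial, Units.inv_mul]
      rfl
    exact DFunLike.congr_fun this q
  rw [← h1]
  constructor
  · intro h
    rw [AlgHom.comp_apply, h, map_zero]
  · intro h
    have := congrArg (phi s R) h
    rwa [AlgHom.comp_apply, h2, map_zero] at this

end Loc

section Main

variable (R : Type u) [CommRing R] [Algebra A R]

attribute [local instance] Polynomial.algebra Polynomial.isLocalization
  MvPolynomial.algebraMvPolynomial

/-- The key annihilation for one generator. -/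
theorem key (j : s) [IsNoetherianRing A] [IsLocalization.Away j.1 R] :
    ∃ N : ℕ, ∀ (M : Type u) [AddCommGroup M] [Module A M] (i : ℕ), s.card ≤ i →
      ∀ x : DRing.Tor A i (reesAlgebra (Ideal.span (s : Set A))) M, j.1 ^ N • x = 0 := by
  classical
  obtain ⟨u, hu⟩ : IsUnit (algebraMap A R j.1) := IsLocalization.Away.algebraMap_isUnit j.1
  let a1 : Algebra (MvPolynomial s A) (reesAlgebra (Ideal.span (s : Set A))) :=
    (rho s).toRingHom.toAlgebra
  let a2 : Algebra (MvPolynomial s R) (Polynomial R) := (phi s R).toRingHom.toAlgebra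
  let a3 : Algebra (MvPolynomial s A) (Polynomial R) :=
    ((phi s R).toRingHom.comp (algebraMap (MvPolynomial s A) (MvPolynomial s R))).toAlgebra
  have t1 : IsScalarTower A (MvPolynomial s A) (reesAlgebra (Ideal.span (s : Set A))) :=
    IsScalarTower.of_algebraMap_eq (fun a => ((rho s).commutes a).symm)
  have t2 : IsScalarTower (MvPolynomial s A) (MvPolynomial s R) (Polynomial R) :=
    IsScalarTower.of_algebraMap_eq (fun a => rfl)
  have t3 : IsLocalization.Away (algebraMap A (MvPolynomial s A) j.1) (MvPolynomial s R) := by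
    have := MvPolynomial.isLocalization (σ := s) (Submonoid.powers j.1) R
    rw [Submonoid.map_powers] at this
    exact this
  have t4 : Module.Finite (MvPolynomial s A) (reesAlgebra (Ideal.span (s : Set A))) :=
    Module.Finite.of_surjective (Algebra.linearMap (MvPolynomial s A)
      (reesAlgebra (Ideal.span (s : Set A)))) (rho_surjective s)
  -- the localization map
  let ι : (reesAlgebra (Ideal.span (s : Set A))) →ₗ[MvPolynomial s A] (Polynomial R) :=
    { toFun := fun b => Polynomial.map (algebraMap A R) b.1
      map_add' := fun b b' => by simp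
      map_smul' := fun p b => by
        have e1 : p • b = rho s p * b := Algebra.smul_def _ _
        have e2 : p • Polynomial.map (algebraMap A R) b.1 =
          phi s R (MvPolynomial.map (algebraMap A R) p) * Polynomial.map (algebraMap A R) b.1 :=
          Algebra.smul_def _ _
        rw [RingHom.id_apply, e1, e2, phi_comp, MulMemClass.coe_mul, Polynomial.map_mul] }
  have hι : IsLocalizedModule (Submonoid.powers (algebraMap A (MvPolynomial s A) j.1)) ι := by
    have hsm : ∀ (n : ℕ) (b : reesAlgebra (Ideal.span (s : Set A))),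
        ((algebraMap A (MvPolynomial s A) j.1) ^ n • b).1 = Polynomial.C (j.1 ^ n) * b.1 := by
      intro n b
      rw [← map_pow, algebraMap_smul, Subalgebra.coe_smul, Polynomial.smul_eq_C_mul]
    have hsm' : ∀ (n : ℕ) (y : Polynomial R),
        ((algebraMap A (MvPolynomial s A) j.1) ^ n) • y = Polynomial.C (u.1 ^ n) * y := by
      intro n y
      have e2 : ((algebraMap A (MvPolynomial s A) j.1) ^ n) • y =
          phi s R (MvPolynomial.map (algebraMap A R) ((algebraMap A (MvPolynomial s A) j.1) ^ n)) *
            y := Algebra.smul_def _ _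
      rw [e2]
      congr 1
      rw [← map_pow, MvPolynomial.algebraMap_eq, MvPolynomial.map_C, map_pow, ← hu]
      exact (phi s R).commutes _
    constructor
    · rintro ⟨_, n, rfl⟩
      rw [Module.End.isUnit_iff]
      have hb : ∀ y : Polynomial R,
          (algebraMap (MvPolynomial s A) (Module.End (MvPolynomial s A) (Polynomial R))
            ((algebraMap A (MvPolynomial s A) j.1) ^ n)) y = Polynomial.C (u.1 ^ n) * y := by
        intro y
        rw [Module.algebraMap_end_apply, hsm']
      constructor
      · intro y y' h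
        simp only [hb] at h
        have := congrArg (fun z => Polynomial.C ((u⁻¹ : Rˣ).1 ^ n) * z) h
        simpa [← mul_assoc, ← Polynomial.C_mul, ← mul_pow] using this
      · intro y
        refine ⟨Polynomial.C ((u⁻¹ : Rˣ).1 ^ n) * y, ?_⟩
        rw [hb, ← mul_assoc, ← Polynomial.C_mul, ← mul_pow]
        simp
    · intro y
      have := Polynomial.isLocalization (Submonoid.powers j.1) R
      obtain ⟨⟨p, ⟨t, ht⟩⟩, hp⟩ := IsLocalization.surj
        ((Submonoid.powers j.1).map (Polynomial.C (R := A))) y
      obtain ⟨_, ⟨n, rfl⟩, rfl⟩ := ht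
      have hp' : y * Polynomial.C (u.1 ^ n) = Polynomial.map (algebraMap A R) p := by
        refine Eq.trans ?_ hp
        congr 1
        rw [hu, ← map_pow]
        exact (Polynomial.map_C _).symm
      have hmem : Polynomial.C (j.1 ^ p.natDegree) * p ∈ reesAlgebra (Ideal.span (s : Set A)) := by
        rw [mem_reesAlgebra_iff]
        intro i
        rw [Polynomial.coeff_C_mul]
        by_cases hi : i ≤ p.natDegree
        · exact Ideal.mul_mem_right _ _ (Ideal.pow_le_pow_right hi
            (Ideal.pow_mem_pow (Ideal.subset_span j.2) _))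
        · rw [Polynomial.coeff_eq_zero_of_natDegree_lt (by omega), mul_zero]
          exact zero_mem _
      refine ⟨⟨⟨_, hmem⟩, ⟨_, n + p.natDegree, rfl⟩⟩, ?_⟩
      change (algebraMap A (MvPolynomial s A) j.1) ^ (n + p.natDegree) • y =
        Polynomial.map (algebraMap A R) (Polynomial.C (j.1 ^ p.natDegree) * p)
      rw [hsm', Polynomial.map_mul, Polynomial.map_C, ← hp', pow_add, Polynomial.C_mul,
        map_pow (algebraMap A R), ← hu]
      ring
    · intro b b' h
      have := Polynomial.isLocalization (Submonoid.powers j.1) R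
      obtain ⟨⟨t, ht⟩, ht2⟩ := IsLocalization.exists_of_eq
        (M := (Submonoid.powers j.1).map (Polynomial.C (R := A))) (S := Polynomial R)
        (x := b.1) (y := b'.1) h
      obtain ⟨_, ⟨n, rfl⟩, rfl⟩ := ht
      refine ⟨⟨_, n, rfl⟩, ?_⟩
      apply Subtype.ext
      change ((algebraMap A (MvPolynomial s A) j.1) ^ n • b).1 =
        ((algebraMap A (MvPolynomial s A) j.1) ^ n • b').1
      rw [hsm, hsm]
      exact ht2
  have hpd : HasProjectiveDimensionLT (ModuleCat.of (MvPolynomial s R)
      ((MvPolynomial s R) ⊗[MvPolynomial s A] (reesAlgebra (Ideal.span (s : Set A)))))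
      ((Finset.univ.erase j).card + 1) := by
    have hbc := IsLocalizedModule.isBaseChange
      (Submonoid.powers (algebraMap A (MvPolynomial s A) j.1)) (MvPolynomial s R) ι
    have e1 : ((MvPolynomial s R) ⊗[MvPolynomial s A] (reesAlgebra (Ideal.span (s : Set A))))
      ≃ₗ[MvPolynomial s R] (Polynomial R) := hbc.equiv
    have hφs : Function.Surjective (Algebra.linearMap (MvPolynomial s R) (Polynomial R)) := by
      intro q
      refine ⟨Polynomial.aeval (C (u⁻¹ : Rˣ).1 * X j) q, ?_⟩
      have h3 : (phi s R).comp (Polynomial.aeval (C (u⁻¹ : Rˣ).1 * X j)) = AlgHom.id R _ := by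
        apply Polynomial.algHom_ext
        simp only [phi, AlgHom.comp_apply, Polynomial.aeval_X, map_mul, aeval_X, ← hu,
          MvPolynomial.algHom_C, AlgHom.id_apply]
        rw [Polynomial.algebraMap_eq, Polynomial.C_mul_monomial, Units.inv_mul]
        rfl
      exact DFunLike.congr_fun h3 q
    have e2 := LinearMap.quotKerEquivOfSurjective _ hφs
    have hker : LinearMap.ker (Algebra.linearMap (MvPolynomial s R) (Polynomial R)) =
        TorAnnPD.idl j (fun k => algebraMap A R k.1 * (u⁻¹ : Rˣ).1) (Finset.univ.erase j) := by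
      rw [← ker_phi s R j u hu.symm]
      rfl
    have e3 := Submodule.quotEquivOfEq _ _ hker
    have h0 := TorAnnPD.pd_bound j (fun k => algebraMap A R k.1 * (u⁻¹ : Rˣ).1)
      (Finset.univ.erase j) (by simp)
    exact hasProjectiveDimensionLT_of_iso
      (LinearEquiv.toModuleIso (e3.symm.trans (e2.trans e1.symm))) _
  obtain ⟨N, hN⟩ := TorAnn.tor_ann j.1 (Finset.univ.erase j).card
    (reesAlgebra (Ideal.span (s : Set A))) hpd
  refine ⟨N, fun M _ _ i hi x => hN M i ?_ x⟩
  have := Finset.card_erase_of_mem (Finset.mem_univ j)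
  have h2 : 0 < (Finset.univ : Finset s).card := Finset.card_pos.2 ⟨j, Finset.mem_univ j⟩
  rw [Finset.card_univ, Fintype.card_coe] at this h2
  omega

end Main

end Groth.Agent.LoccohA.TorAnnRees
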