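import Mathlib.CategoryTheory.Monoidal.Tor
import Mathlib.Algebra.Category.ModuleCat.Monoidal.Basic
import Mathlib.Algebra.Category.ModuleCat.Monoidal.Symmetric
import Mathlib.Algebra.Category.ModuleCat.Monoidal.Closed
import Mathlib.Algebra.Category.ModuleCat.Projective
import Mathlib.Algebra.Category.ModuleCat.Abelian
import Mathlib.RingTheory.Flat.CategoryTheory
import Mathlib.Algebra.Homology.HomologySequence
import Mathlib.Algebra.Homology.HomologicalComplexAbelian
import Mathlib.Algebra.Homology.HomologySequenceLemmas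

/-!
# Long exact sequence of Mathlib's `Tor` in the first variable

Mathlib's `Tor (ModuleCat A) n` is left derived in the second variable.  For a short exact
sequence `S` in the first variable we get the long exact sequence

`Tor (n+1) S.X₁ N → Tor (n+1) S.X₂ N → Tor (n+1) S.X₃ N → Tor n S.X₁ N → Tor n S.X₂ N → ...`

natural in `S`; and `Tor (n+1) F N = 0` if `F` is flat; `Tor 0 M N ≅ M ⊗ N`.
-/

set_option autoImplicit false
universe u v w

open CategoryTheory CategoryTheory.Limits MonoidalCategory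

namespace Groth.Agent.LoccohA.TorLES

section Abs

variable {C : Type w} [Category.{v} C]

lemma abs_nat {X Y H K : C} (a : X ≅ H) (b : Y ≅ K) (f : X ⟶ Y) (m : H ⟶ K)
    (h : f = a.hom ≫ m ≫ b.inv) : f ≫ b.hom = a.hom ≫ m := by
  rw [h]; simp

lemma abs_delta {X3 X1 Y3 Y1 H3 H1 K3 K1 : C} (a3 : X3 ≅ H3) (a1 : X1 ≅ H1) (b3 : Y3 ≅ K3)
    (b1 : Y1 ≅ K1) (δ : H3 ⟶ H1) (δ' : K3 ⟶ K1) (f3 : X3 ⟶ Y3) (f1 : X1 ⟶ Y1) (g3 : H3 ⟶ K3)
    (g1 : H1 ⟶ K1) (h3 : f3 ≫ b3.hom = a3.hom ≫ g3) (h1 : f1 ≫ b1.hom = a1.hom ≫ g1)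
    (hδ : δ ≫ g1 = g3 ≫ δ') :
    f3 ≫ (b3.hom ≫ δ' ≫ b1.inv) = (a3.hom ≫ δ ≫ a1.inv) ≫ f1 := by
  have h1' : f1 = a1.hom ≫ g1 ≫ b1.inv := by rw [← reassoc_of% h1]; simp
  rw [reassoc_of% h3, h1']
  simp only [Category.assoc, Iso.inv_hom_id_assoc, reassoc_of% hδ]

end Abs

variable {A : Type u} [CommRing A]

/-- The complex `M ⊗ P` as a functor of `M`. -/
noncomputable def tcx (P : ChainComplex (ModuleCat.{u} A) ℕ) :
    ModuleCat.{u} A ⥤ ChainComplex (ModuleCat.{u} A) ℕ where
  obj M := (((tensoringLeft (ModuleCat.{u} A)).obj M).mapHomologicalComplex _).obj P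
  map f := (NatTrans.mapHomologicalComplex ((tensoringLeft (ModuleCat.{u} A)).map f) _).app P
  map_id M := by
    rw [CategoryTheory.Functor.map_id]; rfl
  map_comp f g := by
    rw [CategoryTheory.Functor.map_comp]; rfl

lemma tcx_map_f (P : ChainComplex (ModuleCat.{u} A) ℕ) {M M' : ModuleCat.{u} A} (f : M ⟶ M')
    (n : ℕ) : ((tcx P).map f).f n = f ▷ (P.X n) := rfl

instance tcx_preservesZero (P : ChainComplex (ModuleCat.{u} A) ℕ) :
    (tcx P).PreservesZeroMorphisms where
  map_zero M N := by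
    ext n : 1
    rw [tcx_map_f]
    simp
    rfl

instance preservesFiniteColimits_tensorRight (M : ModuleCat.{u} A) :
    PreservesFiniteColimits (tensorRight M) :=
  preservesFiniteColimits_of_natIso (BraidedCategory.tensorLeftIsoTensorRight M)

lemma tcx_shortExact (P : ChainComplex (ModuleCat.{u} A) ℕ) (hP : ∀ n, Module.Flat A (P.X n))
    {S : ShortComplex (ModuleCat.{u} A)} (hS : S.ShortExact) :
    (S.map (tcx P)).ShortExact := by
  apply HomologicalComplex.shortExact_of_degreewise_shortExact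
  intro n
  have := hP n
  have h2 : (S.map (tensorRight (P.X n))).ShortExact := hS.map_of_exact _
  exact h2

lemma resolution_flat {N : ModuleCat.{u} A} (P : ProjectiveResolution N) (n : ℕ) :
    Module.Flat A (P.complex.X n) := by
  have h := P.projective n
  rw [← IsProjective.iff_projective] at h
  infer_instance

/-- `Tor n M N` computed with a projective resolution of `N`. -/
noncomputable def torIso {N : ModuleCat.{u} A} (P : ProjectiveResolution N) (n : ℕ)
    (M : ModuleCat.{u} A) :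
    ((Tor (ModuleCat.{u} A) n).obj M).obj N ≅ ((tcx P.complex).obj M).homology n :=
  P.isoLeftDerivedObj ((tensoringLeft (ModuleCat.{u} A)).obj M) n

@[reassoc]
lemma torIso_hom_naturality {N : ModuleCat.{u} A} (P : ProjectiveResolution N) (n : ℕ)
    {M M' : ModuleCat.{u} A} (f : M ⟶ M') :
    ((Tor (ModuleCat.{u} A) n).map f).app N ≫ (torIso P n M').hom =
      (torIso P n M).hom ≫ HomologicalComplex.homologyMap ((tcx P.complex).map f) n :=
  abs_nat _ _ _ _
    (ProjectiveResolution.leftDerived_app_eq ((tensoringLeft (ModuleCat.{u} A)).map f) P n)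

/-- The connecting map. -/
noncomputable def torδ {S : ShortComplex (ModuleCat.{u} A)} (hS : S.ShortExact)
    (N : ModuleCat.{u} A) (n : ℕ) :
    ((Tor (ModuleCat.{u} A) (n + 1)).obj S.X₃).obj N ⟶ ((Tor (ModuleCat.{u} A) n).obj S.X₁).obj N :=
  (torIso (projectiveResolution N) (n + 1) S.X₃).hom ≫
    (tcx_shortExact _ (resolution_flat (projectiveResolution N)) hS).δ (n + 1) n (by simp) ≫
      (torIso (projectiveResolution N) n S.X₁).inv

lemma torδ_naturality {S S' : ShortComplex (ModuleCat.{u} A)} (hS : S.ShortExact)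
    (hS' : S'.ShortExact) (φ : S ⟶ S') (N : ModuleCat.{u} A) (n : ℕ) :
    ((Tor (ModuleCat.{u} A) (n + 1)).map φ.τ₃).app N ≫ torδ hS' N n =
      torδ hS N n ≫ ((Tor (ModuleCat.{u} A) n).map φ.τ₁).app N := by
  have h := HomologicalComplex.HomologySequence.δ_naturality
    ((tcx (projectiveResolution N).complex).mapShortComplex.map φ)
    (tcx_shortExact _ (resolution_flat (projectiveResolution N)) hS)
    (tcx_shortExact _ (resolution_flat (projectiveResolution N)) hS') (n + 1) n (by simp)
  exact abs_delta _ _ _ _ _ _ _ _ _ _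
    (torIso_hom_naturality (projectiveResolution N) (n + 1) φ.τ₃)
    (torIso_hom_naturality (projectiveResolution N) n φ.τ₁) h

section Exactness

variable {S : ShortComplex (ModuleCat.{u} A)} (hS : S.ShortExact) (N : ModuleCat.{u} A) (n : ℕ)

lemma exact_iff_of_isos {X1 X2 X3 Y1 Y2 Y3 : ModuleCat.{u} A} (f : X1 ⟶ X2) (g : X2 ⟶ X3)
    (f' : Y1 ⟶ Y2) (g' : Y2 ⟶ Y3) (e1 : X1 ≅ Y1) (e2 : X2 ≅ Y2) (e3 : X3 ≅ Y3)
    (h1 : f ≫ e2.hom = e1.hom ≫ f') (h2 : g ≫ e3.hom = e2.hom ≫ g') :
    Function.Exact f.hom g.hom ↔ Function.Exact f'.hom g'.hom := by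
  have h1' : ∀ x, e2.hom.hom (f.hom x) = f'.hom (e1.hom.hom x) := fun x => by
    have := congrArg (fun t => t.hom x) h1
    simpa using this
  have h2' : ∀ x, e3.hom.hom (g.hom x) = g'.hom (e2.hom.hom x) := fun x => by
    have := congrArg (fun t => t.hom x) h2
    simpa using this
  have he : ∀ {X Y : ModuleCat.{u} A} (e : X ≅ Y), Function.Bijective e.hom.hom := fun e =>
    ConcreteCategory.bijective_of_isIso e.hom
  constructor
  · intro H y
    obtain ⟨x, rfl⟩ := (he e2).2 y
    rw [← h2', map_eq_zero_iff _ (he e3).1, H]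
    constructor
    · rintro ⟨z, rfl⟩
      exact ⟨e1.hom.hom z, (h1' z).symm⟩
    · rintro ⟨z, hz⟩
      obtain ⟨w, rfl⟩ := (he e1).2 z
      refine ⟨w, (he e2).1 ?_⟩
      rw [h1', hz]
  · intro H x
    rw [← map_eq_zero_iff _ (he e3).1, h2', H]
    constructor
    · rintro ⟨z, hz⟩
      obtain ⟨w, rfl⟩ := (he e1).2 z
      refine ⟨w, (he e2).1 ?_⟩
      rw [h1', hz]
    · rintro ⟨z, rfl⟩
      exact ⟨e1.hom.hom z, (h1' z).symm⟩

include hS in
lemma exact_map_map :
    Function.Exact (((Tor (ModuleCat.{u} A) n).map S.f).app N).hom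
      (((Tor (ModuleCat.{u} A) n).map S.g).app N).hom := by
  have h := (tcx_shortExact _ (resolution_flat (projectiveResolution N)) hS).homology_exact₂ n
  rw [ShortComplex.ShortExact.moduleCat_exact_iff_function_exact] at h
  exact (exact_iff_of_isos _ _ _ _ _ _ _
    (torIso_hom_naturality (projectiveResolution N) n S.f)
    (torIso_hom_naturality (projectiveResolution N) n S.g)).2 h

lemma exact_map_δ :
    Function.Exact (((Tor (ModuleCat.{u} A) (n + 1)).map S.g).app N).hom (torδ hS N n).hom := by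
  have h := (tcx_shortExact _ (resolution_flat (projectiveResolution N)) hS).homology_exact₃
    (n + 1) n (by simp)
  rw [ShortComplex.ShortExact.moduleCat_exact_iff_function_exact] at h
  refine (exact_iff_of_isos _ _ _ _ _ _ (torIso (projectiveResolution N) n S.X₁)
    (torIso_hom_naturality (projectiveResolution N) (n + 1) S.g) ?_).2 h
  exact abs_nat _ _ _ _ rfl

lemma exact_δ_map :
    Function.Exact (torδ hS N n).hom (((Tor (ModuleCat.{u} A) n).map S.f).app N).hom := by
  have h := (tcx_shortExact _ (resolution_flat (projectiveResolution N)) hS).homology_exact₁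
    (n + 1) n (by simp)
  rw [ShortComplex.ShortExact.moduleCat_exact_iff_function_exact] at h
  refine (exact_iff_of_isos _ _ _ _ (torIso (projectiveResolution N) (n + 1) S.X₃) _ _ ?_
    (torIso_hom_naturality (projectiveResolution N) n S.f)).2 h
  exact abs_nat _ _ _ _ rfl

end Exactness

section Vanishing

lemma isZero_tor_of_flat (F : ModuleCat.{u} A) [Module.Flat A F] (N : ModuleCat.{u} A) (n : ℕ) :
    IsZero (((Tor (ModuleCat.{u} A) (n + 1)).obj F).obj N) := by
  refine IsZero.of_iso ?_ (torIso (projectiveResolution N) (n + 1) F)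
  rw [← HomologicalComplex.exactAt_iff_isZero_homology]
  have h : (projectiveResolution N).complex.ExactAt (n + 1) :=
    (projectiveResolution N).complex_exactAt_succ n
  exact ShortComplex.Exact.map h (tensorLeft F)

lemma subsingleton_tor_of_flat (F : ModuleCat.{u} A) [Module.Flat A F] (N : ModuleCat.{u} A)
    (n : ℕ) : Subsingleton (((Tor (ModuleCat.{u} A) (n + 1)).obj F).obj N) :=
  ModuleCat.subsingleton_of_isZero (isZero_tor_of_flat F N n)

end Vanishing

section General

variable {C : Type w} [Category.{v} C] {D : Type*} [Category* D]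
  [Abelian C] [Abelian D]

lemma fromLeftDerivedZero'_nat {F G : C ⥤ D} [F.Additive] [G.Additive] (α : F ⟶ G) {X : C}
    (P : ProjectiveResolution X) :
    HomologicalComplex.opcyclesMap ((NatTrans.mapHomologicalComplex α _).app P.complex) 0 ≫
      P.fromLeftDerivedZero' G = P.fromLeftDerivedZero' F ≫ α.app X := by
  rw [← cancel_epi (HomologicalComplex.pOpcycles _ _), HomologicalComplex.p_opcyclesMap_assoc]
  rw [ProjectiveResolution.pOpcycles_comp_fromLeftDerivedZero',
    ProjectiveResolution.pOpcycles_comp_fromLeftDerivedZero'_assoc]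
  exact (α.naturality _).symm

variable [HasProjectiveResolutions C]

lemma fromLeftDerivedZero_nat {F G : C ⥤ D} [F.Additive] [G.Additive] (α : F ⟶ G) (X : C) :
    (NatTrans.leftDerived α 0).app X ≫ G.fromLeftDerivedZero.app X =
      F.fromLeftDerivedZero.app X ≫ α.app X := by
  let P := projectiveResolution X
  rw [P.fromLeftDerivedZero_eq, P.fromLeftDerivedZero_eq, P.leftDerived_app_eq]
  simp only [Category.assoc, Iso.inv_hom_id_assoc]
  congr 1
  have h1 : (HomologicalComplex.homologyFunctor D (ComplexShape.down ℕ) 0).map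
        ((NatTrans.mapHomologicalComplex α (ComplexShape.down ℕ)).app P.complex) ≫
      (ChainComplex.isoHomologyι₀ _).hom = (ChainComplex.isoHomologyι₀ _).hom ≫
        HomologicalComplex.opcyclesMap ((NatTrans.mapHomologicalComplex α _).app P.complex) 0 :=
    HomologicalComplex.homologyι_naturality _ _
  have abs3 : ∀ {X X' Y Y' Z Z' : D} (a : X ⟶ X') (b : X' ⟶ Y') (c : Y' ⟶ Z') (b0 : X ⟶ Y)
      (m : Y ⟶ Y') (c0 : Y ⟶ Z) (d : Z ⟶ Z') (_ : a ≫ b = b0 ≫ m) (_ : m ≫ c = c0 ≫ d),
      a ≫ b ≫ c = b0 ≫ c0 ≫ d := by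
    intro X X' Y Y' Z Z' a b c b0 m c0 d h1 h2
    rw [reassoc_of% h1, h2]
  exact abs3 _ _ _ (ChainComplex.isoHomologyι₀ _).hom _ (P.fromLeftDerivedZero' F) _ h1
    (fromLeftDerivedZero'_nat α P)
end General


section Zero

/-- `Tor 0 M N ≅ M ⊗ N`. -/
noncomputable def tor0Iso (M N : ModuleCat.{u} A) :
    ((Tor (ModuleCat.{u} A) 0).obj M).obj N ≅ M ⊗ N :=
  ((tensoringLeft (ModuleCat.{u} A)).obj M).leftDerivedZeroIsoSelf.app N

lemma tor0Iso_hom_naturality_right (M : ModuleCat.{u} A) {N N' : ModuleCat.{u} A} (g : N ⟶ N') :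
    ((Tor (ModuleCat.{u} A) 0).obj M).map g ≫ (tor0Iso M N').hom = (tor0Iso M N).hom ≫ (M ◁ g) :=
  (((tensoringLeft (ModuleCat.{u} A)).obj M).leftDerivedZeroIsoSelf).hom.naturality g

lemma tor0Iso_hom_naturality_left {M M' : ModuleCat.{u} A} (f : M ⟶ M') (N : ModuleCat.{u} A) :
    ((Tor (ModuleCat.{u} A) 0).map f).app N ≫ (tor0Iso M' N).hom =
      (tor0Iso M N).hom ≫ (f ▷ N) :=
  fromLeftDerivedZero_nat ((tensoringLeft (ModuleCat.{u} A)).map f) N

end Zero

section NaturalityRight

/-- The map of complexes `M ⊗ P ⟶ M ⊗ Q` induced by `P ⟶ Q`, natural in `M`. -/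
noncomputable def tcxRight {P Q : ChainComplex (ModuleCat.{u} A) ℕ} (φ : P ⟶ Q) :
    tcx P ⟶ tcx Q where
  app M := (((tensoringLeft (ModuleCat.{u} A)).obj M).mapHomologicalComplex _).map φ
  naturality _ _ f :=
    (NatTrans.mapHomologicalComplex_naturality
      (α := (tensoringLeft (ModuleCat.{u} A)).map f) φ).symm

lemma torIso_hom_naturality_right {N N' : ModuleCat.{u} A} (P : ProjectiveResolution N)
    (P' : ProjectiveResolution N') (g : N ⟶ N') (φ : P.complex ⟶ P'.complex)
    (comm : φ.f 0 ≫ P'.π.f 0 = P.π.f 0 ≫ g) (n : ℕ) (M : ModuleCat.{u} A) :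
    ((Tor (ModuleCat.{u} A) n).obj M).map g ≫ (torIso P' n M).hom =
      (torIso P n M).hom ≫ HomologicalComplex.homologyMap ((tcxRight φ).app M) n :=
  ProjectiveResolution.isoLeftDerivedObj_hom_naturality g P P' φ comm
    ((tensoringLeft (ModuleCat.{u} A)).obj M) n

lemma torδ_naturality_right {S : ShortComplex (ModuleCat.{u} A)} (hS : S.ShortExact)
    {N N' : ModuleCat.{u} A} (g : N ⟶ N') (n : ℕ) :
    ((Tor (ModuleCat.{u} A) (n + 1)).obj S.X₃).map g ≫ torδ hS N' n =
      torδ hS N n ≫ ((Tor (ModuleCat.{u} A) n).obj S.X₁).map g := by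
  let φ := ProjectiveResolution.lift g (projectiveResolution N) (projectiveResolution N')
  have hφ : φ.f 0 ≫ (projectiveResolution N').π.f 0 = (projectiveResolution N).π.f 0 ≫ g := by
    exact ProjectiveResolution.lift_commutes_zero _ _ _
  have h := HomologicalComplex.HomologySequence.δ_naturality
    (S.mapNatTrans (tcxRight φ))
    (tcx_shortExact _ (resolution_flat (projectiveResolution N)) hS)
    (tcx_shortExact _ (resolution_flat (projectiveResolution N')) hS) (n + 1) n (by simp)
  exact abs_delta _ _ _ _ _ _ _ _ _ _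
    (torIso_hom_naturality_right _ _ g φ hφ (n + 1) S.X₃)
    (torIso_hom_naturality_right _ _ g φ hφ n S.X₁) h

end NaturalityRight

end Groth.Agent.LoccohA.TorLES
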